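import Groth.Agent.MultTypeLib.Mono
import Mathlib.RingTheory.HopfAlgebra.GroupLike

/-!
# Recognising groups of multiplicative type
-/

universe u v w

open WithConv TensorProduct Coalgebra Bialgebra

noncomputable section

namespace Groth.Agent.MultTypeLib

section ToEquiv

variable {R : Type u} [CommRing R] {S : Type v} [CommRing S] [Algebra R S]
variable {A : Type w} [CommRing A] [Bialgebra R A]
variable {B : Type*} [CommRing B] [Bialgebra S B] [Algebra R B] [IsScalarTower R S B]

/-- The extension of a semilinear morphism to the base change. -/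
def SemiBialgHom.extend (h : SemiBialgHom R S A B) : S ⊗[R] A →ₐ[S] B :=
  Algebra.TensorProduct.lift (Algebra.ofId S B) h.toAlgHom fun _ _ => .all _ _

@[simp] theorem SemiBialgHom.extend_tmul (h : SemiBialgHom R S A B) (s : S) (a : A) :
    h.extend (s ⊗ₜ a) = s • h.toAlgHom a := by
  simp [SemiBialgHom.extend, Algebra.smul_def]

/-- The extension as a morphism of bialgebras. -/
def SemiBialgHom.extendBialg (h : SemiBialgHom R S A B) : S ⊗[R] A →ₐc[S] B :=
  BialgHom.ofAlgHom h.extend
    (Algebra.TensorProduct.ext (Subsingleton.elim _ _) <| AlgHom.ext fun a => by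
      have := h.counit_comp a
      simp only [AlgHom.comp_apply, AlgHom.restrictScalars_apply, Algebra.TensorProduct.includeRight_apply,
        SemiBialgHom.extend_tmul, one_smul, Bialgebra.TensorProduct.counitAlgHom_def,
        Bialgebra.counitAlgHom_apply, this]
      simp [Algebra.algebraMap_eq_smul_one])
    (Algebra.TensorProduct.ext (Subsingleton.elim _ _) <| AlgHom.ext fun a => by
      have e := (SemiBialgHom.baseChange R S A).comul_comp a
      simp only [SemiBialgHom.baseChange, Algebra.TensorProduct.includeRight_apply] at e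
      simp only [AlgHom.comp_apply, AlgHom.restrictScalars_apply, Algebra.TensorProduct.includeRight_apply,
        Bialgebra.comulAlgHom_apply, SemiBialgHom.extend_tmul, one_smul, e, h.comul_comp]
      generalize comul (R := R) a = z
      induction z using TensorProduct.induction_on with
      | zero => simp
      | add z₁ z₂ h₁ h₂ => simp only [map_add, h₁, h₂]
      | tmul x y => simp)

theorem SemiBialgHom.extendBialg_apply (h : SemiBialgHom R S A B) (z : S ⊗[R] A) :
    h.extendBialg z = h.extend z := rfl

/-- A bijective extension gives an equivalence of bialgebras. -/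
def SemiBialgHom.toBialgEquiv (h : SemiBialgHom R S A B) (hb : Function.Bijective h.extend) :
    S ⊗[R] A ≃ₐc[S] B :=
  BialgEquiv.ofBijective h.extendBialg hb

end ToEquiv

variable {R : Type u} [CommRing R]

/-- Associativity of base change, as bialgebras. -/
def baseChangeTrans (Rf S : Type u) [CommRing Rf] [Algebra R Rf] [CommRing S] [Algebra R S]
    [Algebra Rf S] [IsScalarTower R Rf S] (A : Type u) [CommRing A] [Bialgebra R A] :
    S ⊗[R] A ≃ₐc[S] S ⊗[Rf] (Rf ⊗[R] A) :=
  SemiBialgHom.toBialgEquiv ((SemiBialgHom.baseChange Rf S (Rf ⊗[R] A)).comp (SemiBialgHom.baseChange R Rf A)) (by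
    have e : ∀ z, ((SemiBialgHom.baseChange Rf S (Rf ⊗[R] A)).comp (SemiBialgHom.baseChange R Rf A)).extend z =
        (Algebra.TensorProduct.cancelBaseChange R Rf S S A).symm z := by
      intro z
      induction z using TensorProduct.induction_on with
      | zero => simp
      | add z₁ z₂ h₁ h₂ => simp only [map_add, h₁, h₂]
      | tmul s a => simp [SemiBialgHom.comp, SemiBialgHom.baseChange, TensorProduct.smul_tmul']
    rw [show ⇑((SemiBialgHom.baseChange Rf S (Rf ⊗[R] A)).comp (SemiBialgHom.baseChange R Rf A)).extend =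
      ⇑(Algebra.TensorProduct.cancelBaseChange R Rf S S A).symm from funext e]
    exact AlgEquiv.bijective _)

variable {A : Type u} [CommRing A] [HopfAlgebra R A] {B : Type u} [CommRing B] [HopfAlgebra R B]

set_option maxHeartbeats 1000000 in
theorem isDiag_congr {S : Type u} [CommRing S] {X Y : Type u} [CommRing X] [HopfAlgebra S X]
    [CommRing Y] [HopfAlgebra S Y] (e : X ≃ₐc[S] Y) (h : SGA3b.IsDiag S X) : SGA3b.IsDiag S Y := by
  obtain ⟨M, inst, f⟩ := h
  obtain ⟨f⟩ := f
  refine ⟨M, inst, ?_⟩
  exact ⟨BialgEquiv.trans (BialgEquiv.symm e) f⟩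

/-- A splitting from a diagonalisation. -/
theorem exists_split_of_isDiag (S : Type u) [CommRing S] [Algebra R S] [Module.Flat R S]
    (h : SGA3b.IsDiag S (S ⊗[R] A)) :
    ∃ (M : Type u) (_ : CommGroup M) (hom : SemiBialgHom R S A (MonoidAlgebra S M))
      (equiv : S ⊗[R] A ≃ₐ[S] MonoidAlgebra S M), ∀ a, equiv (1 ⊗ₜ a) = hom.toAlgHom a := by
  obtain ⟨M, inst, f⟩ := h
  obtain ⟨e⟩ := f
  exact ⟨M, inst, (SemiBialgHom.ofBialgHom (e : S ⊗[R] A →ₐc[S] MonoidAlgebra S M)).comp
    (SemiBialgHom.baseChange R S A), (e : S ⊗[R] A ≃ₐ[S] MonoidAlgebra S M), fun a => rfl⟩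

/-- Transfer of multiplicative type along an operation commuting with base change. -/
theorem isMultType_of_transfer (hA : SGA3b.IsMultType R A)
    (ht : ∀ (S : Type u) [CommRing S] [Algebra R S] [Module.Flat R S], SGA3b.IsDiag S (S ⊗[R] A) → SGA3b.IsDiag S (S ⊗[R] B)) :
    SGA3b.IsMultType R B := by
  obtain ⟨s, hs, hA⟩ := hA
  refine ⟨s, hs, fun f hf => ?_⟩
  obtain ⟨S, _, _, hff, hd⟩ := hA f hf
  let _ : Algebra R S := ((algebraMap (Localization.Away f) S).comp (algebraMap R (Localization.Away f))).toAlgebra
  have : IsScalarTower R (Localization.Away f) S := IsScalarTower.of_algebraMap_eq fun _ => rfl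
  have : Module.Flat R S := Module.Flat.trans R (Localization.Away f) S
  exact ⟨S, ‹_›, ‹_›, hff, isDiag_congr (baseChangeTrans (R := R) (Localization.Away f) S B)
    (ht S (isDiag_congr (baseChangeTrans (R := R) (Localization.Away f) S A).symm hd))⟩

/-- Diagonalisable after one faithfully flat extension implies multiplicative type. -/
theorem isMultType_of_ff (S : Type u) [CommRing S] [Algebra R S] [Module.FaithfullyFlat R S]
    (hd : SGA3b.IsDiag S (S ⊗[R] B)) : SGA3b.IsMultType R B := by
  refine ⟨{1}, Ideal.span_singleton_one, fun f hf => ?_⟩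
  rw [Set.mem_singleton_iff] at hf
  subst hf
  let _ : Algebra (Localization.Away (1 : R)) S :=
    (IsLocalization.Away.lift (1 : R) (g := algebraMap R S) (by simp)).toAlgebra
  have : IsScalarTower R (Localization.Away (1 : R)) S :=
    IsScalarTower.of_algebraMap_eq fun x => (IsLocalization.Away.lift_eq (S := Localization.Away (1 : R)) (1 : R) _ x).symm
  have hsurj : Function.Surjective (algebraMap R (Localization.Away (1 : R))) := fun y => by
    obtain ⟨x, ⟨_, n, rfl⟩, rfl⟩ := IsLocalization.exists_mk'_eq (Submonoid.powers (1 : R)) y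
    exact ⟨x, by rw [IsLocalization.eq_mk'_iff_mul_eq]; simp⟩
  let e : R ≃ₐ[R] Localization.Away (1 : R) := IsLocalization.atUnit R (Localization.Away (1 : R)) 1 isUnit_one
  have : Module.FaithfullyFlat (Localization.Away (1 : R)) S := by
    have hfl : Module.Flat (Localization.Away (1 : R)) S :=
      (Module.flat_iff_of_isLocalization (Localization.Away (1 : R)) (Submonoid.powers (1 : R)) S).mpr inferInstance
    refine Module.FaithfullyFlat.of_comap_surjective fun ⟨p, hp⟩ => ?_
    obtain ⟨⟨q, hq⟩, hqp⟩ := PrimeSpectrum.comap_surjective_of_faithfullyFlat (A := R) (B := S)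
      (PrimeSpectrum.comap (algebraMap R (Localization.Away (1 : R))) ⟨p, hp⟩)
    refine ⟨⟨q, hq⟩, PrimeSpectrum.ext ?_⟩
    ext y
    obtain ⟨x, rfl⟩ := hsurj y
    have := congrArg (fun P : PrimeSpectrum R => x ∈ P.asIdeal) hqp
    simpa [← IsScalarTower.algebraMap_apply] using this
  exact ⟨S, ‹_›, ‹_›, this, isDiag_congr (baseChangeTrans (R := R) (Localization.Away (1 : R)) S B) hd⟩

end Groth.Agent.MultTypeLib
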