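import Groth.Agent.MultTypeLib.Lift
import Mathlib.RingTheory.Flat.EquationalCriterion
import Mathlib.LinearAlgebra.TensorProduct.Quotient
import Mathlib.LinearAlgebra.Basis.Defs
import Mathlib.LinearAlgebra.Finsupp.LinearCombination

/-!
# A flat Hopf algebra diagonalisable modulo a nilpotent ideal is diagonalisable
-/

universe u

open WithConv TensorProduct Coalgebra Bialgebra

noncomputable section

namespace Groth.Agent.MultTypeLib

section Aux

variable {R : Type u} [CommRing R] (I : Ideal R)

theorem tmul_eq_zero_iff {N : Type u} [AddCommGroup N] [Module R N] (y : N) :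
    (1 : R ⧸ I) ⊗ₜ[R] y = 0 ↔ y ∈ (I • ⊤ : Submodule R N) := by
  rw [← (TensorProduct.quotTensorEquivQuotSMul N I).injective.eq_iff,
    TensorProduct.quotTensorEquivQuotSMul_mk_one_tmul, map_zero, Submodule.Quotient.mk_eq_zero]

theorem tmul_eq_iff {N : Type u} [AddCommGroup N] [Module R N] (y y' : N) :
    (1 : R ⧸ I) ⊗ₜ[R] y = (1 : R ⧸ I) ⊗ₜ[R] y' ↔ y - y' ∈ (I • ⊤ : Submodule R N) := by
  rw [← tmul_eq_zero_iff, TensorProduct.tmul_sub, sub_eq_zero]

theorem map_mem_mul_smul {N P : Type u} [AddCommGroup N] [Module R N] [AddCommGroup P] [Module R P]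
    {J J' : Ideal R} (f : N →ₗ[R] P) (hf : ∀ x, f x ∈ (J' • ⊤ : Submodule R P)) {y : N}
    (hy : y ∈ (J • ⊤ : Submodule R N)) : f y ∈ ((J * J') • ⊤ : Submodule R P) := by
  refine Submodule.smul_induction_on hy (fun r hr n _ => ?_) (fun x x' hx hx' => ?_)
  · rw [map_smul, ← smul_eq_mul, Submodule.smul_assoc]
    exact Submodule.smul_mem_smul hr (hf n)
  · rw [map_add]; exact add_mem hx hx'

theorem map_mem_smul {N P : Type u} [AddCommGroup N] [Module R N] [AddCommGroup P] [Module R P]
    {J : Ideal R} (f : N →ₗ[R] P) {y : N} (hy : y ∈ (J • ⊤ : Submodule R N)) :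
    f y ∈ (J • ⊤ : Submodule R P) := by
  have := map_mem_mul_smul (J' := ⊤) f (fun x => by rw [Submodule.top_smul]; trivial) hy
  rwa [← Ideal.one_eq_top, mul_one] at this

variable {C : Type u} [CommRing C] [Bialgebra R C]

/-- Two lifts of the same family, one of which is a basis modulo `I`, are both bases. -/
theorem bijective_linearCombination_of_flat [Module.Flat R C] (hI : IsNilpotent I) {M : Type u} [CommGroup M]
    (e₀ : (R ⧸ I) ⊗[R] C ≃ₐc[R ⧸ I] MonoidAlgebra (R ⧸ I) M) (e : M → C)
    (he : ∀ m, (1 : R ⧸ I) ⊗ₜ[R] e m = e₀.symm (MonoidAlgebra.single m 1)) :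
    Function.Bijective (Finsupp.linearCombination R e) := by
  classical
  obtain ⟨n, hn⟩ := hI
  let f := Finsupp.linearCombination R e
  have hred : ∀ x : M →₀ R, e₀ ((1 : R ⧸ I) ⊗ₜ[R] f x) =
      ∑ m ∈ x.support, MonoidAlgebra.single m (Ideal.Quotient.mk I (x m)) := by
    intro x
    show e₀ ((1 : R ⧸ I) ⊗ₜ[R] (x.sum fun m r => r • e m)) = _
    rw [Finsupp.sum, TensorProduct.tmul_sum, map_sum]
    refine Finset.sum_congr rfl fun m _ => ?_
    rw [TensorProduct.tmul_smul, ← algebraMap_smul (R ⧸ I) (x m), map_smul, he, BialgEquiv.apply_symm_apply,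
      MonoidAlgebra.smul_single, smul_eq_mul, mul_one]
    rfl
  have hsurj : ∀ c : C, ∃ x, c - f x ∈ (I • ⊤ : Submodule R C) := by
    intro c
    choose r hr using fun m => Ideal.Quotient.mk_surjective ((e₀ ((1 : R ⧸ I) ⊗ₜ[R] c)).coeff m)
    refine ⟨∑ m ∈ (e₀ ((1 : R ⧸ I) ⊗ₜ[R] c)).coeff.support, Finsupp.single m (r m), ?_⟩
    rw [← tmul_eq_iff]
    apply e₀.injective
    show e₀ _ = e₀ _
    conv_lhs => rw [← MonoidAlgebra.sum_coeff_single (e₀ _), Finsupp.sum]
    rw [map_sum, TensorProduct.tmul_sum, map_sum]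
    refine Finset.sum_congr rfl fun m _ => ?_
    show _ = e₀ ((1 : R ⧸ I) ⊗ₜ[R] Finsupp.linearCombination R e (Finsupp.single m (r m)))
    rw [Finsupp.linearCombination_single, TensorProduct.tmul_smul, ← algebraMap_smul (R ⧸ I) (r m), map_smul,
      he, BialgEquiv.apply_symm_apply, MonoidAlgebra.smul_single, smul_eq_mul, mul_one]
    show _ = MonoidAlgebra.single m (Ideal.Quotient.mk I (r m))
    rw [hr]
  have hfs : Function.Surjective f := by
    intro c
    suffices ∀ j, ∀ c : C, ∃ x, c - f x ∈ ((I ^ j) • ⊤ : Submodule R C) by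
      obtain ⟨x, hx⟩ := this n c
      rw [hn, Ideal.zero_eq_bot, Submodule.bot_smul, Submodule.mem_bot, sub_eq_zero] at hx
      exact ⟨x, hx.symm⟩
    intro j
    induction j with
    | zero => exact fun c => ⟨0, by rw [pow_zero, Ideal.one_eq_top, Submodule.top_smul]; trivial⟩
    | succ j ih =>
      intro c
      obtain ⟨x, hx⟩ := hsurj c
      suffices ∀ y ∈ (I • ⊤ : Submodule R C), ∃ x', y - f x' ∈ (I ^ (j + 1) • ⊤ : Submodule R C) by
        obtain ⟨x', hx'⟩ := this _ hx
        exact ⟨x + x', by rw [map_add, ← sub_sub]; exact hx'⟩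
      intro y hy
      refine Submodule.smul_induction_on hy (fun r hr z _ => ?_) (fun y y' hy hy' => ?_)
      · obtain ⟨x', hx'⟩ := ih z
        refine ⟨r • x', ?_⟩
        rw [map_smul, ← smul_sub, pow_succ', ← smul_eq_mul, Submodule.smul_assoc]
        exact Submodule.smul_mem_smul hr hx'
      · obtain ⟨a, ha⟩ := hy
        obtain ⟨b, hb⟩ := hy'
        exact ⟨a + b, by rw [map_add, add_sub_add_comm]; exact add_mem ha hb⟩
  constructor
  · have hK : ∀ x ∈ LinearMap.ker f, x ∈ I • LinearMap.ker f := by
      intro x hx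
      have hc : ∀ m, x m ∈ I := by
        intro m
        have h := hred x
        rw [LinearMap.mem_ker.mp hx, TensorProduct.tmul_zero, map_zero] at h
        have h2 := congrArg (fun y => y.coeff m) h
        simp only [MonoidAlgebra.coeff_zero, MonoidAlgebra.coeff_sum, Finsupp.coe_zero, Pi.zero_apply,
          Finsupp.finsetSum_apply, MonoidAlgebra.coeff_single, Finsupp.single_apply] at h2
        rw [Finset.sum_ite_eq'] at h2
        split_ifs at h2 with hm
        · exact Ideal.Quotient.eq_zero_iff_mem.mp h2.symm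
        · rw [Finsupp.notMem_support_iff.mp hm]; exact I.zero_mem
      let s : Type u := {m // m ∈ x.support}
      let ι : (s →₀ R) →ₗ[R] (M →₀ R) := Finsupp.lmapDomain R R Subtype.val
      let x' : s →₀ R := ∑ m : s, Finsupp.single m (x m.1)
      have hx' : ι x' = x := by
        simp only [x', ι, map_sum, Finsupp.lmapDomain_apply, Finsupp.mapDomain_single]
        rw [Finset.sum_coe_sort x.support fun m => Finsupp.single m (x m)]
        exact x.sum_single
      obtain ⟨k, a, y, hya, hax⟩ := Module.Flat.exists_factorization_of_apply_eq_zero_of_free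
        (f := x') (x := f.comp ι) (by rw [LinearMap.comp_apply, hx']; exact hx)
      obtain ⟨y', hy'⟩ := Module.projective_lifting_property f y hfs
      let g : (s →₀ R) →ₗ[R] (M →₀ R) := ι - y' ∘ₗ a
      have hg : ∀ z, g z ∈ LinearMap.ker f := by
        intro z
        rw [LinearMap.mem_ker]
        have h1 : f (ι z) = y (a z) := LinearMap.congr_fun hya z
        have h2 : f (y' (a z)) = y (a z) := LinearMap.congr_fun hy' (a z)
        simp only [g, LinearMap.sub_apply, LinearMap.comp_apply, map_sub, h1, h2, sub_self]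
      have hgx : g x' = x := by
        simp only [g, LinearMap.sub_apply, LinearMap.comp_apply, hax, map_zero, sub_zero, hx']
      rw [← hgx, map_sum]
      refine sum_mem fun m _ => ?_
      rw [← mul_one (x m.1), ← smul_eq_mul, ← Finsupp.smul_single, map_smul]
      exact Submodule.smul_mem_smul (hc m.1) (hg _)
    have hle : ∀ j, LinearMap.ker f ≤ (I ^ j) • LinearMap.ker f := by
      intro j
      induction j with
      | zero => rw [pow_zero, Ideal.one_eq_top, Submodule.top_smul]
      | succ j ih =>
        rw [pow_succ', ← smul_eq_mul, Submodule.smul_assoc]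
        exact fun x hx => Submodule.smul_mono le_rfl ih (hK x hx)
    have := hle n
    rw [hn, Ideal.zero_eq_bot, Submodule.bot_smul, le_bot_iff] at this
    exact LinearMap.ker_eq_bot.mp this
  · exact hfs

/-- The defect of being group-like. -/
def defect (g : C) : C ⊗[R] C := comul g - g ⊗ₜ g

/-- Contraction of the right factor with a functional. -/
def contr (π : C →ₗ[R] R) : C ⊗[R] C →ₗ[R] C :=
  (TensorProduct.rid R C).toLinearMap ∘ₗ LinearMap.lTensor C π

@[simp] theorem contr_tmul (π : C →ₗ[R] R) (p q : C) : contr π (p ⊗ₜ q) = π q • p := by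
  simp [contr]

/-- The consequence of coassociativity. -/
theorem comul_contr (π : C →ₗ[R] R) (g : C) :
    comul (R := R) (contr π (comul g)) = LinearMap.lTensor C (contr π ∘ₗ comul) (comul g) := by
  let L : C ⊗[R] (C ⊗[R] C) →ₗ[R] C ⊗[R] C := LinearMap.lTensor C (contr π)
  have h1 : ∀ y : C ⊗[R] C, L (TensorProduct.assoc R C C C (comul.rTensor C y)) = comul (contr π y) := by
    intro y
    induction y using TensorProduct.induction_on with
    | zero => simp
    | add a b ha hb => simp only [map_add, ha, hb]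
    | tmul p q =>
      rw [LinearMap.rTensor_tmul, contr_tmul, map_smul]
      generalize comul (R := R) p = w
      induction w using TensorProduct.induction_on with
      | zero => simp
      | add a b ha hb => simp only [TensorProduct.add_tmul, map_add, ha, hb, smul_add]
      | tmul a b => simp [L, TensorProduct.tmul_smul]
  rw [← h1, Coalgebra.coassoc_apply, ← LinearMap.comp_apply, ← LinearMap.lTensor_comp]

theorem defect_mem_iff (g : C) :
    defect g ∈ (I • ⊤ : Submodule R (C ⊗[R] C)) ↔
      comul (R := R ⧸ I) ((1 : R ⧸ I) ⊗ₜ[R] g) = ((1 : R ⧸ I) ⊗ₜ[R] g) ⊗ₜ[R ⧸ I] ((1 : R ⧸ I) ⊗ₜ[R] g) := by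
  rw [defect, ← tmul_eq_iff, ← (AlgebraTensorModule.distribBaseChange R (R ⧸ I) C C).injective.eq_iff,
    AlgebraTensorModule.distribBaseChange_tmul]
  have e : ∀ y : C ⊗[R] C, AlgebraTensorModule.distribBaseChange R (R ⧸ I) C C (1 ⊗ₜ y) =
      sq (R ⧸ I) (SemiBialgHom.baseChange R (R ⧸ I) C).toAlgHom y := by
    intro y
    induction y using TensorProduct.induction_on with
    | zero => simp
    | add x y hx hy => simp only [TensorProduct.tmul_add, map_add, hx, hy]
    | tmul p q => simp [SemiBialgHom.baseChange]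
  rw [e, ← (SemiBialgHom.baseChange R (R ⧸ I) C).comul_comp]
  rfl

end Aux

section Main

variable {R : Type u} [CommRing R] {C : Type u} [CommRing C] [HopfAlgebra R C] (I : Ideal R)

set_option maxHeartbeats 1000000 in
/-- A flat Hopf algebra diagonalisable modulo a nilpotent ideal is diagonalisable. -/
theorem isDiag_of_flat_of_nilpotent [Module.Flat R C] (hI : IsNilpotent I)
    (h0 : SGA3b.IsDiag (R ⧸ I) ((R ⧸ I) ⊗[R] C)) : SGA3b.IsDiag R C := by
  classical
  obtain ⟨M, inst, e₀⟩ := h0
  obtain ⟨e₀⟩ := e₀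
  have hex : ∀ m, ∃ c : C, (1 : R ⧸ I) ⊗ₜ[R] c = e₀.symm (MonoidAlgebra.single m 1) := fun m => by
    obtain ⟨c, hc⟩ := TensorProduct.mk_surjective R C (R ⧸ I) Ideal.Quotient.mk_surjective
      (e₀.symm (MonoidAlgebra.single m 1))
    exact ⟨c, hc⟩
  choose e he using hex
  have hbij := bijective_linearCombination_of_flat I hI e₀ e he
  let B : Module.Basis M R C := Module.Basis.ofRepr (LinearEquiv.ofBijective _ hbij).symm
  have hB : ∀ m, B m = e m := fun m => by
    show (LinearEquiv.ofBijective _ hbij).symm.symm (Finsupp.single m 1) = e m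
    rw [LinearEquiv.symm_symm, LinearEquiv.ofBijective_apply, Finsupp.linearCombination_single, one_smul]
  have hδe : ∀ m, defect (R := R) (e m) ∈ (I • ⊤ : Submodule R (C ⊗[R] C)) := fun m => by
    rw [defect_mem_iff, he]
    exact ((isGroupLike_single m).map
      (e₀.symm : MonoidAlgebra (R ⧸ I) M →ₐc[R ⧸ I] (R ⧸ I) ⊗[R] C)).comul_eq_tmul_self
  -- the contraction attached to `x`
  have hψ : ∀ (x : M) (g : C), g - e x ∈ (I • ⊤ : Submodule R C) → ∀ y : C,
      contr (B.coord x) (comul y) - B.coord x y • g ∈ (I • ⊤ : Submodule R C) := by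
    intro x g hg
    let T : C →ₗ[R] C := contr (B.coord x) ∘ₗ comul - LinearMap.smulRight (B.coord x) g
    have hT : (I • ⊤ : Submodule R C).mkQ ∘ₗ T = 0 := by
      refine B.ext fun m => ?_
      rw [LinearMap.comp_apply, LinearMap.zero_apply, Submodule.mkQ_apply, Submodule.Quotient.mk_eq_zero]
      show contr (B.coord x) (comul (B m)) - B.coord x (B m) • g ∈ (I • ⊤ : Submodule R C)
      have hcm : B.coord x (B m) = if m = x then 1 else 0 := by
        rw [Module.Basis.coord_apply, B.repr_self, Finsupp.single_apply]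
      have h1 : comul (B m) = B m ⊗ₜ B m + defect (R := R) (e m) := by
        rw [hB, defect]; abel
      rw [h1, map_add, contr_tmul, hcm]
      have h2 : contr (B.coord x) (defect (R := R) (e m)) ∈ (I • ⊤ : Submodule R C) := map_mem_smul _ (hδe m)
      split_ifs with hm
      · subst hm
        rw [one_smul, one_smul, hB]
        have h3 : e m + contr (B.coord m) (defect (R := R) (e m)) - g =
            contr (B.coord m) (defect (R := R) (e m)) - (g - e m) := by abel
        rw [h3]
        exact sub_mem h2 hg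
      · rw [zero_smul, zero_smul, zero_add, sub_zero]
        exact h2
    intro y
    have := LinearMap.congr_fun hT y
    rwa [LinearMap.comp_apply, LinearMap.zero_apply, Submodule.mkQ_apply, Submodule.Quotient.mk_eq_zero] at this
  have hu : ∀ (x : M) (g : C), g - e x ∈ (I • ⊤ : Submodule R C) → B.coord x g - 1 ∈ I := by
    intro x g hg
    have h1 : B.coord x (g - e x) ∈ (I • ⊤ : Submodule R R) := map_mem_smul _ hg
    rw [smul_eq_mul, Ideal.mul_top, map_sub, Module.Basis.coord_apply, Module.Basis.coord_apply, ← hB x,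
      B.repr_self, Finsupp.single_eq_same] at h1
    exact h1
  -- one step
  have step : ∀ (x : M) (k : ℕ), 1 ≤ k → ∀ g : C, g - e x ∈ (I • ⊤ : Submodule R C) →
      defect (R := R) g ∈ (I ^ k • ⊤ : Submodule R (C ⊗[R] C)) → ∃ g' : C, g' - e x ∈ (I • ⊤ : Submodule R C) ∧
        defect (R := R) g' ∈ (I ^ (k + 1) • ⊤ : Submodule R (C ⊗[R] C)) := by
    intro x k hk g hg hδ
    let π := B.coord x
    let c := defect (R := R) g
    let b := contr π c
    have hb : b ∈ (I ^ k • ⊤ : Submodule R C) := map_mem_smul _ hδ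
    have hkI : I ^ k ≤ I := (Ideal.pow_le_pow_right hk).trans_eq (pow_one I)
    refine ⟨g + b, ?_, ?_⟩
    · rw [show g + b - e x = (g - e x) + b by abel]
      exact add_mem hg (Submodule.smul_mono_left hkI hb)
    have hPg : contr π (comul g) = π g • g + b := by
      show _ = _ + contr π (comul g - g ⊗ₜ g)
      rw [map_sub, contr_tmul]; abel
    have hkey : π g • c + comul b = g ⊗ₜ b + LinearMap.lTensor C (contr π ∘ₗ comul) c := by
      have h := comul_contr (R := R) π g
      rw [hPg, map_add, map_smul] at h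
      have h2 : LinearMap.lTensor C (contr π ∘ₗ comul) (comul g) =
          g ⊗ₜ (π g • g + b) + LinearMap.lTensor C (contr π ∘ₗ comul) c := by
        conv_lhs => rw [show comul g = g ⊗ₜ g + c by simp [c, defect], map_add, LinearMap.lTensor_tmul]
        rw [LinearMap.comp_apply, hPg]
      rw [h2, TensorProduct.tmul_add, TensorProduct.tmul_smul] at h
      have h3 : π g • c = π g • comul g - π g • (g ⊗ₜ[R] g) := smul_sub _ _ _
      rw [h3, sub_add_eq_add_sub, h]
      abel
    have hpow : I ^ k * I = I ^ (k + 1) := (pow_succ I k).symm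
    have hr : LinearMap.lTensor C (contr π ∘ₗ comul) c - b ⊗ₜ g ∈ (I ^ (k + 1) • ⊤ : Submodule R (C ⊗[R] C)) := by
      let U : C ⊗[R] C →ₗ[R] C ⊗[R] C :=
        LinearMap.lTensor C (contr π ∘ₗ comul - LinearMap.smulRight π g)
      have hU : ∀ y, U y ∈ (I • ⊤ : Submodule R (C ⊗[R] C)) := by
        intro y
        induction y using TensorProduct.induction_on with
        | zero => simp
        | add a a' ha ha' => rw [map_add]; exact add_mem ha ha'
        | tmul p q =>
          show p ⊗ₜ[R] (contr π (comul q) - π q • g) ∈ _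
          exact map_mem_smul (TensorProduct.mk R C C p) (hψ x g hg q)
      have hUc := map_mem_mul_smul U hU hδ
      rw [hpow] at hUc
      have e : ∀ y : C ⊗[R] C, LinearMap.lTensor C (LinearMap.smulRight π g) y = contr π y ⊗ₜ g := by
        intro y
        induction y using TensorProduct.induction_on with
        | zero => simp
        | add a a' ha ha' => rw [map_add, map_add, TensorProduct.add_tmul, ha, ha']
        | tmul p q => simp [TensorProduct.smul_tmul]
      have : U c = LinearMap.lTensor C (contr π ∘ₗ comul) c - b ⊗ₜ g := by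
        rw [← e, ← LinearMap.sub_apply, ← LinearMap.lTensor_sub]
      rwa [this] at hUc
    have hc' : π g • c - c ∈ (I ^ (k + 1) • ⊤ : Submodule R (C ⊗[R] C)) := by
      rw [show π g • c - c = (π g - 1) • c by rw [sub_smul, one_smul], pow_succ', ← smul_eq_mul,
        Submodule.smul_assoc]
      exact Submodule.smul_mem_smul (hu x g hg) hδ
    have hbb : b ⊗ₜ[R] b ∈ (I ^ (k + 1) • ⊤ : Submodule R (C ⊗[R] C)) := by
      have h1 : ∀ z, TensorProduct.mk R C C z b ∈ (I ^ k • ⊤ : Submodule R (C ⊗[R] C)) := fun z =>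
        map_mem_smul (TensorProduct.mk R C C z) hb
      have h2 := map_mem_mul_smul ((TensorProduct.mk R C C).flip b) h1 hb
      refine Submodule.smul_mono_left ?_ h2
      rw [← pow_add]
      exact Ideal.pow_le_pow_right (by omega)
    have hd : defect (R := R) (g + b) =
        (LinearMap.lTensor C (contr π ∘ₗ comul) c - b ⊗ₜ g) - (π g • c - c) - b ⊗ₜ b := by
      have hcb : comul b = g ⊗ₜ b + LinearMap.lTensor C (contr π ∘ₗ comul) c - π g • c := by
        rw [← hkey]; abel
      show comul (g + b) - (g + b) ⊗ₜ[R] (g + b) = _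
      rw [map_add, hcb, TensorProduct.add_tmul, TensorProduct.tmul_add, TensorProduct.tmul_add]
      show _ = (_ : C ⊗[R] C) - (π g • c - (comul g - g ⊗ₜ g)) - _
      abel
    rw [hd]
    exact sub_mem (sub_mem hr hc') hbb
  obtain ⟨n, hn⟩ := hI
  have hlift : ∀ x : M, ∃ g : C, g - e x ∈ (I • ⊤ : Submodule R C) ∧ IsGroupLikeElem R g := by
    intro x
    have hall : ∀ k, ∃ g : C, g - e x ∈ (I • ⊤ : Submodule R C) ∧
        defect (R := R) g ∈ (I ^ (k + 1) • ⊤ : Submodule R (C ⊗[R] C)) := by
      intro k
      induction k with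
      | zero => exact ⟨e x, by simp, by rw [zero_add, pow_one]; exact hδe x⟩
      | succ k ih =>
        obtain ⟨g, hg, hδ⟩ := ih
        exact step x (k + 1) (by omega) g hg hδ
    obtain ⟨g, hg, hδ⟩ := hall n
    rw [pow_succ, hn, zero_mul, Ideal.zero_eq_bot, Submodule.bot_smul, Submodule.mem_bot, defect, sub_eq_zero] at hδ
    refine ⟨g, hg, ⟨?_, hδ⟩⟩
    have h1 : counit (R := R) g • g = g := by
      have := congrArg (TensorProduct.rid R C) (Coalgebra.lTensor_counit_comul (R := R) g)
      rw [hδ, LinearMap.lTensor_tmul, TensorProduct.rid_tmul, TensorProduct.rid_tmul, one_smul] at this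
      exact this
    have h2 : counit (R := R) g * counit (R := R) g = counit (R := R) g := by
      conv_rhs => rw [← h1, map_smul, smul_eq_mul]
    have h3 : Ideal.Quotient.mk I (counit (R := R) g) = 1 := by
      have hgl := ((isGroupLike_single x).map
        (e₀.symm : MonoidAlgebra (R ⧸ I) M →ₐc[R ⧸ I] (R ⧸ I) ⊗[R] C)).counit_eq_one
      rw [← tmul_eq_iff] at hg
      have h4 := congrArg (counit (R := R ⧸ I)) hg
      rw [he] at h4
      have h5 := h4.trans hgl
      rw [TensorProduct.counit_tmul] at h5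
      simpa [Algebra.smul_def] using h5
    have hunit : IsUnit (counit (R := R) g) := by
      have hmem : counit (R := R) g - 1 ∈ I := by
        rw [← Ideal.Quotient.eq_zero_iff_mem, map_sub, h3, map_one, sub_self]
      have hnil : IsNilpotent (counit (R := R) g - 1) := ⟨n, by
        have := Ideal.pow_mem_pow hmem n
        rwa [hn, Ideal.zero_eq_bot, Ideal.mem_bot] at this⟩
      simpa using hnil.isUnit_one_add
    exact hunit.mul_left_cancel (by rw [h2, mul_one])
  choose G hG hGgl using hlift
  -- rigidity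
  have huniq : ∀ (x : M) (g' : C), g' - e x ∈ (I • ⊤ : Submodule R C) → IsGroupLikeElem R g' → g' = G x := by
    intro x g' hg' hgl'
    let π := B.coord x
    let g := G x
    suffices ∀ k, g' - g ∈ (I ^ (k + 1) • ⊤ : Submodule R C) by
      have := this n
      rw [pow_succ, hn, zero_mul, Ideal.zero_eq_bot, Submodule.bot_smul, Submodule.mem_bot, sub_eq_zero] at this
      exact this
    intro k
    induction k with
    | zero =>
      rw [zero_add, pow_one, show g' - g = (g' - e x) - (g - e x) by abel]
      exact sub_mem hg' (hG x)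
    | succ k ih =>
      let b := g' - g
      have hΔ : comul (R := R) b = g ⊗ₜ b + b ⊗ₜ g + b ⊗ₜ b := by
        show comul (g' - g) = _
        rw [map_sub, hgl'.comul_eq_tmul_self, (hGgl x).comul_eq_tmul_self]
        simp only [b, TensorProduct.sub_tmul, TensorProduct.tmul_sub]
        abel
      have h1 : contr π (comul b) = π b • g + π g • b + π b • b := by
        rw [hΔ, map_add, map_add, contr_tmul, contr_tmul, contr_tmul]
      have h2 : contr π (comul b) - π b • g ∈ ((I ^ (k + 1) * I) • ⊤ : Submodule R C) :=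
        map_mem_mul_smul (contr π ∘ₗ comul - LinearMap.smulRight π g) (fun y => hψ x g (hG x) y) ih
      have h3 : π b ∈ I ^ (k + 1) := by
        have : π b ∈ (I ^ (k + 1) • ⊤ : Submodule R R) := map_mem_smul _ ih
        rwa [smul_eq_mul, Ideal.mul_top] at this
      have hk1 : I ^ (k + 1) ≤ I := (Ideal.pow_le_pow_right (by omega)).trans_eq (pow_one I)
      have h4 : π b • b ∈ ((I ^ (k + 1) * I) • ⊤ : Submodule R C) := by
        rw [mul_comm, ← smul_eq_mul, Submodule.smul_assoc]
        exact Submodule.smul_mem_smul (hk1 h3) ih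
      have h5 : (π g - 1) • b ∈ ((I ^ (k + 1) * I) • ⊤ : Submodule R C) := by
        rw [mul_comm, ← smul_eq_mul, Submodule.smul_assoc]
        exact Submodule.smul_mem_smul (hu x g (hG x)) ih
      rw [pow_succ _ (k + 1),
        show g' - g = (contr π (comul b) - π b • g) - π b • b - (π g - 1) • b by
          rw [h1, sub_smul, one_smul]; show b = _; abel]
      exact sub_mem (sub_mem h2 h4) h5
  have hq : ∀ x, (1 : R ⧸ I) ⊗ₜ[R] G x = e₀.symm (MonoidAlgebra.single x 1) := fun x => by
    rw [← he]
    exact (tmul_eq_iff I _ _).mpr (hG x)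
  let g' : M →* C :=
    { toFun := G
      map_one' := (huniq 1 1 ((tmul_eq_iff I _ _).mp (by
        rw [he, ← Algebra.TensorProduct.one_def]
        exact (map_one (e₀.symm : MonoidAlgebra (R ⧸ I) M →ₐc[R ⧸ I] (R ⧸ I) ⊗[R] C)).symm)) .one).symm
      map_mul' := fun a b => (huniq (a * b) (G a * G b) ((tmul_eq_iff I _ _).mp (by
        have h2 := map_mul (e₀.symm : MonoidAlgebra (R ⧸ I) M →ₐc[R ⧸ I] (R ⧸ I) ⊗[R] C)
          (MonoidAlgebra.single a 1) (MonoidAlgebra.single b 1)
        rw [MonoidAlgebra.single_mul_single, one_mul] at h2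
        calc (1 : R ⧸ I) ⊗ₜ[R] (G a * G b) = ((1 : R ⧸ I) ⊗ₜ[R] G a) * ((1 : R ⧸ I) ⊗ₜ[R] G b) := by
              rw [Algebra.TensorProduct.tmul_mul_tmul, one_mul]
          _ = _ := by rw [hq, hq, he]; exact h2.symm)) ((hGgl a).mul (hGgl b))).symm }
  let φ : MonoidAlgebra R M →ₐc[R] C := homOfGroupLike g' hGgl
  have hφ : Function.Bijective φ := by
    have h1 := bijective_linearCombination_of_flat I ⟨n, hn⟩ e₀ G hq
    have h2 : ⇑φ = ⇑(Finsupp.linearCombination R G) ∘ MonoidAlgebra.coeff := by
      funext y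
      induction y using MonoidAlgebra.induction_linear with
      | zero => simp
      | add a b ha hb => simp [map_add, ha, hb]
      | single m r =>
        rw [homOfGroupLike_single]
        simp [g']
    rw [h2]
    exact h1.comp ⟨MonoidAlgebra.coeff_injective, fun f => ⟨.ofCoeff f, rfl⟩⟩
  let E : MonoidAlgebra R M ≃ₐc[R] C := BialgEquiv.ofBijective φ hφ
  exact isDiag_of_equiv E.symm

end Main

end Groth.Agent.MultTypeLib
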