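import Groth.Agent.MultTypeLib.Field
import Groth.Agent.MultTypeLib.NilDiag
import Mathlib.RingTheory.Etale.StandardEtale
import Mathlib.RingTheory.AdjoinRoot
import Mathlib.FieldTheory.PrimitiveElement
import Mathlib.RingTheory.HopkinsLevitzki
import Mathlib.RingTheory.LocalRing.ResidueField.Basic

/-!
# Flat groups over Artinian local rings with closed fibre of multiplicative type
-/

universe u

open WithConv TensorProduct Coalgebra Bialgebra Polynomial

noncomputable section

namespace Groth.Agent.MultTypeLib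

/-- Diagonalisability is stable under change of base. -/
theorem isDiag_baseChange {R : Type u} [CommRing R] {A : Type u} [CommRing A] [HopfAlgebra R A]
    (S T : Type u) [CommRing S] [Algebra R S] [CommRing T] [Algebra R T] [Algebra S T] [IsScalarTower R S T]
    (hd : SGA3b.IsDiag S (S ⊗[R] A)) : SGA3b.IsDiag T (T ⊗[R] A) := by
  obtain ⟨M, inst, e⟩ := hd
  obtain ⟨e⟩ := e
  let h : SemiBialgHom R S A (MonoidAlgebra S M) :=
    (SemiBialgHom.ofBialgHom (e : S ⊗[R] A →ₐc[S] MonoidAlgebra S M)).comp (SemiBialgHom.baseChange R S A)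
  have hb : Function.Bijective h.extend := by
    rw [show ⇑h.extend = ⇑e from funext (extend_eq_of_equiv e)]
    exact e.bijective
  let E : T ⊗[R] A ≃ₐc[T] MonoidAlgebra T M :=
    ((mapCoeff S T M).comp h).toBialgEquiv (extend_comp_mapCoeff_bijective (T := T) h hb)
  exact isDiag_of_equiv E

/-- A monic polynomial which is separable modulo nilpotents is separable. -/
theorem separable_of_map {R k : Type u} [CommRing R] [CommRing k] (π : R →+* k) (hπ : Function.Surjective π)
    (hker : ∀ x ∈ RingHom.ker π, IsNilpotent x) (f : R[X]) (h : (f.map π).Separable) : f.Separable := by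
  obtain ⟨a, b, hab⟩ := h
  obtain ⟨a', rfl⟩ := Polynomial.map_surjective π hπ a
  obtain ⟨b', rfl⟩ := Polynomial.map_surjective π hπ b
  rw [derivative_map, ← Polynomial.map_mul, ← Polynomial.map_mul, ← Polynomial.map_add] at hab
  have hu : IsUnit (a' * f + b' * derivative f) := by
    have hnil : IsNilpotent (a' * f + b' * derivative f - 1) := by
      rw [Polynomial.isNilpotent_iff]
      intro i
      refine hker _ (RingHom.mem_ker.mpr ?_)
      have := congrArg (fun p => p.coeff i) hab
      simp only [Polynomial.coeff_map] at this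
      rw [coeff_sub, map_sub, this, Polynomial.coeff_one, Polynomial.coeff_one]
      split_ifs <;> simp
    simpa using hnil.isUnit_one_add
  obtain ⟨u, hu⟩ := hu
  exact ⟨↑u⁻¹ * a', ↑u⁻¹ * b', by rw [mul_assoc, mul_assoc, ← mul_add, ← hu, Units.inv_mul]⟩

/-- The standard etale algebra of a monic separable polynomial. -/
theorem etale_adjoinRoot {R : Type u} [CommRing R] (f : R[X]) (hm : f.Monic) (hs : f.Separable) :
    Algebra.Etale R (AdjoinRoot f) := by
  obtain ⟨a, b, hab⟩ := hs
  let P : StandardEtalePair R := ⟨f, hm, 1, b, a, 0, by rw [pow_zero, ← hab]; ring⟩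
  have h1 : AdjoinRoot.mk P.f P.g = 1 := map_one _
  have : IsLocalization.Away (1 : AdjoinRoot P.f) (Localization.Away (AdjoinRoot.mk P.f P.g)) := by
    rw [← h1]; infer_instance
  let e : AdjoinRoot f ≃ₐ[R] Localization.Away (AdjoinRoot.mk P.f P.g) :=
    (IsLocalization.atOne (AdjoinRoot P.f) (Localization.Away (AdjoinRoot.mk P.f P.g))).restrictScalars R
  exact Algebra.Etale.of_equiv (P.equivAwayAdjoinRoot.trans e.symm)

set_option maxHeartbeats 1000000 in
/-- Over an Artinian local ring, a flat group with closed fibre of multiplicative type is isotrivial. -/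
theorem isotrivial_of_artinian (A : Type u) [CommRing A] [IsArtinianRing A] [IsLocalRing A]
    (C : Type u) [CommRing C] [HopfAlgebra A C] [Module.Flat A C] (hft : Algebra.FiniteType A C)
    (h0 : SGA3b.IsMultType (IsLocalRing.ResidueField A) (IsLocalRing.ResidueField A ⊗[A] C)) :
    SGA3b.IsMultType A C ∧ SGA3b.IsIsotrivial A C := by
  let k := IsLocalRing.ResidueField A
  obtain ⟨k', _, _, _, _, M, inst, -, e⟩ := isotrivial_of_field k (k ⊗[A] C) inferInstance h0
  have hd : SGA3b.IsDiag k' (k' ⊗[k] (k ⊗[A] C)) := ⟨M, inst, e⟩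
  let _ : Algebra A k' := ((algebraMap k k').comp (algebraMap A k)).toAlgebra
  have : IsScalarTower A k k' := IsScalarTower.of_algebraMap_eq fun _ => rfl
  have hd' : SGA3b.IsDiag k' (k' ⊗[A] C) := isDiag_congr (baseChangeTrans (R := A) k k' C).symm hd
  obtain ⟨α, hα⟩ := Field.exists_primitive_element k k'
  have hαi : IsIntegral k α := IsIntegral.of_finite k α
  have hmk : Function.Surjective (algebraMap A k) := IsLocalRing.residue_surjective
  have hlift : minpoly k α ∈ Polynomial.lifts (algebraMap A k) := by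
    rw [Polynomial.lifts_iff_coeff_lifts]
    exact fun n => hmk _
  obtain ⟨f, hf, hdeg, hfm⟩ := Polynomial.lifts_and_natDegree_eq_and_monic hlift (minpoly.monic hαi)
  obtain ⟨N, hN⟩ : IsNilpotent (IsLocalRing.maximalIdeal A) := by
    rw [← IsLocalRing.jacobson_eq_maximalIdeal (⊥ : Ideal A) bot_ne_top]
    exact IsArtinianRing.isNilpotent_jacobson_bot
  have hker : ∀ x ∈ RingHom.ker (algebraMap A k), IsNilpotent x := fun x hx => ⟨N, by
    have := Ideal.pow_mem_pow (show x ∈ IsLocalRing.maximalIdeal A from
      Ideal.Quotient.eq_zero_iff_mem.mp (RingHom.mem_ker.mp hx)) N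
    rwa [hN, Ideal.zero_eq_bot, Ideal.mem_bot] at this⟩
  have hsep : f.Separable := separable_of_map (algebraMap A k) hmk hker f (by
    rw [hf]; exact Algebra.IsSeparable.isSeparable k α)
  let A' := AdjoinRoot f
  have := hfm.free_adjoinRoot
  have := hfm.finite_adjoinRoot
  have hnt : Nontrivial A' := nontrivial_of_ne 1 0 fun h => by
    rw [← map_one (AdjoinRoot.mk f), AdjoinRoot.mk_eq_zero] at h
    exact hfm.not_dvd_of_natDegree_lt one_ne_zero
      (by rw [natDegree_one, hdeg]; exact minpoly.natDegree_pos hαi) h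
  have : Module.FaithfullyFlat A A' := inferInstance
  let m' : Ideal A' := (IsLocalRing.maximalIdeal A).map (algebraMap A A')
  let k'' := A' ⧸ m'
  have hm' : IsNilpotent m' := ⟨N, by
    show ((IsLocalRing.maximalIdeal A).map (algebraMap A A')) ^ N = 0
    rw [← Ideal.map_pow, hN, Ideal.zero_eq_bot, Ideal.map_bot]
    rfl⟩
  let _ : Algebra k k'' := (Ideal.quotientMap m' (algebraMap A A') Ideal.le_comap_map).toAlgebra
  have : IsScalarTower A k k'' := IsScalarTower.of_algebraMap_eq fun _ => rfl
  let pb : PowerBasis k k' :=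
    ((IntermediateField.adjoin.powerBasis hαi).map
      ((IntermediateField.equivOfEq hα).trans IntermediateField.topEquiv))
  have hgen : pb.gen = α := by
    simp [pb]
  let ψ : k' →ₐ[k] k'' := pb.lift (Ideal.Quotient.mk m' (AdjoinRoot.root f)) (by
    rw [hgen, ← hf, Polynomial.aeval_map_algebraMap]
    show aeval (Ideal.Quotient.mkₐ A m' (AdjoinRoot.root f)) f = 0
    rw [Polynomial.aeval_algHom_apply, AdjoinRoot.aeval_eq, AdjoinRoot.mk_self, map_zero])
  let _ : Algebra k' k'' := ψ.toRingHom.toAlgebra
  have : IsScalarTower A k' k'' := IsScalarTower.of_algebraMap_eq fun r => by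
    show algebraMap A k'' r = ψ (algebraMap k k' (algebraMap A k r))
    rw [AlgHom.commutes]
    rfl
  have hd'' : SGA3b.IsDiag k'' (k'' ⊗[A] C) := isDiag_baseChange k' k'' hd'
  have hd3 : SGA3b.IsDiag k'' (k'' ⊗[A'] (A' ⊗[A] C)) := isDiag_congr (baseChangeTrans (R := A) A' k'' C) hd''
  have : Module.Flat A' (A' ⊗[A] C) := inferInstance
  have hdA : SGA3b.IsDiag A' (A' ⊗[A] C) := isDiag_of_flat_of_nilpotent m' hm' hd3
  exact ⟨isMultType_of_ff A' hdA, A', inferInstance, inferInstance, etale_adjoinRoot f hfm hsep,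
    inferInstance, inferInstance, hdA⟩

end Groth.Agent.MultTypeLib
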