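import Groth.Agent.MultTypeLib.Lift
import Mathlib.RingTheory.Flat.Localization
import Mathlib.RingTheory.Flat.FaithfullyFlat.Algebra
import Mathlib.LinearAlgebra.DFinsupp
import Mathlib.RingTheory.Spectrum.Prime.Topology

/-!
# Multiplicative type from a flat covering family
-/

universe u

open WithConv TensorProduct Coalgebra Bialgebra

noncomputable section

namespace Groth.Agent.MultTypeLib

variable {R : Type u} [CommRing R] {A : Type u} [CommRing A] [HopfAlgebra R A]

/-- Descent of elements of a module along a cover. -/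
theorem Cover.descend (c : Cover R A) {N : Type u} [AddCommGroup N] [Module R N]
    (z : ∀ i, (c.split i).S ⊗[R] N)
    (agree : ∀ i j, LinearMap.rTensor N (Algebra.TensorProduct.includeLeft :
        (c.split i).S →ₐ[R] (c.split i).S ⊗[R] (c.split j).S).toLinearMap (z i) =
      LinearMap.rTensor N (Algebra.TensorProduct.includeRight :
        (c.split j).S →ₐ[R] (c.split i).S ⊗[R] (c.split j).S).toLinearMap (z j)) :
    ∃ x : N, ∀ i, (1 : (c.split i).S) ⊗ₜ[R] x = z i := by
  classical
  let _ := Fintype.ofFinite c.ι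
  let Φ : N →ₗ[R] (∀ i, (c.split i).S ⊗[R] N) :=
    LinearMap.pi fun i => TensorProduct.mk R (c.split i).S N 1
  obtain ⟨a, ha⟩ : z ∈ LinearMap.range Φ := by
    refine c.mem_of_forall _ _ fun j => ?_
    refine ⟨LinearMap.lTensor _ Φ.rangeRestrict (z j), ?_⟩
    rw [← LinearMap.comp_apply, ← LinearMap.lTensor_comp,
      show (LinearMap.range Φ).subtype ∘ₗ Φ.rangeRestrict = Φ from LinearMap.ext fun _ => rfl]
    apply (TensorProduct.piRight R R (c.split j).S (fun i => (c.split i).S ⊗[R] N)).injective
    funext i
    apply (TensorProduct.assoc R (c.split j).S (c.split i).S N).symm.injective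
    have e1 : ∀ y : (c.split j).S ⊗[R] N, (TensorProduct.assoc R (c.split j).S (c.split i).S N).symm
        (TensorProduct.piRight R R (c.split j).S (fun i => (c.split i).S ⊗[R] N)
          (LinearMap.lTensor _ Φ y) i) = LinearMap.rTensor N (Algebra.TensorProduct.includeLeft :
            (c.split j).S →ₐ[R] (c.split j).S ⊗[R] (c.split i).S).toLinearMap y := by
      intro y
      induction y using TensorProduct.induction_on with
      | zero => simp
      | add x y hx hy => simp only [map_add, Pi.add_apply, hx, hy]
      | tmul s a => simp [Φ]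
    have e2 : ∀ y : (c.split i).S ⊗[R] N, (TensorProduct.assoc R (c.split j).S (c.split i).S N).symm
        ((1 : (c.split j).S) ⊗ₜ y) = LinearMap.rTensor N (Algebra.TensorProduct.includeRight :
            (c.split i).S →ₐ[R] (c.split j).S ⊗[R] (c.split i).S).toLinearMap y := by
      intro y
      induction y using TensorProduct.induction_on with
      | zero => simp
      | add x y hx hy => simp only [TensorProduct.tmul_add, map_add, hx, hy]
      | tmul s a => simp
    rw [e1, agree j i, TensorProduct.piRight_apply, TensorProduct.piRightHom_tmul, e2]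
  exact ⟨a, fun i => congrFun ha i⟩

theorem mA_eq_rTensor {S T : Type u} [CommRing S] [Algebra R S] [CommRing T] [Algebra R T]
    (f : S →ₐ[R] T) (z : S ⊗[R] A) : mA A f z = LinearMap.rTensor A f.toLinearMap z := by
  induction z using TensorProduct.induction_on with
  | zero => simp
  | add x y hx hy => simp only [map_add, hx, hy]
  | tmul s a => simp

/-- A group-like element from compatible group-like elements over a cover. -/
theorem Cover.descend_groupLike (c : Cover R A) (z : ∀ i, (c.split i).S ⊗[R] A)
    (hz : ∀ i, IsGroupLikeElem (c.split i).S (z i))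
    (agree : ∀ i j, mA A (Algebra.TensorProduct.includeLeft :
      (c.split i).S →ₐ[R] (c.split i).S ⊗[R] (c.split j).S) (z i) =
      mA A Algebra.TensorProduct.includeRight (z j)) :
    ∃ a : A, IsGroupLikeElem R a ∧ ∀ i, (1 : (c.split i).S) ⊗ₜ[R] a = z i := by
  obtain ⟨a, ha'⟩ := c.descend z fun i j => by rw [← mA_eq_rTensor, ← mA_eq_rTensor]; exact agree i j
  refine ⟨a, ⟨?_, ?_⟩, ha'⟩
  · refine sub_eq_zero.mp (c.module_ext _ fun i => ?_)
    apply (TensorProduct.rid R (c.split i).S).injective
    rw [map_zero, TensorProduct.rid_tmul, sub_smul, one_smul, sub_eq_zero]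
    have h := (hz i).counit_eq_one
    rw [← ha' i, TensorProduct.counit_tmul] at h
    simpa using h
  · refine sub_eq_zero.mp (c.module_ext _ fun i => ?_)
    apply (AlgebraTensorModule.distribBaseChange R (c.split i).S A A).injective
    rw [map_zero, TensorProduct.tmul_sub, map_sub, sub_eq_zero, AlgebraTensorModule.distribBaseChange_tmul]
    have e : ∀ y : A ⊗[R] A, AlgebraTensorModule.distribBaseChange R (c.split i).S A A (1 ⊗ₜ y) =
        sq (c.split i).S (SemiBialgHom.baseChange R (c.split i).S A).toAlgHom y := by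
      intro y
      induction y using TensorProduct.induction_on with
      | zero => simp
      | add x y hx hy => simp only [TensorProduct.tmul_add, map_add, hx, hy]
      | tmul p q => simp [SemiBialgHom.baseChange]
    rw [e, ← (SemiBialgHom.baseChange R (c.split i).S A).comul_comp]
    show comul ((1 : (c.split i).S) ⊗ₜ[R] a) = _
    rw [ha' i, (hz i).comul_eq_tmul_self, ← ha' i]

/-- Compatible characters over a cover give diagonalisability. -/
theorem isDiag_of_char_agree (c : Cover R A) (M : Type u) [CommGroup M]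
    (σ : ∀ i, M ≃* (c.split i).M)
    (agree : ∀ m i j, mA A (Algebra.TensorProduct.includeLeft :
      (c.split i).S →ₐ[R] (c.split i).S ⊗[R] (c.split j).S) ((c.split i).char (σ i m)) =
      mA A Algebra.TensorProduct.includeRight ((c.split j).char (σ j m))) : SGA3b.IsDiag R A := by
  have hex : ∀ m, ∃ a : A, IsGroupLikeElem R a ∧
      ∀ i, (1 : (c.split i).S) ⊗ₜ[R] a = (c.split i).char (σ i m) := fun m =>
    c.descend_groupLike _ (fun i => (c.split i).isGroupLike_char _) fun i j => agree m i j
  choose g hg eg using hex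
  have hhom : ∀ m i, (c.split i).hom.toAlgHom (g m) = MonoidAlgebra.single (σ i m) 1 := fun m i => by
    rw [← (c.split i).equiv_tmul, eg]
    exact (c.split i).equiv.apply_symm_apply _
  let g' : M →* A :=
    { toFun := g
      map_one' := c.eq_of_hom _ _ fun i => by rw [hhom, map_one, map_one]; rfl
      map_mul' := fun a b => c.eq_of_hom _ _ fun i => by
        rw [hhom, map_mul, map_mul, hhom, hhom, MonoidAlgebra.single_mul_single, one_mul] }
  have hb := c.bijective_of_bijective g' hg fun i => by
    have e : ⇑(homOfGroupLike ((c.split i).hom.toAlgHom.toRingHom.toMonoidHom.comp g')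
        fun m => (c.split i).hom.isGroupLike (hg m)) =
        ⇑(MonoidAlgebra.mapDomainBialgHom (c.split i).S ((σ i : M ≃* (c.split i).M) : M →* (c.split i).M)) := by
      funext x
      induction x using MonoidAlgebra.induction_linear with
      | zero => simp
      | add x y hx hy => simp only [map_add, hx, hy]
      | single m r =>
        rw [homOfGroupLike_single, MonoidAlgebra.mapDomainBialgHom_single]
        show r • (c.split i).hom.toAlgHom (g m) = _
        rw [hhom, MonoidAlgebra.smul_single, smul_eq_mul, mul_one]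
        rfl
    rw [e]
    refine Function.bijective_iff_has_inverse.mpr
      ⟨MonoidAlgebra.mapDomainBialgHom (c.split i).S ((σ i).symm : (c.split i).M →* M), fun x => ?_, fun x => ?_⟩
    · induction x using MonoidAlgebra.induction_linear with
      | zero => simp
      | add x y hx hy => simp only [map_add, hx, hy]
      | single m r => simp
    · induction x using MonoidAlgebra.induction_linear with
      | zero => simp
      | add x y hx hy => simp only [map_add, hx, hy]
      | single m r => simp
  let φ : MonoidAlgebra R M →ₐc[R] A := homOfGroupLike g' hg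
  let e : MonoidAlgebra R M ≃ₐc[R] A := BialgEquiv.ofBijective φ hb
  exact isDiag_of_equiv e.symm

/-- One type on a disjoint cover of the base by direct factors gives diagonalisability. -/
theorem isDiag_of_split_cover (c : Cover R A) (M : Type u) [CommGroup M]
    (σ : ∀ i, M ≃* (c.split i).M)
    (hdisj : ∀ i j, i ≠ j → Subsingleton ((c.split i).S ⊗[R] (c.split j).S))
    (hsurj : ∀ i, Function.Surjective (algebraMap R (c.split i).S)) : SGA3b.IsDiag R A :=
  isDiag_of_char_agree c M σ fun m i j => by
    rcases eq_or_ne i j with rfl | hij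
    · congr 2
      ext s
      obtain ⟨r, rfl⟩ := hsurj i s
      simp only [AlgHom.commutes]
    · have := hdisj i j hij
      have : Subsingleton (((c.split i).S ⊗[R] (c.split j).S) ⊗[R] A) :=
        Module.subsingleton ((c.split i).S ⊗[R] (c.split j).S) _
      exact Subsingleton.elim _ _

/-- The types over two members of a cover with a common point agree. -/
theorem Split.exists_mulEquiv (P Q : Split R A) (h : Nontrivial (P.S ⊗[R] Q.S)) :
    Nonempty (P.M ≃* Q.M) := by
  obtain ⟨m, hm⟩ := Ideal.exists_maximal (P.S ⊗[R] Q.S)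
  let K := (P.S ⊗[R] Q.S) ⧸ m
  let _ : Field K := Ideal.Quotient.field m
  let _ : Algebra Q.S K := ((Ideal.Quotient.mkₐ R m).comp Algebra.TensorProduct.includeRight).toRingHom.toAlgebra
  have : IsScalarTower R Q.S K := IsScalarTower.of_algebraMap_eq fun r =>
    (((Ideal.Quotient.mkₐ R m).comp Algebra.TensorProduct.includeRight).commutes r).symm
  let E₁ : K ⊗[R] A ≃ₐc[K] MonoidAlgebra K P.M := (P.homOver K).toBialgEquiv (P.extend_homOver_bijective K)
  let E₂ : K ⊗[R] A ≃ₐc[K] MonoidAlgebra K Q.M := (Q.homOver K).toBialgEquiv (Q.extend_homOver_bijective K)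
  let f : MonoidAlgebra K P.M →ₐc[K] MonoidAlgebra K Q.M :=
    ((E₁.symm.trans E₂ : MonoidAlgebra K P.M ≃ₐc[K] MonoidAlgebra K Q.M) : _ →ₐc[K] _)
  let g : MonoidAlgebra K Q.M →ₐc[K] MonoidAlgebra K P.M :=
    ((E₂.symm.trans E₁ : MonoidAlgebra K Q.M ≃ₐc[K] MonoidAlgebra K P.M) : _ →ₐc[K] _)
  have hfg : ∀ x, g (f x) = x := fun x => by
    show E₁ (E₂.symm (E₂ (E₁.symm x))) = x
    rw [BialgEquiv.symm_apply_apply, BialgEquiv.apply_symm_apply]
  have hgf : ∀ x, f (g x) = x := fun x => by
    show E₂ (E₁.symm (E₁ (E₂.symm x))) = x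
    rw [BialgEquiv.symm_apply_apply, BialgEquiv.apply_symm_apply]
  refine ⟨MonoidHom.toMulEquiv (MonoidAlgebra.mapDomainOfBialgHom f) (MonoidAlgebra.mapDomainOfBialgHom g)
    (MonoidHom.ext fun a => ?_) (MonoidHom.ext fun a => ?_)⟩
  · refine MonoidAlgebra.single_left_injective (R := K) one_ne_zero ?_
    simp only [MonoidHom.comp_apply, MonoidHom.id_apply, MonoidAlgebra.single_mapDomainOfBialgHom, hfg]
  · refine MonoidAlgebra.single_left_injective (R := K) one_ne_zero ?_
    simp only [MonoidHom.comp_apply, MonoidHom.id_apply, MonoidAlgebra.single_mapDomainOfBialgHom, hgf]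

theorem flat_eval {ι : Type u} [Finite ι] (S : ι → Type u) [∀ i, CommRing (S i)] (j : ι)
    [Algebra (∀ i, S i) (S j)] (h : ∀ x : ∀ i, S i, algebraMap (∀ i, S i) (S j) x = x j) :
    Module.Flat (∀ i, S i) (S j) := by
  classical
  refine Module.Flat.of_retract
    ({ toFun := Pi.single j
       map_add' := Pi.single_add j
       map_smul' := fun x y => ?_ } : S j →ₗ[∀ i, S i] ∀ i, S i)
    (Algebra.linearMap (∀ i, S i) (S j)) (LinearMap.ext fun y => ?_)
  · funext i
    rcases eq_or_ne i j with rfl | hij
    · simp [Algebra.smul_def, h]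
    · simp [Pi.single_eq_of_ne hij]
  · simp [h]

theorem comap_eval_surjective {ι : Type u} [Finite ι] (S : ι → Type u) [∀ i, CommRing (S i)]
    (q : Ideal (∀ i, S i)) (hq : q.IsPrime) :
    ∃ (j : ι) (q' : Ideal (S j)), q'.IsPrime ∧ q'.comap (Pi.evalRingHom S j) = q := by
  classical
  let _ := Fintype.ofFinite ι
  obtain ⟨j, hj⟩ : ∃ j, (Pi.single j 1 : ∀ i, S i) ∉ q := by
    by_contra hne
    push Not at hne
    refine hq.ne_top (q.eq_top_iff_one.mpr ?_)
    rw [← Finset.univ_sum_single (1 : ∀ i, S i)]
    exact q.sum_mem fun i _ => hne i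
  have hker : RingHom.ker (Pi.evalRingHom S j) ≤ q := fun x hx => by
    have hx' : x j = 0 := hx
    refine (hq.mem_or_mem ?_).resolve_left hj
    convert q.zero_mem
    funext i
    rcases eq_or_ne i j with rfl | hij
    · simp [hx']
    · simp [Pi.single_eq_of_ne hij]
  have hs : Function.Surjective (Pi.evalRingHom S j) := Function.surjective_eval j
  refine ⟨j, q.map (Pi.evalRingHom S j), Ideal.map_isPrime_of_surjective hs hker, ?_⟩
  rw [Ideal.comap_map_of_surjective _ hs, sup_eq_left]
  exact hker

set_option maxHeartbeats 1000000 in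
/-- One type over a covering family with values in a product gives diagonalisability over the product. -/
theorem isDiag_pi {ι : Type u} [Finite ι] (S : ι → Type u) [∀ i, CommRing (S i)] [∀ i, Algebra R (S i)]
    (M : ι → Type u) [∀ i, CommGroup (M i)] (hom : ∀ i, SemiBialgHom R (S i) A (MonoidAlgebra (S i) (M i)))
    (equiv : ∀ i, S i ⊗[R] A ≃ₐ[S i] MonoidAlgebra (S i) (M i))
    (he : ∀ i a, equiv i (1 ⊗ₜ a) = (hom i).toAlgHom a)
    (M₀ : Type u) [CommGroup M₀] (σ : ∀ i, M₀ ≃* M i) :
    SGA3b.IsDiag (∀ i, S i) ((∀ i, S i) ⊗[R] A) := by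
  classical
  let P : ι → Split (∀ i, S i) ((∀ i, S i) ⊗[R] A) := fun j =>
    let _ : Algebra (∀ i, S i) (S j) := (Pi.evalRingHom S j).toAlgebra
    have : IsScalarTower R (∀ i, S i) (S j) := IsScalarTower.of_algebraMap_eq fun _ => rfl
    have : Module.Flat (∀ i, S i) (S j) := flat_eval S j fun _ => rfl
    { S := S j
      M := M j
      hom := (hom j).extendSemi
      equiv := (Algebra.TensorProduct.cancelBaseChange R (∀ i, S i) (S j) (S j) A).trans (equiv j)
      equiv_tmul := fun z => by
        induction z using TensorProduct.induction_on with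
        | zero => simp
        | add x y hx hy => simp only [TensorProduct.tmul_add, map_add, hx, hy]
        | tmul x a =>
          rw [SemiBialgHom.extendSemi_tmul, AlgEquiv.trans_apply,
            Algebra.TensorProduct.cancelBaseChange_tmul,
            show (x • (1 : S j)) ⊗ₜ[R] a = (x • (1 : S j)) • ((1 : S j) ⊗ₜ[R] a) by
              rw [TensorProduct.smul_tmul', smul_eq_mul, mul_one],
            map_smul, he]
          simp [Algebra.smul_def, IsScalarTower.algebraMap_apply (∀ i, S i) (S j) (MonoidAlgebra (S j) (M j))] }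
  let c : Cover (∀ i, S i) ((∀ i, S i) ⊗[R] A) :=
    { ι := ι
      split := P
      surj := fun q hq => comap_eval_surjective S q hq }
  refine isDiag_of_split_cover c M₀ σ (fun i j hij => ?_) (fun i => Function.surjective_eval i)
  let _ : Algebra (∀ i, S i) (S i) := (Pi.evalRingHom S i).toAlgebra
  let _ : Algebra (∀ i, S i) (S j) := (Pi.evalRingHom S j).toAlgebra
  show Subsingleton (S i ⊗[∀ i, S i] S j)
  refine subsingleton_of_zero_eq_one ?_
  have h1 : (Pi.single i 1 : ∀ i, S i) • (1 : S i) = 1 := by
    show (Pi.single i 1 : ∀ i, S i) i * 1 = 1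
    simp
  have h2 : (Pi.single i 1 : ∀ i, S i) • (1 : S j) = 0 := by
    show (Pi.single i 1 : ∀ i, S i) j * 1 = 0
    simp [Pi.single_eq_of_ne (Ne.symm hij)]
  rw [Algebra.TensorProduct.one_def, ← h1, TensorProduct.smul_tmul, h2, TensorProduct.tmul_zero]

set_option maxHeartbeats 1000000 in
/-- Diagonalisable over the members of a flat covering family implies multiplicative type. -/
theorem isMultType_of_flatCover {ι : Type u} [Finite ι] (S : ι → Type u) [∀ i, CommRing (S i)]
    [∀ i, Algebra R (S i)] [∀ i, Module.Flat R (S i)]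
    (surj : ∀ p : Ideal R, p.IsPrime → ∃ (i : ι) (q : Ideal (S i)), q.IsPrime ∧ q.comap (algebraMap R (S i)) = p)
    (hd : ∀ i, SGA3b.IsDiag (S i) (S i ⊗[R] A)) : SGA3b.IsMultType R A := by
  classical
  let _ := Fintype.ofFinite ι
  choose M hM hom equiv he using fun i => exists_split_of_isDiag (S i) (hd i)
  let c : Cover R A :=
    { ι := ι
      split := fun i => { S := S i, M := M i, hom := hom i, equiv := equiv i, equiv_tmul := he i }
      surj := surj }
  let e : ι → ∀ i, S i := fun k i => if Nonempty (M k ≃* M i) then 1 else 0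
  have hr : ∀ k, ∃ r : R, ∀ i, algebraMap R (S i) r = e k i := fun k => by
    obtain ⟨r, hr⟩ := c.descend (fun i => e k i ⊗ₜ[R] (1 : R)) fun i j => by
      show _ ⊗ₜ[R] (1 : R) = _ ⊗ₜ[R] (1 : R)
      congr 1
      rcases subsingleton_or_nontrivial (S i ⊗[R] S j) with hs | hs
      · exact hs.elim _ _
      · obtain ⟨b⟩ := (c.split i).exists_mulEquiv (c.split j) hs
        have b' : M i ≃* M j := b
        have hiff : Nonempty (M k ≃* M i) ↔ Nonempty (M k ≃* M j) :=
          ⟨fun h => ⟨h.some.trans b'⟩, fun h => ⟨h.some.trans b'.symm⟩⟩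
        by_cases hk : Nonempty (M k ≃* M i)
        · have hk' : Nonempty (M k ≃* M j) := hiff.mp hk
          simp only [e, if_pos hk, if_pos hk', AlgHom.toLinearMap_apply, map_one]
        · have hk' : ¬ Nonempty (M k ≃* M j) := fun h => hk (hiff.mpr h)
          simp only [e, if_neg hk, if_neg hk', map_zero]
    refine ⟨r, fun i => ?_⟩
    have h := congrArg (TensorProduct.rid R (S i)) (hr i)
    rw [TensorProduct.rid_tmul, TensorProduct.rid_tmul, one_smul] at h
    rw [← h, Algebra.algebraMap_eq_smul_one]
  choose r hr using hr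
  refine ⟨Set.range r, ?_, ?_⟩
  · by_contra hne
    obtain ⟨p, hp, hle⟩ := Ideal.exists_le_maximal _ hne
    obtain ⟨i, q, hq, hqp⟩ := surj p hp.isPrime
    have : r i ∈ p := hle (Ideal.subset_span ⟨i, rfl⟩)
    rw [← hqp, Ideal.mem_comap, hr] at this
    simp only [e, if_pos (⟨MulEquiv.refl _⟩ : Nonempty (M i ≃* M i))] at this
    exact hq.ne_top (q.eq_top_iff_one.mpr this)
  rintro _ ⟨k, rfl⟩
  let ι' := {i : ι // Nonempty (M k ≃* M i)}
  let Rf := Localization.Away (r k)
  let S' : ι' → Type u := fun i => S i.1
  have hu : ∀ i : ι', IsUnit (algebraMap R (S' i) (r k)) := fun i => by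
    rw [hr k i.1]
    simp only [e, if_pos i.2]
    exact isUnit_one
  let _ : ∀ i : ι', Algebra Rf (S' i) := fun i => (IsLocalization.Away.lift (r k) (hu i)).toAlgebra
  have : ∀ i : ι', IsScalarTower R Rf (S' i) := fun i =>
    IsScalarTower.of_algebraMap_eq fun x => (IsLocalization.Away.lift_eq (r k) (hu i) x).symm
  have : IsScalarTower R Rf (∀ i, S' i) := IsScalarTower.of_algebraMap_eq fun x => by
    funext i
    exact IsScalarTower.algebraMap_apply R Rf (S' i) x
  have : ∀ i : ι', Module.Flat Rf (S' i) := fun i =>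
    (Module.flat_iff_of_isLocalization Rf (Submonoid.powers (r k)) (S' i)).mpr inferInstance
  have : Module.Flat Rf (∀ i, S' i) := Module.Flat.of_linearEquiv DFinsupp.linearEquivFunOnFintype.symm
  have : Module.FaithfullyFlat Rf (∀ i, S' i) := Module.FaithfullyFlat.of_comap_surjective fun P => by
    obtain ⟨i, q, hq, hqp⟩ := surj (P.asIdeal.comap (algebraMap R Rf)) inferInstance
    have hik : Nonempty (M k ≃* M i) := by
      by_contra hne
      have h0 : r k ∈ q.comap (algebraMap R (S i)) := by
        rw [Ideal.mem_comap, hr k i]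
        simp [e, hne]
      rw [hqp, Ideal.mem_comap] at h0
      exact P.2.ne_top (P.asIdeal.eq_top_of_isUnit_mem h0 (IsLocalization.Away.algebraMap_isUnit (r k)))
    refine ⟨⟨q.comap (Pi.evalRingHom S' ⟨i, hik⟩), Ideal.IsPrime.comap _⟩, ?_⟩
    refine PrimeSpectrum.localization_comap_injective Rf (Submonoid.powers (r k)) ?_
    ext1
    show ((q.comap (Pi.evalRingHom S' ⟨i, hik⟩)).comap (algebraMap Rf (∀ i, S' i))).comap (algebraMap R Rf) = _
    rw [Ideal.comap_comap, Ideal.comap_comap, ← IsScalarTower.algebraMap_eq R Rf (∀ i, S' i)]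
    exact hqp
  exact ⟨∀ i, S' i, inferInstance, inferInstance, inferInstance,
    isDiag_congr (baseChangeTrans (R := R) Rf (∀ i, S' i) A)
      (isDiag_pi S' (fun i => M i.1) (fun i => hom i.1) (fun i => equiv i.1) (fun i => he i.1) (M k)
        fun i => i.2.some)⟩

end Groth.Agent.MultTypeLib
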