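import Groth.Agent.MultTypeLib.Artin
import Groth.Agent.MultTypeLib.CoverType
import Groth.Agent.Hensel.FiniteEtaleLift
import Groth.Agent.Hensel.LiftEtaleAlg
import Groth.Agent.Hensel.PairBasic

/-!
# Isotrivial and quasi-isotrivial groups along nil extensions
-/

universe u

open WithConv TensorProduct Coalgebra Bialgebra

noncomputable section

namespace Groth.Agent.MultTypeLib

variable {R : Type u} [CommRing R] {A : Type u} [CommRing A] [HopfAlgebra R A]

/-- Primes over the same prime come from a prime of the tensor product. -/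
theorem exists_prime_tensor (B S : Type u) [CommRing B] [Algebra R B] [CommRing S] [Algebra R S]
    (p : Ideal B) [p.IsPrime] (q : Ideal S) [q.IsPrime]
    (h : q.comap (algebraMap R S) = p.comap (algebraMap R B)) :
    ∃ r : Ideal (B ⊗[R] S), r.IsPrime ∧ r.comap (algebraMap B (B ⊗[R] S)) = p := by
  let P := p.comap (algebraMap R B)
  let F := P.ResidueField
  let K₁ := p.ResidueField
  let K₂ := q.ResidueField
  let _ : Algebra F K₁ := (Ideal.ResidueField.map P p (algebraMap R B) rfl).toAlgebra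
  let _ : Algebra F K₂ := (Ideal.ResidueField.map P q (algebraMap R S) h.symm).toAlgebra
  have : IsScalarTower R F K₁ := IsScalarTower.of_algebraMap_eq fun r => by
    rw [IsScalarTower.algebraMap_apply R B K₁]
    exact (Ideal.ResidueField.map_algebraMap P p (algebraMap R B) rfl r).symm
  have : IsScalarTower R F K₂ := IsScalarTower.of_algebraMap_eq fun r => by
    rw [IsScalarTower.algebraMap_apply R S K₂]
    exact (Ideal.ResidueField.map_algebraMap P q (algebraMap R S) h.symm r).symm
  let f : B ⊗[R] S →ₐ[R] K₁ ⊗[F] K₂ := Algebra.TensorProduct.lift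
    (((Algebra.TensorProduct.includeLeft : K₁ →ₐ[F] K₁ ⊗[F] K₂).restrictScalars R).comp
      (IsScalarTower.toAlgHom R B K₁))
    (((Algebra.TensorProduct.includeRight : K₂ →ₐ[F] K₁ ⊗[F] K₂).restrictScalars R).comp
      (IsScalarTower.toAlgHom R S K₂)) fun _ _ => .all _ _
  obtain ⟨m, hm⟩ := Ideal.exists_maximal (K₁ ⊗[F] K₂)
  refine ⟨m.comap f.toRingHom, inferInstance, ?_⟩
  ext b
  have e : f (algebraMap B (B ⊗[R] S) b) =
      (Algebra.TensorProduct.includeLeft : K₁ →ₐ[F] K₁ ⊗[F] K₂) (algebraMap B K₁ b) := by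
    simp [f, Algebra.TensorProduct.algebraMap_apply]
  rw [Ideal.mem_comap, Ideal.mem_comap]
  show f (algebraMap B (B ⊗[R] S) b) ∈ m ↔ _
  rw [e]
  constructor
  · intro hb
    by_contra hne
    have hu : IsUnit (algebraMap B K₁ b) :=
      isUnit_iff_ne_zero.mpr (fun h0 => hne (Ideal.algebraMap_residueField_eq_zero.mp h0))
    exact hm.ne_top (m.eq_top_of_isUnit_mem hb (hu.map _))
  · intro hb
    rw [Ideal.algebraMap_residueField_eq_zero.mpr hb, map_zero]
    exact m.zero_mem

/-- Multiplicative type is stable under change of base. -/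
theorem isMultType_baseChange (B : Type u) [CommRing B] [Algebra R B] (h : SGA3b.IsMultType R A) :
    SGA3b.IsMultType B (B ⊗[R] A) := by
  obtain ⟨c⟩ := exists_cover h
  let S' : c.ι → Type u := fun i => B ⊗[R] (c.split i).S
  refine isMultType_of_flatCover S' (fun p hp => ?_) fun i => ?_
  · obtain ⟨i, q, hq, hqp⟩ := c.surj (p.comap (algebraMap R B)) inferInstance
    obtain ⟨r, hr, hrp⟩ := exists_prime_tensor B (c.split i).S p q hqp
    exact ⟨i, r, hr, hrp⟩
  · let P := c.split i
    let _ : Algebra P.S (B ⊗[R] P.S) := Algebra.TensorProduct.rightAlgebra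
    have : IsScalarTower R P.S (B ⊗[R] P.S) := Algebra.TensorProduct.right_isScalarTower
    have hd : SGA3b.IsDiag P.S (P.S ⊗[R] A) := isDiag_of_equiv P.bialgEquiv
    exact isDiag_congr (baseChangeTrans (R := R) B (B ⊗[R] P.S) A)
      (isDiag_baseChange P.S (B ⊗[R] P.S) hd)

/-- An algebra lifting a diagonalising extension along a surjection with nil kernel. -/
theorem exists_reduction {T : Type u} [CommRing T] [Algebra R T] (hT : Function.Surjective (algebraMap R T))
    (hker : ∀ x ∈ RingHom.ker (algebraMap R T), IsNilpotent x)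
    {B : Type u} [CommRing B] [Algebra R B] [Module.Flat R B] {C : Type u} [CommRing C] [Algebra T C]
    [Algebra R C] [IsScalarTower R T C] [Module.FaithfullyFlat T C] (φ : T ⊗[R] B ≃ₐ[T] C)
    (hd : SGA3b.IsDiag C (C ⊗[R] A)) :
    Module.FaithfullyFlat R B ∧
      SGA3b.IsDiag (B ⧸ (RingHom.ker (algebraMap R T)).map (algebraMap R B))
        ((B ⧸ (RingHom.ker (algebraMap R T)).map (algebraMap R B)) ⊗[B] (B ⊗[R] A)) := by
  let ι : B →ₐ[R] C := (φ.toAlgHom.restrictScalars R).comp Algebra.TensorProduct.includeRight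
  refine ⟨Module.FaithfullyFlat.of_comap_surjective fun P => ?_, ?_⟩
  · have hle : RingHom.ker (algebraMap R T) ≤ P.asIdeal := fun x hx => by
      obtain ⟨n, hn⟩ := hker x hx
      exact P.2.mem_of_pow_mem n (hn ▸ P.asIdeal.zero_mem)
    have : (P.asIdeal.map (algebraMap R T)).IsPrime := Ideal.map_isPrime_of_surjective hT hle
    obtain ⟨⟨Q, hQ⟩, hQP⟩ := PrimeSpectrum.comap_surjective_of_faithfullyFlat (A := T) (B := C)
      ⟨P.asIdeal.map (algebraMap R T), this⟩
    refine ⟨⟨Q.comap ι.toRingHom, Ideal.IsPrime.comap _⟩, PrimeSpectrum.ext ?_⟩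
    have h1 : Q.comap (algebraMap T C) = P.asIdeal.map (algebraMap R T) := congrArg PrimeSpectrum.asIdeal hQP
    show (Q.comap ι.toRingHom).comap (algebraMap R B) = P.asIdeal
    rw [Ideal.comap_comap, show ι.toRingHom.comp (algebraMap R B) = algebraMap R C from ι.comp_algebraMap,
      IsScalarTower.algebraMap_eq R T C, ← Ideal.comap_comap, h1,
      Ideal.comap_map_of_surjective _ hT, sup_eq_left]
    exact hle
  let K := RingHom.ker (algebraMap R T)
  let B' := B ⧸ K.map (algebraMap R B)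
  let θ : (R ⧸ K) ≃ₐ[R] T :=
    Ideal.quotientKerAlgEquivOfSurjective (f := Algebra.ofId R T) hT
  let ψ : T →ₐ[R] B' :=
    (Ideal.quotientMapₐ (K.map (algebraMap R B)) (Algebra.ofId R B) Ideal.le_comap_map).comp θ.symm.toAlgHom
  let _ : Algebra T B' := ψ.toRingHom.toAlgebra
  have : IsScalarTower R T B' := IsScalarTower.of_algebraMap_eq fun r => (ψ.commutes r).symm
  let τ : C →ₐ[T] B' := (Algebra.TensorProduct.lift (Algebra.ofId T B') (Ideal.Quotient.mkₐ R _)
    fun _ _ => .all _ _).comp φ.symm.toAlgHom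
  let _ : Algebra C B' := τ.toRingHom.toAlgebra
  have : IsScalarTower R C B' := IsScalarTower.of_algebraMap_eq fun r => by
    show algebraMap R B' r = τ (algebraMap R C r)
    rw [IsScalarTower.algebraMap_apply R T C, AlgHom.commutes, ← IsScalarTower.algebraMap_apply]
  exact isDiag_congr (baseChangeTrans (R := R) B B' A)
    (isDiag_baseChange C B' hd)

/-- Lifting an étale diagonalising cover along a nil extension. -/
theorem isDiag_lift_of_nil {T : Type u} [CommRing T] [Algebra R T] (hT : Function.Surjective (algebraMap R T))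
    (hker : ∀ x ∈ RingHom.ker (algebraMap R T), IsNilpotent x) (hA : SGA3b.IsMultType R A)
    {B : Type u} [CommRing B] [Algebra R B] [Module.Flat R B] {C : Type u} [CommRing C] [Algebra T C]
    [Algebra R C] [IsScalarTower R T C] [Module.FaithfullyFlat T C] (φ : T ⊗[R] B ≃ₐ[T] C)
    (hd : SGA3b.IsDiag C (C ⊗[R] A)) :
    Module.FaithfullyFlat R B ∧ SGA3b.IsDiag B (B ⊗[R] A) := by
  obtain ⟨h1, h2⟩ := exists_reduction hT hker φ hd
  refine ⟨h1, isDiag_of_nil _ (fun x hx => ?_) (isMultType_baseChange B hA) h2⟩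
  have hle : (RingHom.ker (algebraMap R T)).map (algebraMap R B) ≤ nilradical B :=
    Ideal.map_le_iff_le_comap.mpr fun r hr => mem_nilradical.mpr ((hker r hr).map _)
  exact mem_nilradical.mp (hle hx)

/-- Lifting an étale diagonalising cover of a flat group along a nilpotent extension. -/
theorem isDiag_lift_of_nilpotent {T : Type u} [CommRing T] [Algebra R T]
    (hT : Function.Surjective (algebraMap R T)) (hker : IsNilpotent (RingHom.ker (algebraMap R T)))
    [Module.Flat R A]
    {B : Type u} [CommRing B] [Algebra R B] [Module.Flat R B] {C : Type u} [CommRing C] [Algebra T C]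
    [Algebra R C] [IsScalarTower R T C] [Module.FaithfullyFlat T C] (φ : T ⊗[R] B ≃ₐ[T] C)
    (hd : SGA3b.IsDiag C (C ⊗[R] A)) :
    Module.FaithfullyFlat R B ∧ SGA3b.IsDiag B (B ⊗[R] A) := by
  obtain ⟨n, hn⟩ := hker
  have hk : ∀ x ∈ RingHom.ker (algebraMap R T), IsNilpotent x := fun x hx => ⟨n, by
    have := Ideal.pow_mem_pow hx n
    rwa [hn, Ideal.zero_eq_bot, Ideal.mem_bot] at this⟩
  obtain ⟨h1, h2⟩ := exists_reduction hT hk φ hd
  refine ⟨h1, isDiag_of_flat_of_nilpotent _ ⟨n, ?_⟩ h2⟩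
  rw [← Ideal.map_pow, hn, Ideal.zero_eq_bot, Ideal.map_bot]
  rfl

/-- Isotriviality lifts along a nil ideal. -/
theorem isIsotrivial_of_mod_nil (I : Ideal R) (hI : ∀ x ∈ I, IsNilpotent x) (hA : SGA3b.IsMultType R A)
    (h : SGA3b.IsIsotrivial (R ⧸ I) ((R ⧸ I) ⊗[R] A)) : SGA3b.IsIsotrivial R A := by
  obtain ⟨C, _, _, _, _, _, hd⟩ := h
  have hnil : I ≤ (⊥ : Ideal R).radical := fun x hx => by
    obtain ⟨n, hn⟩ := hI x hx
    exact ⟨n, by simpa using hn⟩
  have : HenselianRing R (⊥ : Ideal R).radical := (Hensel.henselianRing_radical_iff ⊥).mpr Hensel.henselianRing_bot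
  have : HenselianRing R I := Hensel.henselianRing_of_le hnil
  obtain ⟨B, _, _, hfin, het, ⟨φ⟩⟩ := Hensel.exists_finite_etale_lift (I := I) C
  let _ : Algebra R C := ((algebraMap (R ⧸ I) C).comp (algebraMap R (R ⧸ I))).toAlgebra
  have : IsScalarTower R (R ⧸ I) C := IsScalarTower.of_algebraMap_eq fun _ => rfl
  have hd := isDiag_congr (baseChangeTrans (R := R) (R ⧸ I) C A).symm hd
  obtain ⟨h1, h2⟩ := isDiag_lift_of_nil (T := R ⧸ I) Ideal.Quotient.mk_surjective
    (fun x hx => hI x (Ideal.Quotient.eq_zero_iff_mem.mp (RingHom.mem_ker.mp hx))) hA φ hd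
  exact ⟨B, ‹_›, ‹_›, het, hfin, h1, h2⟩

theorem span_preimage_eq_top (I : Ideal R) (hI : ∀ x ∈ I, IsNilpotent x) (s : Set (R ⧸ I))
    (hs : Ideal.span s = ⊤) : Ideal.span (Ideal.Quotient.mk I ⁻¹' s) = ⊤ := by
  by_contra hne
  obtain ⟨m, hm, hle⟩ := Ideal.exists_le_maximal _ hne
  have hIm : I ≤ m := fun x hx => by
    obtain ⟨n, hn⟩ := hI x hx
    exact hm.isPrime.mem_of_pow_mem n (hn ▸ m.zero_mem)
  have : Ideal.span s ≤ m.map (Ideal.Quotient.mk I) := Ideal.span_le.mpr fun x hx => by
    obtain ⟨r, rfl⟩ := Ideal.Quotient.mk_surjective x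
    exact Ideal.mem_map_of_mem _ (hle (Ideal.subset_span hx))
  rw [hs, top_le_iff] at this
  have h1 := congrArg (Ideal.comap (Ideal.Quotient.mk I)) this
  rw [Ideal.comap_map_of_surjective _ Ideal.Quotient.mk_surjective, Ideal.comap_top,
    ← RingHom.ker_eq_comap_bot, Ideal.mk_ker, sup_eq_left.mpr hIm] at h1
  exact hm.ne_top h1

set_option maxHeartbeats 1000000 in
/-- Quasi-isotriviality lifts along nil ideals, for a suitable lifting principle. -/
theorem isQuasiIsotrivial_of_lift (I : Ideal R) (hI : ∀ x ∈ I, IsNilpotent x)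
    (lift : ∀ (f : R) (T : Type u) [CommRing T] [Algebra (Localization.Away f) T],
      Function.Surjective (algebraMap (Localization.Away f) T) →
      RingHom.ker (algebraMap (Localization.Away f) T) ≤ I.map (algebraMap R (Localization.Away f)) →
      ∀ (B : Type u) [CommRing B] [Algebra (Localization.Away f) B] [Module.Flat (Localization.Away f) B]
        (C : Type u) [CommRing C] [Algebra T C] [Algebra (Localization.Away f) C]
        [IsScalarTower (Localization.Away f) T C] [Module.FaithfullyFlat T C],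
        (T ⊗[Localization.Away f] B ≃ₐ[T] C) →
        SGA3b.IsDiag C (C ⊗[Localization.Away f] (Localization.Away f ⊗[R] A)) →
        Module.FaithfullyFlat (Localization.Away f) B ∧
          SGA3b.IsDiag B (B ⊗[Localization.Away f] (Localization.Away f ⊗[R] A)))
    (h : SGA3b.IsQuasiIsotrivial (R ⧸ I) ((R ⧸ I) ⊗[R] A)) : SGA3b.IsQuasiIsotrivial R A := by
  obtain ⟨s, hs, hd⟩ := h
  refine ⟨Ideal.Quotient.mk I ⁻¹' s, span_preimage_eq_top I hI s hs, fun f hf => ?_⟩
  obtain ⟨C, _, _, _, _, hdC⟩ := hd _ hf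
  let Rf := Localization.Away f
  let T := Localization.Away (Ideal.Quotient.mk I f)
  let g : Rf →+* T := IsLocalization.Away.map Rf T (Ideal.Quotient.mk I) f
  let _ : Algebra Rf T := g.toAlgebra
  have hg : ∀ r, algebraMap Rf T (algebraMap R Rf r) = algebraMap (R ⧸ I) T (Ideal.Quotient.mk I r) :=
    fun r => by
      show IsLocalization.Away.map Rf T (Ideal.Quotient.mk I) f (algebraMap R Rf r) = _
      rw [IsLocalization.Away.map, IsLocalization.map_eq]
  have : IsScalarTower R Rf T := IsScalarTower.of_algebraMap_eq fun r => (hg r).symm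
  have hsur : Function.Surjective (algebraMap Rf T) := by
    intro t
    obtain ⟨x, ⟨_, n, rfl⟩, rfl⟩ := IsLocalization.exists_mk'_eq (Submonoid.powers (Ideal.Quotient.mk I f)) t
    obtain ⟨r, rfl⟩ := Ideal.Quotient.mk_surjective x
    refine ⟨IsLocalization.mk' Rf r (⟨f ^ n, n, rfl⟩ : Submonoid.powers f), ?_⟩
    show g _ = _
    rw [show g = IsLocalization.Away.map Rf T (Ideal.Quotient.mk I) f from rfl, IsLocalization.Away.map,
      IsLocalization.map_mk']
    congr 1
  have hker : RingHom.ker (algebraMap Rf T) ≤ I.map (algebraMap R Rf) := by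
    intro x hx
    obtain ⟨r, ⟨_, n, rfl⟩, rfl⟩ := IsLocalization.exists_mk'_eq (Submonoid.powers f) x
    have h1 : algebraMap Rf T (algebraMap R Rf r) = 0 := by
      rw [← IsLocalization.mk'_spec Rf r (⟨f ^ n, n, rfl⟩ : Submonoid.powers f), map_mul,
        RingHom.mem_ker.mp hx, zero_mul]
    rw [hg] at h1
    obtain ⟨⟨_, m, rfl⟩, hm⟩ :=
      (IsLocalization.map_eq_zero_iff (Submonoid.powers (Ideal.Quotient.mk I f)) T _).mp h1
    have hrI : f ^ m * r ∈ I := by
      rw [← Ideal.Quotient.eq_zero_iff_mem, map_mul, map_pow]; exact hm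
    rw [IsLocalization.mk'_eq_mul_mk'_one]
    refine Ideal.mul_mem_right _ _ ?_
    have hu : IsUnit (algebraMap R Rf (f ^ m)) := by
      rw [map_pow]; exact (IsLocalization.Away.algebraMap_isUnit f).pow m
    rw [← Ideal.unit_mul_mem_iff_mem _ hu, ← map_mul]
    exact Ideal.mem_map_of_mem _ hrI
  obtain ⟨B, _, _, het, ⟨φ⟩⟩ := Hensel.exists_etale_algebra_lift (A := Rf) (T := T) (C := C) hsur
  let _ : Algebra Rf C := ((algebraMap T C).comp (algebraMap Rf T)).toAlgebra
  have : IsScalarTower Rf T C := IsScalarTower.of_algebraMap_eq fun _ => rfl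
  let _ : Algebra (R ⧸ I) C := ((algebraMap T C).comp (algebraMap (R ⧸ I) T)).toAlgebra
  have : IsScalarTower (R ⧸ I) T C := IsScalarTower.of_algebraMap_eq fun _ => rfl
  let _ : Algebra R C := ((algebraMap T C).comp (algebraMap R T)).toAlgebra
  have : IsScalarTower R T C := IsScalarTower.of_algebraMap_eq fun _ => rfl
  have : IsScalarTower R (R ⧸ I) C := IsScalarTower.of_algebraMap_eq fun r => by
    show algebraMap T C (algebraMap R T r) = algebraMap T C (algebraMap (R ⧸ I) T (algebraMap R (R ⧸ I) r))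
    rw [← IsScalarTower.algebraMap_apply R (R ⧸ I) T]
  have : IsScalarTower R Rf C := IsScalarTower.of_algebraMap_eq fun r => by
    show algebraMap T C (algebraMap R T r) = algebraMap T C (algebraMap Rf T (algebraMap R Rf r))
    rw [← IsScalarTower.algebraMap_apply R Rf T]
  have hd1 : SGA3b.IsDiag C (C ⊗[R] A) :=
    isDiag_congr (baseChangeTrans (R := R) (R ⧸ I) C A).symm
      (isDiag_congr (baseChangeTrans (R := R ⧸ I) T C ((R ⧸ I) ⊗[R] A)).symm hdC)
  obtain ⟨h1, h2⟩ := lift f T hsur hker B C φ (isDiag_congr (baseChangeTrans (R := R) Rf C A) hd1)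
  exact ⟨B, ‹_›, ‹_›, het, h1, h2⟩

theorem isQuasiIsotrivial_of_mod_nil (I : Ideal R) (hI : ∀ x ∈ I, IsNilpotent x) (hA : SGA3b.IsMultType R A)
    (h : SGA3b.IsQuasiIsotrivial (R ⧸ I) ((R ⧸ I) ⊗[R] A)) : SGA3b.IsQuasiIsotrivial R A := by
  refine isQuasiIsotrivial_of_lift I hI (fun f T _ _ hT hker B _ _ _ C _ _ _ _ _ φ hd => ?_) h
  refine isDiag_lift_of_nil hT (fun x hx => ?_) (isMultType_baseChange _ hA) φ hd
  have hle : I.map (algebraMap R (Localization.Away f)) ≤ nilradical _ :=
    Ideal.map_le_iff_le_comap.mpr fun r hr => mem_nilradical.mpr ((hI r hr).map _)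
  exact mem_nilradical.mp (hle (hker hx))

theorem isQuasiIsotrivial_of_flat_mod_nilpotent [Module.Flat R A] (I : Ideal R) (hI : IsNilpotent I)
    (h : SGA3b.IsQuasiIsotrivial (R ⧸ I) ((R ⧸ I) ⊗[R] A)) : SGA3b.IsQuasiIsotrivial R A := by
  obtain ⟨n, hn⟩ := hI
  have hI' : ∀ x ∈ I, IsNilpotent x := fun x hx => ⟨n, by
    have := Ideal.pow_mem_pow hx n
    rwa [hn, Ideal.zero_eq_bot, Ideal.mem_bot] at this⟩
  refine isQuasiIsotrivial_of_lift I hI' (fun f T _ _ hT hker B _ _ _ C _ _ _ _ _ φ hd => ?_) h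
  refine isDiag_lift_of_nilpotent hT ⟨n, le_bot_iff.mp ?_⟩ φ hd
  refine (Ideal.pow_right_mono hker n).trans ?_
  rw [← Ideal.map_pow, hn, Ideal.zero_eq_bot, Ideal.map_bot]

end Groth.Agent.MultTypeLib
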