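import Groth.Agent.MultTypeLib.CoverType
import Mathlib.RingTheory.Jacobson.Ring
import Mathlib.RingTheory.FiniteType
import Mathlib.FieldTheory.PurelyInseparable.Basic
import Mathlib.RingTheory.TensorProduct.Basic

/-!
# Groups of multiplicative type over fields are isotrivial
-/

universe u

open WithConv TensorProduct Coalgebra Bialgebra

noncomputable section

namespace Groth.Agent.MultTypeLib

/-- Diagonalisability descends along a faithfully flat extension with nil diagonal ideal. -/
theorem isDiag_of_nil_diagonal {R : Type u} [CommRing R] {A : Type u} [CommRing A] [HopfAlgebra R A]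
    (S : Type u) [CommRing S] [Algebra R S] [Module.FaithfullyFlat R S]
    (hnil : ∀ x : S ⊗[R] S, Algebra.TensorProduct.lmul' R x = 0 → IsNilpotent x)
    (hd : SGA3b.IsDiag S (S ⊗[R] A)) : SGA3b.IsDiag R A := by
  obtain ⟨M, inst, hom, equiv, he⟩ := exists_split_of_isDiag S hd
  let P : Split R A := { S := S, M := M, hom := hom, equiv := equiv, equiv_tmul := he }
  have : Module.FaithfullyFlat R P.S := ‹Module.FaithfullyFlat R S›
  let c : Cover R A := Cover.single P
  refine isDiag_of_char_agree c M (fun _ => MulEquiv.refl M) fun m i j => ?_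
  show mA A (Algebra.TensorProduct.includeLeft : P.S →ₐ[R] P.S ⊗[R] P.S) (P.char m) =
    mA A (Algebra.TensorProduct.includeRight : P.S →ₐ[R] P.S ⊗[R] P.S) (P.char m)
  refine P.groupLike_ext_nil (P.S ⊗[R] P.S) (Algebra.TensorProduct.lmul' R) hnil
    (isGroupLike_mA _ (P.isGroupLike_char m)) (isGroupLike_mA _ (P.isGroupLike_char m)) ?_
  rw [mA_comp, mA_comp]
  congr 2
  ext s
  simp

variable (k : Type u) [Field k] (A : Type u) [CommRing A] [HopfAlgebra k A]

set_option maxHeartbeats 1000000 in
/-- Over a field, a group of multiplicative type and of finite type splits over a finite extension. -/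
theorem exists_isDiag_finite (hft : Algebra.FiniteType k A) (h : SGA3b.IsMultType k A) :
    ∃ (K : Type u) (_ : Field K) (_ : Algebra k K), Module.Finite k K ∧ SGA3b.IsDiag K (K ⊗[k] A) := by
  classical
  obtain ⟨P, hP⟩ := exists_ff_split h
  have : Nontrivial P.S := by
    obtain ⟨⟨q, hq⟩, -⟩ := PrimeSpectrum.comap_surjective_of_faithfullyFlat (A := k) (B := P.S) default
    exact ⟨⟨0, 1, fun e => hq.ne_top (q.eq_top_iff_one.mpr (e ▸ q.zero_mem))⟩⟩
  have : Algebra.FiniteType P.S (MonoidAlgebra P.S P.M) := Algebra.FiniteType.equiv inferInstance P.equiv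
  have : Monoid.FG P.M := MonoidAlgebra.finiteType_iff_fg.mp this
  obtain ⟨G, hG⟩ := Monoid.fg_iff.mp this
  obtain ⟨gens, hgens⟩ := hft.out
  let elems : Set (P.S ⊗[k] A) := P.char '' G
  obtain ⟨N, hN, hNe⟩ := TensorProduct.exists_finite_submodule_left_of_setFinite elems (hG.2.image _)
  let Kset : Set P.S := (⋃ c ∈ gens, Set.range fun m : ((P.hom.toAlgHom c).coeff.support) =>
    (P.hom.toAlgHom c).coeff m.1)
  obtain ⟨tN, htN⟩ := Module.Finite.iff_fg.mp hN
  have hK : Kset.Finite := gens.finite_toSet.biUnion fun c _ => Set.finite_range _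
  let S₀ : Subalgebra k P.S := Algebra.adjoin k ((tN : Set P.S) ∪ Kset)
  have hS₀ : Algebra.FiniteType k S₀ :=
    (Subalgebra.fg_iff_finiteType S₀).mp (Subalgebra.fg_def.mpr ⟨_, tN.finite_toSet.union hK, rfl⟩)
  have hle : N ≤ Subalgebra.toSubmodule S₀ := by
    rw [← htN, Submodule.span_le]
    exact fun x hx => Algebra.subset_adjoin (Or.inl hx)
  let ι : S₀ →ₐ[k] P.S := S₀.val
  have hιA : Function.Injective (mA A ι) := by
    rw [show ⇑(mA A ι) = ⇑(LinearMap.rTensor A ι.toLinearMap) from funext (mA_eq_rTensor ι)]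
    exact Module.Flat.rTensor_preserves_injective_linearMap (M := A) ι.toLinearMap Subtype.val_injective
  have hlift : ∀ n ∈ G, ∃ y : S₀ ⊗[k] A, mA A ι y = P.char n := fun n hn => by
    obtain ⟨w, hw⟩ := hNe ⟨n, hn, rfl⟩
    refine ⟨LinearMap.rTensor A (Submodule.inclusion hle) w, ?_⟩
    rw [mA_eq_rTensor]
    show LinearMap.rTensor A ι.toLinearMap (LinearMap.rTensor A (Submodule.inclusion hle) w) = P.char n
    rw [← hw, ← LinearMap.comp_apply, ← LinearMap.rTensor_comp]
    rfl
  have hall : ∀ n : P.M, ∃ y : S₀ ⊗[k] A, mA A ι y = P.char n := by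
    intro n
    have : n ∈ Submonoid.closure G := hG.1 ▸ Submonoid.mem_top n
    induction this using Submonoid.closure_induction with
    | mem x hx => exact hlift x hx
    | one => exact ⟨1, by rw [map_one, map_one]⟩
    | mul x y _ _ hx hy =>
      obtain ⟨a, ha⟩ := hx
      obtain ⟨b, hb⟩ := hy
      exact ⟨a * b, by rw [map_mul, map_mul, ha, hb]⟩
  choose y hy using hall
  let y' : P.M →* S₀ ⊗[k] A :=
    { toFun := y
      map_one' := hιA (by rw [hy, map_one, map_one])
      map_mul' := fun a b => hιA (by rw [hy, map_mul, map_mul, hy, hy]) }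
  have hyg : ∀ n, IsGroupLikeElem S₀ (y n) := by
    intro n
    have hgl := P.isGroupLike_char n
    rw [← hy n] at hgl
    let E := (SemiBialgHom.baseChange k P.S A).extendSemi (S := S₀)
    have hE : ∀ z, E.toAlgHom z = mA A ι z := fun z => by
      induction z using TensorProduct.induction_on with
      | zero => simp
      | add a b ha hb => simp only [map_add, ha, hb]
      | tmul s a =>
        rw [SemiBialgHom.extendSemi_tmul, IsScalarTower.algebraMap_apply S₀ P.S (P.S ⊗[k] A)]
        simp [SemiBialgHom.baseChange, Algebra.TensorProduct.algebraMap_apply, ι]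
    refine ⟨Subtype.val_injective ?_, ?_⟩
    · show algebraMap S₀ P.S _ = algebraMap S₀ P.S 1
      rw [← E.counit_comp, hE, hgl.counit_eq_one, map_one]
    · let D := AlgebraTensorModule.distribBaseChange k S₀ A A
      let D' := AlgebraTensorModule.distribBaseChange k P.S A A
      have hD : ∀ w, sq P.S E.toAlgHom (D w) = D' (LinearMap.rTensor _ ι.toLinearMap w) := by
        intro w
        induction w using TensorProduct.induction_on with
        | zero => simp
        | add a b ha hb => simp only [map_add, ha, hb]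
        | tmul s pq =>
          induction pq using TensorProduct.induction_on with
          | zero => simp
          | add a b ha hb => simp only [TensorProduct.tmul_add, map_add, ha, hb]
          | tmul p q => simp [D, D', hE]
      apply D.symm.injective
      apply Module.Flat.rTensor_preserves_injective_linearMap (M := A ⊗[k] A) ι.toLinearMap
        Subtype.val_injective
      apply D'.injective
      rw [← hD, ← hD, LinearEquiv.apply_symm_apply, LinearEquiv.apply_symm_apply, ← E.comul_comp, hE,
        hgl.comul_eq_tmul_self, sq_tmul, hE]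
  let φ₀ : MonoidAlgebra S₀ P.M →ₐc[S₀] S₀ ⊗[k] A := homOfGroupLike y' hyg
  have hφ₀ : ∀ x, P.equiv (mA A ι (φ₀ x)) = MonoidAlgebra.map ι.toRingHom.toAddMonoidHom x := by
    intro x
    induction x using MonoidAlgebra.induction_linear with
    | zero => simp
    | add a b ha hb => simp only [map_add, MonoidAlgebra.map_add, ha, hb]
    | single n r =>
      have e : mA A ι (r • y n) = ι r • P.char n := by
        rw [← hy n]
        generalize y n = w
        induction w using TensorProduct.induction_on with
        | zero => simp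
        | add a b ha hb => simp only [smul_add, map_add, ha, hb]
        | tmul s a => simp [TensorProduct.smul_tmul', ι, Algebra.smul_def]
      rw [homOfGroupLike_single]
      show P.equiv (mA A ι (r • y n)) = _
      rw [e, map_smul, Split.char]
      simp [MonoidAlgebra.of_apply]
  have hinj : Function.Injective φ₀ := fun a b hab => by
    have := congrArg (fun z => P.equiv (mA A ι z)) hab
    simp only [hφ₀] at this
    refine MonoidAlgebra.coeff_injective (Finsupp.ext fun m => Subtype.val_injective ?_)
    have := congrArg (fun z => z.coeff m) this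
    simp only [MonoidAlgebra.coeff_map, Finsupp.mapRange_apply] at this
    exact this
  have hsurj : Function.Surjective φ₀ := by
    have hgen : ∀ c ∈ gens, ((1 : S₀) ⊗ₜ[k] c) ∈ (φ₀ : MonoidAlgebra S₀ P.M →ₐ[S₀] S₀ ⊗[k] A).range := by
      intro c hc
      let x : MonoidAlgebra S₀ P.M := ∑ m ∈ (P.hom.toAlgHom c).coeff.support.attach,
        MonoidAlgebra.single m.1 (⟨(P.hom.toAlgHom c).coeff m.1,
          Algebra.subset_adjoin (Or.inr (Set.mem_biUnion hc ⟨m, rfl⟩))⟩ : S₀)
      refine ⟨x, hιA (P.equiv.injective ?_)⟩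
      refine (hφ₀ x).trans ?_
      rw [Algebra.TensorProduct.map_tmul, map_one, AlgHom.id_apply, P.equiv_tmul]
      conv_rhs => rw [← MonoidAlgebra.sum_coeff_single (P.hom.toAlgHom c), Finsupp.sum, ← Finset.sum_attach]
      simp only [x, MonoidAlgebra.map_sum]
      refine Finset.sum_congr rfl fun m _ => ?_
      simp [ι]
    have hA : ∀ a : A, ((1 : S₀) ⊗ₜ[k] a) ∈ (φ₀ : MonoidAlgebra S₀ P.M →ₐ[S₀] S₀ ⊗[k] A).range := by
      intro a
      induction (hgens ▸ Algebra.mem_top : a ∈ Algebra.adjoin k (gens : Set A)) using Algebra.adjoin_induction with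
      | mem x hx => exact hgen x hx
      | algebraMap r =>
        rw [Algebra.algebraMap_eq_smul_one, TensorProduct.tmul_smul, ← IsScalarTower.algebraMap_smul S₀]
        exact Subalgebra.smul_mem _ (one_mem _) _
      | add a b _ _ ha hb => rw [TensorProduct.tmul_add]; exact add_mem ha hb
      | mul a b _ _ ha hb =>
        rw [show (1 : S₀) ⊗ₜ[k] (a * b) = (1 ⊗ₜ a) * (1 ⊗ₜ b) by simp]
        exact mul_mem ha hb
    intro z
    suffices z ∈ (φ₀ : MonoidAlgebra S₀ P.M →ₐ[S₀] S₀ ⊗[k] A).range from this
    induction z using TensorProduct.induction_on with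
    | zero => exact zero_mem _
    | add a b ha hb => exact add_mem ha hb
    | tmul s a =>
      rw [show s ⊗ₜ[k] a = s • ((1 : S₀) ⊗ₜ[k] a) by simp [TensorProduct.smul_tmul']]
      exact Subalgebra.smul_mem _ (hA a) _
  let e₀ : MonoidAlgebra S₀ P.M ≃ₐc[S₀] S₀ ⊗[k] A := BialgEquiv.ofBijective φ₀ ⟨hinj, hsurj⟩
  obtain ⟨m, hm⟩ := Ideal.exists_maximal S₀
  let K := S₀ ⧸ m
  let _ : Field K := Ideal.Quotient.field m
  have : Algebra.FiniteType k K :=
    Algebra.FiniteType.of_surjective (Ideal.Quotient.mkₐ k m) Ideal.Quotient.mk_surjective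
  let h₀ := (SemiBialgHom.ofBialgHom (e₀.symm : S₀ ⊗[k] A →ₐc[S₀] MonoidAlgebra S₀ P.M)).comp
    (SemiBialgHom.baseChange k S₀ A)
  have hb₀ : Function.Bijective h₀.extend := by
    rw [show ⇑h₀.extend = ⇑e₀.symm from funext (extend_eq_of_equiv e₀.symm)]
    exact e₀.symm.bijective
  let E : K ⊗[k] A ≃ₐc[K] MonoidAlgebra K P.M :=
    ((mapCoeff S₀ K P.M).comp h₀).toBialgEquiv (extend_comp_mapCoeff_bijective (T := K) h₀ hb₀)
  exact ⟨K, inferInstance, inferInstance, finite_of_finite_type_of_isJacobsonRing k K, isDiag_of_equiv E⟩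

/-- Descent along a purely inseparable extension. -/
theorem isDiagFT_of_isPurelyInseparable (k' : Type u) [Field k'] [Algebra k k'] (K : Type u) [Field K] [Algebra k K]
    [Algebra k' K] [IsScalarTower k k' K] [IsPurelyInseparable k' K] (hft : Algebra.FiniteType k A)
    (hd : SGA3b.IsDiag K (K ⊗[k] A)) : SGA3b.IsDiagFT k' (k' ⊗[k] A) := by
  have hd' : SGA3b.IsDiag K (K ⊗[k'] (k' ⊗[k] A)) := isDiag_congr (baseChangeTrans (R := k) k' K A) hd
  have hnil : ∀ x : K ⊗[k'] K, Algebra.TensorProduct.lmul' k' x = 0 → IsNilpotent x := by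
    intro x hx
    obtain ⟨n, hn, y, hy⟩ := IsPurelyInseparable.exists_pow_mem_range_tensorProduct (R := K) (K := K) x
    have hy0 : y = 0 := by
      have := congrArg (Algebra.TensorProduct.lmul' k') hy
      rw [map_pow, hx, zero_pow hn.ne', Algebra.TensorProduct.algebraMap_apply,
        Algebra.TensorProduct.lmul'_apply_tmul, mul_one] at this
      simpa using this
    exact ⟨n, by rw [← hy, hy0, map_zero]⟩
  obtain ⟨M, inst, e⟩ := isDiag_of_nil_diagonal K hnil hd'
  obtain ⟨e⟩ := e
  have : Algebra.FiniteType k' (MonoidAlgebra k' M) :=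
    Algebra.FiniteType.equiv inferInstance (e : k' ⊗[k] A ≃ₐ[k'] MonoidAlgebra k' M)
  have hfg : Group.FG M := Group.fg_iff_monoid_fg.mpr (MonoidAlgebra.finiteType_iff_fg.mp this)
  exact ⟨M, inst, hfg, ⟨e⟩⟩

/-- Over a field, a group of multiplicative type and of finite type is isotrivial. -/
theorem isotrivial_of_field (hft : Algebra.FiniteType k A) (h : SGA3b.IsMultType k A) :
    ∃ (k' : Type u) (_ : Field k') (_ : Algebra k k'),
      Module.Finite k k' ∧ Algebra.IsSeparable k k' ∧ SGA3b.IsDiagFT k' (k' ⊗[k] A) := by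
  obtain ⟨K, _, _, _, hd⟩ := exists_isDiag_finite k A hft h
  exact ⟨separableClosure k K, inferInstance, inferInstance, inferInstance, inferInstance,
    isDiagFT_of_isPurelyInseparable k A (separableClosure k K) K hft hd⟩

end Groth.Agent.MultTypeLib
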