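import Groth.Agent.MultTypeLib.Henselian
import Groth.Agent.Hensel.Colim
import Mathlib.LinearAlgebra.TensorProduct.RightExactness
import Mathlib.RingTheory.HopfAlgebra.GroupLike
import Mathlib.RingTheory.Noetherian.Basic

/-!
# Descending group-like elements to étale neighbourhoods
-/

universe u

open WithConv TensorProduct Coalgebra Bialgebra

noncomputable section

namespace Groth.Agent.MultTypeLib

open Hensel

variable {R : Type u} [CommRing R] {K : Type u} [CommRing K] [Algebra R K]

section Module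

variable (X : Type u) [AddCommGroup X] [Module R X]

/-- Base change of coefficients. -/
abbrev rT {S T : Type u} [CommRing S] [Algebra R S] [CommRing T] [Algebra R T] (f : S →ₐ[R] T) :
    S ⊗[R] X →ₗ[R] T ⊗[R] X := LinearMap.rTensor X f.toLinearMap

theorem rT_rT {S T U : Type u} [CommRing S] [Algebra R S] [CommRing T] [Algebra R T] [CommRing U] [Algebra R U]
    (f : S →ₐ[R] T) (g : T →ₐ[R] U) (x : S ⊗[R] X) : rT X g (rT X f x) = rT X (g.comp f) x := by
  induction x using TensorProduct.induction_on with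
  | zero => simp
  | add a b ha hb => simp only [map_add, ha, hb]
  | tmul a b => simp

/-- Tensors over the colimit come from a stage refining a given one. -/
theorem exists_stage (N : Nbhd R K) (z : Henz R K ⊗[R] X) :
    ∃ (M : Nbhd R K) (α : N.B →ₐ[R] M.B) (x : M.B ⊗[R] X),
      M.toK.comp α = N.toK ∧ rT X (Henz.ofB M) x = z := by
  induction z using TensorProduct.induction_on generalizing N with
  | zero => exact ⟨N, AlgHom.id R _, 0, AlgHom.comp_id _, map_zero _⟩
  | tmul h a =>
    obtain ⟨M₁, b, rfl⟩ := Henz.exists_ofB h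
    obtain ⟨P, α, β, hα, hβ⟩ := N.exists_hom₂ M₁
    refine ⟨P, α, β b ⊗ₜ a, hα, ?_⟩
    rw [← Henz.ofB_comp β hβ]
    simp
  | add z₁ z₂ h₁ h₂ =>
    obtain ⟨M₁, α₁, x₁, hα₁, hx₁⟩ := h₁ N
    obtain ⟨M₂, α₂, x₂, hα₂, hx₂⟩ := h₂ M₁
    refine ⟨M₂, α₂.comp α₁, rT X α₂ x₁ + x₂, by rw [← AlgHom.comp_assoc, hα₂, hα₁], ?_⟩
    rw [map_add, hx₂, rT_rT, Henz.ofB_comp α₂ hα₂, hx₁]

variable [Module.Flat R X]

/-- Tensors vanishing in the colimit vanish at a finite stage. -/
theorem exists_stage_eq_zero (N : Nbhd R K) (x : N.B ⊗[R] X) (hx : rT X (Henz.ofB N) x = 0) :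
    ∃ (M : Nbhd R K) (α : N.B →ₐ[R] M.B), M.toK.comp α = N.toK ∧ rT X α x = 0 := by
  let f : N.B →ₗ[R] Henz R K := (Henz.ofB N).toLinearMap
  obtain ⟨y, rfl⟩ := (Module.Flat.rTensor_exact X (f := (LinearMap.ker f).subtype) (g := f)
    (LinearMap.exact_subtype_ker_map f) x).mp hx
  clear hx
  suffices ∀ (M : Nbhd R K) (α : N.B →ₐ[R] M.B), M.toK.comp α = N.toK →
      ∃ (M' : Nbhd R K) (γ : M.B →ₐ[R] M'.B), M'.toK.comp γ = M.toK ∧
        rT X (γ.comp α) (LinearMap.rTensor X (LinearMap.ker f).subtype y) = 0 by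
    obtain ⟨M', γ, h1, h2⟩ := this N (AlgHom.id R _) (AlgHom.comp_id _)
    exact ⟨M', γ, h1, by simpa using h2⟩
  induction y using TensorProduct.induction_on with
  | zero => exact fun M α _ => ⟨M, AlgHom.id R _, AlgHom.comp_id _, by rw [map_zero, map_zero]⟩
  | tmul c a =>
    intro M α hα
    have h0 : Henz.ofB M (α c.1) = 0 := by
      rw [← AlgHom.comp_apply, Henz.ofB_comp α hα]
      exact c.2
    obtain ⟨M', γ, hγ, hc⟩ := Henz.exists_of_ofB_eq_zero h0
    refine ⟨M', γ, hγ, ?_⟩
    simp [hc]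
  | add y₁ y₂ h₁ h₂ =>
    intro M α hα
    obtain ⟨M₁, γ₁, hγ₁, e₁⟩ := h₁ M α hα
    obtain ⟨M₂, γ₂, hγ₂, e₂⟩ := h₂ M₁ (γ₁.comp α) (by rw [← AlgHom.comp_assoc, hγ₁, hα])
    refine ⟨M₂, γ₂.comp γ₁, by rw [← AlgHom.comp_assoc, hγ₂, hγ₁], ?_⟩
    rw [map_add, map_add, AlgHom.comp_assoc, e₂, ← rT_rT, e₁, map_zero, zero_add]

end Module

section GroupLike

variable {A : Type u} [CommRing A] [HopfAlgebra R A]

/-- Change of base on group-like elements. -/
def glMap {S T : Type u} [CommRing S] [Algebra R S] [CommRing T] [Algebra R T] (f : S →ₐ[R] T) :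
    GroupLike S (S ⊗[R] A) →* GroupLike T (T ⊗[R] A) where
  toFun x := ⟨mA A f x.val, isGroupLike_mA f x.2⟩
  map_one' := GroupLike.val_injective (map_one (mA A f))
  map_mul' x y := GroupLike.val_injective (map_mul (mA A f) x.val y.val)

theorem glMap_val {S T : Type u} [CommRing S] [Algebra R S] [CommRing T] [Algebra R T] (f : S →ₐ[R] T)
    (x : GroupLike S (S ⊗[R] A)) : (glMap f x).val = mA A f x.val := rfl

/-- The defect of being group-like. -/
def glDefect (S : Type u) [CommRing S] [Algebra R S] (x : S ⊗[R] A) : S ⊗[R] (A ⊗[R] A) :=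
  Algebra.TensorProduct.map (AlgHom.id R S) (Algebra.TensorProduct.includeLeft (R := R) (S := R) (A := A) (B := A)) x *
    Algebra.TensorProduct.map (AlgHom.id R S) (Algebra.TensorProduct.includeRight (R := R) (A := A) (B := A)) x -
    Algebra.TensorProduct.map (AlgHom.id R S) (Bialgebra.comulAlgHom R A) x

theorem rT_eq_map {B : Type u} [CommRing B] [Algebra R B] {S T : Type u} [CommRing S] [Algebra R S]
    [CommRing T] [Algebra R T] (f : S →ₐ[R] T) (x : S ⊗[R] B) :
    rT B f x = Algebra.TensorProduct.map f (AlgHom.id R B) x := by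
  induction x using TensorProduct.induction_on with
  | zero => simp
  | add a b ha hb => simp only [map_add, ha, hb]
  | tmul a b => simp

theorem map_natural {B C : Type u} [CommRing B] [Algebra R B] [CommRing C] [Algebra R C] (φ : B →ₐ[R] C)
    {S T : Type u} [CommRing S] [Algebra R S] [CommRing T] [Algebra R T] (f : S →ₐ[R] T) (x : S ⊗[R] B) :
    Algebra.TensorProduct.map f (AlgHom.id R C) (Algebra.TensorProduct.map (AlgHom.id R S) φ x) =
      Algebra.TensorProduct.map (AlgHom.id R T) φ (Algebra.TensorProduct.map f (AlgHom.id R B) x) := by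
  induction x using TensorProduct.induction_on with
  | zero => simp
  | add a b ha hb => simp only [map_add, ha, hb]
  | tmul a b => simp

theorem glDefect_natural {S T : Type u} [CommRing S] [Algebra R S] [CommRing T] [Algebra R T] (f : S →ₐ[R] T)
    (x : S ⊗[R] A) : rT (A ⊗[R] A) f (glDefect S x) = glDefect T (mA A f x) := by
  rw [glDefect, map_sub, rT_eq_map, rT_eq_map, map_mul, map_natural, map_natural, map_natural]
  rfl

theorem counit_mA {S T : Type u} [CommRing S] [Algebra R S] [CommRing T] [Algebra R T] (f : S →ₐ[R] T)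
    (x : S ⊗[R] A) : counit (R := T) (mA A f x) = f (counit (R := S) x) := by
  induction x using TensorProduct.induction_on with
  | zero => simp
  | add a b ha hb => simp only [map_add, ha, hb]
  | tmul a b =>
    rw [Algebra.TensorProduct.map_tmul, AlgHom.id_apply, TensorProduct.counit_tmul, TensorProduct.counit_tmul,
      map_smul, CommSemiring.counit_apply, CommSemiring.counit_apply]

theorem isGroupLike_iff_defect {S : Type u} [CommRing S] [Algebra R S] (x : S ⊗[R] A) :
    IsGroupLikeElem S x ↔ counit (R := S) x = 1 ∧ glDefect S x = 0 := by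
  let θ := AlgebraTensorModule.distribBaseChange R S A A
  have e1 : ∀ a b : S ⊗[R] A,
      θ (Algebra.TensorProduct.map (AlgHom.id R S)
          (Algebra.TensorProduct.includeLeft (R := R) (S := R) (A := A) (B := A)) a *
        Algebra.TensorProduct.map (AlgHom.id R S)
          (Algebra.TensorProduct.includeRight (R := R) (A := A) (B := A)) b) = a ⊗ₜ[S] b := by
    intro a b
    induction a using TensorProduct.induction_on with
    | zero => simp
    | add a a' ha ha' => simp only [map_add, add_mul, ha, ha', TensorProduct.add_tmul]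
    | tmul s a =>
      induction b using TensorProduct.induction_on with
      | zero => simp
      | add b b' hb hb' => simp only [map_add, mul_add, hb, hb', TensorProduct.tmul_add]
      | tmul t b =>
        simp only [Algebra.TensorProduct.map_tmul, AlgHom.id_apply, Algebra.TensorProduct.includeLeft_apply,
          Algebra.TensorProduct.includeRight_apply, Algebra.TensorProduct.tmul_mul_tmul, mul_one, one_mul]
        rw [show ((s * t) ⊗ₜ[R] (a ⊗ₜ[R] b) : S ⊗[R] (A ⊗[R] A)) = (s * t) • ((1 : S) ⊗ₜ[R] (a ⊗ₜ[R] b)) by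
            rw [TensorProduct.smul_tmul', smul_eq_mul, mul_one],
          map_smul, AlgebraTensorModule.distribBaseChange_tmul,
          show (s ⊗ₜ[R] a : S ⊗[R] A) = s • ((1 : S) ⊗ₜ[R] a) by rw [TensorProduct.smul_tmul', smul_eq_mul, mul_one],
          show (t ⊗ₜ[R] b : S ⊗[R] A) = t • ((1 : S) ⊗ₜ[R] b) by rw [TensorProduct.smul_tmul', smul_eq_mul, mul_one],
          mul_smul, ← TensorProduct.tmul_smul, TensorProduct.smul_tmul']
  have e2 : ∀ a : S ⊗[R] A,
      θ (Algebra.TensorProduct.map (AlgHom.id R S) (Bialgebra.comulAlgHom R A) a) = comul (R := S) a := by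
    intro a
    induction a using TensorProduct.induction_on with
    | zero => simp
    | add a a' ha ha' => simp only [map_add, ha, ha']
    | tmul s a =>
      rw [Algebra.TensorProduct.map_tmul, AlgHom.id_apply,
        show (s ⊗ₜ[R] Bialgebra.comulAlgHom R A a : S ⊗[R] (A ⊗[R] A)) = s • ((1 : S) ⊗ₜ[R] comul (R := R) a) by
          rw [TensorProduct.smul_tmul', smul_eq_mul, mul_one]; rfl,
        map_smul,
        show (s ⊗ₜ[R] a : S ⊗[R] A) = s • ((1 : S) ⊗ₜ[R] a) by rw [TensorProduct.smul_tmul', smul_eq_mul, mul_one],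
        map_smul]
      congr 1
      have e := (SemiBialgHom.baseChange R S A).comul_comp a
      simp only [SemiBialgHom.baseChange, Algebra.TensorProduct.includeRight_apply] at e
      rw [e]
      generalize comul (R := R) a = y
      induction y using TensorProduct.induction_on with
      | zero => simp
      | add p q hp hq => simp only [TensorProduct.tmul_add, map_add, hp, hq]
      | tmul p q => simp [θ]
  refine ⟨fun h => ⟨h.counit_eq_one, θ.injective ?_⟩, fun ⟨h1, h2⟩ => ⟨h1, ?_⟩⟩
  · rw [map_zero, glDefect, map_sub, e1, e2, h.comul_eq_tmul_self, sub_self]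
  · have h3 := congrArg θ h2
    rw [map_zero, glDefect, map_sub, e1, e2, sub_eq_zero] at h3
    exact h3.symm

variable [Module.Flat R A]

/-- A group-like element over the colimit comes from a stage refining a given one. -/
theorem exists_stage_groupLike (N : Nbhd R K) (z : GroupLike (Henz R K) (Henz R K ⊗[R] A)) :
    ∃ (M : Nbhd R K) (α : N.B →ₐ[R] M.B) (x : GroupLike M.B (M.B ⊗[R] A)),
      M.toK.comp α = N.toK ∧ glMap (Henz.ofB M) x = z := by
  obtain ⟨M₁, α₁, x₁, hα₁, hx₁⟩ := exists_stage A N z.val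
  rw [rT_eq_map] at hx₁
  have hc : Henz.ofB M₁ (counit (R := M₁.B) x₁) = Henz.ofB M₁ 1 := by
    rw [← counit_mA, hx₁, z.2.counit_eq_one, map_one]
  obtain ⟨M₂, α₂, hα₂, hc₂⟩ := Henz.exists_of_ofB_eq hc
  have hd : rT (A ⊗[R] A) (Henz.ofB M₂) (glDefect M₂.B (mA A α₂ x₁)) = 0 := by
    rw [glDefect_natural, mA_comp, Henz.ofB_comp α₂ hα₂, hx₁]
    exact ((isGroupLike_iff_defect z.val).mp z.2).2
  obtain ⟨M₃, α₃, hα₃, hd₃⟩ := exists_stage_eq_zero (A ⊗[R] A) M₂ _ hd
  rw [glDefect_natural] at hd₃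
  have hgl : IsGroupLikeElem M₃.B (mA A α₃ (mA A α₂ x₁)) := (isGroupLike_iff_defect _).mpr
    ⟨by rw [counit_mA, counit_mA, hc₂, map_one, map_one], hd₃⟩
  refine ⟨M₃, α₃.comp (α₂.comp α₁), ⟨_, hgl⟩, ?_, ?_⟩
  · rw [← AlgHom.comp_assoc, hα₃, ← AlgHom.comp_assoc, hα₂, hα₁]
  · apply GroupLike.val_injective
    rw [glMap_val, mA_comp, Henz.ofB_comp α₃ hα₃, mA_comp, Henz.ofB_comp α₂ hα₂, hx₁]

theorem glMap_glMap {S T U : Type u} [CommRing S] [Algebra R S] [CommRing T] [Algebra R T] [CommRing U]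
    [Algebra R U] (f : S →ₐ[R] T) (g : T →ₐ[R] U) (x : GroupLike S (S ⊗[R] A)) :
    glMap g (glMap f x) = glMap (g.comp f) x :=
  GroupLike.val_injective (mA_comp g f x.val)

/-- Finitely many group-like elements over the colimit come from one stage. -/
theorem exists_stage_groupLike_fin (n : ℕ) (z : Fin n → GroupLike (Henz R K) (Henz R K ⊗[R] A)) :
    ∃ (M : Nbhd R K) (x : Fin n → GroupLike M.B (M.B ⊗[R] A)), ∀ i, glMap (Henz.ofB M) (x i) = z i := by
  induction n with
  | zero => exact ⟨Classical.arbitrary _, Fin.elim0, fun i => i.elim0⟩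
  | succ n ih =>
    obtain ⟨N, x, hx⟩ := ih (z ∘ Fin.castSucc)
    obtain ⟨M, α, y, hα, hy⟩ := exists_stage_groupLike N (z (Fin.last n))
    refine ⟨M, Fin.lastCases y fun i => glMap α (x i), fun i => ?_⟩
    induction i using Fin.lastCases with
    | last => simp only [Fin.lastCases_last, hy]
    | cast i =>
      simp only [Fin.lastCases_castSucc]
      rw [glMap_glMap, Henz.ofB_comp α hα, hx i]
      rfl

/-- Group-like elements equal in the colimit are equal at a finite stage. -/
theorem exists_stage_eq (N : Nbhd R K) (x y : GroupLike N.B (N.B ⊗[R] A))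
    (h : glMap (Henz.ofB N) x = glMap (Henz.ofB N) y) :
    ∃ (M : Nbhd R K) (α : N.B →ₐ[R] M.B), M.toK.comp α = N.toK ∧ glMap α x = glMap α y := by
  obtain ⟨M, α, hα, h0⟩ := exists_stage_eq_zero A N (x.val - y.val) (by
    rw [map_sub, rT_eq_map, rT_eq_map, ← glMap_val, h]
    exact sub_self _)
  rw [map_sub, rT_eq_map, rT_eq_map, sub_eq_zero] at h0
  exact ⟨M, α, hα, GroupLike.val_injective h0⟩

set_option maxHeartbeats 1000000 in
/-- Homomorphisms from a finitely generated group to the group-like elements descend to a stage. -/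
theorem exists_stage_hom {M₀ : Type u} [CommGroup M₀] [Group.FG M₀]
    (g : M₀ →* GroupLike (Henz R K) (Henz R K ⊗[R] A)) :
    ∃ (N : Nbhd R K) (g' : M₀ →* GroupLike N.B (N.B ⊗[R] A)), ∀ m, glMap (Henz.ofB N) (g' m) = g m := by
  classical
  have : Module.Finite ℤ (Additive M₀) := Module.Finite.iff_addGroup_fg.mpr inferInstance
  obtain ⟨n, f, hf⟩ := Module.Finite.exists_fin' ℤ (Additive M₀)
  obtain ⟨N₁, x, hx⟩ := exists_stage_groupLike_fin n fun i => g (f (Pi.single i 1)).toMul
  let ψ : (Fin n → ℤ) →ₗ[ℤ] Additive (GroupLike N₁.B (N₁.B ⊗[R] A)) :=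
    (Pi.basisFun ℤ (Fin n)).constr ℤ fun i => Additive.ofMul (x i)
  let push : ∀ {N : Nbhd R K}, (N₁.B →ₐ[R] N.B) → ((Fin n → ℤ) →ₗ[ℤ] Additive (GroupLike N.B (N.B ⊗[R] A))) :=
    fun α => (glMap α).toAdditive.toIntLinearMap.comp ψ
  have hψ : ∀ v, glMap (Henz.ofB N₁) (ψ v).toMul = g (f v).toMul := by
    have : (glMap (Henz.ofB N₁)).toAdditive.toIntLinearMap.comp ψ = g.toAdditive.toIntLinearMap.comp f := by
      refine (Pi.basisFun ℤ (Fin n)).ext fun i => ?_
      rw [LinearMap.comp_apply, LinearMap.comp_apply, Module.Basis.constr_basis, Pi.basisFun_apply]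
      exact congrArg Additive.ofMul (hx i)
    exact fun v => congrArg Additive.toMul (LinearMap.congr_fun this v)
  obtain ⟨S, hS⟩ := (IsNoetherian.noetherian (LinearMap.ker f) : (LinearMap.ker f).FG)
  have key : ∀ T : Finset (Fin n → ℤ), T ⊆ S → ∃ (N : Nbhd R K) (α : N₁.B →ₐ[R] N.B),
      N.toK.comp α = N₁.toK ∧ ∀ v ∈ T, push α v = 0 := by
    intro T
    induction T using Finset.induction with
    | empty => exact fun _ => ⟨N₁, AlgHom.id R _, AlgHom.comp_id _, by simp⟩
    | insert v T hv ih =>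
      intro hT
      obtain ⟨N₂, α, hα, hT'⟩ := ih (fun w hw => hT (Finset.mem_insert_of_mem hw))
      have hfv : f v = 0 := by
        have : v ∈ LinearMap.ker f := hS ▸ Submodule.subset_span (hT (Finset.mem_insert_self v T))
        exact this
      obtain ⟨N₃, β, hβ, hv0⟩ := exists_stage_eq N₂ (glMap α (ψ v).toMul) 1 (by
        rw [glMap_glMap, Henz.ofB_comp α hα, hψ, hfv, toMul_zero, map_one, map_one])
      rw [map_one, glMap_glMap] at hv0
      refine ⟨N₃, β.comp α, by rw [← AlgHom.comp_assoc, hβ, hα], fun w hw => ?_⟩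
      rcases Finset.mem_insert.mp hw with rfl | hw
      · exact congrArg Additive.ofMul hv0
      · have h := congrArg (glMap β).toAdditive (hT' w hw)
        rw [map_zero] at h
        exact (congrArg Additive.ofMul (glMap_glMap α β (ψ w).toMul)).symm.trans h
  obtain ⟨N, α, hα, hT⟩ := key S subset_rfl
  have hle : LinearMap.ker f ≤ LinearMap.ker (push α) := by
    rw [← hS, Submodule.span_le]
    exact fun v hv => hT v hv
  let g'' : Additive M₀ →ₗ[ℤ] Additive (GroupLike N.B (N.B ⊗[R] A)) :=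
    ((LinearMap.ker f).liftQ (push α) hle).comp (f.quotKerEquivOfSurjective hf).symm.toLinearMap
  refine ⟨N, MonoidHom.toAdditive.symm g''.toAddMonoidHom, fun m => ?_⟩
  obtain ⟨v, hv⟩ := hf (Additive.ofMul m)
  have e : g'' (Additive.ofMul m) = push α v := by
    rw [← hv]
    show (LinearMap.ker f).liftQ (push α) hle ((f.quotKerEquivOfSurjective hf).symm (f v)) = _
    rw [show f v = f.quotKerEquivOfSurjective hf (Submodule.Quotient.mk v) from rfl, LinearEquiv.symm_apply_apply,
      Submodule.liftQ_apply]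
  show glMap (Henz.ofB N) (g'' (Additive.ofMul m)).toMul = _
  rw [e]
  show glMap (Henz.ofB N) (glMap α (ψ v).toMul) = _
  rw [glMap_glMap, Henz.ofB_comp α hα, hψ, hv]
  rfl

/-- The morphism attached to group-like elements, over a base. -/
def glHom {M₀ : Type u} [CommGroup M₀] {S : Type u} [CommRing S] [Algebra R S]
    (g : M₀ →* GroupLike S (S ⊗[R] A)) : MonoidAlgebra S M₀ →ₐc[S] S ⊗[R] A :=
  homOfGroupLike ((GroupLike.valMonoidHom S (S ⊗[R] A)).comp g) fun m => (g m).2

theorem glHom_single {M₀ : Type u} [CommGroup M₀] {S : Type u} [CommRing S] [Algebra R S]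
    (g : M₀ →* GroupLike S (S ⊗[R] A)) (m : M₀) (r : S) :
    glHom g (MonoidAlgebra.single m r) = r • (g m).val :=
  homOfGroupLike_single _ _ m r

theorem mA_glHom {M₀ : Type u} [CommGroup M₀] {S T : Type u} [CommRing S] [Algebra R S] [CommRing T]
    [Algebra R T] (f : S →ₐ[R] T) (g : M₀ →* GroupLike S (S ⊗[R] A)) (x : MonoidAlgebra S M₀) :
    mA A f (glHom g x) = glHom ((glMap f).comp g) (evalAt (f : S →+* T) x) := by
  induction x using MonoidAlgebra.induction_linear with
  | zero => simp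
  | add a b ha hb => simp only [map_add, ha, hb]
  | single m r =>
    rw [glHom_single, evalAt_single, glHom_single, MonoidHom.comp_apply, glMap_val]
    show mA A f (r • (g m).val) = f r • _
    generalize (g m).val = z
    induction z using TensorProduct.induction_on with
    | zero => simp
    | add a b ha hb => simp only [smul_add, map_add, ha, hb]
    | tmul s a => simp [TensorProduct.smul_tmul']

/-- An element in the range over the colimit is in the range at a stage. -/
theorem exists_stage_range {M₀ : Type u} [CommGroup M₀] (N : Nbhd R K)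
    (g : M₀ →* GroupLike N.B (N.B ⊗[R] A)) (y : MonoidAlgebra (Henz R K) M₀) :
    ∃ (M : Nbhd R K) (α : N.B →ₐ[R] M.B) (y' : MonoidAlgebra M.B M₀), M.toK.comp α = N.toK ∧
      evalAt (Henz.ofB M : M.B →+* Henz R K) y' = y := by
  induction y using MonoidAlgebra.induction_linear generalizing N with
  | zero => exact ⟨N, AlgHom.id R _, 0, AlgHom.comp_id _, map_zero _⟩
  | single m r =>
    obtain ⟨M₁, b, rfl⟩ := Henz.exists_ofB r
    obtain ⟨P, α, β, hα, hβ⟩ := N.exists_hom₂ M₁
    refine ⟨P, α, MonoidAlgebra.single m (β b), hα, ?_⟩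
    rw [evalAt_single, ← Henz.ofB_comp β hβ]
    rfl
  | add y₁ y₂ h₁ h₂ =>
    obtain ⟨M₁, α₁, x₁, hα₁, hx₁⟩ := h₁ N g
    obtain ⟨M₂, α₂, x₂, hα₂, hx₂⟩ := h₂ M₁ ((glMap α₁).comp g)
    refine ⟨M₂, α₂.comp α₁, evalAt (α₂ : M₁.B →+* M₂.B) x₁ + x₂, by rw [← AlgHom.comp_assoc, hα₂, hα₁], ?_⟩
    rw [map_add, hx₂, evalAt_evalAt,
      show (Henz.ofB M₂ : M₂.B →+* Henz R K).comp (α₂ : M₁.B →+* M₂.B) = (Henz.ofB M₁ : M₁.B →+* Henz R K) from
        congrArg AlgHom.toRingHom (Henz.ofB_comp α₂ hα₂), hx₁]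

set_option maxHeartbeats 1000000 in
/-- A surjection over the colimit is a surjection at a stage, for finitely generated algebras. -/
theorem exists_stage_surjective (hft : Algebra.FiniteType R A) {M₀ : Type u} [CommGroup M₀] (N : Nbhd R K)
    (g : M₀ →* GroupLike N.B (N.B ⊗[R] A))
    (hs : Function.Surjective (glHom ((glMap (Henz.ofB N)).comp g))) :
    ∃ (M : Nbhd R K) (α : N.B →ₐ[R] M.B), M.toK.comp α = N.toK ∧
      Function.Surjective (glHom ((glMap α).comp g)) := by
  classical
  obtain ⟨s, hsA⟩ := hft.out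
  have key : ∀ T : Finset A, ∃ (M : Nbhd R K) (α : N.B →ₐ[R] M.B), M.toK.comp α = N.toK ∧
      ∀ a ∈ T, (1 : M.B) ⊗ₜ[R] a ∈ Set.range (glHom ((glMap α).comp g)) := by
    intro T
    induction T using Finset.induction with
    | empty => exact ⟨N, AlgHom.id R _, AlgHom.comp_id _, by simp⟩
    | insert a T ha ih =>
      obtain ⟨M₁, α₁, hα₁, hT⟩ := ih
      obtain ⟨y, hy⟩ := hs ((1 : Henz R K) ⊗ₜ[R] a)
      obtain ⟨M₂, α₂, y', hα₂, hy'⟩ := exists_stage_range M₁ ((glMap α₁).comp g) y
      have hg₂ : (glMap (Henz.ofB M₂)).comp ((glMap α₂).comp ((glMap α₁).comp g)) =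
          (glMap (Henz.ofB N)).comp g := by
        ext m
        simp only [MonoidHom.comp_apply]
        rw [glMap_glMap, glMap_glMap, Henz.ofB_comp α₂ hα₂, Henz.ofB_comp α₁ hα₁]
      obtain ⟨M₃, α₃, hα₃, h0⟩ := exists_stage_eq_zero A M₂
        (glHom ((glMap α₂).comp ((glMap α₁).comp g)) y' - (1 : M₂.B) ⊗ₜ[R] a) (by
          rw [map_sub, rT_eq_map, rT_eq_map, mA_glHom, hg₂, hy', hy, Algebra.TensorProduct.map_tmul, map_one,
            AlgHom.id_apply, sub_self])
      rw [map_sub, rT_eq_map, rT_eq_map, sub_eq_zero, mA_glHom, Algebra.TensorProduct.map_tmul, map_one,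
        AlgHom.id_apply] at h0
      have hg₃ : (glMap α₃).comp ((glMap α₂).comp ((glMap α₁).comp g)) =
          (glMap (α₃.comp (α₂.comp α₁))).comp g := by
        ext m
        simp only [MonoidHom.comp_apply]
        rw [glMap_glMap, glMap_glMap, AlgHom.comp_assoc]
      refine ⟨M₃, α₃.comp (α₂.comp α₁), by rw [← AlgHom.comp_assoc, hα₃, ← AlgHom.comp_assoc, hα₂, hα₁],
        fun b hb => ?_⟩
      rcases Finset.mem_insert.mp hb with rfl | hb
      · exact ⟨_, by rw [← hg₃]; exact h0⟩
      · obtain ⟨x, hx⟩ := hT b hb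
        have h2 := congrArg (mA A (α₃.comp α₂)) hx
        rw [mA_glHom, Algebra.TensorProduct.map_tmul, map_one, AlgHom.id_apply] at h2
        refine ⟨evalAt (α₃.comp α₂ : M₁.B →+* M₃.B) x, Eq.trans ?_ h2⟩
        congr 2
        ext m
        simp only [MonoidHom.comp_apply]
        rw [glMap_glMap, AlgHom.comp_assoc]
  obtain ⟨M, α, hα, hT⟩ := key s
  refine ⟨M, α, hα, fun z => ?_⟩
  let Φ := glHom ((glMap α).comp g)
  let L : Subalgebra R A := ((Φ : MonoidAlgebra M.B M₀ →ₐ[M.B] M.B ⊗[R] A).range.restrictScalars R).comap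
    (Algebra.TensorProduct.includeRight : A →ₐ[R] M.B ⊗[R] A)
  have hL : L = ⊤ := by
    rw [eq_top_iff, ← hsA, Algebra.adjoin_le_iff]
    exact fun a ha => hT a ha
  induction z using TensorProduct.induction_on with
  | zero => exact ⟨0, map_zero _⟩
  | add a b ha hb =>
    obtain ⟨a', ha'⟩ := ha
    obtain ⟨b', hb'⟩ := hb
    exact ⟨a' + b', by rw [map_add, ha', hb']⟩
  | tmul c a =>
    obtain ⟨x, hx⟩ := (hL ▸ Algebra.mem_top : a ∈ L)
    exact ⟨c • x, by rw [map_smul, show glHom ((glMap α).comp g) x = (1 : M.B) ⊗ₜ[R] a from hx,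
      TensorProduct.smul_tmul', smul_eq_mul, mul_one]⟩

end GroupLike

end Groth.Agent.MultTypeLib
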