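import Groth.Agent.MultTypeLib.SurjBij
import Groth.Agent.MultTypeLib.Stage
import Groth.Agent.MultTypeLib.Field
import Groth.Agent.MultTypeLib.Artin
import Groth.Agent.MultTypeLib.EtaleLift
import Groth.Agent.Hensel.Henselization
import Mathlib.RingTheory.Spectrum.Prime.Chevalley
import Mathlib.RingTheory.Flat.FaithfullyFlat.Basic

/-!
# Quasi-isotriviality of groups of multiplicative type and of finite type
-/

universe u

open WithConv TensorProduct Coalgebra Bialgebra IsLocalRing

noncomputable section

namespace Groth.Agent.MultTypeLib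

open Hensel

section Strict

variable {R : Type u} [CommRing R] {L : Type u} [Field L] [Algebra R L]

theorem nontrivial_henz : Nontrivial (Henz R L) := (Henz.proj R L).toRingHom.domain_nontrivial

theorem isLocalRing_henz' : IsLocalRing (Henz R L) :=
  have := nontrivial_henz (R := R) (L := L)
  .of_nonunits_add fun a b ha hb => by
    simp only [mem_nonunits_iff, Henz.isUnit_iff, isUnit_iff_ne_zero, not_not] at ha hb ⊢
    rw [map_add, ha, hb, add_zero]

theorem maximalIdeal_henz' [IsLocalRing (Henz R L)] :
    maximalIdeal (Henz R L) = RingHom.ker (Henz.proj R L) := by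
  ext x
  rw [IsLocalRing.mem_maximalIdeal, mem_nonunits_iff, Henz.isUnit_iff, isUnit_iff_ne_zero, not_not,
    RingHom.mem_ker]

theorem henselianLocalRing_henz' [IsLocalRing (Henz R L)] : HenselianLocalRing (Henz R L) :=
  have : HenselianRing (Henz R L) (maximalIdeal (Henz R L)) := by
    rw [maximalIdeal_henz']; exact Henz.henselianRing
  henselianLocalRing_of_henselianRing _

/-- The projection to a separable extension of a residue field is surjective. -/
theorem proj_surjective_of_residueField (p : Ideal R) [p.IsPrime] [Algebra p.ResidueField L]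
    [IsScalarTower R p.ResidueField L] [Algebra.IsSeparable p.ResidueField L] :
    Function.Surjective (Henz.proj R L) := by
  have hκ : ∀ x : p.ResidueField, ∃ z, Henz.proj R L z = algebraMap p.ResidueField L x := by
    intro x
    obtain ⟨a, b, hb, rfl⟩ := IsFractionRing.div_surjective (A := R ⧸ p) x
    obtain ⟨a, rfl⟩ := Ideal.Quotient.mk_surjective a
    obtain ⟨b, rfl⟩ := Ideal.Quotient.mk_surjective b
    have e : ∀ r : R, algebraMap (R ⧸ p) p.ResidueField (Ideal.Quotient.mk p r) = algebraMap R p.ResidueField r :=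
      fun r => (IsScalarTower.algebraMap_apply R (R ⧸ p) p.ResidueField r).symm
    have hb' : algebraMap R L b ≠ 0 := by
      rw [IsScalarTower.algebraMap_apply R p.ResidueField L, map_ne_zero, ← e,
        map_ne_zero_iff _ (IsFractionRing.injective (R ⧸ p) p.ResidueField)]
      exact nonZeroDivisors.ne_zero hb
    have hu : IsUnit (algebraMap R (Henz R L) b) := Henz.isUnit_iff.mpr (by
      rw [AlgHom.commutes]; exact isUnit_iff_ne_zero.mpr hb')
    obtain ⟨u, hu'⟩ := hu
    refine ⟨algebraMap R (Henz R L) a * ↑u⁻¹, ?_⟩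
    rw [map_div₀, e, e, ← IsScalarTower.algebraMap_apply, ← IsScalarTower.algebraMap_apply, eq_div_iff hb',
      ← AlgHom.commutes (Henz.proj R L) b, ← map_mul, ← hu', mul_assoc, Units.inv_mul, mul_one, AlgHom.commutes]
  intro κ
  let P := (minpoly p.ResidueField κ).map (algebraMap p.ResidueField L)
  have hint : IsIntegral p.ResidueField κ := Algebra.IsIntegral.isIntegral κ
  have hP : P ∈ Polynomial.lifts (Henz.proj R L).toRingHom := by
    rw [Polynomial.lifts_iff_coeff_lifts]
    intro n
    obtain ⟨z, hz⟩ := hκ ((minpoly p.ResidueField κ).coeff n)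
    exact ⟨z, hz.trans (Polynomial.coeff_map _ n).symm⟩
  obtain ⟨f, hf, -, hfm⟩ := Polynomial.lifts_and_natDegree_eq_and_monic hP ((minpoly.monic hint).map _)
  obtain ⟨a, -, ha⟩ := Henz.exists_root_proj f hfm κ
    (by rw [← Polynomial.eval_map, hf, Polynomial.eval_map]; exact minpoly.aeval _ _) (by
      rw [← Polynomial.eval_map, ← Polynomial.derivative_map, hf, Polynomial.derivative_map,
        Polynomial.eval_map]
      exact isUnit_iff_ne_zero.mpr ((Algebra.IsSeparable.isSeparable _ κ).aeval_derivative_ne_zero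
        (minpoly.aeval _ _)))
  exact ⟨a, ha⟩

end Strict

variable {R : Type u} [CommRing R] {A : Type u} [CommRing A] [HopfAlgebra R A]

set_option maxHeartbeats 2000000 in
/-- Over a henselian local ring with separably closed residue field, groups of multiplicative type and of finite
type are diagonalisable. -/
theorem isDiag_of_strictlyHenselian (H : Type u) [CommRing H] [HenselianLocalRing H]
    [IsSepClosed (ResidueField H)] (C : Type u) [CommRing C] [HopfAlgebra H C]
    (hft : Algebra.FiniteType H C) (hC : SGA3b.IsMultType H C) : SGA3b.IsDiag H C := by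
  obtain ⟨k', _, _, hfin, hsep, M, inst, -, e⟩ :=
    isotrivial_of_field (ResidueField H) (ResidueField H ⊗[H] C) inferInstance
      (isMultType_baseChange (ResidueField H) hC)
  have hd : SGA3b.IsDiag k' (k' ⊗[ResidueField H] (ResidueField H ⊗[H] C)) := ⟨M, inst, e⟩
  let ψ : k' ≃ₐ[ResidueField H] ResidueField H :=
    (AlgEquiv.ofBijective (Algebra.ofId (ResidueField H) k')
      ⟨(algebraMap (ResidueField H) k').injective, IsSepClosed.algebraMap_surjective _ _⟩).symm
  let _ : Algebra k' (ResidueField H) := ψ.toAlgHom.toRingHom.toAlgebra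
  have : IsScalarTower (ResidueField H) k' (ResidueField H) :=
    IsScalarTower.of_algebraMap_eq fun r => (ψ.commutes r).symm
  have hd2 : SGA3b.IsDiag (ResidueField H) (ResidueField H ⊗[ResidueField H] (ResidueField H ⊗[H] C)) :=
    isDiag_baseChange k' (ResidueField H) hd
  exact isDiag_of_henselian hft hC
    (isDiag_congr (baseChangeTrans (R := H) (ResidueField H) (ResidueField H) C).symm hd2)

/-- A splitting after any change of base. -/
theorem Split.exists_baseChange (P : Split R A) [Module.FaithfullyFlat R P.S] (B : Type u) [CommRing B]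
    [Algebra R B] : ∃ (Q : Split B (B ⊗[R] A)) (_ : Module.FaithfullyFlat B Q.S), Nonempty (P.M ≃* Q.M) := by
  let _ : Algebra P.S (B ⊗[R] P.S) := Algebra.TensorProduct.rightAlgebra
  have : IsScalarTower R P.S (B ⊗[R] P.S) := Algebra.TensorProduct.right_isScalarTower
  refine ⟨{ S := B ⊗[R] P.S
            M := P.M
            hom := (P.homOver (B ⊗[R] P.S)).extendSemi
            equiv := (Algebra.TensorProduct.cancelBaseChange R B (B ⊗[R] P.S) (B ⊗[R] P.S) A).trans
              (AlgEquiv.ofBijective (P.homOver (B ⊗[R] P.S)).extend (P.extend_homOver_bijective (B ⊗[R] P.S)))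
            equiv_tmul := fun z => ?_ }, ?_, ⟨MulEquiv.refl _⟩⟩
  · induction z using TensorProduct.induction_on with
    | zero => simp
    | add x y hx hy => simp only [TensorProduct.tmul_add, map_add, hx, hy]
    | tmul x a =>
      rw [SemiBialgHom.extendSemi_tmul, AlgEquiv.trans_apply,
        Algebra.TensorProduct.cancelBaseChange_tmul]
      show (P.homOver (B ⊗[R] P.S)).extend ((x • (1 : B ⊗[R] P.S)) ⊗ₜ[R] a) = _
      rw [SemiBialgHom.extend_tmul, Algebra.smul_def x, mul_one, Algebra.smul_def,
        ← IsScalarTower.algebraMap_apply B (B ⊗[R] P.S)]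
  · exact inferInstanceAs (Module.FaithfullyFlat B (B ⊗[R] P.S))

set_option maxHeartbeats 4000000 in
/-- Near each prime, diagonalisable after an étale extension. -/
theorem Split.exists_etale_isDiag (P : Split R A) [Module.FaithfullyFlat R P.S] (hft : Algebra.FiniteType R A)
    (p : Ideal R) [p.IsPrime] :
    ∃ (B : Type u) (_ : CommRing B) (_ : Algebra R B), Algebra.Etale R B ∧
      (∃ q : Ideal B, q.IsPrime ∧ q.comap (algebraMap R B) = p) ∧ SGA3b.IsDiag B (B ⊗[R] A) := by
  classical
  let L := SeparableClosure p.ResidueField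
  have hflat := P.flat_self
  have := isLocalRing_henz' (R := R) (L := L)
  have := henselianLocalRing_henz' (R := R) (L := L)
  let H := Henz R L
  have hsc : IsSepClosed (ResidueField H) := isSepClosed_of_ringEquiv
    ((Ideal.quotEquivOfEq maximalIdeal_henz').trans
      (RingHom.quotientKerEquivOfSurjective (f := (Henz.proj R L).toRingHom)
        (proj_surjective_of_residueField p))).symm
  obtain ⟨c⟩ : Nonempty (Cover R A) := ⟨Cover.single P⟩
  have hA : SGA3b.IsMultType R A := isMultType_of_ff P.S (isDiag_of_equiv P.bialgEquiv)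
  have hdH : SGA3b.IsDiag H (H ⊗[R] A) :=
    isDiag_of_strictlyHenselian H (H ⊗[R] A) inferInstance (isMultType_baseChange H hA)
  obtain ⟨M, inst, hom, equiv, he⟩ := exists_split_of_isDiag H hdH
  let Q : Split R A := { S := H, M := M, hom := hom, equiv := equiv, equiv_tmul := he }
  have hnt : Nontrivial (P.S ⊗[R] H) := by
    have := nontrivial_henz (R := R) (L := L)
    exact Module.FaithfullyFlat.lTensor_nontrivial R P.S H
  obtain ⟨σ⟩ := P.exists_mulEquiv Q hnt
  have hfgM : Group.FG M := by
    have := nontrivial_henz (R := R) (L := L)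
    have : Algebra.FiniteType H (H ⊗[R] A) := inferInstance
    exact MonoidAlgebra.finiteType_iff_group_fg.mp (this.equiv equiv)
  let gH : M →* GroupLike H (H ⊗[R] A) :=
    { toFun := fun m => ⟨Q.char m, Q.isGroupLike_char m⟩
      map_one' := GroupLike.val_injective (map_one Q.char)
      map_mul' := fun a b => GroupLike.val_injective (map_mul Q.char a b) }
  have hsH : Function.Surjective (glHom gH) := by
    intro z
    obtain ⟨x, rfl⟩ := equiv.symm.surjective z
    refine ⟨x, ?_⟩
    induction x using MonoidAlgebra.induction_linear with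
    | zero => simp
    | add a b ha hb => simp only [map_add, ha, hb]
    | single m r =>
      rw [glHom_single, show MonoidAlgebra.single m r = r • MonoidAlgebra.single m (1 : H) by simp, map_smul]
      rfl
  obtain ⟨N, g, hg⟩ := exists_stage_hom gH
  have hcomp : (glMap (Henz.ofB N)).comp g = gH := MonoidHom.ext hg
  obtain ⟨N', α, -, hs⟩ := exists_stage_surjective hft N g (by rw [hcomp]; exact hsH)
  obtain ⟨PB, hPB, ⟨σ'⟩⟩ := P.exists_baseChange N'.B
  let g' : M →* N'.B ⊗[R] A := (GroupLike.valMonoidHom N'.B (N'.B ⊗[R] A)).comp ((glMap α).comp g)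
  have hb := PB.bijective_of_surjective ((show Q.M ≃* P.M from σ.symm).trans σ') g'
    (fun m => (((glMap α).comp g) m).2) hs
  refine ⟨N'.B, inferInstance, inferInstance, inferInstance, ⟨RingHom.ker N'.toK, RingHom.ker_isPrime _, ?_⟩,
    isDiag_of_equiv (BialgEquiv.ofBijective _ hb).symm⟩
  ext r
  rw [Ideal.mem_comap, RingHom.mem_ker, AlgHom.commutes,
    IsScalarTower.algebraMap_apply R p.ResidueField L, map_eq_zero, Ideal.algebraMap_residueField_eq_zero]

set_option maxHeartbeats 2000000 in
/-- Groups of multiplicative type and of finite type are quasi-isotrivial. -/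
theorem isQuasiIsotrivial_of_isMultType (hft : Algebra.FiniteType R A) (hA : SGA3b.IsMultType R A) :
    SGA3b.IsQuasiIsotrivial R A := by
  classical
  obtain ⟨s, hs, hA⟩ := hA
  have key : ∀ (p : Ideal R) [p.IsPrime], ∃ f : R, f ∉ p ∧
      SGA3b.IsQuasiIsotrivialConst (Localization.Away f) (Localization.Away f ⊗[R] A) := by
    intro p hp
    obtain ⟨f₀, hf₀s, hf₀⟩ : ∃ f ∈ s, f ∉ p := by
      by_contra hne
      push Not at hne
      exact hp.ne_top (top_le_iff.mp (hs ▸ Ideal.span_le.mpr hne))
    let R₁ := Localization.Away f₀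
    obtain ⟨S, _, _, hff, hd⟩ := hA f₀ hf₀s
    obtain ⟨M, inst, hom, equiv, he⟩ := exists_split_of_isDiag (R := R₁) (A := R₁ ⊗[R] A) S hd
    let P : Split R₁ (R₁ ⊗[R] A) := { S := S, M := M, hom := hom, equiv := equiv, equiv_tmul := he }
    have : Module.FaithfullyFlat R₁ P.S := hff
    have hdis : Disjoint (Submonoid.powers f₀ : Set R) (p : Set R) := by
      rw [Set.disjoint_left]
      rintro y ⟨n, rfl⟩ hy
      exact hf₀ (hp.mem_of_pow_mem n hy)
    have := IsLocalization.isPrime_of_isPrime_disjoint _ R₁ p hp hdis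
    obtain ⟨B, _, _, het, ⟨q, hq, hqp⟩, hdB⟩ := P.exists_etale_isDiag inferInstance (p.map (algebraMap R R₁))
    let _ : Algebra R B := ((algebraMap R₁ B).comp (algebraMap R R₁)).toAlgebra
    have : IsScalarTower R R₁ B := IsScalarTower.of_algebraMap_eq fun _ => rfl
    have hetR : Algebra.Etale R B :=
      have : Algebra.Etale R R₁ := inferInstance
      Algebra.Etale.comp R R₁ B
    have hdB' : SGA3b.IsDiag B (B ⊗[R] A) := isDiag_congr (baseChangeTrans (R := R) R₁ B A).symm hdB
    have hqp' : q.comap (algebraMap R B) = p := by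
      rw [IsScalarTower.algebraMap_eq R R₁ B, ← Ideal.comap_comap, hqp]
      exact IsLocalization.under_map_of_isPrime_disjoint _ _ hp hdis
    have hopen := PrimeSpectrum.isOpenMap_comap_of_hasGoingDown_of_finitePresentation (R := R) (S := B)
      Set.univ isOpen_univ
    have hmem : (⟨p, hp⟩ : PrimeSpectrum R) ∈ PrimeSpectrum.comap (algebraMap R B) '' Set.univ :=
      ⟨⟨q, hq⟩, trivial, PrimeSpectrum.ext hqp'⟩
    obtain ⟨_, ⟨f, rfl⟩, hfp, hsub⟩ :=
      PrimeSpectrum.isTopologicalBasis_basic_opens.exists_subset_of_mem_open hmem hopen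
    let Rf := Localization.Away f
    let _ : Algebra B (Rf ⊗[R] B) := Algebra.TensorProduct.rightAlgebra
    have : IsScalarTower R B (Rf ⊗[R] B) := Algebra.TensorProduct.right_isScalarTower
    have hff' : Module.FaithfullyFlat Rf (Rf ⊗[R] B) := Module.FaithfullyFlat.of_comap_surjective fun P => by
      have hP : (PrimeSpectrum.comap (algebraMap R Rf) P) ∈ (PrimeSpectrum.basicOpen f : Set (PrimeSpectrum R)) :=
        fun hf => P.2.ne_top (P.asIdeal.eq_top_of_isUnit_mem hf (IsLocalization.Away.algebraMap_isUnit f))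
      obtain ⟨q', -, hq'⟩ := hsub hP
      obtain ⟨r, hr, hrp⟩ := exists_prime_tensor Rf B P.asIdeal q'.asIdeal (congrArg PrimeSpectrum.asIdeal hq')
      exact ⟨⟨r, hr⟩, PrimeSpectrum.ext hrp⟩
    exact ⟨f, hfp, Rf ⊗[R] B, inferInstance, inferInstance, inferInstance, hff',
      isDiag_congr (baseChangeTrans (R := R) Rf (Rf ⊗[R] B) A) (isDiag_baseChange B (Rf ⊗[R] B) hdB')⟩
  refine ⟨{f | SGA3b.IsQuasiIsotrivialConst (Localization.Away f) (Localization.Away f ⊗[R] A)}, ?_, fun f hf => hf⟩
  by_contra hne
  obtain ⟨p, hp, hle⟩ := Ideal.exists_le_maximal _ hne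
  obtain ⟨f, hf, hq⟩ := key p
  exact hf (hle (Ideal.subset_span hq))

end Groth.Agent.MultTypeLib
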