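import Mathlib.AlgebraicGeometry.Morphisms.Smooth
import Mathlib.AlgebraicGeometry.Morphisms.Affine

/-!
# Smoothness of affine morphisms by lifting points
-/

universe u

open CategoryTheory CategoryTheory.Limits AlgebraicGeometry

namespace Groth.Agent.MultTypeLib.SmoothLifting

/-- An affine morphism of finite presentation is smooth if points lift along square zero thickenings. -/
theorem smooth_of_lift {X S : Scheme.{u}} (f : X ⟶ S) [IsAffineHom f] [LocallyOfFinitePresentation f]
    (h : ∀ (B : Type u) [CommRing B] (J : Ideal B), J ^ 2 = ⊥ → ∀ (t : Spec (CommRingCat.of B) ⟶ S)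
      (p₀ : Spec (CommRingCat.of (B ⧸ J)) ⟶ X), p₀ ≫ f = Spec.map (CommRingCat.ofHom (Ideal.Quotient.mk J)) ≫ t →
      ∃ p : Spec (CommRingCat.of B) ⟶ X, p ≫ f = t ∧ Spec.map (CommRingCat.ofHom (Ideal.Quotient.mk J)) ≫ p = p₀) :
    Smooth f := by
  refine IsZariskiLocalAtTarget.of_openCover S.affineCover fun i => ?_
  show Smooth (pullback.snd f (S.affineCover.f i))
  suffices hmain : ∀ (R : CommRingCat.{u}) (q : Spec R ⟶ S), Smooth (pullback.snd f q) from hmain _ _
  intro R q
  haveI : IsAffineHom (pullback.snd f q) := inferInstance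
  haveI : IsAffine (pullback f q) := isAffine_of_isAffineHom (pullback.snd f q)
  let e := (pullback f q).isoSpec
  let φ : R ⟶ Γ(pullback f q, ⊤) := Spec.preimage (e.inv ≫ pullback.snd f q)
  have hφ : Spec.map φ = e.inv ≫ pullback.snd f q := Spec.map_preimage _
  rw [← MorphismProperty.cancel_left_of_respectsIso (P := @Smooth) e.inv (pullback.snd f q), ← hφ,
    HasRingHomProperty.Spec_iff (P := @Smooth)]
  letI : Algebra R Γ(pullback f q, ⊤) := φ.hom.toAlgebra
  show (algebraMap R Γ(pullback f q, ⊤)).Smooth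
  rw [RingHom.smooth_algebraMap]
  haveI : Algebra.FinitePresentation R Γ(pullback f q, ⊤) := by
    have hl : LocallyOfFinitePresentation (Spec.map φ) := by rw [hφ]; infer_instance
    exact (HasRingHomProperty.Spec_iff (P := @LocallyOfFinitePresentation)).mp hl
  refine ⟨Algebra.FormallySmooth.of_comp_surjective fun B _ _ J hJ g => ?_, inferInstance⟩
  let p₀ := Spec.map (CommRingCat.ofHom g.toRingHom) ≫ e.inv ≫ pullback.fst f q
  let t : Spec (CommRingCat.of B) ⟶ S := Spec.map (CommRingCat.ofHom (algebraMap R B)) ≫ q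
  have hg : Spec.map (CommRingCat.ofHom g.toRingHom) ≫ e.inv ≫ pullback.snd f q =
      Spec.map (CommRingCat.ofHom (Ideal.Quotient.mk J)) ≫ Spec.map (CommRingCat.ofHom (algebraMap R B)) := by
    rw [← hφ, ← Spec.map_comp, ← Spec.map_comp]
    congr 1
    ext r
    exact g.commutes r
  obtain ⟨p, hp, hp₀⟩ := h B J hJ t p₀ (by
    simp only [p₀, t, Category.assoc, pullback.condition]
    rw [reassoc_of% hg])
  let ψ : Spec (CommRingCat.of B) ⟶ pullback f q :=
    pullback.lift p (Spec.map (CommRingCat.ofHom (algebraMap R B))) hp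
  let χ : Γ(pullback f q, ⊤) ⟶ CommRingCat.of B := Spec.preimage (ψ ≫ e.hom)
  have hχ : Spec.map χ = ψ ≫ e.hom := Spec.map_preimage _
  have hχR : φ ≫ χ = CommRingCat.ofHom (algebraMap R B) := by
    apply Spec.map_injective
    rw [Spec.map_comp, hχ, hφ, Category.assoc, e.hom_inv_id_assoc]
    exact pullback.lift_snd _ _ _
  refine ⟨{ toRingHom := χ.hom, commutes' := fun r => congrArg (fun m => m.hom r) hχR }, ?_⟩
  apply AlgHom.coe_ringHom_injective
  suffices χ ≫ CommRingCat.ofHom (Ideal.Quotient.mk J) = CommRingCat.ofHom g.toRingHom from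
    congrArg CommRingCat.Hom.hom this
  apply Spec.map_injective
  rw [Spec.map_comp, hχ, ← cancel_mono e.inv, Category.assoc, Category.assoc, e.hom_inv_id, Category.comp_id]
  apply pullback.hom_ext
  · rw [Category.assoc, pullback.lift_fst, hp₀]
    simp only [p₀, Category.assoc]
  · rw [Category.assoc, pullback.lift_snd, Category.assoc]
    exact hg.symm

end Groth.Agent.MultTypeLib.SmoothLifting
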