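import Groth.Agent.MultTypeLib.FixedLift
import Groth.Agent.MultTypeLib.SmoothLifting
import Groth.Agent.TransLib.Universal
import Groth.Agent.AlgSpPts.Sep
import Groth.Agent.GrpSchLib.MultTypeLfp

/-!
# Fixed points of groups of multiplicative type in smooth schemes form smooth schemes
-/

universe u

open CategoryTheory CategoryTheory.Limits MonoidalCategory CartesianMonoidalCategory MonObj AlgebraicGeometry
open TensorProduct WithConv

noncomputable section

namespace Groth.Agent.MultTypeLib.FixedSmooth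

open GrpSchLib.AffineHopf FixedLift

variable {S : Scheme.{u}} {B : Type u} [CommRing B] (t : Spec (CommRingCat.of B) ⟶ S)

theorem spMap_comul (A : Type u) [CommRing A] [HopfAlgebra B A] :
    spMap (Bialgebra.comulAlgHom B A) = spMap (Algebra.TensorProduct.includeLeft : A →ₐ[B] A ⊗[B] A) *
      spMap (Algebra.TensorProduct.includeRight : A →ₐ[B] A ⊗[B] A) := by
  rw [spMap_mul]
  congr 1
  refine AlgHom.ext fun a => ?_
  rw [AlgHom.convMul_apply]
  show Coalgebra.comul a = _
  generalize Coalgebra.comul (R := B) a = w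
  induction w using TensorProduct.induction_on with
  | zero => simp
  | add p q hp hq => simp only [map_add, ← hp, ← hq]
  | tmul p q => simp

/-- The universal point of a group of multiplicative type over an affine scheme over the base. -/
theorem exists_universal {G : Over S} [GrpObj G] (hG : SGA3x.IsMultTypeFT G) :
    ∃ (A : Type u) (_ : CommRing A) (_ : HopfAlgebra B A) (gA : OT t A ⟶ G), SGA3b.IsMultType B A ∧
      OTm t (Bialgebra.comulAlgHom B A) ≫ gA =
        (OTm t Algebra.TensorProduct.includeLeft ≫ gA) * (OTm t Algebra.TensorProduct.includeRight ≫ gA) ∧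
      ∀ (T' : Over S) (q : T' ⟶ OT t B) (g : T' ⟶ G),
        ∃ q' : T' ⟶ OT t A, q' ≫ OTm t (Algebra.ofId B A) = q ∧ q' ≫ gA = g := by
  obtain ⟨A, _, _, hA, ⟨e⟩⟩ := SchemeBridge.exists_hopf_multType _ (GrpSchLib.MultTypeBC.isMultTypeFT_bc t hG)
  let eh : sp B A ⟶ Red.bc t G := e.hom.hom.hom
  let eh' : Red.bc t G ⟶ sp B A := e.inv.hom.hom
  have heh : eh' ≫ eh = 𝟙 _ := congrArg (fun h => h.hom.hom) e.inv_hom_id
  haveI : IsMonHom eh := e.hom.hom.isMonHom_hom
  refine ⟨A, inferInstance, inferInstance, DSPtsLib.theta t eh, hA, ?_, fun T' q g => ?_⟩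
  · rw [← DSPtsLib.theta_comp, ← DSPtsLib.theta_comp, ← DSPtsLib.theta_comp, ← DSPtsLib.theta_mul, spMap_comul,
      MonObj.mul_comp]
  · let Y : Over (Spec (CommRingCat.of B)) := Over.mk (q.left ≫ (sp B B).hom)
    let ε : T' ≅ (Over.map t).obj Y := Over.isoMk (Iso.refl _) (by
      show 𝟙 _ ≫ (q.left ≫ (sp B B).hom) ≫ t = T'.hom
      rw [Category.id_comp, Category.assoc]
      exact Over.w q)
    obtain ⟨w, hw⟩ := (DSPtsLib.theta_bijective (H := G) (Y := Y) t).2 (ε.inv ≫ g)
    refine ⟨ε.hom ≫ (Over.map t).map (w ≫ eh'), ?_, ?_⟩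
    · rw [Category.assoc, ← Functor.map_comp,
        TransporterLift.over_subsingleton ((w ≫ eh') ≫ spMap (Algebra.ofId B A)) (Over.homMk q.left rfl : Y ⟶ sp B B)]
      exact Over.OverMorphism.ext (Category.id_comp _)
    · rw [Category.assoc, ← DSPtsLib.theta_comp, Category.assoc, heh, Category.comp_id, hw, Iso.hom_inv_id_assoc]

set_option maxHeartbeats 800000 in
/-- The fixed points of a group of multiplicative type in a smooth scheme form a smooth scheme. -/
theorem smooth_fixed {G X : Over S} [GrpObj G] (hG : SGA3x.IsMultTypeFT G) [Smooth X.hom] [IsSeparated X.hom]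
    (a : AlgGrp.Action G X) (F : Over S) (f : F ⟶ X) [IsClosedImmersion f.left] [LocallyOfFinitePresentation f.left]
    (hF : ∀ (T : Over S) (x : T ⟶ X), (∃ y : T ⟶ F, y ≫ f = x) ↔ FixPt a x) :
    Smooth F.hom := by
  rw [← Over.w f]
  have hloc : ∀ z : F.left, ∃ O : F.left.Opens, z ∈ O ∧ Smooth (O.ι ≫ f.left ≫ X.hom) := by
    intro z
    obtain ⟨W, hW, hzW, -⟩ := exists_isAffineOpen_mem_and_subset
      (show X.hom (f.left z) ∈ (⊤ : S.Opens) from trivial)
    obtain ⟨V, hV, hzV, hVW⟩ := exists_isAffineOpen_mem_and_subset (show f.left z ∈ X.hom ⁻¹ᵁ W from hzW)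
    refine ⟨f.left ⁻¹ᵁ V, hzV, ?_⟩
    haveI : IsAffine (V : Scheme.{u}) := hV
    haveI : IsAffine (W : Scheme.{u}) := hW
    haveI : IsAffine (f.left ⁻¹ᵁ V : Scheme.{u}) := hV.preimage f.left
    let r : (V : Scheme.{u}) ⟶ W := X.hom.resLE W V hVW
    let φ : (f.left ⁻¹ᵁ V : Scheme.{u}) ⟶ W := (f.left ∣_ V) ≫ r
    have hr : r ≫ W.ι = V.ι ≫ X.hom := X.hom.resLE_comp_ι hVW
    have hφι : φ ≫ W.ι = (f.left ⁻¹ᵁ V).ι ≫ f.left ≫ X.hom := by
      simp only [φ, Category.assoc, hr]
      rw [morphismRestrict_ι_assoc]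
    haveI : LocallyOfFinitePresentation (f.left ∣_ V) :=
      MorphismProperty.of_isPullback (P := @LocallyOfFinitePresentation) (isPullback_morphismRestrict f.left V).flip
        inferInstance
    suffices Smooth φ by
      rw [← hφι]
      infer_instance
    refine SmoothLifting.smooth_of_lift φ fun B _ J hJ t p₀ hp₀ => ?_
    let tS : Spec (CommRingCat.of B) ⟶ S := t ≫ W.ι
    let P := pullback V.ι (pullback.fst X.hom tS)
    haveI : IsAffine P := by
      have hP : IsPullback (pullback.fst (V.ι ≫ X.hom) tS) (pullback.snd (V.ι ≫ X.hom) tS) r t := by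
        refine IsPullback.of_isLimit' ⟨by rw [← cancel_mono W.ι, Category.assoc, Category.assoc, hr, pullback.condition]⟩
          (PullbackCone.IsLimit.mk _
            (fun c => pullback.lift c.fst c.snd (by simp only [tS, ← hr]; rw [reassoc_of% c.condition]))
            (fun c => pullback.lift_fst _ _ _) (fun c => pullback.lift_snd _ _ _)
            fun c l h1 h2 => pullback.hom_ext (h1.trans (pullback.lift_fst _ _ _).symm)
              (h2.trans (pullback.lift_snd _ _ _).symm))
      exact .of_isIso ((pullbackRightPullbackFstIso X.hom tS V.ι).hom ≫ hP.isoPullback.hom)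
    let m : P ⟶ pullback X.hom tS := pullback.snd V.ι (pullback.fst X.hom tS)
    let sP : P ⟶ Spec (CommRingCat.of B) := m ≫ pullback.snd X.hom tS
    let φC : CommRingCat.of B ⟶ Γ(P, ⊤) := Spec.preimage (P.isoSpec.inv ≫ sP)
    have hφC : Spec.map φC = P.isoSpec.inv ≫ sP := Spec.map_preimage _
    let C : Type u := Γ(P, ⊤)
    letI : Algebra B C := φC.hom.toAlgebra
    haveI : Algebra.FormallySmooth B C := by
      haveI : IsOpenImmersion m := inferInstance
      haveI : Smooth (pullback.snd X.hom tS) := inferInstance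
      have h : Smooth (Spec.map φC) := by rw [hφC]; infer_instance
      exact (RingHom.smooth_algebraMap.mp ((HasRingHomProperty.Spec_iff (P := @Smooth) (φ := φC)).mp h)).formallySmooth
    let v : sp B C ⟶ (Over.pullback tS).obj X := Over.homMk (P.isoSpec.inv ≫ m) (by
      show (P.isoSpec.inv ≫ m) ≫ pullback.snd X.hom tS = Spec.map φC
      rw [hφC, Category.assoc])
    haveI : IsOpenImmersion v.left := inferInstanceAs (IsOpenImmersion (P.isoSpec.inv ≫ m))
    let x₀ : Spec (CommRingCat.of (B ⧸ J)) ⟶ X.left := p₀ ≫ (f.left ⁻¹ᵁ V).ι ≫ f.left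
    have hx₀ : x₀ ≫ X.hom = Spec.map (CommRingCat.ofHom (Ideal.Quotient.mk J)) ≫ tS := by
      simp only [x₀, Category.assoc, ← hφι, tS]
      rw [reassoc_of% hp₀]
    let q₀ : Spec (CommRingCat.of (B ⧸ J)) ⟶ P :=
      pullback.lift (p₀ ≫ (f.left ∣_ V)) (pullback.lift x₀ _ hx₀) (by
        rw [pullback.lift_fst, Category.assoc, morphismRestrict_ι])
    let χ : Γ(P, ⊤) ⟶ CommRingCat.of (B ⧸ J) := Spec.preimage (q₀ ≫ P.isoSpec.hom)
    have hχ : Spec.map χ = q₀ ≫ P.isoSpec.hom := Spec.map_preimage _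
    let c₀ : C →ₐ[B] B ⧸ J :=
      { toRingHom := χ.hom
        commutes' := fun b => by
          have e : φC ≫ χ = CommRingCat.ofHom (Ideal.Quotient.mk J) := by
            apply Spec.map_injective
            rw [Spec.map_comp, hχ, hφC, Category.assoc, Iso.hom_inv_id_assoc]
            simp only [sP, m, q₀, pullback.lift_snd_assoc, pullback.lift_snd]
          exact congrArg (fun k => k.hom b) e }
    let y : C →ₐ[B] B := Algebra.FormallySmooth.lift J ⟨2, hJ⟩ c₀
    have hy : (Ideal.Quotient.mkₐ B J).comp y = c₀ := Algebra.FormallySmooth.comp_lift J ⟨2, hJ⟩ c₀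
    have hpt : (chartPt tS v c₀).left = x₀ := by
      show ((spMap c₀).left ≫ v.left) ≫ pullback.fst X.hom tS = x₀
      show (Spec.map χ ≫ P.isoSpec.inv ≫ m) ≫ pullback.fst X.hom tS = x₀
      rw [hχ]
      simp only [Category.assoc, Iso.hom_inv_id_assoc, m, q₀, pullback.lift_snd_assoc, pullback.lift_fst]
    have h0 : FixPt a (OTm tS (Ideal.Quotient.mkₐ B J) ≫ chartPt tS v y) := by
      rw [OTm_chartPt, hy]
      refine (hF _ _).mp ⟨Over.homMk (p₀ ≫ (f.left ⁻¹ᵁ V).ι) ?_, Over.OverMorphism.ext ?_⟩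
      · show (p₀ ≫ (f.left ⁻¹ᵁ V).ι) ≫ F.hom = Spec.map (CommRingCat.ofHom (algebraMap B (B ⧸ J))) ≫ tS
        rw [← Over.w f, Category.assoc, ← hφι, reassoc_of% hp₀]
        all_goals rfl
      · exact (Category.assoc _ _ _).trans hpt.symm
    obtain ⟨A, _, _, gA, hA, hgA, huniv⟩ := exists_universal tS hG
    obtain ⟨mn⟩ := exists_mean hA
    obtain ⟨x, hxy, hx⟩ := exists_fixed tS v a gA mn hgA huniv J hJ y h0
    obtain ⟨w, hw⟩ := (hF _ _).mpr hx
    let j : Spec (CommRingCat.of B) ⟶ V :=
      Spec.map (CommRingCat.ofHom x.toRingHom) ≫ P.isoSpec.inv ≫ pullback.fst V.ι (pullback.fst X.hom tS)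
    have hj : w.left ≫ f.left = j ≫ V.ι := by
      refine (congrArg (fun k => CommaMorphism.left k) hw).trans ?_
      show ((Spec.map (CommRingCat.ofHom x.toRingHom) ≫ P.isoSpec.inv ≫ m)) ≫ pullback.fst X.hom tS = _
      simp only [j, m, Category.assoc, pullback.condition]
    let w₀ : Spec (CommRingCat.of B) ⟶ F.left := w.left
    have hr' : Set.range w₀ ⊆ Set.range (f.left ⁻¹ᵁ V).ι := by
      rintro _ ⟨p, rfl⟩
      rw [Scheme.Opens.range_ι]
      show f.left (w₀ p) ∈ V
      rw [← Scheme.Hom.comp_apply, show w₀ ≫ f.left = j ≫ V.ι from hj, Scheme.Hom.comp_apply]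
      exact (j p).2
    refine ⟨IsOpenImmersion.lift (f.left ⁻¹ᵁ V).ι w₀ hr', ?_, ?_⟩
    · rw [← cancel_mono W.ι, Category.assoc, hφι, IsOpenImmersion.lift_fac_assoc, Over.w f]
      exact (Over.w w).trans ((congrArg (· ≫ tS) (Spec.map_id _)).trans (Category.id_comp _))
    · rw [← cancel_mono (f.left ⁻¹ᵁ V).ι, ← cancel_mono f.left, Category.assoc, Category.assoc, Category.assoc,
        IsOpenImmersion.lift_fac_assoc]
      show _ ≫ w.left ≫ f.left = x₀
      rw [← hpt]
      have e : OTm tS (Ideal.Quotient.mkₐ B J) ≫ w ≫ f = chartPt tS v c₀ := by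
        rw [hw, OTm_chartPt]
        congr 1
        rw [← hy]
        exact AlgHom.ext fun c => Ideal.Quotient.eq.mpr (hxy c)
      exact congrArg (fun k => CommaMorphism.left k) e
  choose O hzO hO using hloc
  exact IsZariskiLocalAtSource.of_iSup_eq_top O
    (eq_top_iff.mpr fun z _ => TopologicalSpace.Opens.mem_iSup.mpr ⟨z, hzO z⟩) hO

/-- The fixed locus is a closed subscheme locally of finite presentation. -/
theorem exists_fixed_locus {G X : Over S} [GrpObj G] (hG : SGA3x.IsMultTypeFT G) [Smooth X.hom] [IsSeparated X.hom]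
    (a : AlgGrp.Action G X) :
    ∃ (F : Over S) (f : F ⟶ X), IsClosedImmersion f.left ∧ LocallyOfFinitePresentation f.left ∧
      ∀ (T : Over S) (x : T ⟶ X), (∃ y : T ⟶ F, y ≫ f = x) ↔ FixPt a x := by
  obtain ⟨hGaff, hGe⟩ := TransLib.multTypeFT_essFree hG
  let d : X ⟶ X ⊗ X := lift (𝟙 X) (𝟙 X)
  have hd : d.left = pullback.diagonal X.hom := by
    apply pullback.hom_ext
    · exact (congrArg CommaMorphism.left (lift_fst (𝟙 X) (𝟙 X))).trans (pullback.diagonal_fst X.hom).symm
    · exact (congrArg CommaMorphism.left (lift_snd (𝟙 X) (𝟙 X))).trans (pullback.diagonal_snd X.hom).symm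
  haveI : IsClosedImmersion d.left := by rw [hd]; infer_instance
  haveI : LocallyOfFinitePresentation d.left := by
    haveI : LocallyOfFinitePresentation (d.left ≫ pullback.fst X.hom X.hom) := by
      rw [hd, pullback.diagonal_fst]; exact inferInstanceAs (LocallyOfFinitePresentation (𝟙 X.left))
    haveI : LocallyOfFiniteType (pullback.fst X.hom X.hom) := inferInstance
    exact AlgSpPts.locallyOfFinitePresentation_of_comp d.left (pullback.fst X.hom X.hom)
  obtain ⟨F, f, hf, hfp, hF⟩ := TransLib.exists_closed_universal_essFree (X := X) hGe (lift a.act (snd G X)) d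
  refine ⟨F, f, hf, hfp inferInstance inferInstance, fun T x => (hF x).trans ⟨fun ⟨l, hl⟩ T' q g => ?_, fun h => ?_⟩⟩
  · have h1 := congrArg (fun k => lift g q ≫ k ≫ fst X X) hl
    have h2 := congrArg (fun k => lift g q ≫ k ≫ snd X X) hl
    simp [d, lift_whiskerLeft_assoc] at h1 h2
    rw [← h1, ← h2]
  · have h' := h (G ⊗ T) (snd G T) (fst G T)
    refine ⟨snd G T ≫ x, ?_⟩
    apply CartesianMonoidalCategory.hom_ext
    · simp only [d, Category.assoc, lift_fst, Category.comp_id]
      refine h'.symm.trans ?_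
      congr 1
    · simp [d]

end Groth.Agent.MultTypeLib.FixedSmooth
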