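import Groth.Agent.MultTypeLib.TransporterLift
import Groth.Agent.MultTypeLib.SmoothLifting
import Groth.Agent.TransLib.Universal
import Groth.Agent.AlgSpPts.Sep
import Groth.Agent.GrpSchLib.MonoSubgroup
import Groth.Agent.SmoothSecLib.Basic

/-!
# Transporters of homomorphisms out of groups of multiplicative type are smooth
-/

universe u

open CategoryTheory CategoryTheory.Limits MonoidalCategory CartesianMonoidalCategory MonObj AlgebraicGeometry

namespace Groth.Agent.MultTypeLib.TransporterSmooth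

open TransporterLift GrpSchLib.AffineHopf

variable {S : Scheme.{u}} {H G : Over S} [GrpObj H] [GrpObj G]

theorem transp_comp {u₁ u₂ : H ⟶ G} {X X' : Over S} {g : X ⟶ G} (h : Transp u₁ u₂ g) (q : X' ⟶ X) :
    Transp u₁ u₂ (q ≫ g) := fun Y x a => by
  rw [← Category.assoc]
  exact h Y (x ≫ q) a

/-- The transporter of two homomorphisms out of a group of multiplicative type into a smooth affine group is a smooth
closed subscheme. -/
theorem exists_transporter (hH : SGA3x.IsMultTypeFT H) [IsAffineHom G.hom] [Smooth G.hom]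
    (u₁ u₂ : H ⟶ G) [IsMonHom u₁] [IsMonHom u₂] :
    ∃ (T : Over S) (j : T ⟶ G), IsClosedImmersion j.left ∧ Smooth T.hom ∧
      ∀ (X : Over S) (g : X ⟶ G), (∃ t : X ⟶ T, t ≫ j = g) ↔ Transp u₁ u₂ g := by
  obtain ⟨hHaff, hHe⟩ := TransLib.multTypeFT_essFree hH
  let d : G ⟶ G ⊗ G := lift (𝟙 G) (𝟙 G)
  have hd : d.left = pullback.diagonal G.hom := by
    apply pullback.hom_ext
    · exact (congrArg CommaMorphism.left (lift_fst (𝟙 G) (𝟙 G))).trans (pullback.diagonal_fst G.hom).symm
    · exact (congrArg CommaMorphism.left (lift_snd (𝟙 G) (𝟙 G))).trans (pullback.diagonal_snd G.hom).symm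
  haveI : IsClosedImmersion d.left := by rw [hd]; infer_instance
  haveI : LocallyOfFinitePresentation d.left := by
    haveI : LocallyOfFinitePresentation (d.left ≫ pullback.fst G.hom G.hom) := by
      rw [hd, pullback.diagonal_fst]; exact inferInstanceAs (LocallyOfFinitePresentation (𝟙 G.left))
    haveI : LocallyOfFiniteType (pullback.fst G.hom G.hom) := inferInstance
    exact AlgSpPts.locallyOfFinitePresentation_of_comp d.left (pullback.fst G.hom G.hom)
  obtain ⟨T, c, hc, hcfp, hT⟩ := TransLib.exists_closed_universal_essFree (X := G) hHe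
    (lift (snd H G * (fst H G ≫ u₁) * (snd H G)⁻¹) (fst H G ≫ u₂)) d
  have key : ∀ (X : Over S) (g : X ⟶ G), (∃ t : X ⟶ T, t ≫ c = g) ↔ Transp u₁ u₂ g := fun X g => by
    refine (hT g).trans ⟨fun ⟨l, hl⟩ X' x a => ?_, fun h => ?_⟩
    · have h1 := congrArg (fun m => lift a x ≫ m ≫ fst G G) hl
      have h2 := congrArg (fun m => lift a x ≫ m ≫ snd G G) hl
      simp [d, MonObj.comp_mul, GrpObj.comp_inv, lift_whiskerLeft_assoc] at h1 h2
      rw [← h1, ← h2]
    · have h' := h (H ⊗ X) (snd H X) (fst H X)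
      refine ⟨fst H X ≫ u₂, ?_⟩
      apply CartesianMonoidalCategory.hom_ext
      · simp [d, MonObj.comp_mul, GrpObj.comp_inv, h']
      · simp [d]
  haveI : IsClosedImmersion c.left := hc
  haveI : LocallyOfFinitePresentation c.left := hcfp inferInstance inferInstance
  haveI : IsAffineHom T.hom := by rw [← Over.w c]; infer_instance
  haveI : LocallyOfFinitePresentation T.hom := by rw [← Over.w c]; infer_instance
  refine ⟨T, c, hc, SmoothLifting.smooth_of_lift T.hom fun B _ J hJ t p₀ hp₀ => ?_, key⟩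
  let p₁ : (Over.map t).obj (sp B (B ⧸ J)) ⟶ T := Over.homMk p₀ hp₀
  obtain ⟨g, hg, hgT⟩ := exists_lift H G hH u₁ u₂ t J ⟨2, hJ⟩ (p₁ ≫ c) ((key _ _).mp ⟨p₁, rfl⟩)
  obtain ⟨p, hp⟩ := (key _ g).mpr hgT
  haveI : Mono c := (Over.forget _).mono_of_mono_map (inferInstanceAs (Mono c.left))
  have e : (Over.map t).map (spMap (Ideal.Quotient.mkₐ B J)) ≫ p = p₁ := by
    rw [← cancel_mono c, Category.assoc, hp, hg]
  refine ⟨p.left, ?_, congrArg (fun m => CommaMorphism.left m) e⟩
  exact (Over.w p).trans ((congrArg (· ≫ t) (Spec.map_id _)).trans (Category.id_comp t))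

/-- The centralizer of a homomorphism out of a group of multiplicative type into a smooth affine group is a smooth
closed subgroup. -/
theorem exists_centralizer (hH : SGA3x.IsMultTypeFT H) [IsAffineHom G.hom] [Smooth G.hom]
    (u : H ⟶ G) [IsMonHom u] :
    ∃ (Z : Over S) (_ : GrpObj Z) (j : Z ⟶ G), Red.IsCentralizerOf u j ∧ IsClosedImmersion j.left ∧ Smooth Z.hom := by
  obtain ⟨Z, j, hj, hZs, hZ⟩ := exists_transporter hH u u
  haveI : IsClosedImmersion j.left := hj
  haveI : Mono j := (Over.forget _).mono_of_mono_map (inferInstanceAs (Mono j.left))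
  have htr : ∀ {X : Over S} (g : X ⟶ G), Transp u u g ↔
      ∀ (X' : Over S) (x : X' ⟶ X) (a : X' ⟶ H), Commute (x ≫ g) (a ≫ u) := fun g =>
    forall_congr' fun X' => forall_congr' fun x => forall_congr' fun a => mul_inv_eq_iff_eq_mul
  have hjc : ∀ {X : Over S} (z : X ⟶ Z) (X' : Over S) (x : X' ⟶ X) (a : X' ⟶ H),
      Commute (x ≫ z ≫ j) (a ≫ u) := fun z => (htr _).mp ((hZ _ _).mp ⟨z, rfl⟩)
  obtain ⟨e', he'⟩ := (hZ _ η[G]).mpr ((htr _).mpr fun X' x a => by
    rw [show x ≫ η[G] = (1 : X' ⟶ G) by rw [Hom.one_def, toUnit_unique x (toUnit _)]]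
    exact Commute.one_left _)
  obtain ⟨m', hm'⟩ := (hZ _ ((fst Z Z ≫ j) * (snd Z Z ≫ j))).mpr ((htr _).mpr fun X' x a => by
    rw [MonObj.comp_mul]
    exact (hjc (fst Z Z) X' x a).mul_left (hjc (snd Z Z) X' x a))
  obtain ⟨v', hv'⟩ := (hZ _ j⁻¹).mpr ((htr _).mpr fun X' x a => by
    rw [GrpObj.comp_inv]
    have := hjc (𝟙 Z) X' x a
    rw [Category.id_comp] at this
    exact this.inv_left)
  obtain ⟨str, hstr⟩ := GrpSchLib.exists_grpObj_of_mono j e' he' m' hm' v' hv'
  exact ⟨Z, str, j, ⟨hstr, ‹Mono j›, fun X g => (hZ X g).trans (htr g)⟩, hj, hZs⟩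

end Groth.Agent.MultTypeLib.TransporterSmooth

namespace Groth.Agent.MultTypeLib.TransporterSmooth

open TransporterLift

variable {S : Scheme.{u}} {H G : Over S} [GrpObj G]

/-- Transporting points give transporting points of the base change. -/
theorem transp_bc {u₁ u₂ : H ⟶ G} {S' : Scheme.{u}} (f : S' ⟶ S) {X₀ : Over S'} {g : (Over.map f).obj X₀ ⟶ G}
    (hg : Transp u₁ u₂ g) :
    Transp ((Over.pullback f).map u₁) ((Over.pullback f).map u₂) ((Over.mapPullbackAdj f).homEquiv X₀ G g) := by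
  intro X x h
  let adj := Over.mapPullbackAdj f
  obtain ⟨h', rfl⟩ := (adj.homEquiv X H).surjective h
  have hmul : ∀ a b : (Over.map f).obj X ⟶ G, adj.homEquiv X G (a * b) = adj.homEquiv X G a * adj.homEquiv X G b := by
    intro a b
    rw [Adjunction.homEquiv_unit, Adjunction.homEquiv_unit, Adjunction.homEquiv_unit, Functor.map_mul,
      MonObj.comp_mul]
  let Φ : ((Over.map f).obj X ⟶ G) →* (X ⟶ (Over.pullback f).obj G) := MonoidHom.mk' (adj.homEquiv X G) hmul
  have e := congrArg Φ (hg ((Over.map f).obj X) ((Over.map f).map x) h')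
  rw [map_mul, map_mul, map_inv] at e
  simp only [Φ, MonoidHom.mk'_apply, Adjunction.homEquiv_naturality_left] at e
  simp only [Adjunction.homEquiv_naturality_right] at e
  exact e

/-- Homomorphisms which are conjugate on geometric fibres are conjugate étale-locally. -/
theorem etale_locally_conj [GrpObj H] (hH : SGA3x.IsMultTypeFT H) [IsAffineHom G.hom] [Smooth G.hom]
    (u₁ u₂ : H ⟶ G) [IsMonHom u₁] [IsMonHom u₂] (s : S)
    (hs : ∃ (X : Over S) (g : X ⟶ G) (p : X.left), X.hom p = s ∧ Transp u₁ u₂ g) :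
    ∃ (S' : Scheme.{u}) (f : S' ⟶ S), Etale f ∧ s ∈ Set.range f.base ∧
      ∃ g : 𝟙_ (Over S') ⟶ Red.bc f G, Transp ((Over.pullback f).map u₁) ((Over.pullback f).map u₂) g := by
  obtain ⟨T, j, -, hT, key⟩ := exists_transporter hH u₁ u₂
  obtain ⟨X, g, p, hp, hg⟩ := hs
  obtain ⟨z, rfl⟩ := (key X g).mpr hg
  have hx : T.hom (z.left p) = s := by
    rw [← hp, ← Scheme.Hom.comp_apply, Over.w z]
  obtain ⟨S', f, s', -, hf, hs', h, hh⟩ := SmoothSecLib.exists_etale_section_scheme T.hom (z.left p)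
  refine ⟨S', f, hf, ⟨s', hs'.trans hx⟩, ?_⟩
  let h₁ : (Over.map f).obj (𝟙_ (Over S')) ⟶ T := Over.homMk h (hh.trans (Category.id_comp f).symm)
  exact ⟨_, transp_bc f ((key _ (h₁ ≫ j)).mp ⟨h₁, rfl⟩)⟩

end Groth.Agent.MultTypeLib.TransporterSmooth
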