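import Groth.Agent.MultTypeLib.SubgroupLift
import Groth.Agent.MultTypeLib.TransporterSmooth
import Groth.Agent.GrpSchLib.MultTypeLfp

/-!
# Transporters of subgroups of multiplicative type are smooth
-/

universe u

open CategoryTheory CategoryTheory.Limits MonoidalCategory CartesianMonoidalCategory MonObj AlgebraicGeometry
open scoped CategoryTheory.Obj

namespace Groth.Agent.MultTypeLib.SubgroupTransporter

open SubgroupLift GrpSchLib.AffineHopf

theorem isClosedImmersion_affine {B : Type u} [CommRing B] {H G : Over (Spec (CommRingCat.of B))} [GrpObj H]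
    [GrpObj G] (hH : SGA3x.IsMultTypeFT H) [IsAffine G.left] (i : H ⟶ G) [IsMonHom i] [Mono i] :
    IsClosedImmersion i.left := by
  obtain ⟨C, _, _, ⟨eG⟩⟩ := exists_hopf G
  let θ : sp B C ⟶ G := eG.hom.hom.hom
  let θ' : G ⟶ sp B C := eG.inv.hom.hom
  have hθ : θ' ≫ θ = 𝟙 G := congrArg (fun h => h.hom.hom) eG.inv_hom_id
  have hθ' : θ ≫ θ' = 𝟙 (sp B C) := congrArg (fun h => h.hom.hom) eG.hom_inv_id
  haveI : IsMonHom θ' := eG.inv.hom.isMonHom_hom
  haveI : IsIso θ' := ⟨θ, hθ, hθ'⟩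
  obtain ⟨A, _, _, eh, eh', c, -, h1, h2, hc, hi⟩ := exists_hopf_subgroup hH θ' i
  have e : i = eh' ≫ spMap (c : C →ₐ[B] A) ≫ θ := by
    rw [← hi]
    simp only [Category.assoc, hθ, Category.comp_id]
    rw [reassoc_of% h2]
  haveI : IsIso eh'.left := ⟨eh.left, congrArg CommaMorphism.left h2, congrArg CommaMorphism.left h1⟩
  haveI : IsIso θ.left := ⟨θ'.left, congrArg CommaMorphism.left hθ', congrArg CommaMorphism.left hθ⟩
  rw [e]
  show IsClosedImmersion (eh'.left ≫ Spec.map (CommRingCat.ofHom (c : C →ₐ[B] A).toRingHom) ≫ θ.left)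
  exact MorphismProperty.RespectsIso.precomp @IsClosedImmersion eh'.left _
    (@MorphismProperty.RespectsIso.postcomp _ _ @IsClosedImmersion _ _ _ _ θ.left ‹IsIso θ.left› _
      (IsClosedImmersion.spec_of_surjective _ hc))

/-- A subgroup of multiplicative type of an affine group is closed. -/
theorem isClosedImmersion_of_mono {S : Scheme.{u}} {H G : Over S} [GrpObj H] [GrpObj G]
    (hH : SGA3x.IsMultTypeFT H) [IsAffineHom G.hom] (i : H ⟶ G) [IsMonHom i] [Mono i] :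
    IsClosedImmersion i.left := by
  refine IsZariskiLocalAtTarget.of_openCover (S.affineCover.pullback₁ G.hom) fun k => ?_
  suffices hmain : ∀ (R : CommRingCat.{u}) (q : Spec R ⟶ S),
      IsClosedImmersion (pullback.snd i.left (pullback.fst G.hom q)) from hmain _ (S.affineCover.f k)
  intro R t
  let F := Over.pullback t
  haveI : IsAffine (F.obj G).left := by
    haveI : IsAffineHom (F.obj G).hom := inferInstanceAs (IsAffineHom (pullback.snd G.hom t))
    exact isAffine_of_isAffineHom (F.obj G).hom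
  haveI : IsMonHom (F.map i) := inferInstance
  haveI : Mono (F.map i) := inferInstance
  have hci : IsClosedImmersion (F.map i).left :=
    isClosedImmersion_affine (H := F.obj H) (G := F.obj G) (GrpSchLib.MultTypeBC.isMultTypeFT_bc t hH) (F.map i)
  have h1 : IsPullback (pullback.fst H.hom t) (F.map i).left i.left (pullback.fst G.hom t) := by
    refine IsPullback.of_bot (v₂₁ := (F.obj G).hom) (v₂₂ := G.hom) ?_ ?_ (IsPullback.of_hasPullback G.hom t)
    · rw [Over.w i]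
      have hs : (F.map i).left ≫ (F.obj G).hom = pullback.snd H.hom t := Over.w (F.map i)
      rw [hs]
      exact IsPullback.of_hasPullback H.hom t
    · simp only [F, Over.pullback_map_left]
      exact (pullback.lift_fst _ _ _).symm
  rw [← h1.isoPullback_inv_snd]
  exact MorphismProperty.RespectsIso.precomp @IsClosedImmersion _ _ hci

variable {S : Scheme.{u}} {H₁ H₂ G : Over S} [GrpObj H₁] [GrpObj H₂] [GrpObj G]

theorem lfp_of_mono (hH : SGA3x.IsMultTypeFT H₁) [Smooth G.hom] (i : H₁ ⟶ G) :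
    LocallyOfFinitePresentation i.left := by
  haveI : LocallyOfFinitePresentation (i.left ≫ G.hom) := by
    rw [Over.w i]
    exact GrpSchLib.MultTypeLfp.lfp hH
  exact AlgSpPts.locallyOfFinitePresentation_of_comp i.left G.hom

/-- The transporter of two subgroups of multiplicative type of a smooth affine group is a smooth closed subscheme. -/
theorem exists_transporter (hH₁ : SGA3x.IsMultTypeFT H₁) (hH₂ : SGA3x.IsMultTypeFT H₂) [IsAffineHom G.hom]
    [Smooth G.hom] (i₁ : H₁ ⟶ G) [IsMonHom i₁] [Mono i₁] (i₂ : H₂ ⟶ G) [IsMonHom i₂] [Mono i₂] :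
    ∃ (T : Over S) (j : T ⟶ G), IsClosedImmersion j.left ∧ Smooth T.hom ∧
      ∀ (X : Over S) (g : X ⟶ G), (∃ t : X ⟶ T, t ≫ j = g) ↔ STransp i₁ i₂ g := by
  obtain ⟨hA₁, hE₁⟩ := TransLib.multTypeFT_essFree hH₁
  obtain ⟨hA₂, hE₂⟩ := TransLib.multTypeFT_essFree hH₂
  haveI := isClosedImmersion_of_mono hH₁ i₁
  haveI := isClosedImmersion_of_mono hH₂ i₂
  obtain ⟨T₁, c₁, hc₁, hf₁, hT₁⟩ := TransLib.exists_closed_universal_essFree (X := G) hE₁
    (snd H₁ G * (fst H₁ G ≫ i₁) * (snd H₁ G)⁻¹) i₂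
  obtain ⟨T₂, c₂, hc₂, hf₂, hT₂⟩ := TransLib.exists_closed_universal_essFree (X := G) hE₂
    ((snd H₂ G)⁻¹ * (fst H₂ G ≫ i₂) * snd H₂ G) i₁
  have k₁ : ∀ (X : Over S) (g : X ⟶ G), (∃ t : X ⟶ T₁, t ≫ c₁ = g) ↔ ∀ (X' : Over S) (x : X' ⟶ X),
      ∀ a : X' ⟶ H₁, ∃ b : X' ⟶ H₂, (x ≫ g) * (a ≫ i₁) * (x ≫ g)⁻¹ = b ≫ i₂ := fun X g => by
    refine (hT₁ g).trans ⟨fun ⟨l, hl⟩ X' x a => ?_, fun h => ?_⟩
    · refine ⟨lift a x ≫ l, ?_⟩
      rw [Category.assoc, hl]
      simp [MonObj.comp_mul, GrpObj.comp_inv, lift_whiskerLeft_assoc]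
    · obtain ⟨b, hb⟩ := h (H₁ ⊗ X) (snd H₁ X) (fst H₁ X)
      exact ⟨b, by rw [← hb]; simp [MonObj.comp_mul, GrpObj.comp_inv]⟩
  have k₂ : ∀ (X : Over S) (g : X ⟶ G), (∃ t : X ⟶ T₂, t ≫ c₂ = g) ↔ ∀ (X' : Over S) (x : X' ⟶ X),
      ∀ a : X' ⟶ H₂, ∃ b : X' ⟶ H₁, (x ≫ g)⁻¹ * (a ≫ i₂) * (x ≫ g) = b ≫ i₁ := fun X g => by
    refine (hT₂ g).trans ⟨fun ⟨l, hl⟩ X' x a => ?_, fun h => ?_⟩
    · refine ⟨lift a x ≫ l, ?_⟩
      rw [Category.assoc, hl]
      simp [MonObj.comp_mul, GrpObj.comp_inv, lift_whiskerLeft_assoc]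
    · obtain ⟨b, hb⟩ := h (H₂ ⊗ X) (snd H₂ X) (fst H₂ X)
      exact ⟨b, by rw [← hb]; simp [MonObj.comp_mul, GrpObj.comp_inv]⟩
  haveI : LocallyOfFinitePresentation c₁.left := hf₁ inferInstance (lfp_of_mono hH₂ i₂)
  haveI : LocallyOfFinitePresentation c₂.left := hf₂ inferInstance (lfp_of_mono hH₁ i₁)
  haveI : IsClosedImmersion c₁.left := hc₁
  haveI : IsClosedImmersion c₂.left := hc₂
  let T : Over S := Over.mk ((pullback.fst c₁.left c₂.left ≫ c₁.left) ≫ G.hom)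
  let j : T ⟶ G := Over.homMk (pullback.fst c₁.left c₂.left ≫ c₁.left) rfl
  haveI hj : IsClosedImmersion j.left := inferInstanceAs (IsClosedImmersion (pullback.fst c₁.left c₂.left ≫ c₁.left))
  have key : ∀ (X : Over S) (g : X ⟶ G), (∃ t : X ⟶ T, t ≫ j = g) ↔ STransp i₁ i₂ g := fun X g => by
    have hs : STransp i₁ i₂ g ↔ (∃ t : X ⟶ T₁, t ≫ c₁ = g) ∧ (∃ t : X ⟶ T₂, t ≫ c₂ = g) := by
      rw [k₁, k₂]
      exact ⟨fun h => ⟨fun X' x => (h X' x).1, fun X' x => (h X' x).2⟩, fun h X' x => ⟨h.1 X' x, h.2 X' x⟩⟩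
    rw [hs]
    constructor
    · rintro ⟨t, rfl⟩
      refine ⟨⟨Over.homMk (t.left ≫ pullback.fst c₁.left c₂.left) ?_, Over.OverMorphism.ext (Category.assoc _ _ _)⟩,
        ⟨Over.homMk (t.left ≫ pullback.snd c₁.left c₂.left) ?_, Over.OverMorphism.ext ?_⟩⟩
      · rw [← Over.w t, ← Over.w c₁]
        simp [T]
      · rw [← Over.w t, ← Over.w c₂]
        simp only [T, Over.mk_hom, pullback.condition, Category.assoc]
      · show (t.left ≫ pullback.snd c₁.left c₂.left) ≫ c₂.left = t.left ≫ pullback.fst c₁.left c₂.left ≫ c₁.left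
        rw [Category.assoc, pullback.condition]
    · rintro ⟨⟨a, ha⟩, ⟨b, hb⟩⟩
      have hab : a.left ≫ c₁.left = b.left ≫ c₂.left := congrArg CommaMorphism.left (ha.trans hb.symm)
      refine ⟨Over.homMk (pullback.lift a.left b.left hab) ?_, Over.OverMorphism.ext ?_⟩
      · show _ ≫ (pullback.fst c₁.left c₂.left ≫ c₁.left) ≫ G.hom = _
        rw [Category.assoc, Over.w c₁, pullback.lift_fst_assoc, Over.w a]
      · show pullback.lift a.left b.left hab ≫ pullback.fst c₁.left c₂.left ≫ c₁.left = g.left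
        rw [pullback.lift_fst_assoc, ← Over.comp_left, ha]
  haveI : LocallyOfFinitePresentation j.left :=
    inferInstanceAs (LocallyOfFinitePresentation (pullback.fst c₁.left c₂.left ≫ c₁.left))
  haveI : IsAffineHom T.hom := by rw [← Over.w j]; infer_instance
  haveI : LocallyOfFinitePresentation T.hom := by rw [← Over.w j]; infer_instance
  refine ⟨T, j, hj, SmoothLifting.smooth_of_lift T.hom fun B _ J hJ t p₀ hp₀ => ?_, key⟩
  let p₁ : (Over.map t).obj (sp B (B ⧸ J)) ⟶ T := Over.homMk p₀ hp₀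
  obtain ⟨g, hg, hgT⟩ := exists_lift H₁ H₂ G hH₁ hH₂ i₁ i₂ t J ⟨2, hJ⟩ (p₁ ≫ j) ((key _ _).mp ⟨p₁, rfl⟩)
  obtain ⟨p, hp⟩ := (key _ g).mpr hgT
  haveI : Mono j := (Over.forget _).mono_of_mono_map (inferInstanceAs (Mono j.left))
  have e : (Over.map t).map (spMap (Ideal.Quotient.mkₐ B J)) ≫ p = p₁ := by
    rw [← cancel_mono j, Category.assoc, hp, hg]
  refine ⟨p.left, ?_, congrArg (fun m => CommaMorphism.left m) e⟩
  exact (Over.w p).trans ((congrArg (· ≫ t) (Spec.map_id _)).trans (Category.id_comp t))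

/-- The normalizer of a subgroup of multiplicative type of a smooth affine group is a smooth closed subgroup. -/
theorem exists_normalizer (hH : SGA3x.IsMultTypeFT H₁) [IsAffineHom G.hom] [Smooth G.hom] (i : H₁ ⟶ G) [IsMonHom i]
    [Mono i] :
    ∃ (N : Over S) (_ : GrpObj N) (j : N ⟶ G), Red.IsNormalizerOf i j ∧ IsClosedImmersion j.left ∧ Smooth N.hom := by
  obtain ⟨N, j, hj, hNs, hN⟩ := exists_transporter hH hH i i
  haveI : IsClosedImmersion j.left := hj
  haveI : Mono j := (Over.forget _).mono_of_mono_map (inferInstanceAs (Mono j.left))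
  obtain ⟨e', he'⟩ := (hN _ η[G]).mpr fun X' x => by
    rw [show x ≫ η[G] = (1 : X' ⟶ G) by rw [Hom.one_def, toUnit_unique x (toUnit _)]]
    exact ⟨fun a => ⟨a, by simp⟩, fun a => ⟨a, by simp⟩⟩
  obtain ⟨m', hm'⟩ := (hN _ ((fst N N ≫ j) * (snd N N ≫ j))).mpr fun X' x => by
    have h1 := (hN _ _).mp ⟨x ≫ fst N N, rfl⟩ X' (𝟙 _)
    have h2 := (hN _ _).mp ⟨x ≫ snd N N, rfl⟩ X' (𝟙 _)
    simp only [Category.id_comp] at h1 h2
    simp only [MonObj.comp_mul, ← Category.assoc]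
    refine ⟨fun a => ?_, fun a => ?_⟩
    · obtain ⟨b, hb⟩ := h2.1 a
      obtain ⟨c, hc⟩ := h1.1 b
      exact ⟨c, by rw [← hc, ← hb]; group⟩
    · obtain ⟨b, hb⟩ := h1.2 a
      obtain ⟨c, hc⟩ := h2.2 b
      exact ⟨c, by rw [← hc, ← hb]; group⟩
  obtain ⟨v', hv'⟩ := (hN _ j⁻¹).mpr fun X' x => by
    have h := (hN _ _).mp ⟨𝟙 N, rfl⟩ X' x
    simp only [Category.id_comp] at h
    simp only [GrpObj.comp_inv, inv_inv]
    exact ⟨h.2, h.1⟩
  obtain ⟨str, hstr⟩ := GrpSchLib.exists_grpObj_of_mono j e' he' m' hm' v' hv'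
  exact ⟨N, str, j, ⟨hstr, ‹Mono j›, fun X g => (hN X g).trans
    ⟨fun h X' x a => ⟨(h X' x).1 a, (h X' x).2 a⟩, fun h X' x => ⟨fun a => (h X' x a).1, fun a => (h X' x a).2⟩⟩⟩, hj, hNs⟩

end Groth.Agent.MultTypeLib.SubgroupTransporter

namespace Groth.Agent.MultTypeLib.SubgroupTransporter

open SubgroupLift

variable {S : Scheme.{u}} {H₁ H₂ G : Over S} [GrpObj G]

/-- Transporting points give transporting points of the base change. -/
theorem stransp_bc {i₁ : H₁ ⟶ G} {i₂ : H₂ ⟶ G} {S' : Scheme.{u}} (f : S' ⟶ S) {X₀ : Over S'}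
    {g : (Over.map f).obj X₀ ⟶ G} (hg : STransp i₁ i₂ g) :
    STransp ((Over.pullback f).map i₁) ((Over.pullback f).map i₂) ((Over.mapPullbackAdj f).homEquiv X₀ G g) := by
  intro X x
  let adj := Over.mapPullbackAdj f
  have hmul : ∀ a b : (Over.map f).obj X ⟶ G, adj.homEquiv X G (a * b) = adj.homEquiv X G a * adj.homEquiv X G b := by
    intro a b
    rw [Adjunction.homEquiv_unit, Adjunction.homEquiv_unit, Adjunction.homEquiv_unit, Functor.map_mul,
      MonObj.comp_mul]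
  let Φ : ((Over.map f).obj X ⟶ G) →* (X ⟶ (Over.pullback f).obj G) := MonoidHom.mk' (adj.homEquiv X G) hmul
  refine ⟨fun h => ?_, fun h => ?_⟩
  · obtain ⟨h', rfl⟩ := (adj.homEquiv X H₁).surjective h
    obtain ⟨k, hk⟩ := (hg ((Over.map f).obj X) ((Over.map f).map x)).1 h'
    refine ⟨adj.homEquiv X H₂ k, ?_⟩
    have e := congrArg Φ hk
    rw [map_mul, map_mul, map_inv] at e
    simp only [Φ, MonoidHom.mk'_apply, Adjunction.homEquiv_naturality_left] at e
    simp only [Adjunction.homEquiv_naturality_right] at e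
    exact e
  · obtain ⟨h', rfl⟩ := (adj.homEquiv X H₂).surjective h
    obtain ⟨k, hk⟩ := (hg ((Over.map f).obj X) ((Over.map f).map x)).2 h'
    refine ⟨adj.homEquiv X H₁ k, ?_⟩
    have e := congrArg Φ hk
    rw [map_mul, map_mul, map_inv] at e
    simp only [Φ, MonoidHom.mk'_apply, Adjunction.homEquiv_naturality_left] at e
    simp only [Adjunction.homEquiv_naturality_right] at e
    exact e

/-- A transporting point over the base conjugates one subgroup onto the other. -/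
theorem conjBy_of_stransp {i₁ : H₁ ⟶ G} {i₂ : H₂ ⟶ G} [Mono i₁] [Mono i₂] (g : 𝟙_ (Over S) ⟶ G)
    (hg : STransp i₁ i₂ g) : SGA3x.ConjBy i₁ i₂ g := by
  obtain ⟨φ, hφ⟩ := (hg H₁ (toUnit H₁)).1 (𝟙 H₁)
  obtain ⟨ψ, hψ⟩ := (hg H₂ (toUnit H₂)).2 (𝟙 H₂)
  rw [Category.id_comp] at hφ hψ
  refine ⟨⟨φ, ψ, ?_, ?_⟩, hφ⟩
  · rw [← cancel_mono i₁, Category.assoc, ← hψ, Category.id_comp]
    simp only [MonObj.comp_mul, GrpObj.comp_inv, ← Category.assoc, comp_toUnit]
    rw [← hφ]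
    group
  · rw [← cancel_mono i₂, Category.assoc, ← hφ, Category.id_comp]
    simp only [MonObj.comp_mul, GrpObj.comp_inv, ← Category.assoc, comp_toUnit]
    rw [← hψ]
    group

end Groth.Agent.MultTypeLib.SubgroupTransporter
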