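import Groth.Agent.MultTypeLib.CoverType
import Mathlib.RingTheory.Smooth.Basic
import Mathlib.RingTheory.HopfAlgebra.Convolution
import Mathlib.RingTheory.Bialgebra.Convolution
import Mathlib.Tactic.NoncommRing
import Mathlib.Tactic.Group

/-!
# Deforming homomorphisms out of groups with an invariant mean

If `A` has an invariant mean, almost homomorphisms `C → A` to a formally smooth group can be
averaged to homomorphisms, and homomorphisms with the same reduction are conjugate.
-/

universe u

open WithConv TensorProduct Coalgebra Bialgebra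

noncomputable section

namespace Groth.Agent.MultTypeLib

/-- Algebra maps out of a Hopf algebra form a group under convolution. -/
@[instance_reducible]
def algConvGroup {R C T : Type u} [CommRing R] [CommRing C] [HopfAlgebra R C] [CommRing T] [Algebra R T] : Group (WithConv (C →ₐ[R] T)) where
  inv f := toConv (f.ofConv.comp (HopfAlgebra.antipodeAlgHom R C))
  inv_mul_cancel f := by
    refine WithConv.ext (AlgHom.toLinearMap_injective ?_)
    show _ = (1 : WithConv (C →ₗ[R] T)).ofConv
    have : toConv (f.ofConv.toLinearMap ∘ₗ HopfAlgebra.antipode R) * toConv f.ofConv.toLinearMap = 1 := by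
      refine WithConv.ext ?_
      have h := LinearMap.algHom_comp_convMul_distrib f.ofConv (toConv (HopfAlgebra.antipode R (A := C))) (toConv LinearMap.id)
      rw [LinearMap.antipode_mul_id] at h
      have h2 : f.ofConv.toLinearMap ∘ₗ (1 : WithConv (C →ₗ[R] C)).ofConv = (1 : WithConv (C →ₗ[R] T)).ofConv := by
        ext; simp
      rw [h2] at h
      simpa using h.symm
    rw [← this]
    exact congrArg WithConv.ofConv (AlgHom.toLinearMap_convMul _ f)

attribute [local instance 2000] algConvGroup

section Cong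

variable {R : Type u} [CommRing R] {C : Type u} [CommRing C] [Bialgebra R C]
variable {T : Type u} [CommRing T] [Algebra R T]

/-- Congruence of maps modulo an ideal of the base. -/
def Cong (K : Ideal R) (P Q : WithConv (C →ₗ[R] T)) : Prop :=
  ∀ c, P.ofConv c - Q.ofConv c ∈ (K • ⊤ : Submodule R T)

/-- An algebra map as an element of the convolution ring. -/
def lin : WithConv (C →ₐ[R] T) →* WithConv (C →ₗ[R] T) where
  toFun f := toConv f.ofConv.toLinearMap
  map_one' := AlgHom.toLinearMap_convOne
  map_mul' := AlgHom.toLinearMap_convMul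

@[simp] theorem lin_apply (f : WithConv (C →ₐ[R] T)) (c : C) : (lin f).ofConv c = f.ofConv c := rfl

theorem mul_mem_smul {K L : Ideal R} {x y : T} (hx : x ∈ (K • ⊤ : Submodule R T))
    (hy : y ∈ (L • ⊤ : Submodule R T)) : x * y ∈ ((K * L) • ⊤ : Submodule R T) := by
  refine Submodule.smul_induction_on hx (fun r hr t _ => ?_) fun a b ha hb => by rw [add_mul]; exact add_mem ha hb
  refine Submodule.smul_induction_on hy (fun s hs t' _ => ?_) fun a b ha hb => by rw [mul_add]; exact add_mem ha hb
  rw [smul_mul_smul_comm]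
  exact Submodule.smul_mem_smul (Ideal.mul_mem_mul hr hs) trivial

theorem mul_mem_smul_left {K : Ideal R} (x : T) {y : T} (hy : y ∈ (K • ⊤ : Submodule R T)) :
    x * y ∈ (K • ⊤ : Submodule R T) := by
  refine Submodule.smul_induction_on hy (fun s hs t' _ => ?_) fun a b ha hb => by rw [mul_add]; exact add_mem ha hb
  rw [mul_smul_comm]
  exact Submodule.smul_mem_smul hs trivial

theorem map_smul_top {K : Ideal R} {M N : Type u} [AddCommGroup M] [Module R M] [AddCommGroup N] [Module R N]
    (L : M →ₗ[R] N) {x : M} (hx : x ∈ (K • ⊤ : Submodule R M)) : L x ∈ (K • ⊤ : Submodule R N) := by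
  have h : L x ∈ (K • ⊤ : Submodule R M).map L := Submodule.mem_map_of_mem hx
  rw [Submodule.map_smul''] at h
  exact Submodule.smul_mono le_rfl le_top h

variable {K : Ideal R} {P P' Q Q' S : WithConv (C →ₗ[R] T)}

theorem Cong.refl (P : WithConv (C →ₗ[R] T)) : Cong K P P := fun c => by simp

theorem Cong.symm (h : Cong K P Q) : Cong K Q P := fun c => by
  rw [← neg_sub]; exact neg_mem (h c)

theorem Cong.trans (h : Cong K P Q) (h' : Cong K Q S) : Cong K P S := fun c => by
  rw [← sub_add_sub_cancel _ (Q.ofConv c)]; exact add_mem (h c) (h' c)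

theorem Cong.mono {K' : Ideal R} (hKK : K ≤ K') (h : Cong K P Q) : Cong K' P Q := fun c =>
  Submodule.smul_mono hKK le_rfl (h c)

theorem Cong.mul_left (h : Cong K P Q) : Cong K (S * P) (S * Q) := fun c => by
  rw [LinearMap.convMul_apply, LinearMap.convMul_apply]
  generalize comul (R := R) c = z
  induction z using TensorProduct.induction_on with
  | zero => simp
  | add a b ha hb => simp only [map_add] at ha hb ⊢; rw [add_sub_add_comm]; exact add_mem ha hb
  | tmul a b =>
    rw [TensorProduct.map_tmul, TensorProduct.map_tmul, LinearMap.mul'_apply, LinearMap.mul'_apply,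
      ← mul_sub]
    exact mul_mem_smul_left _ (h b)

theorem Cong.mul_right (h : Cong K P Q) : Cong K (P * S) (Q * S) := fun c => by
  rw [LinearMap.convMul_apply, LinearMap.convMul_apply]
  generalize comul (R := R) c = z
  induction z using TensorProduct.induction_on with
  | zero => simp
  | add a b ha hb => simp only [map_add] at ha hb ⊢; rw [add_sub_add_comm]; exact add_mem ha hb
  | tmul a b =>
    rw [TensorProduct.map_tmul, TensorProduct.map_tmul, LinearMap.mul'_apply, LinearMap.mul'_apply,
      ← sub_mul, mul_comm]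
    exact mul_mem_smul_left _ (h a)

theorem Cong.mul (h : Cong K P Q) (h' : Cong K P' Q') : Cong K (P * P') (Q * Q') :=
  h.mul_right.trans h'.mul_left

theorem cong_sub_mul_sub {K' : Ideal R} (h : Cong K P Q) (h' : Cong K' P' Q') (c : C) :
    ((P - Q) * (P' - Q')).ofConv c ∈ ((K * K') • ⊤ : Submodule R T) := by
  rw [LinearMap.convMul_apply]
  generalize comul (R := R) c = z
  induction z using TensorProduct.induction_on with
  | zero => simp
  | add a b ha hb => simp only [map_add] at ha hb ⊢; exact add_mem ha hb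
  | tmul a b =>
    rw [TensorProduct.map_tmul, LinearMap.mul'_apply]
    exact mul_mem_smul (h a) (h' b)

theorem Cong.comp {T' : Type u} [CommRing T'] [Algebra R T'] (L : T →ₗ[R] T') (h : Cong K P Q) :
    Cong K (toConv (L ∘ₗ P.ofConv)) (toConv (L ∘ₗ Q.ofConv)) := fun c => by
  show L (P.ofConv c) - L (Q.ofConv c) ∈ _
  rw [← map_sub]
  exact map_smul_top L (h c)

/-- Composition with an algebra map. -/
def convMap {T' : Type u} [CommRing T'] [Algebra R T'] (h : T →ₐ[R] T') :
    WithConv (C →ₐ[R] T) →* WithConv (C →ₐ[R] T') where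
  toFun f := toConv (h.comp f.ofConv)
  map_one' := by ext c; simp
  map_mul' f g := congrArg toConv (AlgHom.comp_convMul_distrib h f g)

theorem convMap_apply {T' : Type u} [CommRing T'] [Algebra R T'] (h : T →ₐ[R] T') (f : WithConv (C →ₐ[R] T)) :
    convMap h f = toConv (h.comp f.ofConv) := rfl

theorem convMap_convMap {T' T'' : Type u} [CommRing T'] [Algebra R T'] [CommRing T''] [Algebra R T'']
    (h : T →ₐ[R] T') (h' : T' →ₐ[R] T'') (f : WithConv (C →ₐ[R] T)) :
    convMap h' (convMap h f) = convMap (h'.comp h) f := rfl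

theorem lin_convMap {T' : Type u} [CommRing T'] [Algebra R T'] (h : T →ₐ[R] T') (f : WithConv (C →ₐ[R] T)) :
    lin (convMap h f) = toConv (h.toLinearMap ∘ₗ (lin f).ofConv) := rfl

/-- A semilinear map is linear for convolution on the right. -/
theorem comp_mul_right {T' : Type u} [CommRing T'] [Algebra R T'] (L : T →ₗ[R] T') (j : T' →ₗ[R] T)
    (hL : ∀ x y, L (x * j y) = L x * y) (P : WithConv (C →ₗ[R] T)) (q : WithConv (C →ₗ[R] T')) :
    toConv (L ∘ₗ (P * toConv (j ∘ₗ q.ofConv)).ofConv) = toConv (L ∘ₗ P.ofConv) * q := by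
  refine WithConv.ext (LinearMap.ext fun c => ?_)
  show L ((P * toConv (j ∘ₗ q.ofConv)).ofConv c) = _
  rw [LinearMap.convMul_apply, LinearMap.convMul_apply]
  generalize comul (R := R) c = z
  induction z using TensorProduct.induction_on with
  | zero => simp
  | add a b ha hb => simp only [map_add, ha, hb]
  | tmul a b => simp [hL]

/-- A semilinear map is linear for convolution on the left. -/
theorem comp_mul_left {T' : Type u} [CommRing T'] [Algebra R T'] (L : T →ₗ[R] T') (j : T' →ₗ[R] T)
    (hL : ∀ x y, L (x * j y) = L x * y) (P : WithConv (C →ₗ[R] T)) (q : WithConv (C →ₗ[R] T')) :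
    toConv (L ∘ₗ (toConv (j ∘ₗ q.ofConv) * P).ofConv) = q * toConv (L ∘ₗ P.ofConv) := by
  refine WithConv.ext (LinearMap.ext fun c => ?_)
  show L ((toConv (j ∘ₗ q.ofConv) * P).ofConv c) = _
  rw [LinearMap.convMul_apply, LinearMap.convMul_apply]
  generalize comul (R := R) c = z
  induction z using TensorProduct.induction_on with
  | zero => simp
  | add a b ha hb => simp only [map_add, ha, hb]
  | tmul a b =>
    simp only [TensorProduct.map_tmul, LinearMap.mul'_apply, LinearMap.comp_apply]
    rw [mul_comm, hL, mul_comm]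

/-- A map that is multiplicative up to `K * K` lifts to an algebra map. -/
theorem exists_lift_of_mean [Algebra.FormallySmooth R C] {T' : Type u} [CommRing T'] [Algebra R T']
    (L : T →ₗ[R] T') (j : T' →ₐ[R] T) (hL : ∀ x y, L (x * j y) = L x * y) (hL1 : L 1 = 1)
    (hK : IsNilpotent K) (F : C →ₐ[R] T) (f : C →ₐ[R] T')
    (hF : ∀ c, F c - j (f c) ∈ (K • ⊤ : Submodule R T)) :
    ∃ g : WithConv (C →ₐ[R] T'), Cong (K * K) (lin g) (toConv (L ∘ₗ F.toLinearMap)) ∧
      Cong K (lin g) (lin (toConv f)) := by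
  let J : Ideal T' := (K * K).map (algebraMap R T')
  have hJ : IsNilpotent J := by
    obtain ⟨n, hn⟩ := hK
    refine ⟨n, ?_⟩
    rw [← Ideal.map_pow, mul_pow, hn]
    simp
  have hLj : ∀ y, L (j y) = y := fun y => by rw [← one_mul (j y), hL, hL1, one_mul]
  have hmul : ∀ a b, L (F (a * b)) - L (F a) * L (F b) ∈ ((K * K) • ⊤ : Submodule R T') := by
    intro a b
    have key : F (a * b) = F a * j (f b) + F b * j (f a) - j (f a) * j (f b) +
        (F a - j (f a)) * (F b - j (f b)) := by rw [map_mul]; ring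
    have h1 : L (F (a * b)) = L (F a) * f b + L (F b) * f a - f a * f b +
        L ((F a - j (f a)) * (F b - j (f b))) := by
      rw [key, map_add, map_sub, map_add, hL, hL, hL, hLj]
    have h2 : ∀ c, L (F c) - f c ∈ (K • ⊤ : Submodule R T') := fun c => by
      rw [← hLj (f c), ← map_sub]; exact map_smul_top L (hF c)
    have h3 : L (F (a * b)) - L (F a) * L (F b) =
        L ((F a - j (f a)) * (F b - j (f b))) - (L (F a) - f a) * (L (F b) - f b) := by
      rw [h1]; ring
    rw [h3]
    exact sub_mem (map_smul_top L (mul_mem_smul (hF a) (hF b))) (mul_mem_smul (h2 a) (h2 b))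
  let gbar : C →ₐ[R] T' ⧸ J := AlgHom.ofLinearMap
    ((Ideal.Quotient.mkₐ R J).toLinearMap ∘ₗ L ∘ₗ F.toLinearMap)
    (by
      show Ideal.Quotient.mk J (L (F 1)) = 1
      rw [map_one, hL1, map_one])
    fun a b => by
      show Ideal.Quotient.mk J (L (F (a * b))) = Ideal.Quotient.mk J (L (F a)) * Ideal.Quotient.mk J (L (F b))
      rw [← map_mul, Ideal.Quotient.eq]
      have := hmul a b
      rwa [Ideal.smul_top_eq_map] at this
  let g := Algebra.FormallySmooth.lift J hJ gbar
  have hg : Cong (K * K) (lin (toConv g)) (toConv (L ∘ₗ F.toLinearMap)) := fun c => by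
    rw [Ideal.smul_top_eq_map]
    exact Ideal.Quotient.eq.mp (Algebra.FormallySmooth.mk_lift J hJ gbar c)
  refine ⟨toConv g, hg, (hg.mono Ideal.mul_le_right).trans fun c => ?_⟩
  show L (F c) - f c ∈ _
  rw [← hLj (f c), ← map_sub]
  exact map_smul_top L (hF c)

end Cong

theorem split_mul {S : Type*} [Ring S] (a b a₀ b₀ : S) :
    a * b = a * b₀ + a₀ * (b - b₀) + (a - a₀) * (b - b₀) := by noncomm_ring

section Mean

variable {R : Type u} [CommRing R] {A : Type u} [CommRing A] [HopfAlgebra R A]

/-- An invariant mean. -/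
structure Mean (R : Type u) [CommRing R] (A : Type u) [CommRing A] [Bialgebra R A] where
  /-- the functional -/
  μ : A →ₗ[R] R
  map_one' : μ 1 = 1
  inv : ∀ y : A, TensorProduct.rid R A (LinearMap.lTensor A μ (comul y)) = μ y • (1 : A)

variable (μ : Mean R A)

/-- Averaging the second variable. -/
def Mean.L (μ : Mean R A) : A ⊗[R] A →ₗ[R] A :=
  (TensorProduct.rid R A).toLinearMap ∘ₗ LinearMap.lTensor A μ.μ

theorem Mean.L_tmul (a b : A) : μ.L (a ⊗ₜ b) = μ.μ b • a := by simp [Mean.L]

theorem Mean.L_mul (x : A ⊗[R] A) (y : A) :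
    μ.L (x * (Algebra.TensorProduct.includeLeft : A →ₐ[R] A ⊗[R] A) y) = μ.L x * y := by
  induction x using TensorProduct.induction_on with
  | zero => simp
  | add a b ha hb => simp only [add_mul, map_add, ha, hb]
  | tmul a b => simp [Mean.L_tmul]

theorem Mean.L_one : μ.L 1 = 1 := by
  rw [Algebra.TensorProduct.one_def, Mean.L_tmul, μ.map_one', one_smul]

/-- Averaging the last of three variables. -/
def Mean.L3 (μ : Mean R A) : A ⊗[R] (A ⊗[R] A) →ₗ[R] A ⊗[R] A := LinearMap.lTensor A μ.L

/-- The first two of three variables. -/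
def embTwo (R : Type u) [CommRing R] (A : Type u) [CommRing A] [Algebra R A] :
    A ⊗[R] A →ₐ[R] A ⊗[R] (A ⊗[R] A) :=
  Algebra.TensorProduct.map (AlgHom.id R A) Algebra.TensorProduct.includeLeft

theorem Mean.L3_mul (x : A ⊗[R] (A ⊗[R] A)) (y : A ⊗[R] A) :
    μ.L3 (x * embTwo R A y) = μ.L3 x * y := by
  induction x using TensorProduct.induction_on with
  | zero => simp
  | add a b ha hb => simp only [add_mul, map_add, ha, hb]
  | tmul a w =>
    induction y using TensorProduct.induction_on with
    | zero => simp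
    | add p q hp hq => simp only [map_add, mul_add, hp, hq]
    | tmul p q =>
      rw [show embTwo R A (p ⊗ₜ q) = p ⊗ₜ (Algebra.TensorProduct.includeLeft : A →ₐ[R] A ⊗[R] A) q from rfl,
        Algebra.TensorProduct.tmul_mul_tmul]
      show (a * p) ⊗ₜ μ.L _ = (a ⊗ₜ μ.L w) * _
      rw [μ.L_mul, Algebra.TensorProduct.tmul_mul_tmul]

variable {C : Type u} [CommRing C] [HopfAlgebra R C]

/-- The defect of being a homomorphism. -/
def IsHomMod (K : Ideal R) (f : WithConv (C →ₐ[R] A)) : Prop :=
  Cong K (lin (convMap (Bialgebra.comulAlgHom R A) f))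
    (lin (convMap Algebra.TensorProduct.includeLeft f) * lin (convMap Algebra.TensorProduct.includeRight f))

set_option maxHeartbeats 4000000 in
/-- Averaging improves an almost homomorphism. -/
theorem Mean.exists_improve [Algebra.FormallySmooth R C] (μ : Mean R A) {K : Ideal R} (hK : IsNilpotent K)
    (f : WithConv (C →ₐ[R] A)) (hf : IsHomMod K f) :
    ∃ g, IsHomMod (K * K) g ∧ Cong K (lin g) (lin f) := by
  let iL : A →ₐ[R] A ⊗[R] A := Algebra.TensorProduct.includeLeft
  let iR : A →ₐ[R] A ⊗[R] A := Algebra.TensorProduct.includeRight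
  let Δ : A →ₐ[R] A ⊗[R] A := Bialgebra.comulAlgHom R A
  let F : WithConv (C →ₐ[R] A ⊗[R] A) := convMap Δ f * (convMap iR f)⁻¹
  have hF : Cong K (lin F) (lin (convMap iL f)) := by
    have h := hf.mul_right (S := lin (convMap iR f)⁻¹)
    rw [← map_mul, ← map_mul, ← map_mul] at h
    have e : convMap iL f * convMap iR f * (convMap iR f)⁻¹ = convMap iL f := mul_inv_cancel_right _ _
    exact e ▸ h
  obtain ⟨g, hg, hgf⟩ := exists_lift_of_mean μ.L iL μ.L_mul μ.L_one hK F.ofConv f.ofConv hF
  refine ⟨g, ?_, hgf⟩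
  let f' : WithConv (C →ₗ[R] A) := toConv (μ.L ∘ₗ F.ofConv.toLinearMap)
  -- the three variable identity
  let M3 : A ⊗[R] A →ₐ[R] A ⊗[R] (A ⊗[R] A) :=
    (Algebra.TensorProduct.assoc R R R A A A).toAlgHom.comp (Algebra.TensorProduct.map Δ (AlgHom.id R A))
  let N3 : A ⊗[R] A →ₐ[R] A ⊗[R] (A ⊗[R] A) := Algebra.TensorProduct.map (AlgHom.id R A) Δ
  let R3 : A ⊗[R] A →ₐ[R] A ⊗[R] (A ⊗[R] A) := Algebra.TensorProduct.includeRight
  have hco : M3.comp Δ = N3.comp Δ := AlgHom.ext fun a => by
    show (TensorProduct.assoc R A A A) (LinearMap.rTensor A (comul (R := R)) (comul a)) = _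
    rw [Coalgebra.coassoc_apply]
    rfl
  have hN : N3.comp iR = R3.comp Δ := AlgHom.ext fun a => rfl
  have hM : M3.comp iR = R3.comp iR := AlgHom.ext fun a => by
    simp [M3, R3, iR, Algebra.TensorProduct.one_def]
  have hF3 : convMap M3 F = convMap N3 F * convMap R3 F := by
    simp only [F, map_mul, map_inv, convMap_convMap, hco, hN, hM]
    rw [mul_assoc (convMap (N3.comp Δ) f) _ (_ * _), inv_mul_cancel_left]
  let P := lin (convMap N3 F)
  let Q := lin (convMap R3 F)
  let p0 : WithConv (C →ₗ[R] A ⊗[R] A) := toConv (iL.toLinearMap ∘ₗ f'.ofConv)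
  let q0 : WithConv (C →ₗ[R] A ⊗[R] A) := toConv (iR.toLinearMap ∘ₗ f'.ofConv)
  let P0 : WithConv (C →ₗ[R] A ⊗[R] (A ⊗[R] A)) := toConv ((embTwo R A).toLinearMap ∘ₗ p0.ofConv)
  let Q0 : WithConv (C →ₗ[R] A ⊗[R] (A ⊗[R] A)) := toConv ((embTwo R A).toLinearMap ∘ₗ q0.ofConv)
  have hf' : Cong K f' (lin f) := (hg.mono Ideal.mul_le_right).symm.trans hgf
  have hP : Cong K P P0 := by
    refine (hF.comp N3.toLinearMap).trans fun c => ?_
    show N3 (iL (f.ofConv c)) - embTwo R A (iL (f'.ofConv c)) ∈ _
    rw [show N3 (iL (f.ofConv c)) = embTwo R A (iL (f.ofConv c)) by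
      simp [N3, iL, embTwo, Δ, Algebra.TensorProduct.one_def], ← map_sub, ← map_sub]
    exact map_smul_top ((embTwo R A).comp iL).toLinearMap (hf'.symm c)
  have hQ : Cong K Q Q0 := by
    refine (hF.comp R3.toLinearMap).trans fun c => ?_
    show R3 (iL (f.ofConv c)) - embTwo R A (iR (f'.ofConv c)) ∈ _
    rw [show R3 (iL (f.ofConv c)) = embTwo R A (iR (f.ofConv c)) from rfl, ← map_sub, ← map_sub]
    exact map_smul_top ((embTwo R A).comp iR).toLinearMap (hf'.symm c)
  have e1 : ∀ w, μ.L3 (M3 w) = Δ (μ.L w) := fun w => by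
    induction w using TensorProduct.induction_on with
    | zero => simp
    | add a b ha hb => simp only [map_add, ha, hb]
    | tmul a b =>
      rw [Mean.L_tmul, map_smul]
      show μ.L3 (Algebra.TensorProduct.assoc R R R A A A (Δ a ⊗ₜ b)) = _
      generalize Δ a = z
      induction z using TensorProduct.induction_on with
      | zero => simp
      | add p q hp hq => simp only [TensorProduct.add_tmul, map_add, smul_add, hp, hq]
      | tmul p q =>
        rw [Algebra.TensorProduct.assoc_tmul]
        show p ⊗ₜ μ.L (q ⊗ₜ b) = _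
        rw [Mean.L_tmul, TensorProduct.tmul_smul]
  have e2 : ∀ w, μ.L3 (N3 w) = iL (μ.L w) := fun w => by
    induction w using TensorProduct.induction_on with
    | zero => simp
    | add a b ha hb => simp only [map_add, ha, hb]
    | tmul a b =>
      show a ⊗ₜ μ.L (comul b) = _
      rw [show μ.L (comul b) = μ.μ b • (1 : A) from μ.inv b, Mean.L_tmul, map_smul, TensorProduct.tmul_smul]
      rfl
  have e3 : ∀ w, μ.L3 (R3 w) = iR (μ.L w) := fun w => rfl
  have e4 : ∀ a, μ.L3 (embTwo R A a) = a := fun a => by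
    rw [← one_mul (embTwo R A a), μ.L3_mul, show μ.L3 1 = 1 from (by
      show (1 : A) ⊗ₜ μ.L 1 = _
      rw [μ.L_one]; rfl), one_mul]
  have key : ∀ c, Δ (f'.ofConv c) - (p0 * q0).ofConv c ∈ ((K * K) • ⊤ : Submodule R (A ⊗[R] A)) := by
    intro c
    have h1 : Δ (f'.ofConv c) = μ.L3 ((P * Q).ofConv c) := by
      show Δ (μ.L (F.ofConv c)) = _
      rw [← e1, ← map_mul, ← hF3]
      rfl
    have hPQ : P * Q = P * Q0 + toConv ((embTwo R A).toLinearMap ∘ₗ p0.ofConv) * (Q - Q0) +
        (P - P0) * (Q - Q0) := by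
      show P * Q = P * Q0 + P0 * (Q - Q0) + (P - P0) * (Q - Q0)
      exact split_mul P Q P0 Q0
    have h2 : toConv (μ.L3 ∘ₗ (P * Q0).ofConv) = p0 * q0 := by
      rw [comp_mul_right μ.L3 (embTwo R A).toLinearMap μ.L3_mul]
      congr 1
      exact WithConv.ext (LinearMap.ext fun d => e2 _)
    have h3 : toConv (μ.L3 ∘ₗ (toConv ((embTwo R A).toLinearMap ∘ₗ p0.ofConv) * (Q - Q0)).ofConv) = 0 := by
      rw [comp_mul_left μ.L3 (embTwo R A).toLinearMap μ.L3_mul]
      refine mul_eq_zero_of_right _ (WithConv.ext (LinearMap.ext fun d => ?_))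
      show μ.L3 (Q.ofConv d - Q0.ofConv d) = 0
      rw [map_sub, sub_eq_zero]
      exact (e3 _).trans (e4 _).symm
    have h2' := LinearMap.congr_fun (congrArg WithConv.ofConv h2) c
    have h3' := LinearMap.congr_fun (congrArg WithConv.ofConv h3) c
    simp only [WithConv.ofConv_toConv, LinearMap.comp_apply, WithConv.ofConv_zero, LinearMap.zero_apply] at h2' h3'
    rw [h1, hPQ, WithConv.ofConv_add, WithConv.ofConv_add, LinearMap.add_apply, LinearMap.add_apply, map_add,
      map_add, h2', h3', add_zero, add_sub_cancel_left]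
    exact map_smul_top μ.L3 (cong_sub_mul_sub hP hQ c)
  refine (hg.comp Δ.toLinearMap).trans (Cong.trans key ?_)
  exact (hg.comp iL.toLinearMap).symm.mul (hg.comp iR.toLinearMap).symm

/-- An exact homomorphism is a morphism of bialgebras. -/
theorem exists_bialgHom_of_isHomMod (g : WithConv (C →ₐ[R] A)) (hg : IsHomMod ⊥ g) :
    ∃ φ : C →ₐc[R] A, ∀ c, φ c = g.ofConv c := by
  have hcomul : convMap (Bialgebra.comulAlgHom R A) g =
      convMap Algebra.TensorProduct.includeLeft g * convMap Algebra.TensorProduct.includeRight g := by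
    refine WithConv.ext (AlgHom.ext fun c => sub_eq_zero.mp ?_)
    have := hg c
    rw [Submodule.bot_smul, Submodule.mem_bot, ← map_mul] at this
    exact this
  have hu : convMap (Bialgebra.counitAlgHom R A) g = 1 := by
    let m : A ⊗[R] A →ₐ[R] R := Algebra.TensorProduct.lift (Bialgebra.counitAlgHom R A)
      (Bialgebra.counitAlgHom R A) fun _ _ => .all _ _
    have h := congrArg (convMap m) hcomul
    rw [map_mul, convMap_convMap, convMap_convMap, convMap_convMap] at h
    have e1 : m.comp (Bialgebra.comulAlgHom R A) = Bialgebra.counitAlgHom R A := AlgHom.ext fun a => by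
      have h2 := congrArg (counit (R := R)) (congrArg (TensorProduct.lid R A) (Coalgebra.rTensor_counit_comul (R := R) a))
      simp only [TensorProduct.lid_tmul, one_smul] at h2
      rw [AlgHom.comp_apply, Bialgebra.counitAlgHom_apply, ← h2, Bialgebra.comulAlgHom_apply]
      generalize comul (R := R) a = z
      induction z using TensorProduct.induction_on with
      | zero => simp
      | add p q hp hq => simp only [map_add, hp, hq]
      | tmul p q => simp [m]
    have e2 : m.comp Algebra.TensorProduct.includeLeft = Bialgebra.counitAlgHom R A :=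
      AlgHom.ext fun a => by simp [m]
    have e3 : m.comp Algebra.TensorProduct.includeRight = Bialgebra.counitAlgHom R A :=
      AlgHom.ext fun a => by simp [m]
    rw [e1, e2, e3] at h
    exact mul_left_cancel (a := convMap (Bialgebra.counitAlgHom R A) g) (by rw [mul_one]; exact h.symm)
  refine ⟨BialgHom.ofAlgHom g.ofConv ?_ ?_, fun c => rfl⟩
  · exact AlgHom.ext fun c => (congrArg (fun z : WithConv (C →ₐ[R] R) => z.ofConv c) hu).trans (by simp)
  · refine AlgHom.ext fun c => Eq.symm ?_
    refine (congrArg (fun z : WithConv (C →ₐ[R] A ⊗[R] A) => z.ofConv c) hcomul).trans ?_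
    rw [AlgHom.convMul_apply]
    show _ = Algebra.TensorProduct.map g.ofConv g.ofConv (comul c)
    generalize comul (R := R) c = z
    induction z using TensorProduct.induction_on with
    | zero => simp
    | add p q hp hq => simp only [map_add, hp, hq]
    | tmul p q => simp [convMap_apply]

/-- Homomorphisms are exact. -/
theorem isHomMod_bialgHom (K : Ideal R) (φ : C →ₐc[R] A) : IsHomMod K (toConv (φ : C →ₐ[R] A)) := by
  intro c
  suffices h : (lin (convMap (Bialgebra.comulAlgHom R A) (toConv (φ : C →ₐ[R] A)))).ofConv c =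
      (lin (convMap (Algebra.TensorProduct.includeLeft : A →ₐ[R] A ⊗[R] A) (toConv (φ : C →ₐ[R] A))) *
        lin (convMap (Algebra.TensorProduct.includeRight : A →ₐ[R] A ⊗[R] A) (toConv (φ : C →ₐ[R] A)))).ofConv c by
    rw [h, sub_self]; exact zero_mem _
  rw [LinearMap.convMul_apply]
  show comul (φ c) = _
  rw [← CoalgHomClass.map_comp_comul_apply]
  generalize comul (R := R) c = z
  induction z using TensorProduct.induction_on with
  | zero => simp
  | add p q hp hq => simp only [map_add, hp, hq]
  | tmul p q => simp [convMap_apply]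

set_option maxHeartbeats 2000000 in
/-- Almost homomorphisms to smooth groups can be corrected. -/
theorem Mean.exists_bialgHom [Algebra.FormallySmooth R C] (μ : Mean R A) {K : Ideal R} (hK : IsNilpotent K)
    (f : WithConv (C →ₐ[R] A)) (hf : IsHomMod K f) :
    ∃ φ : C →ₐc[R] A, ∀ c, φ c - f.ofConv c ∈ (K • ⊤ : Submodule R A) := by
  have h : ∀ k : ℕ, ∃ g, IsHomMod (K ^ 2 ^ k) g ∧ Cong K (lin g) (lin f) := by
    intro k
    induction k with
    | zero => exact ⟨f, by simpa using hf, Cong.refl _⟩
    | succ k ih =>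
      obtain ⟨g, hg, hgf⟩ := ih
      have hle : K ^ 2 ^ k ≤ K := Ideal.pow_le_self (by positivity)
      obtain ⟨g', hg', hgg⟩ := μ.exists_improve (hK.pow_of_pos (Nat.two_pow_pos k).ne') g hg
      refine ⟨g', ?_, (hgg.mono hle).trans hgf⟩
      rwa [pow_succ, pow_mul, pow_two]
  obtain ⟨n, hn⟩ := hK
  obtain ⟨g, hg, hgf⟩ := h n
  have h0 : K ^ 2 ^ n = ⊥ := pow_eq_zero_of_le Nat.lt_two_pow_self.le hn
  rw [h0] at hg
  obtain ⟨φ, hφ⟩ := exists_bialgHom_of_isHomMod g hg
  exact ⟨φ, fun c => by rw [hφ]; exact hgf c⟩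

set_option maxHeartbeats 4000000 in
/-- Congruent homomorphisms are conjugate, one step. -/
theorem Mean.exists_conj_step [Algebra.FormallySmooth R C] (μ : Mean R A) {K : Ideal R} (hK : IsNilpotent K)
    {A₂ : Type u} [CommRing A₂] [HopfAlgebra R A₂] (α : A₂ →ₐc[R] A) (β : C →ₐc[R] A) (γ : C →ₐc[R] A₂)
    (h : ∀ c, α (γ c) - β c ∈ (K • ⊤ : Submodule R A)) :
    ∃ γ' : C →ₐc[R] A₂, (∀ c, γ' c - γ c ∈ (K • ⊤ : Submodule R A₂)) ∧
      ∀ c, α (γ' c) - β c ∈ ((K * K) • ⊤ : Submodule R A) := by
  let iL : A →ₐ[R] A ⊗[R] A := Algebra.TensorProduct.includeLeft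
  let iR : A →ₐ[R] A ⊗[R] A := Algebra.TensorProduct.includeRight
  let Δ : A →ₐ[R] A ⊗[R] A := Bialgebra.comulAlgHom R A
  let b : WithConv (C →ₐ[R] A) := toConv (β : C →ₐ[R] A)
  let d : WithConv (C →ₐ[R] A) := convMap (α : A₂ →ₐ[R] A) (toConv (γ : C →ₐ[R] A₂))
  have hb : convMap Δ b = convMap iL b * convMap iR b := by
    refine WithConv.ext (AlgHom.ext fun c => sub_eq_zero.mp ?_)
    have := isHomMod_bialgHom ⊥ β c
    rw [Submodule.bot_smul, Submodule.mem_bot, ← map_mul] at this
    exact this
  have hd : convMap Δ d = convMap iL d * convMap iR d := by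
    refine WithConv.ext (AlgHom.ext fun c => sub_eq_zero.mp ?_)
    have := isHomMod_bialgHom ⊥ (α.comp γ) c
    rw [Submodule.bot_smul, Submodule.mem_bot, ← map_mul] at this
    exact this
  have hbd : Cong K (lin d) (lin b) := h
  let D : WithConv (C →ₐ[R] A) := b * d⁻¹
  have hD1 : Cong K (lin D) (lin (1 : WithConv (C →ₐ[R] A))) := by
    have := hbd.symm.mul_right (S := lin d⁻¹)
    rwa [← map_mul, ← map_mul, mul_inv_cancel] at this
  have hD : ∀ c, D.ofConv c - Algebra.ofId R A ((Bialgebra.counitAlgHom R C) c) ∈ (K • ⊤ : Submodule R A) := fun c => by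
    have := hD1 c
    simpa using this
  obtain ⟨g, hg, hg1⟩ := exists_lift_of_mean μ.μ (Algebra.ofId R A) (fun x y => by
    rw [Algebra.ofId_apply, mul_comm, ← Algebra.smul_def, map_smul, smul_eq_mul, mul_comm]) μ.map_one' hK
    D.ofConv (Bialgebra.counitAlgHom R C) hD
  -- the invariance of the mean
  let n : WithConv (C →ₗ[R] A) := toConv (Algebra.linearMap R A ∘ₗ μ.μ ∘ₗ D.ofConv.toLinearMap)
  have hn : lin b * n * lin d⁻¹ = n := by
    have e : convMap Δ D = convMap iL b * convMap iR D * convMap iL d⁻¹ := by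
      simp only [D, map_mul, map_inv, hb, hd]
      group
    have e' := congrArg (fun z => toConv (μ.L ∘ₗ (lin z).ofConv)) e
    simp only [map_mul, lin_convMap] at e'
    rw [comp_mul_right μ.L iL.toLinearMap μ.L_mul, comp_mul_left μ.L iL.toLinearMap μ.L_mul] at e'
    have e5 : toConv (μ.L ∘ₗ (iR.toLinearMap ∘ₗ (lin D).ofConv)) = n :=
      WithConv.ext (LinearMap.ext fun c => by
        show μ.L ((1 : A) ⊗ₜ D.ofConv c) = algebraMap R A (μ.μ (D.ofConv c))
        rw [Mean.L_tmul, Algebra.algebraMap_eq_smul_one])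
    have e6 : toConv (μ.L ∘ₗ (Δ.toLinearMap ∘ₗ (lin D).ofConv)) = n :=
      WithConv.ext (LinearMap.ext fun c => by
        show μ.L (comul (D.ofConv c)) = algebraMap R A (μ.μ (D.ofConv c))
        rw [Algebra.algebraMap_eq_smul_one]
        exact μ.inv _)
    rw [e5, e6] at e'
    exact e'.symm
  let G : WithConv (C →ₐ[R] A) := convMap (Algebra.ofId R A) g
  let G₂ : WithConv (C →ₐ[R] A₂) := convMap (Algebra.ofId R A₂) g
  have hGn : Cong (K * K) (lin G) n := hg.comp (Algebra.linearMap R A)
  have hconj : Cong (K * K) (lin (b * G)) (lin (G * d)) := by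
    have h1 : lin b * n = n * lin d := by
      conv_rhs => rw [← hn, mul_assoc, ← map_mul, inv_mul_cancel, map_one, mul_one]
    rw [map_mul, map_mul]
    exact (hGn.mul_left.trans (h1 ▸ Cong.refl _)).trans hGn.symm.mul_right
  let e : WithConv (C →ₐ[R] A₂) := G₂ * toConv (γ : C →ₐ[R] A₂) * G₂⁻¹
  have hinv : ∀ (T : Type u) [CommRing T] [Algebra R T] (h : A₂ →ₐ[R] T),
      convMap h G₂ = convMap (Algebra.ofId R T) g := fun T _ _ h => by
    rw [convMap_convMap]; rw [Subsingleton.elim (h.comp (Algebra.ofId R A₂)) (Algebra.ofId R T)]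
  have he : IsHomMod ⊥ e := by
    intro c
    have h1 : convMap (Bialgebra.comulAlgHom R A₂) e =
        convMap Algebra.TensorProduct.includeLeft e * convMap Algebra.TensorProduct.includeRight e := by
      have hγ : convMap (Bialgebra.comulAlgHom R A₂) (toConv (γ : C →ₐ[R] A₂)) =
          convMap Algebra.TensorProduct.includeLeft (toConv (γ : C →ₐ[R] A₂)) *
            convMap Algebra.TensorProduct.includeRight (toConv (γ : C →ₐ[R] A₂)) := by
        refine WithConv.ext (AlgHom.ext fun c => sub_eq_zero.mp ?_)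
        have := isHomMod_bialgHom ⊥ γ c
        rw [Submodule.bot_smul, Submodule.mem_bot, ← map_mul] at this
        exact this
      simp only [e, map_mul, map_inv, hinv, hγ]
      group
    rw [h1, map_mul, sub_self]
    exact zero_mem _
  obtain ⟨γ', hγ'⟩ := exists_bialgHom_of_isHomMod e he
  refine ⟨γ', fun c => ?_, fun c => ?_⟩
  · rw [hγ']
    have hG2 : Cong K (lin G₂) 1 := by
      have h1 := hg1.comp (Algebra.linearMap R A₂)
      rwa [show toConv (Algebra.linearMap R A₂ ∘ₗ (lin (toConv (Bialgebra.counitAlgHom R C))).ofConv) = 1 from rfl,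
        show toConv (Algebra.linearMap R A₂ ∘ₗ (lin g).ofConv) = lin G₂ from rfl] at h1
    have hG2' : Cong K (lin G₂⁻¹) 1 := by
      have h1 := (hG2.mul_left (S := lin G₂⁻¹)).symm
      rwa [← map_mul, inv_mul_cancel, map_one, mul_one] at h1
    have h1 := (hG2.mul_right (S := lin (toConv (γ : C →ₐ[R] A₂)))).mul hG2'
    rw [one_mul, mul_one, ← map_mul, ← map_mul] at h1
    exact h1 c
  · rw [hγ']
    have h1 : convMap (α : A₂ →ₐ[R] A) e = G * d * G⁻¹ := by
      simp only [e, map_mul, map_inv, hinv]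
      rfl
    have h2 := (hconj.symm.mul_right (S := lin G⁻¹))
    rw [← map_mul, ← map_mul, mul_inv_cancel_right, ← h1] at h2
    exact h2 c

end Mean

end Groth.Agent.MultTypeLib
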