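import Groth.Agent.MultTypeLib.SchemeBridge

/-!
# Groups of multiplicative type, of arbitrary type

Affineness, base change and the Hopf algebra form for groups fpqc-locally isomorphic to diagonalisable groups, without
finiteness conditions.
-/

universe u

open CategoryTheory CategoryTheory.Limits MonoidalCategory CartesianMonoidalCategory MonObj AlgebraicGeometry
open TensorProduct

namespace Groth.Agent.MultTypeLib.GenMultType

open GrpSchLib.AffineHopf GrpSchLib GrpSchLib.MultTypeBC TransLib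

/-- Fpqc-locally isomorphic to a diagonalisable group. -/
def IsMT {S : Scheme.{u}} (H : Over S) [GrpObj H] : Prop :=
  TwC.Locally S TwC.Topology.fpqc (fun S' f => ∃ (M : Type) (_ : AddCommGroup M),
    Nonempty (Grp.mk (Red.bc f H) ≅ Grp.mk (Red.DS S' M)))

/-- Finite type is a special case. -/
theorem of_multTypeFT {S : Scheme.{u}} {H : Over S} [GrpObj H] (hH : SGA3x.IsMultTypeFT H) : IsMT H := by
  obtain ⟨S', f, hflat, hsurj, hqc, hloc⟩ := hH
  refine ⟨S', f, hflat, hsurj, hqc, fun s' => ?_⟩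
  obtain ⟨U, hU, M, iM, -, e⟩ := hloc s'
  exact ⟨U, hU, M, iM, e⟩

/-- A group of multiplicative type is affine over the base. -/
theorem isAffineHom {S : Scheme.{u}} {H : Over S} [GrpObj H] (hH : IsMT H) :
    IsAffineHom H.hom := by
  classical
  obtain ⟨S', f, hflat, hsurj, hqc, hloc⟩ := hH
  choose O hO M hM hiso using hloc
  have hbc : ∀ (s' : S') {T : Scheme.{u}} [IsAffine T] (t : T ⟶ (O s' : Scheme.{u})),
      ∃ e : pullback H.hom (t ≫ (O s').ι ≫ f) ≅ (Red.DS T (M s')).left,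
        e.hom ≫ (Red.DS T (M s')).hom = pullback.snd H.hom (t ≫ (O s').ι ≫ f) := by
    intro s' T _ t
    obtain ⟨i⟩ := hiso s'
    let j : Red.bc ((O s').ι ≫ f) H ≅ Red.DS (O s' : Scheme.{u}) (M s') :=
      ⟨i.hom.hom.hom, i.inv.hom.hom, congrArg (fun h => h.hom.hom) i.hom_inv_id,
        congrArg (fun h => h.hom.hom) i.inv_hom_id⟩
    have h0 : Limits.IsTerminal.from specULiftZIsTerminal T = t ≫ Limits.IsTerminal.from specULiftZIsTerminal _ :=
      specULiftZIsTerminal.hom_ext _ _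
    let k : Red.bc (t ≫ (O s').ι ≫ f) H ≅ Red.DS T (M s') :=
      (Over.pullbackComp t ((O s').ι ≫ f)).app H ≪≫ (Over.pullback t).mapIso j ≪≫
        ((Over.pullbackComp t (Limits.IsTerminal.from specULiftZIsTerminal (O s' : Scheme.{u}))).app
          (Red.diag (ULift.{u} ℤ) (M s'))).symm ≪≫
        (eqToIso (congrArg (fun z => Red.bc z (Red.diag (ULift.{u} ℤ) (M s'))) h0)).symm
    exact ⟨(Over.forget _).mapIso k, Over.w k.hom⟩
  haveI := EtFound.fpqc_isAffineHom.{u}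
  have haff : IsAffineHom H.hom := by
    have hcov : FpqcDescLib.Covers f :=
      FpqcDescLib.covers_of_hcov f ⟨S', f, 𝟙 _, Category.id_comp _, hsurj, hflat, hqc⟩
    refine hcov.descends @IsAffineHom H.hom (pullback.snd H.hom f) (pullback.fst H.hom f)
      (IsPullback.of_hasPullback H.hom f).flip ?_
    refine IsZariskiLocalAtTarget.of_forall_exists_morphismRestrict fun s' => ?_
    obtain ⟨B, hB, hsB, hBO⟩ := exists_isAffineOpen_mem_and_subset (hO s')
    refine ⟨B, hsB, ?_⟩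
    haveI : IsAffine (B : Scheme.{u}) := hB
    obtain ⟨e, he⟩ := hbc s' (S'.homOfLE hBO)
    haveI := (exists_chart_DS (T := (B : Scheme.{u})) (M s')).1
    have ht : S'.homOfLE hBO ≫ (O s').ι ≫ f = B.ι ≫ f := Scheme.homOfLE_ι_assoc _ _ _
    have H1 : IsPullback ((pullback.snd H.hom f ⁻¹ᵁ B).ι ≫ pullback.fst H.hom f) (pullback.snd H.hom f ∣_ B) H.hom
        (B.ι ≫ f) :=
      (isPullback_morphismRestrict _ B).flip.paste_horiz (IsPullback.of_hasPullback H.hom f)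
    rw [← ht] at H1
    rw [← H1.isoPullback_hom_snd, ← he]
    infer_instance
  exact haff

/-- Groups of multiplicative type are stable under base change. -/
theorem isMT_bc {S T : Scheme.{u}} (g : T ⟶ S) {H : Over S} [GrpObj H] (hH : IsMT H) :
    IsMT (Red.bc g H) := by
  obtain ⟨S', f, hflat, hsurj, hqc, hloc⟩ := hH
  have hcf : FpqcDescLib.Covers f :=
    FpqcDescLib.covers_of_hcov f ⟨S', f, 𝟙 _, Category.id_comp _, hsurj, hflat, hqc⟩
  obtain ⟨Z, r, hr⟩ := hcf.pullback g (pullback.fst g f) (pullback.snd g f) (IsPullback.of_hasPullback g f)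
  obtain ⟨hfl, hcov⟩ := SubgroupEqLocus.flat_hcov_of_isCovering hr
  refine ⟨Z, r ≫ pullback.fst g f, hfl, ⟨fun x => ?_⟩, hcov, fun z => ?_⟩
  · obtain ⟨V, hV, hxV, -⟩ := exists_isAffineOpen_mem_and_subset (show x ∈ (⊤ : T.Opens) from trivial)
    obtain ⟨W, -, hW⟩ := hcov V hV
    have hx : x ∈ (V : Set T) := hxV
    rw [← hW] at hx
    obtain ⟨w, -, hw⟩ := hx
    exact ⟨w, hw⟩
  · obtain ⟨U, hzU, M, iM, ⟨e⟩⟩ := hloc ((r ≫ pullback.snd g f) z)
    let U' : Z.Opens := (r ≫ pullback.snd g f) ⁻¹ᵁ U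
    let l : (U' : Scheme.{u}) ⟶ U := (r ≫ pullback.snd g f) ∣_ U
    have hl : (U'.ι ≫ r ≫ pullback.fst g f) ≫ g = l ≫ U.ι ≫ f := by
      rw [← Category.assoc l, morphismRestrict_ι, Category.assoc, Category.assoc, Category.assoc, Category.assoc,
        pullback.condition]
    obtain ⟨e₁⟩ := bc_bc (U'.ι ≫ r ≫ pullback.fst g f) g H
    obtain ⟨e₂⟩ := bc_congr hl H
    obtain ⟨e₃⟩ := bc_bc l (U.ι ≫ f) H
    obtain ⟨e₄⟩ := bc_iso l e
    obtain ⟨e₅⟩ := bc_DS l M
    exact ⟨U', hzU, M, iM, ⟨e₁ ≪≫ e₂ ≪≫ e₃.symm ≪≫ e₄ ≪≫ e₅⟩⟩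

/-- A group of multiplicative type over an affine base comes from a Hopf algebra of multiplicative
type. -/
theorem exists_hopf_multType {R : Type u} [CommRing R] (H : Over (Spec (CommRingCat.of R))) [GrpObj H]
    (hH : IsMT H) :
    ∃ (A : Type u) (_ : CommRing A) (_ : HopfAlgebra R A),
      SGA3b.IsMultType R A ∧ Nonempty (Grp.mk (sp R A) ≅ Grp.mk H) := by
  classical
  haveI : IsAffineHom H.hom := isAffineHom hH
  haveI : IsAffine H.left := isAffine_of_isAffineHom H.hom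
  obtain ⟨A, _, _, ⟨eA⟩⟩ := exists_hopf H
  refine ⟨A, inferInstance, inferInstance, ?_, ⟨eA⟩⟩
  obtain ⟨S', f, hflat, hsurj, hqc, hloc⟩ := hH
  choose O hO M hM hiso using hloc
  obtain ⟨W, hWc, hWU⟩ := hqc ⊤ (isAffineOpen_top _)
  have hex : ∀ w : W, ∃ B : S'.Opens, IsAffineOpen B ∧ (w : S') ∈ B ∧ B ≤ O w := fun w => by
    obtain ⟨B, hB, hwB, hBle⟩ := exists_isAffineOpen_mem_and_subset (hO w)
    exact ⟨B, hB, hwB, hBle⟩
  choose B hBa hwB hBO using hex
  obtain ⟨t, ht⟩ := hWc.elim_finite_subcover (fun w => (B w : Set S')) (fun w => (B w).2)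
    fun w hw => Set.mem_iUnion.mpr ⟨⟨w, hw⟩, hwB _⟩
  let S : {w // w ∈ t} → Type u := fun w => Γ(S', B w.1)
  let v : ∀ w : {w // w ∈ t}, Spec (CommRingCat.of (S w)) ⟶ Spec (CommRingCat.of R) := fun w =>
    (hBa w.1).fromSpec ≫ f
  let φ : ∀ w, CommRingCat.of R ⟶ CommRingCat.of (S w) := fun w => Spec.preimage (v w)
  letI : ∀ w, Algebra R (S w) := fun w => (φ w).hom.toAlgebra
  have hv : ∀ w, Spec.map (CommRingCat.ofHom (algebraMap R (S w))) = v w := fun w => Spec.map_preimage (v w)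
  haveI : ∀ w, Module.Flat R (S w) := fun w => by
    haveI : Flat (Spec.map (φ w)) := by
      rw [show Spec.map (φ w) = v w from Spec.map_preimage (v w)]
      infer_instance
    exact (HasRingHomProperty.Spec_iff (P := @Flat)).mp ‹Flat (Spec.map (φ w))›
  refine isMultType_of_flatCover S (fun p hp => ?_) (fun w => ?_)
  · obtain ⟨y, hy, hyp⟩ : (⟨p, hp⟩ : PrimeSpectrum R) ∈ f.base '' (W : Set S') := by
      rw [hWU]; trivial
    obtain ⟨w, hw, hyw⟩ := Set.mem_iUnion₂.mp (ht hy)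
    obtain ⟨q, hq⟩ : y ∈ Set.range (hBa w).fromSpec := by rw [(hBa w).range_fromSpec]; exact hyw
    have hqp : v ⟨w, hw⟩ q = (⟨p, hp⟩ : PrimeSpectrum R) := by
      rw [Scheme.Hom.comp_apply, hq]
      exact hyp
    rw [← hv] at hqp
    exact ⟨⟨w, hw⟩, q.asIdeal, q.2, congrArg PrimeSpectrum.asIdeal hqp⟩
  · obtain ⟨e₀⟩ := hiso w.1
    let l : Spec (CommRingCat.of (S w)) ⟶ (O w.1 : Scheme.{u}) :=
      (hBa w.1).isoSpec.inv ≫ S'.homOfLE (hBO w.1)
    have hl : Spec.map (CommRingCat.ofHom (algebraMap R (S w))) = l ≫ (O w.1).ι ≫ f := by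
      rw [hv]
      simp only [v, l, Category.assoc, Scheme.homOfLE_ι_assoc]
      rw [← IsAffineOpen.isoSpec_inv_ι, Category.assoc]
    letI := hM w.1
    obtain ⟨e₁⟩ := nonempty_bc_sp (R := R) (S w) A
    obtain ⟨e₂⟩ := GrpSchLib.MultTypeBC.bc_iso (Spec.map (CommRingCat.ofHom (algebraMap R (S w)))) eA
    obtain ⟨e₃⟩ := nonempty_bc_iso _ _ hl H
    obtain ⟨e₄⟩ := GrpSchLib.MultTypeBC.bc_bc l ((O w.1).ι ≫ f) H
    obtain ⟨e₅⟩ := GrpSchLib.MultTypeBC.bc_iso l e₀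
    obtain ⟨e₆⟩ := GrpSchLib.MultTypeBC.bc_DS l (M w.1)
    obtain ⟨e₇⟩ := nonempty_DS_iso (S w) (M w.1)
    obtain ⟨d⟩ := SchemeBridge.nonempty_bialgEquiv
      (e₁.symm ≪≫ e₂ ≪≫ e₃ ≪≫ e₄.symm ≪≫ e₅ ≪≫ e₆ ≪≫ e₇.symm)
    exact ⟨ULift.{u} (Multiplicative (M w.1)), inferInstance,
      ⟨d.symm.trans (MonoidAlgebra.domCongrBialgEquiv (S w) (S w) MulEquiv.ulift.symm)⟩⟩

end Groth.Agent.MultTypeLib.GenMultType
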