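import Groth.Agent.MultTypeLib.TorsionCrit
import Groth.Agent.GeomSep.Basic
import Mathlib.RingTheory.Spectrum.Prime.Chevalley
import Mathlib.RingTheory.Spectrum.Prime.Topology
import Mathlib.Topology.Connected.Clopen

/-!
# Connected groups over fields have no idempotent vanishing at the origin
-/

universe u

open TensorProduct Coalgebra Bialgebra IsLocalRing PrimeSpectrum

noncomputable section

namespace Groth.Agent.MultTypeLib

/-- A connected spectrum has only trivial idempotents. -/
theorem idem_trivial {A : Type u} [CommRing A] [ConnectedSpace (PrimeSpectrum A)] {a : A}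
    (ha : IsIdempotentElem a) : a = 0 ∨ a = 1 := by
  rcases _root_.isClopen_iff.mp (PrimeSpectrum.isClopen_iff.mpr ⟨a, ha, rfl⟩ :
    IsClopen (PrimeSpectrum.basicOpen a : Set (PrimeSpectrum A))) with h | h
  · refine Or.inl (PrimeSpectrum.basicOpen_injOn_isIdempotentElem ha IsIdempotentElem.zero ?_)
    exact SetLike.ext' (by simpa using h)
  · refine Or.inr (PrimeSpectrum.basicOpen_injOn_isIdempotentElem ha IsIdempotentElem.one ?_)
    exact SetLike.ext' (by simpa using h)

/-- A ring with only trivial idempotents has connected spectrum. -/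
theorem connectedSpace_of_idem {A : Type u} [CommRing A] [Nontrivial A]
    (h : ∀ a : A, IsIdempotentElem a → a = 0 ∨ a = 1) : ConnectedSpace (PrimeSpectrum A) := by
  have : PreconnectedSpace (PrimeSpectrum A) := preconnectedSpace_iff_clopen.mpr fun s hs => by
    obtain ⟨a, ha, rfl⟩ := PrimeSpectrum.exists_idempotent_basicOpen_eq_of_isClopen hs
    rcases h a ha with rfl | rfl
    · exact Or.inl (by simp)
    · exact Or.inr (by simp)
  obtain ⟨m, hm⟩ := Ideal.exists_maximal A
  exact ⟨⟨⟨m, hm.isPrime⟩⟩⟩

section Section

variable {k : Type u} [Field k] {A : Type u} [CommRing A] [Algebra k A] [Algebra.FiniteType k A]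
  [ConnectedSpace (PrimeSpectrum A)]

/-- Over a finite extension, an idempotent of a connected algebra with a point is detected by the point. -/
theorem idem_eq_zero_of_point (ε : A →ₐ[k] k) (E : Type u) [Field E] [Algebra k E] [Module.Finite k E]
    {f : A ⊗[k] E} (hf : IsIdempotentElem f)
    (h0 : Algebra.TensorProduct.lift ((Algebra.ofId k E).comp ε) (AlgHom.id k E) (fun _ _ => .all _ _) f = 0) :
    f = 0 := by
  let B := A ⊗[k] E
  let ε' : B →ₐ[k] E := Algebra.TensorProduct.lift ((Algebra.ofId k E).comp ε) (AlgHom.id k E) fun _ _ => .all _ _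
  by_contra hne
  have : Algebra.FinitePresentation k E := Algebra.FinitePresentation.of_finiteType.mp inferInstance
  have : Algebra.FinitePresentation A B := inferInstance
  have : Module.Finite A B := inferInstance
  let U : Set (PrimeSpectrum B) := basicOpen f
  have hUc : IsClopen U := PrimeSpectrum.isClopen_iff.mpr ⟨f, hf, rfl⟩
  have himg : IsClopen (comap (algebraMap A B) '' U) :=
    ⟨isClosedMap_comap_of_isIntegral _ (algebraMap_isIntegral_iff.mpr inferInstance) _ hUc.1,
      isOpenMap_comap_of_hasGoingDown_of_finitePresentation _ hUc.2⟩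
  have hUne : U.Nonempty := by
    rw [Set.nonempty_iff_ne_empty]
    intro h
    refine hne (PrimeSpectrum.basicOpen_injOn_isIdempotentElem hf IsIdempotentElem.zero ?_)
    exact SetLike.ext' (by simpa [U] using h)
  have huniv : comap (algebraMap A B) '' U = Set.univ :=
    (_root_.isClopen_iff.mp himg).resolve_left (hUne.image _).ne_empty
  obtain ⟨q, hq, hqp⟩ := (huniv ▸ Set.mem_univ _ : (⟨RingHom.ker ε, RingHom.ker_isPrime _⟩ : PrimeSpectrum A) ∈
    comap (algebraMap A B) '' U)
  have hz : ∀ z : B, z - (1 : A) ⊗ₜ[k] ε' z ∈ q.asIdeal := fun z => by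
    induction z using TensorProduct.induction_on with
    | zero => simp
    | add a b ha hb =>
      rw [map_add, TensorProduct.tmul_add, add_sub_add_comm]
      exact add_mem ha hb
    | tmul a x =>
      have h1 : a - algebraMap k A (ε a) ∈ RingHom.ker ε := by
        rw [RingHom.mem_ker, map_sub, AlgHom.commutes, Algebra.algebraMap_self, RingHom.id_apply, sub_self]
      have h2 : algebraMap A B (a - algebraMap k A (ε a)) ∈ q.asIdeal := by
        have : a - algebraMap k A (ε a) ∈ (comap (algebraMap A B) q).asIdeal := by rw [hqp]; exact h1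
        exact this
      have h3 : ε' (a ⊗ₜ x) = ε a • x := by
        rw [Algebra.smul_def]
        exact Algebra.TensorProduct.lift_tmul _ _ _ _ _
      rw [h3, TensorProduct.tmul_smul, TensorProduct.smul_tmul', ← TensorProduct.sub_tmul]
      have h4 : (a - ε a • (1 : A)) ⊗ₜ[k] x =
          algebraMap A B (a - algebraMap k A (ε a)) * ((1 : A) ⊗ₜ[k] x) := by
        rw [Algebra.TensorProduct.algebraMap_apply, Algebra.TensorProduct.tmul_mul_tmul, one_mul, mul_one,
          Algebra.algebraMap_self, RingHom.id_apply, Algebra.algebraMap_eq_smul_one]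
      rw [h4]
      exact q.asIdeal.mul_mem_right _ h2
  refine hq ?_
  have := hz f
  rwa [show ε' f = 0 from h0, TensorProduct.tmul_zero, sub_zero] at this

/-- A connected algebra with a rational point is geometrically connected. -/
theorem connectedSpace_of_point (ε : A →ₐ[k] k) (K : Type u) [Field K] [Algebra k K] :
    ConnectedSpace (PrimeSpectrum (K ⊗[k] A)) := by
  let Ω := AlgebraicClosure k
  suffices ConnectedSpace (PrimeSpectrum (Ω ⊗[k] A)) from GeomSep.geometricallyConnected_of_isSepClosed Ω K
  let εΩ : Ω ⊗[k] A →ₐ[k] Ω := Algebra.TensorProduct.lift (AlgHom.id k Ω) ((Algebra.ofId k Ω).comp ε)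
    fun _ _ => .all _ _
  have : Nontrivial (Ω ⊗[k] A) := εΩ.toRingHom.domain_nontrivial
  have hzero : ∀ a : Ω ⊗[k] A, IsIdempotentElem a → εΩ a = 0 → a = 0 := by
    intro a ha h0
    obtain ⟨E, _, x, _, rfl, -⟩ := GeomSep.exists_finite_intermediateField a 0
    let i := Algebra.TensorProduct.map E.val (AlgHom.id k A)
    have hi : Function.Injective i := GeomSep.map_intermediateField_injective E
    have hx : IsIdempotentElem x := hi (by rw [map_mul]; exact ha.eq)
    let c := Algebra.TensorProduct.comm k E A
    have h1 : c x = 0 := by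
      refine idem_eq_zero_of_point ε E (hx.map c) (E.val.toRingHom.injective ?_)
      rw [map_zero, ← h0]
      clear h0 ha hx
      induction x using TensorProduct.induction_on with
      | zero => simp
      | add a b ha hb => simp only [map_add, ha, hb]
      | tmul e a => simp [c, εΩ, mul_comm]
    rw [show x = 0 from c.injective (h1.trans (map_zero c).symm), map_zero]
  refine connectedSpace_of_idem fun a ha => ?_
  rcases IsIdempotentElem.iff_eq_zero_or_one.mp (ha.map εΩ) with h | h
  · exact Or.inl (hzero a ha h)
  · refine Or.inr (sub_eq_zero.mp (hzero _ ha.one_sub ?_)).symm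
    rw [map_sub, map_one, h, sub_self]

end Section

set_option maxHeartbeats 1000000 in
/-- An idempotent vanishing at the origin vanishes if all fibres are connected. -/
theorem idem_eq_zero_of_connected_fibres {R : Type u} [CommRing R] {C : Type u} [CommRing C] [HopfAlgebra R C]
    [Algebra.FiniteType R C] (T : Type u) [CommRing T] [Algebra R T]
    (hconn : ∀ (p : Ideal R) [p.IsPrime], ConnectedSpace (PrimeSpectrum (p.ResidueField ⊗[R] C)))
    {e : T ⊗[R] C} (he : IsIdempotentElem e) (hce : counit (R := T) e = 0) : e = 0 := by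
  refine eq_of_isNilpotent_sub_of_isIdempotentElem he .zero ?_
  rw [sub_zero, nilpotent_iff_mem_prime]
  intro q hq
  let r := q.comap (algebraMap T (T ⊗[R] C))
  let p := r.comap (algebraMap R T)
  let K := r.ResidueField
  let κ := p.ResidueField
  let _ : Algebra κ K := (Ideal.ResidueField.mapₐ p r (Algebra.ofId R T) rfl).toRingHom.toAlgebra
  have : IsScalarTower R κ K := IsScalarTower.of_algebraMap_eq fun x =>
    ((Ideal.ResidueField.mapₐ p r (Algebra.ofId R T) rfl).commutes x).symm
  have := hconn p
  have := connectedSpace_of_point (Bialgebra.counitAlgHom κ (κ ⊗[R] C)) K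
  -- the image in the fibre
  let φ : T ⊗[R] C →ₐ[R] K ⊗[κ] (κ ⊗[R] C) :=
    Algebra.TensorProduct.lift ((Algebra.TensorProduct.includeLeft : K →ₐ[R] K ⊗[κ] (κ ⊗[R] C)).comp
        (IsScalarTower.toAlgHom R T K))
      (((Algebra.TensorProduct.includeRight : κ ⊗[R] C →ₐ[κ] K ⊗[κ] (κ ⊗[R] C)).restrictScalars R).comp
        Algebra.TensorProduct.includeRight) fun _ _ => .all _ _
  have hφε : ∀ z : T ⊗[R] C, counit (R := K) (φ z) = algebraMap T K (counit (R := T) z) := fun z => by
    induction z using TensorProduct.induction_on with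
    | zero => simp
    | add a b ha hb => simp only [map_add, ha, hb]
    | tmul t c =>
      simp [φ, Algebra.TensorProduct.tmul_mul_tmul, TensorProduct.counit_tmul, Algebra.smul_def,
        ← IsScalarTower.algebraMap_apply, mul_comm]
  have h0 : φ e = 0 := by
    rcases idem_trivial (he.map φ) with h | h
    · exact h
    · exfalso
      have h1 := hφε e
      rw [h, hce, map_zero, Bialgebra.counit_one] at h1
      exact one_ne_zero h1
  -- evaluation at the prime
  let L := q.ResidueField
  let jr : K →ₐ[R] L := (Ideal.ResidueField.mapₐ r q (Algebra.ofId T (T ⊗[R] C)) rfl).restrictScalars R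
  let _ : Algebra κ L := (jr.toRingHom.comp (algebraMap κ K)).toAlgebra
  have : IsScalarTower R κ L := IsScalarTower.of_algebraMap_eq fun x => by
    show _ = jr (algebraMap κ K (algebraMap R κ x))
    rw [← IsScalarTower.algebraMap_apply, jr.commutes]
  let j' : K →ₐ[κ] L := { jr.toRingHom with commutes' := fun _ => rfl }
  let g : κ ⊗[R] C →ₐ[κ] L := Algebra.TensorProduct.lift (Algebra.ofId κ L)
    ((IsScalarTower.toAlgHom R (T ⊗[R] C) L).comp Algebra.TensorProduct.includeRight) fun _ _ => .all _ _
  let ev : K ⊗[κ] (κ ⊗[R] C) →ₐ[κ] L := Algebra.TensorProduct.lift j' g fun _ _ => .all _ _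
  have hev : ∀ z, ev (φ z) = algebraMap (T ⊗[R] C) L z := fun z => by
    induction z using TensorProduct.induction_on with
    | zero => simp
    | add a b ha hb => simp only [map_add, ha, hb]
    | tmul t c =>
      have h1 : jr (algebraMap T K t) = algebraMap (T ⊗[R] C) L (t ⊗ₜ 1) := by
        show (Ideal.ResidueField.mapₐ r q (Algebra.ofId T (T ⊗[R] C)) rfl) (algebraMap T K t) = _
        rw [AlgHom.commutes, IsScalarTower.algebraMap_apply T (T ⊗[R] C) L]
        rfl
      calc ev (φ (t ⊗ₜ c)) = jr (algebraMap T K t) * algebraMap (T ⊗[R] C) L ((1 : T) ⊗ₜ c) := by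
            simp [φ, ev, g, j']
        _ = _ := by rw [h1, ← map_mul, Algebra.TensorProduct.tmul_mul_tmul, mul_one, one_mul]
  have h2 := hev e
  rw [h0, map_zero] at h2
  exact Ideal.algebraMap_residueField_eq_zero.mp h2.symm

/-- Local criterion with connected fibres. -/
theorem isMultType_local_of_connected {R : Type u} [CommRing R] [IsLocalRing R] {C : Type u} [CommRing C]
    [HopfAlgebra R C] [Algebra.FinitePresentation R C]
    (hfl : ∀ (q : Ideal C) [q.IsPrime], Ideal.map (algebraMap R C) (maximalIdeal R) ≤ q →
      Module.Flat R (Localization.AtPrime q))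
    (hs : SGA3b.IsMultType (ResidueField R) (ResidueField R ⊗[R] C))
    (hconn : ∀ (p : Ideal R) [p.IsPrime], ConnectedSpace (PrimeSpectrum (p.ResidueField ⊗[R] C))) :
    SGA3b.IsMultType R C := by
  obtain ⟨T, _, _, _, _, e, he, -, hce, D, _, _, π, hπ, hker, hiso⟩ := exists_local_idem hfl hs
  have h0 : e = 0 := idem_eq_zero_of_connected_fibres T hconn he hce
  refine isMultType_of_idem_zero T π hπ (fun x hx => ?_) hiso
  have h := (hker x).mp hx
  rw [h0, Ideal.span_singleton_eq_bot.mpr rfl] at h
  exact h

end Groth.Agent.MultTypeLib
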