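import Groth.Agent.MultTypeLib.Torsion
import Groth.Agent.MultTypeLib.Build
import Mathlib.RingTheory.HopfAlgebra.Quotient
import Mathlib.RingTheory.HopfAlgebra.Convolution
import Mathlib.RingTheory.Bialgebra.Convolution

/-!
# Kernels as Hopf ideals; groups of multiplicative type are commutative
-/

universe u

open WithConv TensorProduct Coalgebra Bialgebra

noncomputable section

namespace Groth.Agent.MultTypeLib

variable {R : Type u} [CommRing R] {A : Type u} [CommRing A] [HopfAlgebra R A]
variable {C : Type u} [CommRing C] [HopfAlgebra R C]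

/-- Morphisms of Hopf algebras commute with the antipodes. -/
theorem antipode_comm (φ : C →ₐc[R] A) (c : C) :
    HopfAlgebra.antipode R (φ c) = φ (HopfAlgebra.antipode R c) := by
  let f : WithConv (C →ₐ[R] A) := toConv (φ : C →ₐ[R] A)
  have h1 : toConv ((HopfAlgebra.antipodeAlgHom R A).comp (φ : C →ₐ[R] A)) * f = 1 := by
    have h := AlgHom.convMul_comp_bialgHom_distrib (toConv (HopfAlgebra.antipodeAlgHom R A))
      (toConv (AlgHom.id R A)) φ
    rw [AlgHom.antipode_id_cancel] at h
    have h' : toConv ((HopfAlgebra.antipodeAlgHom R A).comp (φ : C →ₐ[R] A)) *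
        toConv ((AlgHom.id R A).comp (φ : C →ₐ[R] A)) =
        toConv (((1 : WithConv (A →ₐ[R] A)).ofConv).comp (φ : C →ₐ[R] A)) := by
      rw [h]
    rw [AlgHom.id_comp] at h'
    rw [h']
    refine WithConv.ext (AlgHom.ext fun x => ?_)
    show algebraMap R A (counit (R := R) (φ x)) = algebraMap R A (counit (R := R) x)
    rw [CoalgHomClass.counit_comp_apply φ]
  have h2 := eq_inv_of_mul_eq_one_left (G := WithConv (C →ₐ[R] A)) h1
  exact DFunLike.congr_fun (congrArg WithConv.ofConv h2) c

/-- The kernel of a morphism of groups is a Hopf ideal. -/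
theorem isHopfIdeal_map_ker (φ : C →ₐc[R] A) :
    (Ideal.map φ (RingHom.ker (counitAlgHom R C))).IsHopfIdeal R := by
  set J := Ideal.map φ (RingHom.ker (counitAlgHom R C)) with hJ
  let q : A →ₐ[R] A ⧸ J := Ideal.Quotient.mkₐ R J
  have hq : ∀ c, q (φ c) = algebraMap R (A ⧸ J) (counit (R := R) c) := fun c => by
    have h0 : φ (c - algebraMap R C (counit (R := R) c)) ∈ J :=
      Ideal.mem_map_of_mem φ (show c - algebraMap R C (counit (R := R) c) ∈ RingHom.ker (counitAlgHom R C) by
        simp [RingHom.mem_ker])
    have h1 : q (φ (c - algebraMap R C (counit (R := R) c))) = 0 := Ideal.Quotient.eq_zero_iff_mem.mpr h0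
    rwa [map_sub, map_sub, AlgHomClass.commutes φ, AlgHom.commutes, sub_eq_zero] at h1
  have hcounit : J ≤ RingHom.ker (counitAlgHom R A) := by
    rw [hJ, Ideal.map_le_iff_le_comap]
    intro c hc
    rw [Ideal.mem_comap, RingHom.mem_ker]
    show counit (R := R) (φ c) = 0
    rw [CoalgHomClass.counit_comp_apply φ]
    exact hc
  let Δq : A →ₐ[R] (A ⧸ J) ⊗[R] (A ⧸ J) := (Algebra.TensorProduct.map q q).comp (Bialgebra.comulAlgHom R A)
  have hcomul : J ≤ RingHom.ker Δq := by
    conv_lhs => rw [hJ]
    rw [Ideal.map_le_iff_le_comap]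
    intro c hc
    rw [Ideal.mem_comap, RingHom.mem_ker]
    show Algebra.TensorProduct.map q q (comul (R := R) (φ c)) = 0
    rw [← CoalgHomClass.map_comp_comul_apply φ c]
    have e : ∀ y : C ⊗[R] C, Algebra.TensorProduct.map q q
        (TensorProduct.map (φ : C →ₗ[R] A) (φ : C →ₗ[R] A) y) =
        algebraMap R _ (LinearMap.mul' R R (TensorProduct.map counit counit y)) := by
      intro y
      induction y using TensorProduct.induction_on with
      | zero => simp
      | add a b ha hb => simp only [map_add, ha, hb]
      | tmul a b =>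
        rw [TensorProduct.map_tmul, TensorProduct.map_tmul, LinearMap.mul'_apply, map_mul]
        show q (φ a) ⊗ₜ[R] q (φ b) = _
        rw [hq, hq, Algebra.TensorProduct.algebraMap_apply, Algebra.TensorProduct.algebraMap_apply,
          Algebra.TensorProduct.tmul_mul_tmul, mul_one, ← map_mul,
          Algebra.algebraMap_eq_smul_one, Algebra.algebraMap_eq_smul_one, Algebra.algebraMap_eq_smul_one]
        simp [TensorProduct.smul_tmul, TensorProduct.tmul_smul, smul_smul, mul_comm]
    rw [e]
    have h2 : LinearMap.mul' R R (TensorProduct.map counit counit (comul (R := R) c)) = counit (R := R) c := by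
      have h3 := Coalgebra.rTensor_counit_comul (R := R) c
      have h4 : ∀ y : C ⊗[R] C, LinearMap.mul' R R (TensorProduct.map counit counit y) =
          counit (R := R) (TensorProduct.lid R C (LinearMap.rTensor C counit y)) := by
        intro y
        induction y using TensorProduct.induction_on with
        | zero => simp
        | add a b ha hb => simp only [map_add, ha, hb]
        | tmul a b => simp
      rw [h4, h3]
      simp
    rw [h2, show counit (R := R) c = 0 from hc, map_zero]
  exact
    { counit_eq_zero := fun x hx => hcounit hx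
      map_mkQ_comul_eq_zero := fun x hx => hcomul hx
      antipode_mem := fun x hx => by
        have hle : J ≤ J.comap (HopfAlgebra.antipodeAlgHom R A) := by
          conv_lhs => rw [hJ]
          rw [Ideal.map_le_iff_le_comap]
          intro c hc
          rw [Ideal.mem_comap, Ideal.mem_comap]
          show HopfAlgebra.antipode R (φ c) ∈ J
          rw [antipode_comm]
          refine Ideal.mem_map_of_mem φ ?_
          rw [RingHom.mem_ker] at hc ⊢
          exact (DFunLike.congr_fun (AlgHom.counitAlgHom_comp_antipodeAlgHom (R := R) (A := C)) c).trans hc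
        exact hle hx }

theorem comm_comul_monoidAlgebra {S : Type u} [CommRing S] {M : Type u} [CommGroup M] (x : MonoidAlgebra S M) :
    TensorProduct.comm S _ _ (comul (R := S) x) = comul (R := S) x := by
  induction x using MonoidAlgebra.induction_linear with
  | zero => simp
  | add x y hx hy => simp only [map_add, hx, hy]
  | single m r =>
    rw [show MonoidAlgebra.single m r = r • MonoidAlgebra.single m (1 : S) by simp, map_smul,
      comul_single_one, map_smul, TensorProduct.comm_tmul]

theorem Split.comul_comm (P : Split R A) (a : A) :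
    (1 : P.S) ⊗ₜ[R] (TensorProduct.comm R A A (comul a)) = (1 : P.S) ⊗ₜ[R] comul a := by
  let E : P.S ⊗[R] A ≃ₗ[P.S] MonoidAlgebra P.S P.M := P.equiv.toLinearEquiv
  let D : P.S ⊗[R] (A ⊗[R] A) ≃ₗ[P.S] MonoidAlgebra P.S P.M ⊗[P.S] MonoidAlgebra P.S P.M :=
    (AlgebraTensorModule.distribBaseChange R P.S A A).trans (TensorProduct.congr E E)
  have hD : ∀ y : A ⊗[R] A, D (1 ⊗ₜ y) = sq P.S P.hom.toAlgHom y := by
    intro y
    induction y using TensorProduct.induction_on with
    | zero => simp
    | add x y hx hy => simp only [TensorProduct.tmul_add, map_add, hx, hy]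
    | tmul p q =>
      rw [sq_tmul]
      show TensorProduct.congr E E (((1 : P.S) ⊗ₜ[R] p) ⊗ₜ[P.S] ((1 : P.S) ⊗ₜ[R] q)) = _
      rw [TensorProduct.congr_tmul]
      show P.equiv _ ⊗ₜ[P.S] P.equiv _ = _
      rw [P.equiv_tmul, P.equiv_tmul]
  have hswap : ∀ y : A ⊗[R] A, sq P.S P.hom.toAlgHom (TensorProduct.comm R A A y) =
      TensorProduct.comm P.S _ _ (sq P.S P.hom.toAlgHom y) := by
    intro y
    induction y using TensorProduct.induction_on with
    | zero => simp
    | add x y hx hy => simp only [map_add, hx, hy]
    | tmul p q => simp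
  apply D.injective
  rw [hD, hD, hswap, ← P.hom.comul_comp]
  exact comm_comul_monoidAlgebra _

/-- Groups of multiplicative type are commutative. -/
theorem isCocomm_of_isMultType (hA : SGA3b.IsMultType R A) : Coalgebra.IsCocomm R A := by
  obtain ⟨c⟩ := exists_cover hA
  exact ⟨LinearMap.ext fun a => sub_eq_zero.mp (c.module_ext _ fun i => by
    rw [TensorProduct.tmul_sub, sub_eq_zero]
    exact (c.split i).comul_comm a)⟩

/-- The power endomorphisms of a commutative group, as morphisms of bialgebras. -/
def powBialg [Coalgebra.IsCocomm R A] (n : ℕ) : A →ₐc[R] A :=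
  WithConv.ofConv ((toConv (BialgHom.id R A)) ^ n)

theorem powBialg_apply [Coalgebra.IsCocomm R A] (n : ℕ) (a : A) : powBialg (R := R) n a = SGA3b.powConv R A n a := by
  have h := congrArg WithConv.ofConv (BialgHom.toAlgHom_convPow (toConv (BialgHom.id R A)) n)
  exact DFunLike.congr_fun h a

/-- The torsion ideals are Hopf ideals. -/
theorem isHopfIdeal_torsionIdeal (hA : SGA3b.IsMultType R A) (n : ℕ) :
    (SGA3b.torsionIdeal R A n).IsHopfIdeal R := by
  have := isCocomm_of_isMultType hA
  have e : SGA3b.torsionIdeal R A n = Ideal.map (powBialg (R := R) n) (RingHom.ker (counitAlgHom R A)) := by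
    rw [SGA3b.torsionIdeal, Ideal.map, Ideal.map]
    congr 2
    funext a
    exact (powBialg_apply n a).symm
  rw [e]
  exact isHopfIdeal_map_ker _

end Groth.Agent.MultTypeLib
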