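import Groth.Agent.GrpSchLib.AffineHopf
import Groth.Agent.GrpSchLib.MultTypeBC
import Groth.Agent.TransLib.MultEssFree
import Groth.Agent.MultTypeLib.CoverType
import Groth.Prelude.Def_SGA3x

/-!
# Groups of multiplicative type over an affine base in Hopf algebra form
-/

universe u

open CategoryTheory CategoryTheory.Limits MonoidalCategory CartesianMonoidalCategory MonObj AlgebraicGeometry
open TensorProduct

namespace Groth.Agent.MultTypeLib.SchemeBridge

open GrpSchLib.AffineHopf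

/-- Isomorphic spectra of Hopf algebras come from isomorphic bialgebras. -/
theorem nonempty_bialgEquiv {R : Type u} [CommRing R] {A B : Type u} [CommRing A] [CommRing B] [HopfAlgebra R A]
    [HopfAlgebra R B] (e : Grp.mk (sp R A) ≅ Grp.mk (sp R B)) : Nonempty (B ≃ₐc[R] A) := by
  haveI : IsMonHom e.hom.hom.hom := e.hom.hom.isMonHom_hom
  haveI : IsMonHom e.inv.hom.hom := e.inv.hom.isMonHom_hom
  obtain ⟨φ, hφ⟩ := exists_bialgHom e.hom.hom.hom
  obtain ⟨ψ, hψ⟩ := exists_bialgHom e.inv.hom.hom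
  have h1 : (φ : B →ₐ[R] A).comp (ψ : A →ₐ[R] B) = AlgHom.id R A := by
    refine spMap_injective ?_
    rw [← spMap_comp, ← hφ, ← hψ, spMap_id]
    exact congrArg (fun h => h.hom.hom) e.hom_inv_id
  have h2 : (ψ : A →ₐ[R] B).comp (φ : B →ₐ[R] A) = AlgHom.id R B := by
    refine spMap_injective ?_
    rw [← spMap_comp, ← hφ, ← hψ, spMap_id]
    exact congrArg (fun h => h.hom.hom) e.inv_hom_id
  exact ⟨BialgEquiv.ofBijective φ ⟨fun x y h => (DFunLike.congr_fun h2 x).symm.trans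
    ((congrArg ψ h).trans (DFunLike.congr_fun h2 y)), fun a => ⟨ψ a, DFunLike.congr_fun h1 a⟩⟩⟩

/-- A group of multiplicative type and of finite type over an affine base comes from a Hopf algebra of multiplicative
type. -/
theorem exists_hopf_multType {R : Type u} [CommRing R] (H : Over (Spec (CommRingCat.of R))) [GrpObj H]
    (hH : SGA3x.IsMultTypeFT H) :
    ∃ (A : Type u) (_ : CommRing A) (_ : HopfAlgebra R A),
      SGA3b.IsMultType R A ∧ Nonempty (Grp.mk (sp R A) ≅ Grp.mk H) := by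
  classical
  haveI : IsAffineHom H.hom := (TransLib.multTypeFT_essFree hH).1
  haveI : IsAffine H.left := isAffine_of_isAffineHom H.hom
  obtain ⟨A, _, _, ⟨eA⟩⟩ := exists_hopf H
  refine ⟨A, inferInstance, inferInstance, ?_, ⟨eA⟩⟩
  obtain ⟨S', f, hflat, hsurj, hqc, hloc⟩ := hH
  choose O hO M hM _ hiso using hloc
  obtain ⟨W, hWc, hWU⟩ := hqc ⊤ (isAffineOpen_top _)
  have hex : ∀ w : W, ∃ B : S'.Opens, IsAffineOpen B ∧ (w : S') ∈ B ∧ B ≤ O w := fun w => by
    obtain ⟨B, hB, hwB, hBle⟩ := exists_isAffineOpen_mem_and_subset (hO w)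
    exact ⟨B, hB, hwB, hBle⟩
  choose B hBa hwB hBO using hex
  obtain ⟨t, ht⟩ := hWc.elim_finite_subcover (fun w => (B w : Set S')) (fun w => (B w).2)
    fun w hw => Set.mem_iUnion.mpr ⟨⟨w, hw⟩, hwB _⟩
  let S : {w // w ∈ t} → Type u := fun w => Γ(S', B w.1)
  let v : ∀ w : {w // w ∈ t}, Spec (CommRingCat.of (S w)) ⟶ Spec (CommRingCat.of R) := fun w =>
    (hBa w.1).fromSpec ≫ f
  let φ : ∀ w, CommRingCat.of R ⟶ CommRingCat.of (S w) := fun w => Spec.preimage (v w)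
  letI : ∀ w, Algebra R (S w) := fun w => (φ w).hom.toAlgebra
  have hv : ∀ w, Spec.map (CommRingCat.ofHom (algebraMap R (S w))) = v w := fun w => Spec.map_preimage (v w)
  haveI : ∀ w, Module.Flat R (S w) := fun w => by
    haveI : Flat (Spec.map (φ w)) := by
      rw [show Spec.map (φ w) = v w from Spec.map_preimage (v w)]
      infer_instance
    exact (HasRingHomProperty.Spec_iff (P := @Flat)).mp ‹Flat (Spec.map (φ w))›
  refine isMultType_of_flatCover S (fun p hp => ?_) (fun w => ?_)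
  · obtain ⟨y, hy, hyp⟩ : (⟨p, hp⟩ : PrimeSpectrum R) ∈ f.base '' (W : Set S') := by
      rw [hWU]; trivial
    obtain ⟨w, hw, hyw⟩ := Set.mem_iUnion₂.mp (ht hy)
    obtain ⟨q, hq⟩ : y ∈ Set.range (hBa w).fromSpec := by rw [(hBa w).range_fromSpec]; exact hyw
    have hqp : v ⟨w, hw⟩ q = (⟨p, hp⟩ : PrimeSpectrum R) := by
      rw [Scheme.Hom.comp_apply, hq]
      exact hyp
    rw [← hv] at hqp
    exact ⟨⟨w, hw⟩, q.asIdeal, q.2, congrArg PrimeSpectrum.asIdeal hqp⟩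
  · obtain ⟨e₀⟩ := hiso w.1
    let l : Spec (CommRingCat.of (S w)) ⟶ (O w.1 : Scheme.{u}) :=
      (hBa w.1).isoSpec.inv ≫ S'.homOfLE (hBO w.1)
    have hl : Spec.map (CommRingCat.ofHom (algebraMap R (S w))) = l ≫ (O w.1).ι ≫ f := by
      rw [hv]
      simp only [v, l, Category.assoc, Scheme.homOfLE_ι_assoc]
      rw [← IsAffineOpen.isoSpec_inv_ι, Category.assoc]
    letI := hM w.1
    obtain ⟨e₁⟩ := nonempty_bc_sp (R := R) (S w) A
    obtain ⟨e₂⟩ := GrpSchLib.MultTypeBC.bc_iso (Spec.map (CommRingCat.ofHom (algebraMap R (S w)))) eA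
    obtain ⟨e₃⟩ := nonempty_bc_iso _ _ hl H
    obtain ⟨e₄⟩ := GrpSchLib.MultTypeBC.bc_bc l ((O w.1).ι ≫ f) H
    obtain ⟨e₅⟩ := GrpSchLib.MultTypeBC.bc_iso l e₀
    obtain ⟨e₆⟩ := GrpSchLib.MultTypeBC.bc_DS l (M w.1)
    obtain ⟨e₇⟩ := nonempty_DS_iso (S w) (M w.1)
    obtain ⟨d⟩ := nonempty_bialgEquiv
      (e₁.symm ≪≫ e₂ ≪≫ e₃ ≪≫ e₄.symm ≪≫ e₅ ≪≫ e₆ ≪≫ e₇.symm)
    exact ⟨ULift.{u} (Multiplicative (M w.1)), inferInstance,
      ⟨d.symm.trans (MonoidAlgebra.domCongrBialgEquiv (S w) (S w) MulEquiv.ulift.symm)⟩⟩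

end Groth.Agent.MultTypeLib.SchemeBridge
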