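import Groth.Agent.MultTypeLib.Coeff
import Mathlib.RingTheory.Ideal.IdempotentFG
import Mathlib.RingTheory.Filtration
import Mathlib.RingTheory.LocalRing.Basic
import Mathlib.RingTheory.Adjoin.Basic
import Mathlib.RingTheory.FiniteType

/-!
# Rigidity over a local base
-/

universe u v w

open WithConv TensorProduct Coalgebra Bialgebra

noncomputable section

namespace Groth.Agent.MultTypeLib

variable {R : Type u} [CommRing R] {A : Type u} [CommRing A] [HopfAlgebra R A]

theorem exists_ff_split [IsLocalRing R] (h : SGA3b.IsMultType R A) :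
    ∃ P : Split R A, Module.FaithfullyFlat R P.S := by
  obtain ⟨c⟩ := exists_cover h
  obtain ⟨i, q, hq, hqm⟩ := c.surj (IsLocalRing.maximalIdeal R) (IsLocalRing.maximalIdeal.isMaximal R).isPrime
  refine ⟨c.split i, { submodule_ne_top := fun m hm h => ?_ }⟩
  rw [IsLocalRing.eq_maximalIdeal hm, Ideal.smul_top_eq_map, Submodule.restrictScalars_eq_top_iff] at h
  refine hq.ne_top (top_le_iff.mp ?_)
  rw [← h, Ideal.map_le_iff_le_comap, hqm]

/-- The cover by one faithfully flat extension. -/
def Cover.single (P : Split R A) [Module.FaithfullyFlat R P.S] : Cover R A where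
  ι := PUnit
  split _ := P
  surj p hp := by
    obtain ⟨⟨q, hq⟩, hqp⟩ := PrimeSpectrum.comap_surjective_of_faithfullyFlat (A := R) (B := P.S) ⟨p, hp⟩
    exact ⟨⟨⟩, q, hq, congrArg PrimeSpectrum.asIdeal hqp⟩

theorem Split.eq_of_hom (P : Split R A) [Module.FaithfullyFlat R P.S] (a b : A)
    (h : P.hom.toAlgHom a = P.hom.toAlgHom b) : a = b :=
  (Cover.single P).eq_of_hom a b fun _ => h

theorem Split.flat_self (P : Split R A) [Module.FaithfullyFlat R P.S] : Module.Flat R A := by
  have : Module.Flat P.S (P.S ⊗[R] A) := .of_linearEquiv P.equiv.toLinearEquiv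
  exact Module.Flat.of_flat_tensorProduct R A P.S

theorem coeff_hom_mem {S : Type v} [CommRing S] [Algebra R S] {M : Type w} [CommGroup M]
    (f : A →ₐ[R] MonoidAlgebra S M) (I : Ideal R) {x : A} (hx : x ∈ I.map (algebraMap R A)) (m : M) :
    (f x).coeff m ∈ I.map (algebraMap R S) := by
  have h : f x ∈ (I.map (algebraMap R S)).map (algebraMap S (MonoidAlgebra S M)) := by
    have := Ideal.mem_map_of_mem f hx
    rwa [Ideal.map_map, ← IsScalarTower.algebraMap_eq, ← f.comp_algebraMap, ← Ideal.map_map]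
  suffices ∀ m, (f x).coeff m ∈ I.map (algebraMap R S) from this m
  generalize f x = y at h
  induction h using Submodule.span_induction with
  | mem y hy =>
    obtain ⟨a, ha, rfl⟩ := hy
    intro m
    rw [MonoidAlgebra.coe_algebraMap, Function.comp_apply, MonoidAlgebra.coeff_single]
    classical
    rw [Finsupp.single_apply]
    split_ifs
    · exact ha
    · exact zero_mem _
  | zero => intro m; simp
  | add y z _ _ hy hz => intro m; simpa using add_mem (hy m) (hz m)
  | smul r y _ hy =>
    intro m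
    classical
    rw [smul_eq_mul, MonoidAlgebra.coeff_mul]
    refine Ideal.sum_mem _ fun a _ => Ideal.sum_mem _ fun b _ => ?_
    dsimp only
    split_ifs
    · exact Ideal.mul_mem_left _ _ (hy b)
    · exact zero_mem _

/-- Rigidity over a local ring, finitely generated target. -/
theorem eq_of_fibre_eq [IsLocalRing R] (P : Split R A) [Module.FaithfullyFlat R P.S]
    {C : Type u} [CommRing C] [Bialgebra R C] [Algebra.FiniteType R C]
    (h h' : SemiBialgHom R P.S C (MonoidAlgebra P.S P.M)) (hc : ∀ m, Commute (h.coef m) (h'.coef m))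
    (x : C → A) (hx : ∀ c, P.hom.toAlgHom (x c) = h.toAlgHom c - h'.toAlgHom c)
    (hs : ∀ c, x c ∈ Ideal.map (algebraMap R A) (IsLocalRing.maximalIdeal R)) :
    ∀ c, x c = 0 := by
  classical
  set mS : Ideal P.S := (IsLocalRing.maximalIdeal R).map (algebraMap R P.S)
  have hm : mS ≠ ⊤ := fun h => by
    have := Ideal.comap_map_eq_self_of_faithfullyFlat (B := P.S) (IsLocalRing.maximalIdeal R)
    rw [show (IsLocalRing.maximalIdeal R).map (algebraMap R P.S) = ⊤ from h, Ideal.comap_top] at this
    exact (IsLocalRing.maximalIdeal.isMaximal R).ne_top this.symm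
  obtain ⟨s, hs'⟩ := ‹Algebra.FiniteType R C›.out
  set G : Finset P.S := s.biUnion fun c => (P.hom.toAlgHom (x c)).coeff.support.image
    fun m => (P.hom.toAlgHom (x c)).coeff m
  set K : Ideal P.S := Ideal.span (G : Set P.S)
  have hcoef : ∀ c m, (h.coef m).ofConv c - (h'.coef m).ofConv c = (P.hom.toAlgHom (x c)).coeff m :=
    fun c m => by simp [SemiBialgHom.coef_apply, hx]
  have hall : ∀ c m, (P.hom.toAlgHom (x c)).coeff m ∈ K := by
    have hs0 : ∀ c ∈ s, ∀ m, (P.hom.toAlgHom (x c)).coeff m ∈ K := fun c hc m => by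
      by_cases hm : (P.hom.toAlgHom (x c)).coeff m = 0
      · rw [hm]; exact zero_mem _
      · exact Ideal.subset_span (Finset.mem_biUnion.mpr ⟨c, hc,
          Finset.mem_image.mpr ⟨m, Finsupp.mem_support_iff.mpr hm, rfl⟩⟩)
    let q : MonoidAlgebra P.S P.M →+* MonoidAlgebra (P.S ⧸ K) P.M :=
      MonoidAlgebra.mapRingHom P.M (Ideal.Quotient.mk K)
    have hqc : ∀ y m, (q y).coeff m = Ideal.Quotient.mk K (y.coeff m) := fun y m => by simp [q]
    let qa : MonoidAlgebra P.S P.M →ₐ[R] MonoidAlgebra (P.S ⧸ K) P.M :=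
      AlgHom.mk q (fun r => by
        show q _ = _
        simp [q, MonoidAlgebra.coe_algebraMap, Ideal.Quotient.mk_algebraMap])
    have e : qa.comp h.toAlgHom = qa.comp h'.toAlgHom := by
      refine AlgHom.ext_of_adjoin_eq_top hs' fun c hc => ?_
      show q _ = q _
      ext m
      rw [hqc, hqc, Ideal.Quotient.eq]
      have := hs0 c hc m
      rwa [← hcoef] at this
    intro c m
    rw [← hcoef, SemiBialgHom.coef_apply, SemiBialgHom.coef_apply, ← Ideal.Quotient.eq, ← hqc, ← hqc]
    exact congrArg (fun y => y.coeff m) (AlgHom.congr_fun e c)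
  have hKm : K ≤ mS := Ideal.span_le.mpr fun g hg => by
    simp only [G, Finset.coe_biUnion, Set.mem_iUnion, Finset.coe_image, Set.mem_image] at hg
    obtain ⟨c, -, m, -, rfl⟩ := hg
    exact coeff_hom_mem P.hom.toAlgHom _ (hs c) m
  have hK2 : IsIdempotentElem K := le_antisymm Ideal.mul_le_right <| Ideal.span_le.mpr fun g hg => by
    simp only [G, Finset.coe_biUnion, Set.mem_iUnion, Finset.coe_image, Set.mem_image] at hg
    obtain ⟨c, -, m, -, rfl⟩ := hg
    have := sub_mem_pow (h.coef_idem m) (h'.coef_idem m) (hc m) K (fun d => hcoef d m ▸ hall d m) 2 c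
    rwa [hcoef, pow_two] at this
  obtain ⟨e, he, hKe⟩ := (Ideal.isIdempotentElem_iff_of_fg K ⟨G, rfl⟩).mp hK2
  intro c
  by_contra hne
  let Φ := LinearMap.toSpanSingleton R A (x c)
  have hJ : LinearMap.ker Φ ≤ IsLocalRing.maximalIdeal R :=
    IsLocalRing.le_maximalIdeal fun hJ => hne (by
      have : (1 : R) ∈ LinearMap.ker Φ := hJ ▸ Submodule.mem_top
      simpa [Φ] using this)
  have h0 : (1 - e) ⊗ₜ[R] x c = (0 : P.S ⊗[R] A) := by
    have e1 : ((1 - e) ⊗ₜ[R] x c : P.S ⊗[R] A) = (1 - e) • ((1 : P.S) ⊗ₜ[R] x c) := by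
      rw [TensorProduct.smul_tmul', smul_eq_mul, mul_one]
    apply P.equiv.injective
    rw [map_zero, e1, map_smul, P.equiv_tmul]
    ext m
    have hk := hall c m
    rw [hKe] at hk
    obtain ⟨a, ha⟩ := Submodule.mem_span_singleton.mp hk
    simp only [MonoidAlgebra.coeff_smul, Finsupp.smul_apply, MonoidAlgebra.coeff_zero, Finsupp.coe_zero,
      Pi.zero_apply, ← ha, smul_eq_mul]
    have := he.eq
    linear_combination (-a) * this
  have hex : Function.Exact (LinearMap.ker Φ).subtype Φ := fun y => by simp [LinearMap.mem_ker]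
  obtain ⟨y, hy⟩ := (Module.Flat.lTensor_exact P.S hex ((1 - e) ⊗ₜ[R] (1 : R))).mp (by simpa [Φ] using h0)
  have hmem : ∀ y : P.S ⊗[R] LinearMap.ker Φ,
      TensorProduct.rid R P.S (LinearMap.lTensor P.S (LinearMap.ker Φ).subtype y) ∈ mS := by
    intro y
    induction y using TensorProduct.induction_on with
    | zero => simp
    | add y z hy hz => simpa using add_mem hy hz
    | tmul a b =>
      simp only [LinearMap.lTensor_tmul, Submodule.subtype_apply, TensorProduct.rid_tmul, Algebra.smul_def]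
      exact Ideal.mul_mem_right _ _ (Ideal.mem_map_of_mem _ (hJ b.2))
  have h1e : 1 - e ∈ mS := by simpa [hy] using hmem y
  have he' : e ∈ mS := hKm (hKe ▸ Submodule.mem_span_singleton_self e)
  exact hm (mS.eq_top_iff_one.mpr (by simpa using mS.add_mem h1e he'))

/-- Rigidity over a Noetherian local ring, any target. -/
theorem eq_zero_of_mem_all_powers [IsLocalRing R] [IsNoetherianRing R] (P : Split R A)
    [Module.FaithfullyFlat R P.S] (x : A)
    (hx : ∀ n m, (P.hom.toAlgHom x).coeff m ∈ ((IsLocalRing.maximalIdeal R).map (algebraMap R P.S)) ^ n) :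
    x = 0 := by
  have := P.flat_self
  set N : Ideal P.S := ⨅ n : ℕ, ((IsLocalRing.maximalIdeal R).map (algebraMap R P.S)) ^ n
  let f : R →ₐ[R] P.S ⧸ N := Algebra.ofId R _
  have hf : Function.Injective f := by
    rw [injective_iff_map_eq_zero]
    intro r hr
    rw [Algebra.ofId_apply, IsScalarTower.algebraMap_apply R P.S (P.S ⧸ N),
      Ideal.Quotient.algebraMap_eq, Ideal.Quotient.eq_zero_iff_mem, Ideal.mem_iInf] at hr
    have : r ∈ ⨅ n : ℕ, IsLocalRing.maximalIdeal R ^ n := Ideal.mem_iInf.mpr fun n => by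
      rw [← Ideal.comap_map_eq_self_of_faithfullyFlat (B := P.S) (IsLocalRing.maximalIdeal R ^ n),
        Ideal.mem_comap, Ideal.map_pow]
      exact hr n
    rwa [Ideal.iInf_pow_eq_bot_of_isLocalRing _ (IsLocalRing.maximalIdeal.isMaximal R).ne_top,
      Ideal.mem_bot] at this
  let g : P.S ⊗[R] A →ₐ[R] (P.S ⧸ N) ⊗[R] A :=
    Algebra.TensorProduct.map (Ideal.Quotient.mkₐ R N) (AlgHom.id R A)
  have hg : g (1 ⊗ₜ x) = 0 := by
    rw [← P.equiv.symm_apply_apply (1 ⊗ₜ x), P.equiv_tmul, ← MonoidAlgebra.sum_coeff_single (P.hom.toAlgHom x),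
      Finsupp.sum, map_sum, map_sum]
    refine Finset.sum_eq_zero fun m _ => ?_
    rw [← mul_one ((P.hom.toAlgHom x).coeff m), ← smul_eq_mul, ← MonoidAlgebra.smul_single,
      map_smul, Algebra.smul_def, map_mul]
    have : Ideal.Quotient.mk N ((P.hom.toAlgHom x).coeff m) = 0 :=
      Ideal.Quotient.eq_zero_iff_mem.mpr (Ideal.mem_iInf.mpr fun n => hx n m)
    rw [Algebra.TensorProduct.algebraMap_apply]
    simp [g, this]
  have hinj := Module.Flat.rTensor_preserves_injective_linearMap (M := A) f.toLinearMap hf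
  have h2 : (f.toLinearMap.rTensor A) (1 ⊗ₜ[R] x) = (f.toLinearMap.rTensor A) 0 := by
    simpa [g] using hg
  simpa using congrArg (TensorProduct.lid R A) (hinj h2)

end Groth.Agent.MultTypeLib
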