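import Groth.Agent.MultTypeLib.Coeff
import Mathlib.RingTheory.FiniteType
import Mathlib.GroupTheory.Finiteness
import Mathlib.GroupTheory.FiniteAbelian.Basic
import Mathlib.RingTheory.Finiteness.Basic
import Mathlib.LinearAlgebra.TensorProduct.Finiteness
import Mathlib.GroupTheory.OrderOfElement

/-!
# Power maps of groups of multiplicative type and finiteness
-/

universe u v w

open WithConv TensorProduct Coalgebra Bialgebra

noncomputable section

namespace Groth.Agent.MultTypeLib

section Pow

variable {S : Type v} [CommRing S] {M : Type w} [CommGroup M]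

theorem id_pow_single (n : ℕ) (x : M) :
    ((toConv (LinearMap.id : MonoidAlgebra S M →ₗ[S] MonoidAlgebra S M)) ^ n).ofConv (MonoidAlgebra.single x 1) =
      MonoidAlgebra.single (x ^ n) 1 := by
  induction n with
  | zero => simp [MonoidAlgebra.one_def]
  | succ n ih =>
    rw [pow_succ, LinearMap.convMul_apply, comul_single_one, TensorProduct.map_tmul, LinearMap.mul'_apply, ih]
    simp [pow_succ]

end Pow

variable {R : Type u} [CommRing R] {A : Type u} [CommRing A] [HopfAlgebra R A]

theorem Split.hom_powConv (P : Split R A) (n : ℕ) (a : A) :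
    P.hom.toAlgHom (SGA3b.powConv R A n a) =
      MonoidAlgebra.mapDomain (· ^ n) (P.hom.toAlgHom a) := by
  have h1 : toConv (P.hom.toAlgHom.toLinearMap ∘ₗ (SGA3b.powConv R A n).toLinearMap) =
      P.hom.pre ((toConv LinearMap.id) ^ n) := by
    rw [map_pow]
    induction n with
    | zero =>
      refine WithConv.ext (LinearMap.ext fun a => ?_)
      simp [SGA3b.powConv, AlgHom.convOne_def]
    | succ n ih =>
      rw [pow_succ, ← ih]
      refine WithConv.ext ?_
      have e := LinearMap.algHom_comp_convMul_distrib (R := R) P.hom.toAlgHom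
        (toConv (SGA3b.powConv R A n).toLinearMap) (toConv LinearMap.id)
      refine Eq.trans ?_ e
      show _ = P.hom.toAlgHom.toLinearMap ∘ₗ _
      congr 1
  have h2 : ∀ y : MonoidAlgebra P.S P.M, ((toConv LinearMap.id) ^ n :
      WithConv (MonoidAlgebra P.S P.M →ₗ[P.S] MonoidAlgebra P.S P.M)).ofConv y =
        MonoidAlgebra.mapDomain (· ^ n) y := by
    intro y
    induction y using MonoidAlgebra.induction_linear with
    | zero => simp
    | add y z hy hz => simp [map_add, MonoidAlgebra.mapDomain_add, hy, hz]
    | single x r =>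
      have e : MonoidAlgebra.single x r = r • MonoidAlgebra.single x (1 : P.S) := by simp
      rw [MonoidAlgebra.mapDomain_single, e, map_smul, id_pow_single]
      simp
  have h3 := congrArg (fun f => f.ofConv a) h1
  exact h3.trans (h2 _)

theorem torsionIdeal_eq_bot_iff (n : ℕ) : SGA3b.torsionIdeal R A n = ⊥ ↔
    ∀ a : A, SGA3b.powConv R A n a = algebraMap R A (counit (R := R) a) := by
  rw [SGA3b.torsionIdeal, Ideal.map_eq_bot_iff_le_ker]
  constructor
  · intro h a
    have := h (show a - algebraMap R A (counit (R := R) a) ∈ RingHom.ker (counitAlgHom R A) by simp [RingHom.mem_ker])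
    rw [RingHom.mem_ker, map_sub, AlgHom.commutes, sub_eq_zero] at this
    exact this
  · intro h a ha
    rw [RingHom.mem_ker] at ha ⊢
    rw [h a, show counit (R := R) a = counitAlgHom R A a from rfl, ha, map_zero]

theorem Split.pow_eq_one (P : Split R A) [Nontrivial P.S] (n : ℕ)
    (h : ∀ a : A, SGA3b.powConv R A n a = algebraMap R A (counit (R := R) a)) (m : P.M) : m ^ n = 1 := by
  have key : ∀ z : P.S ⊗[R] A, MonoidAlgebra.mapDomain (· ^ n) (P.equiv z) =
      algebraMap P.S _ (counit (R := P.S) (P.equiv z)) := by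
    intro z
    induction z using TensorProduct.induction_on with
    | zero => simp
    | add z₁ z₂ h₁ h₂ => simp only [map_add, MonoidAlgebra.mapDomain_add, h₁, h₂]
    | tmul s a =>
      have e : (s ⊗ₜ[R] a : P.S ⊗[R] A) = s • ((1 : P.S) ⊗ₜ[R] a) := by
        rw [TensorProduct.smul_tmul', smul_eq_mul, mul_one]
      rw [e, map_smul, P.equiv_tmul, MonoidAlgebra.mapDomain_smul, ← P.hom_powConv, h, AlgHom.commutes,
        map_smul, P.hom.counit_comp, smul_eq_mul, map_mul, Algebra.smul_def, ← IsScalarTower.algebraMap_apply]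
  have h1 := key (P.equiv.symm (MonoidAlgebra.single m 1))
  rw [AlgEquiv.apply_symm_apply, MonoidAlgebra.mapDomain_single, MonoidAlgebra.counit_single] at h1
  simp only [CommSemiring.counit_apply, map_one, MonoidAlgebra.one_def] at h1
  rcases (Finsupp.single_eq_single_iff _ _ _ _).mp (congrArg (·.coeff) h1) with ⟨h2, -⟩ | ⟨h2, -⟩
  · exact h2
  · exact absurd h2 one_ne_zero

theorem finite_of_killed (hft : Algebra.FiniteType R A) (hA : SGA3b.IsMultType R A) (n : ℕ) (hn : 0 < n)
    (h : ∀ a : A, SGA3b.powConv R A n a = algebraMap R A (counit (R := R) a)) : Module.Finite R A := by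
  classical
  obtain ⟨c⟩ := exists_cover hA
  have hgen : ∀ i, ∃ L : Submodule R A, L.FG ∧
      ∀ z : (c.split i).S ⊗[R] A, z ∈ LinearMap.range (LinearMap.lTensor (c.split i).S L.subtype) := by
    intro i
    let P := c.split i
    rcases subsingleton_or_nontrivial P.S with hS | hS
    · refine ⟨⊥, Submodule.fg_bot, fun z => ⟨0, ?_⟩⟩
      have : Subsingleton (P.S ⊗[R] A) := Module.subsingleton P.S _
      exact Subsingleton.elim _ _
    have : Algebra.FiniteType P.S (MonoidAlgebra P.S P.M) := Algebra.FiniteType.equiv inferInstance P.equiv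
    have : Monoid.FG P.M := MonoidAlgebra.finiteType_iff_fg.mp this
    have : Group.FG P.M := Group.fg_iff_monoid_fg.mpr this
    have : Finite P.M := CommGroup.finite_of_fg_isMulTorsion P.M
      fun m => isOfFinOrder_iff_pow_eq_one.mpr ⟨n, hn, P.pow_eq_one n h m⟩
    have : Fintype P.M := Fintype.ofFinite _
    let s : Set (P.S ⊗[R] A) := Set.range fun m : P.M => P.equiv.symm (MonoidAlgebra.single m 1)
    obtain ⟨L, hL, hs⟩ := TensorProduct.exists_finite_submodule_right_of_setFinite s (Set.finite_range _)
    have hLS : ∀ (r : P.S) (z : P.S ⊗[R] A), z ∈ LinearMap.range (LinearMap.lTensor P.S L.subtype) →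
        r • z ∈ LinearMap.range (LinearMap.lTensor P.S L.subtype) := by
      rintro r _ ⟨y, rfl⟩
      refine ⟨r • y, ?_⟩
      induction y using TensorProduct.induction_on with
      | zero => simp
      | add y₁ y₂ h₁ h₂ => simp [smul_add, map_add, h₁, h₂]
      | tmul a b => simp [TensorProduct.smul_tmul']
    refine ⟨L, Module.Finite.iff_fg.mp hL, fun z => ?_⟩
    obtain ⟨y, rfl⟩ := P.equiv.symm.surjective z
    induction y using MonoidAlgebra.induction_linear with
    | zero => simp
    | add y w hy hw => rw [map_add]; exact add_mem hy hw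
    | single m r =>
      have e : MonoidAlgebra.single m r = r • MonoidAlgebra.single m (1 : P.S) := by simp
      rw [e, map_smul]
      exact hLS r _ (hs ⟨m, rfl⟩)
  choose L hL hmem using hgen
  have := Fintype.ofFinite c.ι
  refine ⟨?_⟩
  have htop : (⊤ : Submodule R A) = ⨆ i ∈ (Finset.univ : Finset c.ι), L i := by
    refine le_antisymm (fun a _ => c.mem_of_forall _ a fun i => ?_) le_top
    have hle : L i ≤ ⨆ i ∈ (Finset.univ : Finset c.ι), L i := le_biSup L (Finset.mem_univ i)
    obtain ⟨y, hy⟩ := hmem i (1 ⊗ₜ[R] a)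
    refine ⟨LinearMap.lTensor _ (Submodule.inclusion hle) y, ?_⟩
    rw [← LinearMap.comp_apply, ← LinearMap.lTensor_comp, Submodule.subtype_comp_inclusion]
    exact hy
  rw [htop]
  exact Submodule.fg_biSup Finset.univ L fun i _ => hL i

theorem killed_of_finite (hA : SGA3b.IsMultType R A) [Module.Finite R A] :
    ∃ n : ℕ, 0 < n ∧ ∀ a : A, SGA3b.powConv R A n a = algebraMap R A (counit (R := R) a) := by
  classical
  obtain ⟨c⟩ := exists_cover hA
  have := Fintype.ofFinite c.ι
  have hfin : ∀ i, Nontrivial (c.split i).S → Finite (c.split i).M := fun i _ => by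
    have : Module.Finite (c.split i).S (MonoidAlgebra (c.split i).S (c.split i).M) :=
      Module.Finite.equiv (c.split i).equiv.toLinearEquiv
    exact Module.Finite.finite_basis (MonoidAlgebra.basis (c.split i).M (c.split i).S)
  let d : c.ι → ℕ := fun i => if Nat.card (c.split i).M = 0 then 1 else Nat.card (c.split i).M
  refine ⟨∏ i, d i, Finset.prod_pos fun i _ => ?_, fun a => c.eq_of_hom _ _ fun i => ?_⟩
  · simp only [d]; split_ifs <;> omega
  let P := c.split i
  rcases subsingleton_or_nontrivial P.S with hS | hS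
  · have : Subsingleton (MonoidAlgebra P.S P.M) := Module.subsingleton P.S _
    exact Subsingleton.elim _ _
  have := hfin i hS
  obtain ⟨t, ht⟩ := Finset.dvd_prod_of_mem d (Finset.mem_univ i)
  have hdi : d i = Nat.card P.M := if_neg Nat.card_pos.ne'
  have hpow : ∀ m : P.M, m ^ (∏ i, d i) = 1 := fun m => by
    rw [ht, hdi, pow_mul, pow_card_eq_one', one_pow]
  show P.hom.toAlgHom _ = P.hom.toAlgHom _
  rw [P.hom_powConv, AlgHom.commutes, IsScalarTower.algebraMap_apply R P.S (MonoidAlgebra P.S P.M),
    ← P.hom.counit_comp]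
  generalize P.hom.toAlgHom a = y
  induction y using MonoidAlgebra.induction_linear with
  | zero => simp
  | add y z hy hz => simp only [MonoidAlgebra.mapDomain_add, map_add, hy, hz]
  | single m r => simp [MonoidAlgebra.mapDomain_single, hpow]

end Groth.Agent.MultTypeLib
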