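import Groth.Agent.MultTypeLib.Build
import Groth.Agent.MultTypeLib.Local
import Groth.Agent.MultTypeLib.Torsion
import Mathlib.RingTheory.HopfAlgebra.Quotient
import Mathlib.RingTheory.Bialgebra.MonoidAlgebra

/-!
# Subgroups and torsion subgroups of groups of multiplicative type
-/

universe u v w

open WithConv TensorProduct Coalgebra Bialgebra

noncomputable section

namespace Groth.Agent.MultTypeLib

section GroupLike

variable {R : Type u} [CommRing R] {S : Type v} [CommRing S] [Algebra R S]
variable {A : Type w} [CommRing A] [Bialgebra R A]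
variable {B : Type*} [CommRing B] [Bialgebra S B] [Algebra R B] [IsScalarTower R S B]

theorem SemiBialgHom.isGroupLike (h : SemiBialgHom R S A B) {a : A} (ha : IsGroupLikeElem R a) :
    IsGroupLikeElem S (h.toAlgHom a) where
  counit_eq_one := by rw [h.counit_comp, ha.counit_eq_one, map_one]
  comul_eq_tmul_self := by rw [h.comul_comp, ha.comul_eq_tmul_self, sq_tmul]

end GroupLike

variable {R : Type u} [CommRing R] {A : Type u} [CommRing A] [HopfAlgebra R A]

theorem Split.extend_eq (P : Split R A) (z : P.S ⊗[R] A) : P.hom.extend z = P.equiv z := by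
  induction z using TensorProduct.induction_on with
  | zero => simp
  | add z₁ z₂ h₁ h₂ => simp only [map_add, h₁, h₂]
  | tmul s a =>
    have e : (s ⊗ₜ[R] a : P.S ⊗[R] A) = s • ((1 : P.S) ⊗ₜ[R] a) := by
      rw [TensorProduct.smul_tmul', smul_eq_mul, mul_one]
    rw [SemiBialgHom.extend_tmul, e, map_smul, P.equiv_tmul]

/-- The diagonalisation as an equivalence of bialgebras. -/
def Split.bialgEquiv (P : Split R A) : P.S ⊗[R] A ≃ₐc[P.S] MonoidAlgebra P.S P.M :=
  P.hom.toBialgEquiv (by rw [funext P.extend_eq]; exact P.equiv.bijective)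

variable (J : Ideal A) [J.IsHopfIdeal R]

/-- Factor a semilinear morphism through a quotient. -/
def SemiBialgHom.factor {S : Type v} [CommRing S] [Algebra R S] {B : Type*} [CommRing B] [Bialgebra S B]
    [Algebra R B] [IsScalarTower R S B] (h : SemiBialgHom R S A B) (hJ : ∀ a ∈ J, h.toAlgHom a = 0) :
    SemiBialgHom R S (A ⧸ J) B where
  toAlgHom := Ideal.Quotient.liftₐ J h.toAlgHom hJ
  counit_comp b := by
    obtain ⟨a, rfl⟩ := Ideal.Quotient.mk_surjective b
    have e : counit (R := R) (Ideal.Quotient.mk J a) = counit (R := R) a :=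
      CoalgHomClass.counit_comp_apply (Bialgebra.Quotient.mkBialgHom (R := R) J) a
    rw [e]
    exact h.counit_comp a
  comul_comp b := by
    obtain ⟨a, rfl⟩ := Ideal.Quotient.mk_surjective b
    have e := CoalgHomClass.map_comp_comul_apply (Bialgebra.Quotient.mkBialgHom (R := R) J) a
    show comul (R := S) (h.toAlgHom a) = _
    rw [h.comul_comp]
    show _ = sq S _ (comul (R := R) (Bialgebra.Quotient.mkBialgHom (R := R) J a))
    rw [← e]
    generalize comul (R := R) a = z
    induction z using TensorProduct.induction_on with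
    | zero => simp
    | add z₁ z₂ h₁ h₂ => simp only [map_add, h₁, h₂]
    | tmul x y => simp <;> rfl

/-- Over a field, a closed subgroup of a group of multiplicative type is of multiplicative type. -/
theorem isMultType_quotient_of_field {k : Type u} [Field k] {A : Type u} [CommRing A] [HopfAlgebra k A]
    (hA : SGA3b.IsMultType k A) (J : Ideal A) [J.IsHopfIdeal k] : SGA3b.IsMultType k (A ⧸ J) := by
  obtain ⟨P, hP⟩ := exists_ff_split hA
  obtain ⟨⟨q0, hq0⟩, -⟩ := PrimeSpectrum.comap_surjective_of_faithfullyFlat (A := k) (B := P.S) default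
  obtain ⟨q, hq, -⟩ := Ideal.exists_le_maximal q0 hq0.ne_top
  let K := P.S ⧸ q
  let _ : Field K := Ideal.Quotient.field q
  let Q := K ⊗[k] (A ⧸ J)
  let π : K ⊗[k] A →ₐc[K] Q := Bialgebra.TensorProduct.map (BialgHom.id K K) (Bialgebra.Quotient.mkBialgHom J)
  let T := baseChangeTrans (R := k) P.S K A
  let g : P.M → Q := fun m => π (T.symm ((1 : K) ⊗ₜ[P.S] P.bialgEquiv.symm (MonoidAlgebra.single m 1)))
  have hg : ∀ m, IsGroupLikeElem K (g m) := fun m =>
    (((SemiBialgHom.baseChange P.S K (P.S ⊗[k] A)).isGroupLike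
      ((MonoidAlgebra.isGroupLikeElem_single_one m).map P.bialgEquiv.symm)).map T.symm).map π
  let Φ := MonoidAlgebra.liftGroupLikeBialgHom (R := K) (A := Q)
  have hspan : Function.Surjective Φ := by
    intro y
    suffices ∀ w : K ⊗[P.S] (P.S ⊗[k] A), π (T.symm w) ∈ (Φ : MonoidAlgebra K (GroupLike K Q) →ₐ[K] Q).range by
      have hπ : Function.Surjective π := by
        intro y
        induction y using TensorProduct.induction_on with
        | zero => exact ⟨0, map_zero _⟩
        | add y₁ y₂ h₁ h₂ =>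
          obtain ⟨z₁, rfl⟩ := h₁
          obtain ⟨z₂, rfl⟩ := h₂
          exact ⟨z₁ + z₂, map_add _ _ _⟩
        | tmul c b =>
          obtain ⟨a, rfl⟩ := Ideal.Quotient.mk_surjective b
          exact ⟨c ⊗ₜ a, rfl⟩
      obtain ⟨z, rfl⟩ := hπ y
      obtain ⟨x, hx⟩ := this (T z)
      exact ⟨x, by rwa [BialgEquiv.symm_apply_apply] at hx⟩
    intro w
    induction w using TensorProduct.induction_on with
    | zero => simp
    | add w₁ w₂ h₁ h₂ => rw [map_add, map_add]; exact add_mem h₁ h₂
    | tmul c z =>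
      obtain ⟨x, rfl⟩ : ∃ x, P.bialgEquiv.symm x = z := ⟨P.bialgEquiv z, P.bialgEquiv.symm_apply_apply z⟩
      induction x using MonoidAlgebra.induction_linear with
      | zero => simp
      | add y z hy hz => rw [map_add, TensorProduct.tmul_add, map_add, map_add]; exact add_mem hy hz
      | single m r =>
        have e : MonoidAlgebra.single m r = r • MonoidAlgebra.single m (1 : P.S) := by simp
        have e2 : c ⊗ₜ[P.S] (r • P.bialgEquiv.symm (MonoidAlgebra.single m 1)) =
            ((r • c : K) • ((1 : K) ⊗ₜ[P.S] P.bialgEquiv.symm (MonoidAlgebra.single m 1)) : K ⊗[P.S] (P.S ⊗[k] A)) := by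
          rw [TensorProduct.tmul_smul, TensorProduct.smul_tmul', TensorProduct.smul_tmul', smul_eq_mul, mul_one]
        rw [e, map_smul, e2, map_smul, map_smul]
        have hmem : g m ∈ (Φ : MonoidAlgebra K (GroupLike K Q) →ₐ[K] Q).range :=
          ⟨MonoidAlgebra.single (⟨g m, hg m⟩ : GroupLike K Q) 1, by
            simp [Φ, MonoidAlgebra.liftGroupLikeBialgHom]⟩
        exact Subalgebra.smul_mem _ hmem _
  have hinj : Function.Injective Φ := by
    have hli : LinearIndependent K (GroupLike.val : GroupLike K Q → Q) := by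
      have h := linearIndepOn_isGroupLikeElem (R := K) (A := Q)
      exact h.comp (fun g : GroupLike K Q => (⟨g.1, g.2⟩ : {a : Q // IsGroupLikeElem K a}))
        fun a b hab => GroupLike.val_injective (congrArg Subtype.val hab)
    rw [injective_iff_map_eq_zero]
    intro x hx
    have e : Φ x = Finsupp.linearCombination K GroupLike.val x.coeff := by
      conv_lhs => rw [← MonoidAlgebra.sum_coeff_single x]
      rw [Finsupp.linearCombination_apply, Finsupp.sum, Finsupp.sum, map_sum]
      refine Finset.sum_congr rfl fun m _ => ?_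
      simp [Φ, MonoidAlgebra.liftGroupLikeBialgHom]
    rw [e] at hx
    exact MonoidAlgebra.coeff_injective (linearIndependent_iff.mp hli _ hx)
  exact isMultType_of_ff (R := k) K
    ⟨GroupLike K Q, inferInstance, ⟨(BialgEquiv.ofBijective Φ ⟨hinj, hspan⟩).symm⟩⟩

/-- Torsion subgroups. -/
theorem isMultType_torsion (hA : SGA3b.IsMultType R A) (n : ℕ) (hJ : J = SGA3b.torsionIdeal R A n) :
    SGA3b.IsMultType R (A ⧸ J) := by
  refine isMultType_of_transfer hA fun S _ _ _ hd => ?_
  obtain ⟨M, inst, hom, equiv, he⟩ := exists_split_of_isDiag S hd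
  let P : Split R A := { S := S, M := M, hom := hom, equiv := equiv, equiv_tmul := he }
  let N : Subgroup M := (powMonoidHom n).range
  let pr : M →* M ⧸ N := QuotientGroup.mk' N
  have hpr : ∀ m : M, pr (m ^ n) = 1 := fun m => (QuotientGroup.eq_one_iff _).mpr ⟨m, rfl⟩
  let h1 : SemiBialgHom R S A (MonoidAlgebra S (M ⧸ N)) :=
    (SemiBialgHom.ofBialgHom (MonoidAlgebra.mapDomainBialgHom S pr)).comp hom
  have h1a : ∀ a, h1.toAlgHom a = MonoidAlgebra.mapDomainBialgHom S pr (hom.toAlgHom a) := fun a => rfl
  have hpow : ∀ a, h1.toAlgHom (SGA3b.powConv R A n a) = algebraMap R _ (counit (R := R) a) := by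
    intro a
    rw [h1a, show hom.toAlgHom (SGA3b.powConv R A n a) = _ from P.hom_powConv n a,
      IsScalarTower.algebraMap_apply R S (MonoidAlgebra S (M ⧸ N)), ← hom.counit_comp]
    show MonoidAlgebra.mapDomainBialgHom S pr (MonoidAlgebra.mapDomain (fun x : M => x ^ n) (hom.toAlgHom a)) = _
    generalize hom.toAlgHom a = y
    induction y using MonoidAlgebra.induction_linear with
    | zero => simp
    | add y z hy hz => simp only [MonoidAlgebra.mapDomain_add, map_add, hy, hz]
    | single m r =>
      rw [MonoidAlgebra.mapDomain_single, MonoidAlgebra.mapDomainBialgHom_single, hpr]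
      simp
  have hker : ∀ a ∈ J, h1.toAlgHom a = 0 := by
    intro a ha
    rw [hJ] at ha
    suffices SGA3b.torsionIdeal R A n ≤ RingHom.ker h1.toAlgHom from this ha
    rw [SGA3b.torsionIdeal, Ideal.map_le_iff_le_comap]
    intro b hb
    rw [Ideal.mem_comap, RingHom.mem_ker, hpow, show counit (R := R) b = counitAlgHom R A b from rfl,
      RingHom.mem_ker.mp hb, map_zero]
  let h2 := h1.factor J hker
  let mk' : S ⊗[R] A →ₐ[S] S ⊗[R] (A ⧸ J) :=
    Algebra.TensorProduct.map (AlgHom.id S S) (Ideal.Quotient.mkₐ R J)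
  let ρ0 : M →* S ⊗[R] (A ⧸ J) :=
    (((mk'.comp (equiv.symm : MonoidAlgebra S M ≃ₐ[S] S ⊗[R] A).toAlgHom) :
      MonoidAlgebra S M →ₐ[S] S ⊗[R] (A ⧸ J)) : MonoidAlgebra S M →* S ⊗[R] (A ⧸ J)).comp (MonoidAlgebra.of S M)
  have hρ : ∀ m, ρ0 m = mk' (equiv.symm (MonoidAlgebra.single m 1)) := fun m => rfl
  have hN : N ≤ ρ0.ker := by
    rintro _ ⟨m, rfl⟩
    rw [MonoidHom.mem_ker, powMonoidHom_apply, hρ]
    let pw : S ⊗[R] A →ₐ[S] S ⊗[R] A := Algebra.TensorProduct.map (AlgHom.id S S) (SGA3b.powConv R A n)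
    have h3 : ∀ z, equiv (pw z) = MonoidAlgebra.mapDomain (fun x : M => x ^ n) (equiv z) := by
      intro z
      induction z using TensorProduct.induction_on with
      | zero => simp
      | add z₁ z₂ h₁ h₂ => simp only [map_add, MonoidAlgebra.mapDomain_add, h₁, h₂]
      | tmul s a =>
        have e : ∀ b : A, (s ⊗ₜ[R] b : S ⊗[R] A) = s • ((1 : S) ⊗ₜ[R] b) := fun b => by
          rw [TensorProduct.smul_tmul', smul_eq_mul, mul_one]
        simp only [pw, Algebra.TensorProduct.map_tmul, AlgHom.coe_id, id_eq]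
        rw [e, e a, map_smul, map_smul, he, he, MonoidAlgebra.mapDomain_smul]
        exact congrArg (s • ·) (P.hom_powConv n a)
    have h4 : ∀ z, mk' (pw z) = algebraMap S _ (counit (R := S) (equiv z)) := by
      intro z
      induction z using TensorProduct.induction_on with
      | zero => simp
      | add z₁ z₂ h₁ h₂ => simp only [map_add, h₁, h₂]
      | tmul s a =>
        have e : (s ⊗ₜ[R] a : S ⊗[R] A) = s • ((1 : S) ⊗ₜ[R] a) := by
          rw [TensorProduct.smul_tmul', smul_eq_mul, mul_one]
        have h5 : Ideal.Quotient.mk J (SGA3b.powConv R A n a) = algebraMap R (A ⧸ J) (counit (R := R) a) := by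
          rw [← Ideal.Quotient.mk_algebraMap, Ideal.Quotient.eq, hJ, SGA3b.torsionIdeal]
          have := Ideal.mem_map_of_mem (SGA3b.powConv R A n) (show a - algebraMap R A (counit (R := R) a) ∈
            RingHom.ker (counitAlgHom R A) by simp [RingHom.mem_ker])
          rwa [map_sub, AlgHom.commutes] at this
        rw [e, map_smul, map_smul, map_smul, map_smul, he, hom.counit_comp, smul_eq_mul, map_mul,
          ← Algebra.smul_def]
        congr 1
        simp only [mk', pw, Algebra.TensorProduct.map_tmul, AlgHom.coe_id, id_eq, Ideal.Quotient.mkₐ_eq_mk, h5]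
        rw [← IsScalarTower.algebraMap_apply R S (S ⊗[R] (A ⧸ J))]
        exact (Algebra.TensorProduct.includeRight (R := R) (A := S) (B := A ⧸ J)).commutes _
    have h6 : equiv.symm (MonoidAlgebra.single (m ^ n) 1) = pw (equiv.symm (MonoidAlgebra.single m 1)) := by
      apply equiv.injective
      rw [h3, AlgEquiv.apply_symm_apply, AlgEquiv.apply_symm_apply, MonoidAlgebra.mapDomain_single]
    rw [h6, h4, AlgEquiv.apply_symm_apply]
    simp [Algebra.TensorProduct.one_def]
  let ρ : MonoidAlgebra S (M ⧸ N) →ₐ[S] S ⊗[R] (A ⧸ J) :=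
    MonoidAlgebra.lift S _ _ (QuotientGroup.lift N ρ0 hN)
  have hρ1 : ∀ x : MonoidAlgebra S M, ρ (MonoidAlgebra.mapDomainBialgHom S pr x) = mk' (equiv.symm x) := by
    intro x
    induction x using MonoidAlgebra.induction_linear with
    | zero => simp
    | add y z hy hz => simp only [map_add, hy, hz]
    | single m r =>
      have e : MonoidAlgebra.single m r = r • MonoidAlgebra.single m (1 : S) := by simp
      rw [MonoidAlgebra.mapDomainBialgHom_single, e, map_smul, map_smul, ← hρ]
      simp [ρ, pr]
  have hl : ρ.comp h2.extend = AlgHom.id S _ := by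
    refine Algebra.TensorProduct.ext (Subsingleton.elim _ _) (AlgHom.ext fun b => ?_)
    obtain ⟨a, rfl⟩ := Ideal.Quotient.mk_surjective b
    show ρ (h2.extend (1 ⊗ₜ Ideal.Quotient.mk J a)) = 1 ⊗ₜ Ideal.Quotient.mk J a
    rw [SemiBialgHom.extend_tmul, one_smul]
    show ρ (h1.toAlgHom a) = _
    rw [h1a, hρ1, ← he, AlgEquiv.symm_apply_apply]
    simp [mk']
  have hr : Function.Surjective h2.extend := by
    intro y
    have hs : Function.Surjective (MonoidAlgebra.mapDomainBialgHom S pr) := by
      intro y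
      induction y using MonoidAlgebra.induction_linear with
      | zero => exact ⟨0, map_zero _⟩
      | add y z hy hz =>
        obtain ⟨a, rfl⟩ := hy
        obtain ⟨b, rfl⟩ := hz
        exact ⟨a + b, map_add _ _ _⟩
      | single m r =>
        obtain ⟨m, rfl⟩ := QuotientGroup.mk'_surjective N m
        exact ⟨MonoidAlgebra.single m r, MonoidAlgebra.mapDomainBialgHom_single _ _ _⟩
    obtain ⟨x, rfl⟩ := hs y
    refine ⟨mk' (equiv.symm x), ?_⟩
    obtain ⟨z, rfl⟩ := equiv.surjective x
    rw [AlgEquiv.symm_apply_apply]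
    induction z using TensorProduct.induction_on with
    | zero => simp
    | add z₁ z₂ h₁ h₂ => simp only [map_add, h₁, h₂]
    | tmul s a =>
      have e : (s ⊗ₜ[R] a : S ⊗[R] A) = s • ((1 : S) ⊗ₜ[R] a) := by
        rw [TensorProduct.smul_tmul', smul_eq_mul, mul_one]
      rw [e, map_smul, map_smul, map_smul, map_smul, he]
      congr 1
      simp [mk', h2, SemiBialgHom.factor]
      exact h1a a
  refine ⟨M ⧸ N, inferInstance, ⟨h2.toBialgEquiv ⟨fun x y hxy => ?_, hr⟩⟩⟩
  have := congrArg ρ hxy
  rwa [← AlgHom.comp_apply, ← AlgHom.comp_apply, hl] at this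

end Groth.Agent.MultTypeLib
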