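import Groth.Agent.MultTypeLib.Spread
import Groth.Agent.MultTypeLib.QuasiIso
import Groth.Agent.MultTypeLib.Artin
import Groth.Agent.MultTypeLib.CoverType
import Groth.Agent.MultTypeLib.EtaleLift
import Groth.Agent.SpreadIso.Basic
import Mathlib.RingTheory.Smooth.NoetherianDescent
import Mathlib.RingTheory.Spectrum.Prime.Chevalley

/-!
# Multiplicative type is a local property for finitely presented groups
-/

universe u

open TensorProduct Coalgebra Bialgebra

noncomputable section

namespace Groth.Agent.MultTypeLib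

open DirColim (IsColim Trans)
open SpreadIso (res toQ toQ_res exists_res_eq)

variable {R : Type u} [CommRing R]

/-- The local ring at a prime is the colimit of the basic open neighbourhoods. -/
theorem isColim_atPrime (p : Ideal R) [p.IsPrime] :
    IsColim (R := R) (G := fun f : {f : R // f ∉ p} => Localization.Away f.1) (A := Localization.AtPrime p)
      (fun f => toQ p f.2) := by
  have hmul : ∀ f f' : {f : R // f ∉ p}, f.1 * f'.1 ∉ p := fun f f' => p.primeCompl.mul_mem f.2 f'.2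
  refine ⟨fun a => ?_, fun f f' => ?_, fun f x hx => ?_⟩
  · obtain ⟨r, ⟨s, hs⟩, rfl⟩ := IsLocalization.exists_mk'_eq p.primeCompl a
    refine ⟨⟨s, hs⟩, IsLocalization.mk' (Localization.Away s) r (⟨s, 1, pow_one s⟩ : Submonoid.powers s), ?_⟩
    show toQ p hs _ = _
    rw [IsLocalization.eq_mk'_iff_mul_eq]
    show toQ p hs _ * algebraMap R _ s = algebraMap R _ r
    rw [← (toQ p hs).commutes s, ← map_mul, IsLocalization.mk'_spec (Localization.Away s) r
      (⟨s, 1, pow_one s⟩ : Submonoid.powers s), AlgHom.commutes]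
  · exact ⟨⟨f.1 * f'.1, hmul f f'⟩,
      ⟨⟨res (dvd_mul_right f.1 f'.1), AlgHom.ext fun x => toQ_res p (dvd_mul_right f.1 f'.1) f.2 (hmul f f') x⟩⟩,
      ⟨⟨res (dvd_mul_left f'.1 f.1), AlgHom.ext fun x => toQ_res p (dvd_mul_left f'.1 f.1) f'.2 (hmul f f') x⟩⟩⟩
  · obtain ⟨k, hk, hkp, h⟩ := exists_res_eq p f.2 (hx.trans (map_zero _).symm)
    exact ⟨⟨k, hkp⟩, ⟨res hk, AlgHom.ext fun x => toQ_res p hk f.2 hkp x⟩, by rw [h, map_zero]⟩

variable {A : Type u} [CommRing A] [HopfAlgebra R A]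

set_option maxHeartbeats 1000000 in
/-- An étale algebra over a local ring comes from an étale algebra. -/
theorem exists_etale_model (p : Ideal R) [p.IsPrime] (C : Type u) [CommRing C] [Algebra R C]
    [Algebra (Localization.AtPrime p) C] [IsScalarTower R (Localization.AtPrime p) C]
    [Algebra.Etale (Localization.AtPrime p) C] :
    ∃ (C₀ : Type u) (_ : CommRing C₀) (_ : Algebra R C₀), Algebra.Etale R C₀ ∧
      Nonempty (C →ₐ[Localization.AtPrime p] Localization.AtPrime p ⊗[R] C₀) ∧ Nonempty (C₀ →ₐ[R] C) := by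
  let Rp := Localization.AtPrime p
  let _ : Algebra (ULift.{u} ℤ) R :=
    ((Int.castRingHom R).comp (ULift.ringEquiv : ULift.{u} ℤ ≃+* ℤ).toRingHom).toAlgebra
  obtain ⟨A₀, B₀, _, _, hA₀, _, ⟨eC⟩⟩ := Algebra.Etale.exists_subalgebra_fg (R := ULift.{u} ℤ) (A := Rp) (B := C)
  have : IsNoetherianRing (ULift.{u} ℤ) := isNoetherianRing_of_ringEquiv ℤ ULift.ringEquiv.symm
  have : Algebra.FiniteType (ULift.{u} ℤ) A₀ := ⟨A₀.fg_top.mpr hA₀⟩
  have : Algebra.FinitePresentation (ULift.{u} ℤ) A₀ := Algebra.FinitePresentation.of_finiteType.mp inferInstance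
  obtain ⟨g, hg, ψ, hψ⟩ := SpreadIso.exists_lift (R := ULift.{u} ℤ) p (A := A₀) A₀.val
  let Rg := Localization.Away g
  let _ : Algebra A₀ Rg := ψ.toRingHom.toAlgebra
  let C₀ := Rg ⊗[A₀] B₀
  have : Algebra.Etale R Rg := Algebra.Etale.of_isLocalizationAway g
  have : Algebra.Etale R C₀ := Algebra.Etale.comp R Rg C₀
  let iL : Rp →ₐ[R] (Rp ⊗[R] C₀) := Algebra.TensorProduct.includeLeft
  let iR : C₀ →ₐ[R] (Rp ⊗[R] C₀) := Algebra.TensorProduct.includeRight
  have hbase : iR.toRingHom.comp (algebraMap Rg C₀) = iL.toRingHom.comp (toQ p hg).toRingHom :=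
    IsLocalization.ringHom_ext (Submonoid.powers g) (RingHom.ext fun r => by
      show iR (algebraMap Rg C₀ (algebraMap R Rg r)) = iL (toQ p hg (algebraMap R Rg r))
      rw [AlgHom.commutes (toQ p hg), ← IsScalarTower.algebraMap_apply, AlgHom.commutes, AlgHom.commutes])
  let toB : B₀ →ₐ[A₀] (Rp ⊗[R] C₀) :=
    { toRingHom := iR.toRingHom.comp (Algebra.TensorProduct.includeRight : B₀ →ₐ[A₀] C₀).toRingHom
      commutes' := fun a => by
        show iR ((1 : Rg) ⊗ₜ[A₀] algebraMap A₀ B₀ a) = iL (algebraMap A₀ Rp a)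
        rw [show ((1 : Rg) ⊗ₜ[A₀] algebraMap A₀ B₀ a : C₀) = algebraMap Rg C₀ (algebraMap A₀ Rg a) by
          rw [Algebra.algebraMap_eq_smul_one (A := B₀), TensorProduct.tmul_smul, TensorProduct.smul_tmul',
            ← Algebra.algebraMap_eq_smul_one]; rfl]
        exact (RingHom.congr_fun hbase (ψ a)).trans (congrArg iL (hψ a)) }
  let θ : C →ₐ[Rp] (Rp ⊗[R] C₀) := (Algebra.TensorProduct.lift (Algebra.ofId Rp (Rp ⊗[R] C₀)) toB fun x y => mul_comm (Algebra.ofId Rp (Rp ⊗[R] C₀) x) (toB y)).comp eC.toAlgHom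

  let toC₀ : C₀ →ₐ[R] C :=
    { toRingHom := eC.symm.toAlgHom.toRingHom.comp
        (Algebra.TensorProduct.map (R := A₀) (S := A₀) (A := Rg) (C := Rp)
          { (toQ p hg).toRingHom with commutes' := fun a => hψ a } (AlgHom.id A₀ B₀)).toRingHom
      commutes' := fun r => by
        show eC.symm ((toQ p hg (algebraMap R Rg r)) ⊗ₜ[A₀] (1 : B₀)) = algebraMap R C r
        rw [AlgHom.commutes, IsScalarTower.algebraMap_apply R Rp C, ← eC.symm.commutes]
        rfl }
  exact ⟨Rg ⊗[A₀] B₀, inferInstance, inferInstance, inferInstance, ⟨θ⟩, ⟨toC₀⟩⟩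

set_option maxHeartbeats 1000000 in
/-- A group of multiplicative type over the local ring is split over an étale neighbourhood. -/
theorem exists_etale_nhd_diag [Algebra.FinitePresentation R A] (p : Ideal R) [p.IsPrime]
    (h : SGA3b.IsMultType (Localization.AtPrime p) (Localization.AtPrime p ⊗[R] A)) :
    ∃ (E : Type u) (_ : CommRing E) (_ : Algebra R E), Algebra.Etale R E ∧
      (∃ q : Ideal E, q.IsPrime ∧ q.comap (algebraMap R E) = p) ∧ SGA3b.IsDiag E (E ⊗[R] A) := by
  classical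
  let Rp := Localization.AtPrime p
  -- an étale split cover of the local ring
  obtain ⟨s, hs, hC⟩ := isQuasiIsotrivial_of_isMultType (R := Rp) (A := Rp ⊗[R] A) inferInstance h
  obtain ⟨f, hfs, hfu⟩ : ∃ f ∈ s, IsUnit f := by
    by_contra hne
    push Not at hne
    refine (IsLocalRing.maximalIdeal.isMaximal Rp).ne_top ((Ideal.eq_top_iff_one _).mpr ?_)
    exact (Ideal.span_le.mpr fun x hx => (IsLocalRing.mem_maximalIdeal x).mpr (hne x hx))
      (hs ▸ Submodule.mem_top : (1 : Rp) ∈ Ideal.span s)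
  obtain ⟨C, _, _, het, hff, hd⟩ := hC f hfs
  let T := Localization.Away f
  let _ : Algebra Rp C := ((algebraMap T C).comp (algebraMap Rp T)).toAlgebra
  have : IsScalarTower Rp T C := IsScalarTower.of_algebraMap_eq (R := Rp) (S := T) (A := C) fun _ => rfl
  have : Algebra.Etale Rp T := Algebra.Etale.of_isLocalizationAway f
  have : Algebra.Etale Rp C := Algebra.Etale.comp Rp T C
  let _ : Algebra R C := ((algebraMap Rp C).comp (algebraMap R Rp)).toAlgebra
  have : IsScalarTower R Rp C := IsScalarTower.of_algebraMap_eq fun _ => rfl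
  have hdC : SGA3b.IsDiag C (C ⊗[R] A) := isDiag_congr (baseChangeTrans (R := R) Rp C A).symm
    (isDiag_congr (baseChangeTrans (R := Rp) T C (Rp ⊗[R] A)).symm hd)
  obtain ⟨Q, hQp, hQ⟩ : ∃ Q : Ideal C, Q.comap (algebraMap R C) = p ∧ Q.IsPrime := by
    let e : Rp ≃ₐ[Rp] T := IsLocalization.atUnit Rp T f hfu
    have hsurj : Function.Surjective (algebraMap Rp T) := fun y => ⟨e.symm y, by
      rw [← e.commutes, Algebra.algebraMap_self, RingHom.id_apply, e.apply_symm_apply]⟩
    have : Nontrivial T := e.symm.toEquiv.nontrivial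
    obtain ⟨n, hn⟩ := Ideal.exists_maximal T
    obtain ⟨⟨Q, hQ⟩, hQt⟩ := PrimeSpectrum.comap_surjective_of_faithfullyFlat (A := T) (B := C) ⟨n, hn.isPrime⟩
    refine ⟨Q, ?_, hQ⟩
    have h1 : Q.comap (algebraMap T C) = n := congrArg PrimeSpectrum.asIdeal hQt
    have := Ideal.comap_isMaximal_of_surjective (algebraMap Rp T) hsurj (K := n)
    have h2 : Q.comap (algebraMap Rp C) = IsLocalRing.maximalIdeal Rp := by
      rw [show algebraMap Rp C = (algebraMap T C).comp (algebraMap Rp T) from rfl, ← Ideal.comap_comap, h1]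
      exact IsLocalRing.eq_maximalIdeal this
    rw [show algebraMap R C = (algebraMap Rp C).comp (algebraMap R Rp) from rfl, ← Ideal.comap_comap, h2]
    exact Localization.AtPrime.comap_maximalIdeal
  -- the model over a basic open
  obtain ⟨C₀, _, _, _, ⟨θ⟩, ⟨toC₀⟩⟩ := exists_etale_model p C
  let _ : Algebra C (Localization.AtPrime p ⊗[R] C₀) := θ.toRingHom.toAlgebra
  have : IsScalarTower R C (Localization.AtPrime p ⊗[R] C₀) := IsScalarTower.of_algebraMap_eq fun r => by
    show algebraMap R _ r = θ (algebraMap Rp C (algebraMap R Rp r))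
    rw [AlgHom.commutes]
    rfl
  have hd' : SGA3b.IsDiag (Rp ⊗[R] C₀) ((Rp ⊗[R] C₀) ⊗[R] A) := isDiag_baseChange C (Rp ⊗[R] C₀) hdC
  -- spreading
  obtain ⟨j, hj⟩ := exists_diag_stage ((isColim_atPrime p).tensorRight C₀) hd'
  have : Algebra.Etale R (Localization.Away j.1) := Algebra.Etale.of_isLocalizationAway j.1
  have : Algebra.Etale R (Localization.Away j.1 ⊗[R] C₀) :=
    Algebra.Etale.comp R (Localization.Away j.1) (Localization.Away j.1 ⊗[R] C₀)
  refine ⟨Localization.Away j.1 ⊗[R] C₀, inferInstance, inferInstance, inferInstance, ?_, hj⟩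
  let π : Localization.Away j.1 ⊗[R] C₀ →ₐ[R] C :=
    (Algebra.TensorProduct.lift (IsScalarTower.toAlgHom R Rp C) toC₀ fun _ _ => .all _ _).comp
      (Algebra.TensorProduct.map (toQ p j.2) (AlgHom.id R C₀))
  refine ⟨Q.comap π.toRingHom, Ideal.IsPrime.comap _, ?_⟩
  rw [Ideal.comap_comap, show π.toRingHom.comp (algebraMap R _) = algebraMap R C from π.comp_algebraMap, hQp]

/-- Multiplicative type is local for finitely presented groups. -/
theorem isMultType_of_local [Algebra.FinitePresentation R A]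
    (h : ∀ (p : Ideal R) [p.IsPrime], SGA3b.IsMultType (Localization.AtPrime p) (Localization.AtPrime p ⊗[R] A)) :
    SGA3b.IsMultType R A := by
  classical
  choose E iE1 iE2 het hq hd using fun p : PrimeSpectrum R =>
    haveI := p.2; exists_etale_nhd_diag p.asIdeal (h p.asIdeal)
  have hflat : ∀ p, Module.Flat R (E p) := fun p => inferInstance
  obtain ⟨t, ht⟩ := isCompact_univ.elim_finite_subcover
    (fun p => Set.range (PrimeSpectrum.comap (algebraMap R (E p))))
    (fun p => (PrimeSpectrum.isOpenMap_comap_of_hasGoingDown_of_finitePresentation).isOpen_range)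
    (fun p _ => Set.mem_iUnion.mpr ⟨p, by
      obtain ⟨q, hq, hqp⟩ := hq p
      exact ⟨⟨q, hq⟩, PrimeSpectrum.ext hqp⟩⟩)
  refine isMultType_of_flatCover (ι := (t : Finset (PrimeSpectrum R))) (fun i => E i.1) (fun p hp => ?_)
    fun i => hd i.1
  have hmem := ht (Set.mem_univ (⟨p, hp⟩ : PrimeSpectrum R))
  simp only [Set.mem_iUnion] at hmem
  obtain ⟨i, hi, ⟨q, hqp⟩⟩ := hmem
  exact ⟨⟨i, hi⟩, q.asIdeal, q.2, congrArg PrimeSpectrum.asIdeal hqp⟩

end Groth.Agent.MultTypeLib
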