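import Groth.Agent.MultTypeLib.Build

/-!
# Hopf algebras over finite decompositions of the base ring
-/

universe u

open TensorProduct Coalgebra Bialgebra

noncomputable section

namespace Groth.Agent.MultTypeLib

variable (R : Type u) [CommRing R] {ι : Type u} [Fintype ι] [DecidableEq ι]
variable (S : ι → Type u) [∀ k, CommRing (S k)] [∀ k, Algebra R (S k)]

/-- The base decomposes as the product of the pieces. -/
class IsDecomp (R : Type u) [CommRing R] {ι : Type u} (S : ι → Type u) [∀ k, CommRing (S k)]
    [∀ k, Algebra R (S k)] : Prop where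
  bijective : Function.Bijective (algebraMap R (∀ k, S k))

variable [IsDecomp R S]

/-- The idempotent of a piece. -/
def decIdem (k : ι) : R := (RingEquiv.ofBijective (algebraMap R (∀ k, S k)) IsDecomp.bijective).symm (Pi.single k 1)

theorem algebraMap_decIdem (k l : ι) : algebraMap R (S l) (decIdem R S k) = Pi.single (M := S) k 1 l :=
  congrFun ((RingEquiv.ofBijective (algebraMap R (∀ k, S k)) IsDecomp.bijective).apply_symm_apply _) l

theorem dec_surjective (k : ι) : Function.Surjective (algebraMap R (S k)) := fun s => by
  obtain ⟨r, hr⟩ := (IsDecomp.bijective (R := R) (S := S)).2 (Pi.single k s)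
  exact ⟨r, by simpa using congrFun hr k⟩

theorem dec_ext {r r' : R} (h : ∀ k, algebraMap R (S k) r = algebraMap R (S k) r') : r = r' :=
  (IsDecomp.bijective (R := R) (S := S)).1 (funext h)

theorem sum_decIdem : ∑ k, decIdem R S k = 1 := dec_ext R S fun l => by
  rw [map_sum, map_one]
  simp only [algebraMap_decIdem]
  rw [← Finset.sum_apply, Finset.univ_sum_single (f := fun k => (1 : S k))]

theorem decIdem_mul_self (k : ι) : decIdem R S k * decIdem R S k = decIdem R S k := dec_ext R S fun l => by
  rw [map_mul, algebraMap_decIdem]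
  rcases eq_or_ne l k with rfl | h
  · simp
  · simp [Pi.single_eq_of_ne h]

/-- The inverse of the projection on a piece. -/
def decSection (k : ι) : S k →ₗ[R] R :=
  (LinearEquiv.ofBijective (Algebra.linearMap R (∀ k, S k)) (IsDecomp.bijective (R := R) (S := S))).symm.toLinearMap
    ∘ₗ LinearMap.single R S k

theorem algebraMap_decSection (k l : ι) (s : S k) :
    algebraMap R (S l) (decSection R S k s) = Pi.single (M := S) k s l :=
  congrFun ((LinearEquiv.ofBijective (Algebra.linearMap R (∀ k, S k))
    (IsDecomp.bijective (R := R) (S := S))).apply_symm_apply (Pi.single k s)) l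

theorem decSection_one (k : ι) : decSection R S k 1 = decIdem R S k := dec_ext R S fun l => by
  rw [algebraMap_decSection, algebraMap_decIdem]

/-- Modules decompose. -/
theorem tmul_bijective (N : Type u) [AddCommGroup N] [Module R N] :
    Function.Bijective fun (n : N) (k : ι) => (1 : S k) ⊗ₜ[R] n := by
  let τ : ∀ k, S k ⊗[R] N →ₗ[R] N := fun k =>
    (TensorProduct.lid R N).toLinearMap ∘ₗ LinearMap.rTensor N (decSection R S k)
  have hτ : ∀ k (s : S k) (n : N), τ k (s ⊗ₜ n) = decSection R S k s • n := fun k s n => by simp [τ]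
  constructor
  · intro n n' h
    have h1 : ∀ k, decIdem R S k • n = decIdem R S k • n' := fun k => by
      have h2 := congrArg (τ k) (congrFun h k)
      rwa [hτ, hτ, decSection_one] at h2
    rw [← one_smul R n, ← one_smul R n', ← sum_decIdem R S, Finset.sum_smul, Finset.sum_smul]
    exact Finset.sum_congr rfl fun k _ => h1 k
  · intro z
    refine ⟨∑ k, τ k (z k), funext fun l => ?_⟩
    show (1 : S l) ⊗ₜ[R] ∑ k, τ k (z k) = z l
    rw [TensorProduct.tmul_sum]
    have h1 : ∀ k (w : S k ⊗[R] N), k ≠ l → (1 : S l) ⊗ₜ[R] τ k w = 0 := by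
      intro k w hkl
      induction w using TensorProduct.induction_on with
      | zero => simp
      | add a b ha hb => rw [map_add, TensorProduct.tmul_add, ha, hb, add_zero]
      | tmul s n =>
        rw [hτ, ← TensorProduct.smul_tmul, Algebra.smul_def, algebraMap_decSection,
          Pi.single_eq_of_ne (Ne.symm hkl), zero_mul, TensorProduct.zero_tmul]
    rw [Finset.sum_eq_single l (fun k _ hk => h1 k _ hk) fun h => absurd (Finset.mem_univ l) h]
    generalize z l = w
    induction w using TensorProduct.induction_on with
    | zero => simp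
    | add a b ha hb => rw [map_add, TensorProduct.tmul_add, ha, hb]
    | tmul s n =>
      rw [hτ, ← TensorProduct.smul_tmul, Algebra.smul_def, algebraMap_decSection, Pi.single_eq_same, mul_one]

/-- The decomposition of an algebra. -/
def decAlgEquiv (A : Type u) [CommRing A] [Algebra R A] : A ≃ₐ[R] ∀ k, S k ⊗[R] A :=
  AlgEquiv.ofBijective
    (Pi.algHom R (fun k => S k ⊗[R] A) fun k => (Algebra.TensorProduct.includeRight : A →ₐ[R] S k ⊗[R] A))
    (tmul_bijective R S A)

theorem decAlgEquiv_apply (A : Type u) [CommRing A] [Algebra R A] (a : A) (k : ι) :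
    decAlgEquiv R S A a k = (1 : S k) ⊗ₜ[R] a := rfl

/-- The base change of squares is injective on the unit slice. -/
theorem sq_baseChange_eq {B : Type u} [CommRing B] [Bialgebra R B] (T : Type u) [CommRing T] [Algebra R T]
    (y : B ⊗[R] B) : sq T (SemiBialgHom.baseChange R T B).toAlgHom y =
      AlgebraTensorModule.distribBaseChange R T B B ((1 : T) ⊗ₜ y) := by
  induction y using TensorProduct.induction_on with
  | zero => simp
  | add a b ha hb => simp only [map_add, TensorProduct.tmul_add, ha, hb]
  | tmul p q => simp [SemiBialgHom.baseChange]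

/-- Isomorphisms of bialgebras glue over a decomposition. -/
theorem exists_bialgEquiv_of_decomp {A B : Type u} [CommRing A] [Bialgebra R A] [CommRing B] [Bialgebra R B]
    (f : ∀ k, S k ⊗[R] A ≃ₐc[S k] S k ⊗[R] B) : Nonempty (A ≃ₐc[R] B) := by
  let eP : (∀ k, S k ⊗[R] A) ≃ₐ[R] ∀ k, S k ⊗[R] B :=
    AlgEquiv.piCongrRight fun k => ((f k : S k ⊗[R] A ≃ₐ[S k] S k ⊗[R] B)).restrictScalars R
  let g : A ≃ₐ[R] B := (decAlgEquiv R S A).trans (eP.trans (decAlgEquiv R S B).symm)
  have hg : ∀ a k, (1 : S k) ⊗ₜ[R] g a = f k (1 ⊗ₜ a) := fun a k => by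
    rw [← decAlgEquiv_apply R S B (g a) k]
    show decAlgEquiv R S B ((decAlgEquiv R S B).symm (eP (decAlgEquiv R S A a))) k = _
    rw [AlgEquiv.apply_symm_apply]
    rfl
  refine ⟨BialgEquiv.ofAlgEquiv g (AlgHom.ext fun a => dec_ext R S fun k => ?_) (AlgHom.ext fun a => ?_)⟩
  · have h1 : counit (R := S k) ((1 : S k) ⊗ₜ[R] g a) = counit (R := S k) ((1 : S k) ⊗ₜ[R] a) := by
      rw [hg, CoalgHomClass.counit_comp_apply]
    rw [TensorProduct.counit_tmul, TensorProduct.counit_tmul, Bialgebra.counit_one,
      Algebra.smul_def, Algebra.smul_def, mul_one, mul_one] at h1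
    exact h1
  · refine (tmul_bijective R S (B ⊗[R] B)).1 (funext fun k => ?_)
    show (1 : S k) ⊗ₜ[R] Algebra.TensorProduct.map (g : A →ₐ[R] B) (g : A →ₐ[R] B) (comul a) =
      (1 : S k) ⊗ₜ[R] comul (g a)
    apply (AlgebraTensorModule.distribBaseChange R (S k) B B).injective
    rw [← sq_baseChange_eq, ← sq_baseChange_eq, ← (SemiBialgHom.baseChange R (S k) B).comul_comp]
    show _ = comul ((1 : S k) ⊗ₜ[R] g a)
    rw [hg, ← CoalgHomClass.map_comp_comul_apply,
      show ((1 : S k) ⊗ₜ[R] a) = (SemiBialgHom.baseChange R (S k) A).toAlgHom a from rfl,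
      (SemiBialgHom.baseChange R (S k) A).comul_comp]
    generalize comul (R := R) a = w
    induction w using TensorProduct.induction_on with
    | zero => simp
    | add x y hx hy => simp only [map_add, hx, hy]
    | tmul p q => simp [SemiBialgHom.baseChange, hg]

section Prod

variable (A : ι → Type u) [∀ k, CommRing (A k)] [∀ k, HopfAlgebra (S k) (A k)] [∀ k, Algebra R (A k)]
  [∀ k, IsScalarTower R (S k) (A k)]

/-- The square of a projection. -/
def decSq (k : ι) : (∀ l, A l) ⊗[R] (∀ l, A l) →ₐ[R] A k ⊗[S k] A k :=
  sq (S k) (Pi.evalAlgHom R A k)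

omit [Fintype ι] [DecidableEq ι] [IsDecomp R S] in
theorem decSq_tmul (k : ι) (x y : ∀ l, A l) : decSq R S A k (x ⊗ₜ y) = x k ⊗ₜ y k := sq_tmul _ _ _ _

theorem decIdem_smul (k : ι) (x : ∀ l, A l) : decIdem R S k • x = Pi.single k (x k) := by
  funext l
  rw [Pi.smul_apply, ← IsScalarTower.algebraMap_smul (S l), algebraMap_decIdem]
  rcases eq_or_ne l k with rfl | h
  · simp
  · simp [Pi.single_eq_of_ne h]

theorem compatibleSMul_dec (k : ι) (M N : Type u) [AddCommGroup M] [AddCommGroup N] [Module R M] [Module R N]
    [Module (S k) M] [Module (S k) N] [IsScalarTower R (S k) M] [IsScalarTower R (S k) N] :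
    TensorProduct.CompatibleSMul R (S k) M N :=
  ⟨fun s m n => by
    obtain ⟨r, rfl⟩ := dec_surjective R S k s
    rw [IsScalarTower.algebraMap_smul, IsScalarTower.algebraMap_smul, TensorProduct.smul_tmul]⟩

/-- The insertion of a square. -/
def decSqSection (k : ι) : A k ⊗[S k] A k →ₗ[R] (∀ l, A l) ⊗[R] (∀ l, A l) :=
  haveI := compatibleSMul_dec R S k (A k) (A k)
  TensorProduct.map (LinearMap.single R A k) (LinearMap.single R A k) ∘ₗ
    (TensorProduct.equivOfCompatibleSMul R (S k) R (A k) (A k)).toLinearMap

theorem decSqSection_tmul (k : ι) (a b : A k) :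
    decSqSection R S A k (a ⊗ₜ[S k] b) = Pi.single (M := A) k a ⊗ₜ[R] Pi.single (M := A) k b := rfl

theorem decSq_decSqSection (k l : ι) (h : k ≠ l) (w : A k ⊗[S k] A k) :
    decSq R S A l (decSqSection R S A k w) = 0 := by
  induction w using TensorProduct.induction_on with
  | zero => simp
  | add a b ha hb => rw [map_add, map_add, ha, hb, add_zero]
  | tmul a b => rw [decSqSection_tmul, decSq_tmul, Pi.single_eq_of_ne (Ne.symm h), TensorProduct.zero_tmul]

theorem decSq_decSqSection_self (k : ι) (w : A k ⊗[S k] A k) : decSq R S A k (decSqSection R S A k w) = w := by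
  induction w using TensorProduct.induction_on with
  | zero => simp
  | add a b ha hb => rw [map_add, map_add, ha, hb]
  | tmul a b => rw [decSqSection_tmul, decSq_tmul, Pi.single_eq_same, Pi.single_eq_same]

theorem decSqSection_decSq (k : ι) (z : (∀ l, A l) ⊗[R] (∀ l, A l)) :
    decSqSection R S A k (decSq R S A k z) = decIdem R S k • z := by
  induction z using TensorProduct.induction_on with
  | zero => simp
  | add a b ha hb => rw [map_add, map_add, ha, hb, smul_add]
  | tmul x y =>
    rw [decSq_tmul, decSqSection_tmul, ← decIdem_smul R S, ← decIdem_smul R S,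
      TensorProduct.smul_tmul_smul, decIdem_mul_self]

/-- Squares decompose. -/
theorem decSq_bijective :
    Function.Bijective (Pi.algHom R (fun k => A k ⊗[S k] A k) fun k => decSq R S A k) := by
  constructor
  · intro z z' h
    rw [← one_smul R z, ← one_smul R z', ← sum_decIdem R S, Finset.sum_smul, Finset.sum_smul]
    refine Finset.sum_congr rfl fun k _ => ?_
    rw [← decSqSection_decSq, ← decSqSection_decSq]
    exact congrArg _ (congrFun h k)
  · intro w
    refine ⟨∑ k, decSqSection R S A k (w k), funext fun l => ?_⟩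
    show decSq R S A l (∑ k, decSqSection R S A k (w k)) = w l
    rw [map_sum, Finset.sum_eq_single l (fun k _ hk => decSq_decSqSection R S A k l hk _)
      fun h => absurd (Finset.mem_univ l) h, decSq_decSqSection_self]

/-- The cube of a projection. -/
def decCube (k : ι) : (∀ l, A l) ⊗[R] ((∀ l, A l) ⊗[R] (∀ l, A l)) →ₐ[R] A k ⊗[S k] (A k ⊗[S k] A k) :=
  Algebra.TensorProduct.lift
    ((Algebra.TensorProduct.includeLeft (R := S k) (S := R) (A := A k) (B := A k ⊗[S k] A k)).comp
      (Pi.evalAlgHom R A k))
    (((Algebra.TensorProduct.includeRight (R := S k) (A := A k) (B := A k ⊗[S k] A k)).restrictScalars R).comp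
      (decSq R S A k)) fun _ _ => .all _ _

omit [Fintype ι] [DecidableEq ι] [IsDecomp R S] in
theorem decCube_tmul (k : ι) (x : ∀ l, A l) (w : (∀ l, A l) ⊗[R] (∀ l, A l)) :
    decCube R S A k (x ⊗ₜ w) = x k ⊗ₜ decSq R S A k w := by simp [decCube]

theorem decCube_ext {v v' : (∀ l, A l) ⊗[R] ((∀ l, A l) ⊗[R] (∀ l, A l))}
    (h : ∀ k, decCube R S A k v = decCube R S A k v') : v = v' := by
  rw [← one_smul R v, ← one_smul R v', ← sum_decIdem R S, Finset.sum_smul, Finset.sum_smul]
  refine Finset.sum_congr rfl fun k _ => ?_
  have := compatibleSMul_dec R S k (A k) (A k ⊗[S k] A k)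
  let j : A k ⊗[S k] (A k ⊗[S k] A k) →ₗ[R] (∀ l, A l) ⊗[R] ((∀ l, A l) ⊗[R] (∀ l, A l)) :=
    TensorProduct.map (LinearMap.single R A k) (decSqSection R S A k) ∘ₗ
      (TensorProduct.equivOfCompatibleSMul R (S k) R (A k) (A k ⊗[S k] A k)).toLinearMap
  have hj : ∀ u, j (decCube R S A k u) = decIdem R S k • u := by
    intro u
    induction u using TensorProduct.induction_on with
    | zero => simp
    | add a b ha hb => rw [map_add, map_add, ha, hb, smul_add]
    | tmul x w =>
      rw [decCube_tmul]
      show Pi.single (M := A) k (x k) ⊗ₜ[R] decSqSection R S A k (decSq R S A k w) = _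
      rw [decSqSection_decSq, ← decIdem_smul R S, TensorProduct.smul_tmul_smul, decIdem_mul_self]
  rw [← hj, ← hj, h k]

/-- The counit of a product. -/
def decCounit : (∀ l, A l) →ₐ[R] R :=
  ((AlgEquiv.ofBijective (Algebra.ofId R (∀ k, S k)) (IsDecomp.bijective (R := R) (S := S))).symm :
      (∀ k, S k) →ₐ[R] R).comp
    (Pi.algHom R S fun k => ((Bialgebra.counitAlgHom (S k) (A k)).restrictScalars R).comp (Pi.evalAlgHom R A k))

theorem algebraMap_decCounit (k : ι) (x : ∀ l, A l) :
    algebraMap R (S k) (decCounit R S A x) = counit (R := S k) (x k) :=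
  congrFun ((AlgEquiv.ofBijective (Algebra.ofId R (∀ k, S k))
    (IsDecomp.bijective (R := R) (S := S))).apply_symm_apply
    (fun k => counit (R := S k) (x k))) k

/-- The comultiplication of a product. -/
def decComul : (∀ l, A l) →ₐ[R] (∀ l, A l) ⊗[R] (∀ l, A l) :=
  ((AlgEquiv.ofBijective _ (decSq_bijective R S A)).symm :
      (∀ k, A k ⊗[S k] A k) →ₐ[R] (∀ l, A l) ⊗[R] (∀ l, A l)).comp
    (Pi.algHom R (fun k => A k ⊗[S k] A k) fun k =>
      ((Bialgebra.comulAlgHom (S k) (A k)).restrictScalars R).comp (Pi.evalAlgHom R A k))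

theorem decSq_decComul (k : ι) (x : ∀ l, A l) : decSq R S A k (decComul R S A x) = comul (R := S k) (x k) :=
  congrFun ((AlgEquiv.ofBijective _ (decSq_bijective R S A)).apply_symm_apply
    (fun k => comul (R := S k) (x k))) k

/-- The bialgebra structure of a product. -/
@[instance_reducible]
def decBialgebra : Bialgebra R (∀ l, A l) :=
  Bialgebra.ofAlgHom (decComul R S A) (decCounit R S A)
    (AlgHom.ext fun x => decCube_ext R S A fun k => by
      have hR : ∀ z : (∀ l, A l) ⊗[R] (∀ l, A l),
          decCube R S A k (Algebra.TensorProduct.map (AlgHom.id R _) (decComul R S A) z) =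
          TensorProduct.map LinearMap.id (comul (R := S k)) (decSq R S A k z) := by
        intro z
        induction z using TensorProduct.induction_on with
        | zero => simp
        | add a b ha hb => simp only [map_add, ha, hb]
        | tmul p q =>
          rw [Algebra.TensorProduct.map_tmul, decCube_tmul, decSq_decComul, decSq_tmul, TensorProduct.map_tmul]
          rfl
      have hL : ∀ z : (∀ l, A l) ⊗[R] (∀ l, A l),
          decCube R S A k (Algebra.TensorProduct.assoc R R R _ _ _
            (Algebra.TensorProduct.map (decComul R S A) (AlgHom.id R _) z)) =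
          TensorProduct.assoc (S k) _ _ _ (TensorProduct.map (comul (R := S k)) LinearMap.id (decSq R S A k z)) := by
        intro z
        induction z using TensorProduct.induction_on with
        | zero => simp
        | add a b ha hb => simp only [map_add, ha, hb]
        | tmul p q =>
          rw [Algebra.TensorProduct.map_tmul, decSq_tmul, TensorProduct.map_tmul, ← decSq_decComul R S A k p]
          generalize decComul R S A p = w
          induction w using TensorProduct.induction_on with
          | zero => simp
          | add a b ha hb => simp only [TensorProduct.add_tmul, map_add, ha, hb]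
          | tmul a b => simp [decCube_tmul, decSq_tmul]
      simp only [AlgHom.comp_apply, AlgEquiv.toAlgHom_eq_coe, AlgEquiv.coe_toAlgHom]
      rw [hR, hL, decSq_decComul]
      exact Coalgebra.coassoc_apply (R := S k) (x k))
    (AlgHom.ext fun x => (Algebra.TensorProduct.lid R (∀ l, A l)).injective (funext fun k => by
      have h : ∀ z : (∀ l, A l) ⊗[R] (∀ l, A l),
          Algebra.TensorProduct.lid R (∀ l, A l)
            (Algebra.TensorProduct.map (decCounit R S A) (AlgHom.id R _) z) k =
          TensorProduct.lid (S k) _ (LinearMap.rTensor _ (counit (R := S k)) (decSq R S A k z)) := by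
        intro z
        induction z using TensorProduct.induction_on with
        | zero => simp
        | add a b ha hb => simp only [map_add, Pi.add_apply, ha, hb]
        | tmul p q =>
          rw [decSq_tmul]
          simp only [Algebra.TensorProduct.map_tmul, AlgHom.id_apply, Algebra.TensorProduct.lid_tmul,
            Algebra.TensorProduct.rid_tmul, LinearMap.rTensor_tmul, LinearMap.lTensor_tmul,
            TensorProduct.lid_tmul, TensorProduct.rid_tmul, Pi.smul_apply]
          rw [← algebraMap_decCounit R S A, IsScalarTower.algebraMap_smul]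
      simp only [AlgHom.comp_apply, AlgEquiv.toAlgHom_eq_coe, AlgEquiv.coe_toAlgHom]
      rw [h, decSq_decComul, Coalgebra.rTensor_counit_comul]
      simp))
    (AlgHom.ext fun x => (Algebra.TensorProduct.rid R R (∀ l, A l)).injective (funext fun k => by
      have h : ∀ z : (∀ l, A l) ⊗[R] (∀ l, A l),
          Algebra.TensorProduct.rid R R (∀ l, A l)
            (Algebra.TensorProduct.map (AlgHom.id R _) (decCounit R S A) z) k =
          TensorProduct.rid (S k) _ (LinearMap.lTensor _ (counit (R := S k)) (decSq R S A k z)) := by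
        intro z
        induction z using TensorProduct.induction_on with
        | zero => simp
        | add a b ha hb => simp only [map_add, Pi.add_apply, ha, hb]
        | tmul p q =>
          rw [decSq_tmul]
          simp only [Algebra.TensorProduct.map_tmul, AlgHom.id_apply, Algebra.TensorProduct.lid_tmul,
            Algebra.TensorProduct.rid_tmul, LinearMap.rTensor_tmul, LinearMap.lTensor_tmul,
            TensorProduct.lid_tmul, TensorProduct.rid_tmul, Pi.smul_apply]
          rw [← algebraMap_decCounit R S A, IsScalarTower.algebraMap_smul]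
      simp only [AlgHom.comp_apply, AlgEquiv.toAlgHom_eq_coe, AlgEquiv.coe_toAlgHom]
      rw [h, decSq_decComul, Coalgebra.lTensor_counit_comul]
      simp))

/-- The antipode of a product. -/
def decAntipode : (∀ l, A l) →ₐ[R] ∀ l, A l :=
  Pi.algHom R A fun k => ((HopfAlgebra.antipodeAlgHom (S k) (A k)).restrictScalars R).comp (Pi.evalAlgHom R A k)

/-- The Hopf algebra structure of a product. -/
@[instance_reducible]
def decHopf : HopfAlgebra R (∀ l, A l) :=
  letI := decBialgebra R S A
  HopfAlgebra.ofAlgHom (decAntipode R S A)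
    (AlgHom.ext fun x => funext fun k => by
      have h : ∀ z : (∀ l, A l) ⊗[R] (∀ l, A l),
          Algebra.TensorProduct.lift (decAntipode R S A) (AlgHom.id R _) (fun _ => Commute.all _) z k =
          LinearMap.mul' (S k) _ (LinearMap.rTensor _ (HopfAlgebra.antipode (S k)) (decSq R S A k z)) := by
        intro z
        induction z using TensorProduct.induction_on with
        | zero => simp
        | add a b ha hb => simp only [map_add, Pi.add_apply, ha, hb]
        | tmul p q => rw [decSq_tmul]; simp [decAntipode]
      simp only [AlgHom.comp_apply]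
      rw [h, show Bialgebra.comulAlgHom R (∀ l, A l) x = decComul R S A x from rfl, decSq_decComul,
        HopfAlgebra.mul_antipode_rTensor_comul_apply, ← algebraMap_decCounit R S A, ← IsScalarTower.algebraMap_apply]
      rfl)
    (AlgHom.ext fun x => funext fun k => by
      have h : ∀ z : (∀ l, A l) ⊗[R] (∀ l, A l),
          Algebra.TensorProduct.lift (AlgHom.id R _) (decAntipode R S A) (fun _ _ => Commute.all _ _) z k =
          LinearMap.mul' (S k) _ (LinearMap.lTensor _ (HopfAlgebra.antipode (S k)) (decSq R S A k z)) := by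
        intro z
        induction z using TensorProduct.induction_on with
        | zero => simp
        | add a b ha hb => simp only [map_add, Pi.add_apply, ha, hb]
        | tmul p q => rw [decSq_tmul]; simp [decAntipode]
      simp only [AlgHom.comp_apply]
      rw [h, show Bialgebra.comulAlgHom R (∀ l, A l) x = decComul R S A x from rfl, decSq_decComul,
        HopfAlgebra.mul_antipode_lTensor_comul_apply, ← algebraMap_decCounit R S A, ← IsScalarTower.algebraMap_apply]
      rfl)

/-- A family of Hopf algebras over the pieces comes from one over the base. -/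
theorem exists_hopf_of_decomp : ∃ (B : Type u) (_ : CommRing B) (_ : HopfAlgebra R B),
    ∀ k, Nonempty (S k ⊗[R] B ≃ₐc[S k] A k) := by
  let _ : HopfAlgebra R (∀ l, A l) := decHopf R S A
  refine ⟨∀ l, A l, inferInstance, inferInstance, fun k => ?_⟩
  let p : SemiBialgHom R (S k) (∀ l, A l) (A k) :=
    { toAlgHom := Pi.evalAlgHom R A k
      counit_comp := fun x => (algebraMap_decCounit R S A k x).symm
      comul_comp := fun x => (decSq_decComul R S A k x).symm }
  have hone : ∀ z : S k ⊗[R] (∀ l, A l), ∃ x, (1 : S k) ⊗ₜ[R] x = z :=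
    TensorProduct.mk_surjective R (∀ l, A l) (S k) (dec_surjective R S k)
  refine ⟨p.toBialgEquiv ⟨(injective_iff_map_eq_zero _).mpr fun z hz => ?_, fun a => ?_⟩⟩
  · obtain ⟨x, rfl⟩ := hone z
    rw [SemiBialgHom.extend_tmul, one_smul] at hz
    have hx : decIdem R S k • x = 0 := by
      rw [decIdem_smul, show x k = 0 from hz, Pi.single_zero]
    have h1 : algebraMap R (S k) (decIdem R S k) = 1 := by
      rw [algebraMap_decIdem, Pi.single_eq_same]
    rw [← h1, Algebra.algebraMap_eq_smul_one, TensorProduct.smul_tmul, hx, TensorProduct.tmul_zero]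
  · exact ⟨(1 : S k) ⊗ₜ Pi.single (M := A) k a, by
      rw [SemiBialgHom.extend_tmul, one_smul]; exact Pi.single_eq_same k a⟩

end Prod

end Groth.Agent.MultTypeLib
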