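import Groth.Agent.MultTypeLib.TwistLift
import Groth.Agent.MultTypeLib.Decomp
import Mathlib.RingTheory.Etale.Pi
import Mathlib.RingTheory.Localization.Away.Lemmas

/-!
# Lifting quasi-isotrivial groups along nilpotent ideals
-/

universe u

open TensorProduct Coalgebra Bialgebra

noncomputable section

namespace Groth.Agent.MultTypeLib

/-- Base change of an isomorphism of bialgebras. -/
def congrBase {R : Type u} [CommRing R] (S : Type u) [CommRing S] [Algebra R S] {X Y : Type u} [CommRing X]
    [CommRing Y] [Bialgebra R X] [Bialgebra R Y] (e : X ≃ₐc[R] Y) : S ⊗[R] X ≃ₐc[S] S ⊗[R] Y :=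
  BialgEquiv.ofBijective (Bialgebra.TensorProduct.map (BialgHom.id S S) (e : X →ₐc[R] Y))
    (Algebra.TensorProduct.congr (AlgEquiv.refl (R := S) (A₁ := S)) (e : X ≃ₐ[R] Y)).bijective

section Helpers

variable {R : Type u} [CommRing R] (I : Ideal R) {E C : Type u} [CommRing E] [Algebra R E] [CommRing C]
  [Algebra (R ⧸ I) C] [Algebra R C] [IsScalarTower R (R ⧸ I) C]

theorem isRed_of_equiv (φ : (R ⧸ I) ⊗[R] E ≃ₐ[R ⧸ I] C) :
    IsRed I ((φ.toAlgHom.restrictScalars R).comp Algebra.TensorProduct.includeRight : E →ₐ[R] C) := by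
  refine ⟨fun c => ?_, fun x hx => ?_⟩
  · obtain ⟨z, rfl⟩ := φ.surjective c
    suffices ∃ x : E, (1 : R ⧸ I) ⊗ₜ[R] x = z from this.imp fun x hx => by rw [← hx]; rfl
    exact TensorProduct.mk_surjective R E (R ⧸ I) Ideal.Quotient.mk_surjective z
  · let ψ : (R ⧸ I) ⊗[R] E →ₐ[R] E ⧸ I.map (algebraMap R E) := Algebra.TensorProduct.lift
      (ofRed I E) (Ideal.Quotient.mkₐ R _) fun _ _ => .all _ _
    have h1 : (1 : R ⧸ I) ⊗ₜ[R] x = 0 := φ.injective (hx.trans (map_zero φ).symm)
    have h2 := congrArg ψ h1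
    rw [Algebra.TensorProduct.lift_tmul, map_one, one_mul, map_zero] at h2
    exact Ideal.Quotient.eq_zero_iff_mem.mp h2

theorem faithfullyFlat_of_nil (hI : ∀ x ∈ I, IsNilpotent x) [Module.Flat R E]
    [Module.FaithfullyFlat (R ⧸ I) C] (π : E →ₐ[R] C) : Module.FaithfullyFlat R E := by
  refine Module.FaithfullyFlat.of_comap_surjective fun p => ?_
  have hIp : I ≤ p.asIdeal := fun x hx => by
    obtain ⟨n, hn⟩ := hI x hx
    exact p.2.mem_of_pow_mem n (hn ▸ p.asIdeal.zero_mem)
  let m' : Ideal (R ⧸ I) := p.asIdeal.map (Ideal.Quotient.mk I)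
  have : m'.IsPrime := Ideal.map_isPrime_of_surjective Ideal.Quotient.mk_surjective
    (by rw [Ideal.mk_ker]; exact hIp)
  obtain ⟨⟨r, hr⟩, hrm⟩ := PrimeSpectrum.comap_surjective_of_faithfullyFlat (A := R ⧸ I)
    (B := C) ⟨m', inferInstance⟩
  refine ⟨⟨r.comap π, Ideal.IsPrime.comap _⟩, PrimeSpectrum.ext ?_⟩
  have h1 : r.comap (algebraMap (R ⧸ I) C) = m' := congrArg PrimeSpectrum.asIdeal hrm
  have h2 : m'.comap (Ideal.Quotient.mk I) = p.asIdeal := by
    rw [Ideal.comap_map_of_surjective _ Ideal.Quotient.mk_surjective, ← RingHom.ker_eq_comap_bot,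
      Ideal.mk_ker, sup_eq_left]
    exact hIp
  rw [← h2, ← h1]
  ext x
  show π (algebraMap R E x) ∈ r ↔ algebraMap (R ⧸ I) C (algebraMap R (R ⧸ I) x) ∈ r
  rw [AlgHom.commutes, IsScalarTower.algebraMap_apply R (R ⧸ I) C]

end Helpers

set_option maxHeartbeats 2000000 in
/-- Lifting along a nilpotent ideal, one etale algebra. -/
theorem exists_etale_twist_lift {R : Type u} [CommRing R] (I : Ideal R) (hI : ∀ x ∈ I, IsNilpotent x)
    (A₀ : Type u) [CommRing A₀] [HopfAlgebra (R ⧸ I) A₀]
    (C : Type u) [CommRing C] [Algebra (R ⧸ I) C] [Algebra.Etale (R ⧸ I) C] [Module.FaithfullyFlat (R ⧸ I) C]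
    (hd : SGA3b.IsDiag C (C ⊗[R ⧸ I] A₀)) :
    ∃ (A : Type u) (_ : CommRing A) (_ : HopfAlgebra R A),
      SGA3b.IsQuasiIsotrivialConst R A ∧ Nonempty ((R ⧸ I) ⊗[R] A ≃ₐc[R ⧸ I] A₀) := by
  let _ : Algebra R A₀ := ((algebraMap (R ⧸ I) A₀).comp (algebraMap R (R ⧸ I))).toAlgebra
  have : IsScalarTower R (R ⧸ I) A₀ := IsScalarTower.of_algebraMap_eq fun _ => rfl
  let _ : Algebra R C := ((algebraMap (R ⧸ I) C).comp (algebraMap R (R ⧸ I))).toAlgebra
  have : IsScalarTower R (R ⧸ I) C := IsScalarTower.of_algebraMap_eq fun _ => rfl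
  obtain ⟨M, _, ⟨eC⟩⟩ := hd
  obtain ⟨E, _, _, het, ⟨φ⟩⟩ := Hensel.exists_etale_algebra_lift (A := R) (T := R ⧸ I) (C := C)
    Ideal.Quotient.mk_surjective
  let π : E →ₐ[R] C := (φ.toAlgHom.restrictScalars R).comp Algebra.TensorProduct.includeRight
  have hπ : IsRed I π := isRed_of_equiv I φ
  have : Module.FaithfullyFlat R E := faithfullyFlat_of_nil I hI π
  have := idemLifts_of_nil I hI (E ⊗[R] E)
  have := idemLifts_of_nil I hI (E ⊗[R] (E ⊗[R] E))
  obtain ⟨A, _, _, ⟨eE⟩, eA⟩ := exists_twist_lift I A₀ C eC E π hπ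
  exact ⟨A, inferInstance, inferInstance,
    ⟨E, inferInstance, inferInstance, het, inferInstance, isDiag_of_equiv eE⟩, eA⟩

section Partition

variable {R : Type u} [CommRing R] (A : Type u) [CommRing A] [HopfAlgebra R A]

/-- An algebra on which an element with unit image is the reduction to a quotient. -/
theorem exists_factor {T C : Type u} [CommRing T] [Algebra R T] [CommRing C] [Algebra R C] (r : R)
    (hT : Function.Surjective (algebraMap R T)) (hker : ∀ x, algebraMap R T x = 0 → r * x = 0)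
    (hr : algebraMap R C r = 1) :
    ∃ f : T →+* C, f.comp (algebraMap R T) = algebraMap R C := by
  refine ⟨RingHom.liftOfSurjective (algebraMap R T) hT ⟨algebraMap R C, fun x hx => ?_⟩,
    RingHom.liftOfRightInverse_comp _ _ _ _⟩
  rw [RingHom.mem_ker] at hx ⊢
  rw [← one_mul (algebraMap R C x), ← hr, ← map_mul, hker x hx, map_zero]

set_option maxHeartbeats 4000000 in
/-- The base decomposes so that the group is quasi-isotrivial of constant type on each piece. -/
theorem exists_decomp_const (h : SGA3b.IsQuasiIsotrivial R A) :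
    ∃ (κ : Type u) (_ : Fintype κ) (r : κ → R), CompleteOrthogonalIdempotents r ∧
      ∀ (k : κ) (T : Type u) [CommRing T] [Algebra R T], Function.Surjective (algebraMap R T) →
        (∀ x, algebraMap R T x = 0 → r k * x = 0) → algebraMap R T (r k) = 1 →
        ∃ (C : Type u) (_ : CommRing C) (_ : Algebra T C), Algebra.Etale T C ∧ Module.FaithfullyFlat T C ∧
          SGA3b.IsDiag C (C ⊗[T] (T ⊗[R] A)) := by
  classical
  obtain ⟨s, hs, hA⟩ := h
  obtain ⟨t, hts, ht⟩ := Submodule.mem_span_finite_of_mem_span (hs ▸ Submodule.mem_top : (1 : R) ∈ Ideal.span s)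
  let ι : Type u := (t : Finset R)
  choose C iC1 iC2 het hff hdC using fun f : ι => hA f.1 (hts f.2)
  let _ (i : ι) : Algebra R (C i) :=
    ((algebraMap (Localization.Away i.1) (C i)).comp (algebraMap R (Localization.Away i.1))).toAlgebra
  have hTow : ∀ i : ι, IsScalarTower R (Localization.Away i.1) (C i) := fun i =>
    IsScalarTower.of_algebraMap_eq fun _ => rfl
  have hEt : ∀ i : ι, Algebra.Etale R (C i) := fun i => by
    have : Algebra.Etale R (Localization.Away i.1) := Algebra.Etale.of_isLocalizationAway i.1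
    exact Algebra.Etale.comp R (Localization.Away i.1) (C i)
  have hd : ∀ i : ι, SGA3b.IsDiag (C i) (C i ⊗[R] A) := fun i =>
    isDiag_congr (baseChangeTrans (R := R) (Localization.Away i.1) (C i) A).symm (hdC i)
  have surj : ∀ p : Ideal R, p.IsPrime → ∃ (i : ι) (q : Ideal (C i)),
      q.IsPrime ∧ q.comap (algebraMap R (C i)) = p := by
    intro p hp
    obtain ⟨f, hft, hfp⟩ : ∃ f ∈ t, f ∉ p := by
      by_contra hne
      push Not at hne
      exact hp.ne_top (p.eq_top_iff_one.mpr ((Submodule.span_le.mpr fun x hx => hne x hx) ht))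
    have hdisj : Disjoint (Submonoid.powers f : Set R) p := Set.disjoint_left.mpr fun x ⟨n, hn⟩ hx =>
      hfp (hp.mem_of_pow_mem n (by rw [show f ^ n = x from hn]; exact hx))
    let q₀ := p.map (algebraMap R (Localization.Away f))
    have hq₀ : q₀.IsPrime := IsLocalization.isPrime_of_isPrime_disjoint (Submonoid.powers f) _ p hp hdisj
    let _ : Algebra (Localization.Away f) (C ⟨f, hft⟩) := iC2 ⟨f, hft⟩
    have : Module.FaithfullyFlat (Localization.Away f) (C ⟨f, hft⟩) := hff ⟨f, hft⟩
    obtain ⟨⟨q, hq⟩, hqq⟩ := PrimeSpectrum.comap_surjective_of_faithfullyFlat (A := Localization.Away f)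
      (B := C ⟨f, hft⟩) ⟨q₀, hq₀⟩
    refine ⟨⟨f, hft⟩, q, hq, ?_⟩
    have h1 : q.comap (algebraMap (Localization.Away f) (C ⟨f, hft⟩)) = q₀ := congrArg PrimeSpectrum.asIdeal hqq
    rw [show algebraMap R (C ⟨f, hft⟩) =
      (algebraMap (Localization.Away f) (C ⟨f, hft⟩)).comp (algebraMap R (Localization.Away f)) from rfl,
      ← Ideal.comap_comap, h1]
    exact IsLocalization.comap_map_of_isPrime_disjoint (Submonoid.powers f) _ hp hdisj
  choose M hM hom equiv he using fun i => exists_split_of_isDiag (C i) (hd i)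
  let c : Cover R A :=
    { ι := ι
      split := fun i => { S := C i, M := M i, hom := hom i, equiv := equiv i, equiv_tmul := he i }
      surj := surj }
  let sd : Setoid ι :=
    { r := fun i j => Nonempty (M i ≃* M j)
      iseqv := ⟨fun i => ⟨MulEquiv.refl _⟩, fun ⟨e⟩ => ⟨e.symm⟩, fun ⟨e⟩ ⟨e'⟩ => ⟨e.trans e'⟩⟩ }
  let κ := Quotient sd
  let ev : κ → ∀ i, C i := fun k i => if Quotient.mk sd i = k then 1 else 0
  have hr : ∀ k, ∃ r : R, ∀ i, algebraMap R (C i) r = ev k i := fun k => by
    obtain ⟨r, hr⟩ := c.descend (fun i => ev k i ⊗ₜ[R] (1 : R)) fun i j => by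
      show _ ⊗ₜ[R] (1 : R) = _ ⊗ₜ[R] (1 : R)
      congr 1
      rcases subsingleton_or_nontrivial (C i ⊗[R] C j) with hs | hs
      · exact hs.elim _ _
      · obtain ⟨b⟩ := (c.split i).exists_mulEquiv (c.split j) hs
        have hij : Quotient.mk sd i = Quotient.mk sd j := Quotient.sound ⟨b⟩
        by_cases hk : Quotient.mk sd i = k
        · simp only [ev, if_pos hk, if_pos (hij ▸ hk), AlgHom.toLinearMap_apply, map_one]
        · simp only [ev, if_neg hk, if_neg (hij ▸ hk), map_zero]
    refine ⟨r, fun i => ?_⟩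
    have h := congrArg (TensorProduct.rid R (C i)) (hr i)
    rw [TensorProduct.rid_tmul, TensorProduct.rid_tmul, one_smul] at h
    rw [← h, Algebra.algebraMap_eq_smul_one]
  choose r hr using hr
  have ext : ∀ x y : R, (∀ i, algebraMap R (C i) x = algebraMap R (C i) y) → x = y := fun x y h =>
    sub_eq_zero.mp (c.module_ext _ fun i => by
      show (1 : C i) ⊗ₜ[R] (x - y) = 0
      rw [← mul_one (x - y), ← smul_eq_mul, ← TensorProduct.smul_tmul, ← Algebra.algebraMap_eq_smul_one,
        map_sub, h i, sub_self, TensorProduct.zero_tmul])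
  refine ⟨κ, inferInstance, r, ⟨⟨fun k => ext _ _ fun i => ?_, fun k l hkl => ext _ _ fun i => ?_⟩,
    ext _ _ fun i => ?_⟩, ?_⟩
  · rw [map_mul, hr]
    by_cases hk : Quotient.mk sd i = k <;> simp [ev, hk]
  · rw [map_mul, map_zero, hr, hr]
    by_cases hk : Quotient.mk sd i = k
    · simp [ev, hk, hkl]
    · simp [ev, hk]
  · rw [map_sum, map_one]
    simp only [hr, ev]
    rw [Finset.sum_eq_single (Quotient.mk sd i) (fun b _ hb => if_neg (Ne.symm hb))
      fun h => absurd (Finset.mem_univ _) h]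
    exact if_pos rfl
  intro k T _ _ hT hker hrT
  let ι' := {i : ι // Quotient.mk sd i = k}
  let C' : ι' → Type u := fun i => C i.1
  choose g hg using fun i : ι' => exists_factor (C := C i.1) (r k) hT hker
    (by rw [hr]; exact if_pos i.2)
  let _ : Algebra T (∀ i, C' i) := (RingHom.pi g).toAlgebra
  have : IsScalarTower R T (∀ i, C' i) := IsScalarTower.of_algebraMap_eq fun x =>
    funext fun i => (RingHom.congr_fun (hg i) x).symm
  have : TensorProduct.CompatibleSMul R T T (∀ i, C' i) := ⟨fun s m n => by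
    obtain ⟨x, rfl⟩ := hT s
    rw [IsScalarTower.algebraMap_smul, IsScalarTower.algebraMap_smul, TensorProduct.smul_tmul]⟩
  have : Algebra.Etale R (∀ i, C' i) := inferInstance
  have het' : Algebra.Etale T (∀ i, C' i) :=
    Algebra.Etale.of_equiv (Algebra.TensorProduct.lidOfCompatibleSMul R T (∀ i, C' i))
  have : Module.Flat T (∀ i, C' i) := inferInstance
  refine ⟨∀ i, C' i, inferInstance, inferInstance, het',
    Module.FaithfullyFlat.of_comap_surjective fun p => ?_, ?_⟩
  · obtain ⟨i, q, hq, hqp⟩ := surj (p.asIdeal.comap (algebraMap R T)) inferInstance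
    have hi : Quotient.mk sd i = k := by
      by_contra hne
      have h0 : r k ∈ q.comap (algebraMap R (C i)) := by
        rw [Ideal.mem_comap, hr]; simp [ev, hne]
      rw [hqp, Ideal.mem_comap, hrT] at h0
      exact p.2.ne_top (p.asIdeal.eq_top_iff_one.mpr h0)
    let i' : ι' := ⟨i, hi⟩
    refine ⟨⟨q.comap (Pi.evalRingHom C' i'), Ideal.IsPrime.comap _⟩, PrimeSpectrum.ext ?_⟩
    refine Ideal.comap_injective_of_surjective _ hT ?_
    show ((q.comap (Pi.evalRingHom C' i')).comap (algebraMap T (∀ j, C' j))).comap (algebraMap R T) = _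
    rw [← hqp, Ideal.comap_comap, Ideal.comap_comap]
    congr 1
    exact hg i'
  · refine isDiag_congr (baseChangeTrans (R := R) T (∀ i, C' i) A) ?_
    obtain ⟨i₀, hi₀⟩ := Quotient.exists_rep k
    have hσ : ∀ i : ι', Nonempty (M i₀ ≃* M i.1) := fun i => Quotient.exact (hi₀.trans i.2.symm)
    exact isDiag_pi (R := R) C' (fun i => M i.1) (fun i => hom i.1) (fun i => equiv i.1) (fun i => he i.1)
      (M i₀) fun i => (hσ i).some

end Partition

section Main

variable {R : Type u} [CommRing R] {κ : Type u} [Fintype κ] {e : κ → R}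

theorem isDecomp_away (he : CompleteOrthogonalIdempotents e) :
    IsDecomp R fun k => Localization.Away (e k) := by
  classical
  have inst : ∀ k, IsLocalization.Away (e k) (R ⧸ Ideal.span {1 - e k}) := fun k =>
    IsLocalization.Away.quotient_of_isIdempotentElem (he.idem k)
  let φ : ∀ k, Localization.Away (e k) ≃ₐ[R] R ⧸ Ideal.span {1 - e k} := fun k =>
    IsLocalization.algEquiv (Submonoid.powers (e k)) _ _
  refine ⟨⟨fun x y h => he.bijective_pi.1 (funext fun k => ?_), fun z => ?_⟩⟩
  · show Ideal.Quotient.mk _ x = Ideal.Quotient.mk _ y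
    rw [← Ideal.Quotient.algebraMap_eq, ← (φ k).commutes, ← (φ k).commutes]
    exact congrArg (φ k) (congrFun h k)
  · obtain ⟨x, hx⟩ := he.bijective_pi.2 fun k => φ k (z k)
    exact ⟨x, funext fun k => (φ k).injective (((φ k).commutes x).trans (congrFun hx k))⟩

theorem isDecomp_red (I : Ideal R) [IsDecomp R fun k => Localization.Away (e k)] :
    letI (k : κ) : Algebra (R ⧸ I)
        (Localization.Away (e k) ⧸ I.map (algebraMap R (Localization.Away (e k)))) :=
      (Ideal.quotientMap _ (algebraMap R (Localization.Away (e k))) Ideal.le_comap_map).toAlgebra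
    IsDecomp (R ⧸ I) fun k => Localization.Away (e k) ⧸ I.map (algebraMap R (Localization.Away (e k))) := by
  classical
  let _ (k : κ) : Algebra (R ⧸ I)
        (Localization.Away (e k) ⧸ I.map (algebraMap R (Localization.Away (e k)))) :=
      (Ideal.quotientMap _ (algebraMap R (Localization.Away (e k))) Ideal.le_comap_map).toAlgebra
  refine ⟨⟨(injective_iff_map_eq_zero _).mpr fun x hx => ?_, fun z => ?_⟩⟩
  · obtain ⟨x, rfl⟩ := Ideal.Quotient.mk_surjective x
    rw [Ideal.Quotient.eq_zero_iff_mem]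
    have h1 : ∀ k, algebraMap R (Localization.Away (e k)) x ∈ I.map (algebraMap R (Localization.Away (e k))) :=
      fun k => Ideal.Quotient.eq_zero_iff_mem.mp (congrFun hx k)
    rw [← one_mul x, ← sum_decIdem R fun k => Localization.Away (e k), Finset.sum_mul]
    refine I.sum_mem fun k _ => ?_
    obtain ⟨i, hi, hik⟩ :=
      (Ideal.mem_map_iff_of_surjective _ (dec_surjective R (fun k => Localization.Away (e k)) k)).mp (h1 k)
    rw [show decIdem R (fun k => Localization.Away (e k)) k * x =
      decIdem R (fun k => Localization.Away (e k)) k * i from dec_ext R (fun k => Localization.Away (e k)) fun l => by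
        rw [map_mul, map_mul, show algebraMap R (Localization.Away (e l))
            (decIdem R (fun k => Localization.Away (e k)) k) =
            Pi.single (M := fun k => Localization.Away (e k)) k 1 l from
              algebraMap_decIdem R (fun k => Localization.Away (e k)) k l]
        rcases eq_or_ne l k with rfl | h
        · rw [hik]
        · simp [Pi.single_eq_of_ne h]]
    exact I.mul_mem_left _ hi
  · choose w hw using fun k => Ideal.Quotient.mk_surjective (z k)
    obtain ⟨x, hx⟩ := (IsDecomp.bijective (R := R) (S := fun k => Localization.Away (e k))).2 w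
    refine ⟨Ideal.Quotient.mk I x, funext fun k => ?_⟩
    rw [← hw k, ← congrFun hx k]
    rfl

set_option maxHeartbeats 4000000 in
/-- Quasi-isotrivial groups lift along nilpotent ideals. -/
theorem exists_quasiIsotrivial_lift (I : Ideal R) (hI : ∀ x ∈ I, IsNilpotent x)
    (A₀ : Type u) [CommRing A₀] [HopfAlgebra (R ⧸ I) A₀] (h0 : SGA3b.IsQuasiIsotrivial (R ⧸ I) A₀) :
    ∃ (A : Type u) (_ : CommRing A) (_ : HopfAlgebra R A),
      SGA3b.IsQuasiIsotrivial R A ∧ Nonempty ((R ⧸ I) ⊗[R] A ≃ₐc[R ⧸ I] A₀) := by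
  classical
  obtain ⟨κ, _, r, hr, hconst⟩ := exists_decomp_const A₀ h0
  obtain ⟨e, he, her⟩ := hr.lift_of_isNilpotent_ker (Ideal.Quotient.mk I)
    (fun x hx => hI x (by rwa [Ideal.mk_ker] at hx)) fun k => Ideal.Quotient.mk_surjective _
  have := isDecomp_away he
  let S : κ → Type u := fun k => Localization.Away (e k)
  let J : ∀ k, Ideal (S k) := fun k => I.map (algebraMap R (S k))
  let T : κ → Type u := fun k => S k ⧸ J k
  let _ (k : κ) : Algebra (R ⧸ I) (T k) :=
    (Ideal.quotientMap _ (algebraMap R (S k)) Ideal.le_comap_map).toAlgebra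
  have hTow : ∀ k, IsScalarTower R (R ⧸ I) (T k) := fun k => IsScalarTower.of_algebraMap_eq fun _ => rfl
  have hdT : IsDecomp (R ⧸ I) T := isDecomp_red I
  have hek : ∀ k, algebraMap R (S k) (e k) = 1 := fun k => by
    exact (IsIdempotentElem.iff_eq_one_of_isUnit (IsLocalization.Away.algebraMap_isUnit (S := S k) (e k))).mp
      ((he.idem k).map _)
  have hJ : ∀ k, ∀ x ∈ J k, IsNilpotent x := fun k x hx => by
    have h : J k ≤ nilradical (S k) := Ideal.map_le_iff_le_comap.mpr fun y hy =>
      mem_nilradical.mpr ((hI y hy).map _)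
    exact mem_nilradical.mp (h hx)
  have hstep : ∀ k, ∃ (A : Type u) (_ : CommRing A) (_ : HopfAlgebra (S k) A),
      SGA3b.IsQuasiIsotrivialConst (S k) A ∧
      Nonempty (T k ⊗[S k] A ≃ₐc[T k] T k ⊗[R ⧸ I] A₀) := by
    intro k
    obtain ⟨C, _, _, hCet, hCff, hCd⟩ := hconst k (T k) (dec_surjective (R ⧸ I) T k) (fun x hx => by
      obtain ⟨x, rfl⟩ := Ideal.Quotient.mk_surjective x
      obtain ⟨i, hi, hix⟩ := (Ideal.mem_map_iff_of_surjective _ (dec_surjective R S k)).mp
        (Ideal.Quotient.eq_zero_iff_mem.mp hx)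
      rw [← congrFun her k, Function.comp_apply, ← map_mul, Ideal.Quotient.eq_zero_iff_mem]
      have : e k * x = e k * i := dec_ext R S fun l => by
        rw [map_mul, map_mul]
        rcases eq_or_ne l k with rfl | hlk
        · rw [hix]
        · have h0 : algebraMap R (S l) (e k) = 0 := by
            rw [← mul_one (algebraMap R (S l) (e k)), ← hek l, ← map_mul, he.ortho (Ne.symm hlk), map_zero]
          simp [h0]
      rw [this]
      exact I.mul_mem_left _ hi) (by
      rw [← congrFun her k]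
      show Ideal.Quotient.mk (J k) (algebraMap R (S k) (e k)) = 1
      rw [hek, map_one])
    exact exists_etale_twist_lift (J k) (hJ k) (T k ⊗[R ⧸ I] A₀) C hCd
  choose A iA1 iA2 hAq eA using hstep
  let _ (k : κ) : Algebra R (A k) := ((algebraMap (S k) (A k)).comp (algebraMap R (S k))).toAlgebra
  have : ∀ k, IsScalarTower R (S k) (A k) := fun k => IsScalarTower.of_algebraMap_eq fun _ => rfl
  obtain ⟨B, _, _, hB⟩ := exists_hopf_of_decomp R S A
  refine ⟨B, inferInstance, inferInstance, ⟨Set.range e, ?_, ?_⟩, ?_⟩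
  · rw [Ideal.eq_top_iff_one, ← he.complete]
    exact Ideal.sum_mem _ fun k _ => Ideal.subset_span ⟨k, rfl⟩
  · rintro _ ⟨k, rfl⟩
    obtain ⟨E, _, _, hEet, hEff, hEd⟩ := hAq k
    obtain ⟨eB⟩ := hB k
    exact ⟨E, inferInstance, inferInstance, hEet, hEff, isDiag_congr (congrBase E eB).symm hEd⟩
  · refine exists_bialgEquiv_of_decomp (R ⧸ I) T fun k => ?_
    exact ((((baseChangeTrans (R := R) (R ⧸ I) (T k) B).symm.trans (baseChangeTrans (R := R) (S k) (T k) B)).trans
      (congrBase (T k) (hB k).some)).trans (eA k).some)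

end Main

end Groth.Agent.MultTypeLib
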