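import Groth.Agent.MultTypeLib.Coeff
import Mathlib.GroupTheory.QuotientGroup.Defs
import Mathlib.RingTheory.HopfAlgebra.MonoidAlgebra

/-!
# Monomorphisms out of a group of multiplicative type are closed immersions
-/

universe u v w

open WithConv TensorProduct Coalgebra Bialgebra

noncomputable section

namespace Groth.Agent.MultTypeLib

section Range

variable {R : Type u} [CommRing R] {S : Type v} [CommRing S] [Algebra R S]
variable {C : Type w} [CommRing C] [HopfAlgebra R C] {M : Type*} [CommGroup M]

/-- The extension to the base change. -/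
def SemiBialgHom.liftBase (h : SemiBialgHom R S C (MonoidAlgebra S M)) :
    S ⊗[R] C →ₐ[S] MonoidAlgebra S M :=
  Algebra.TensorProduct.lift (Algebra.ofId S _) h.toAlgHom fun _ _ => .all _ _

@[simp] theorem SemiBialgHom.liftBase_tmul (h : SemiBialgHom R S C (MonoidAlgebra S M)) (s : S) (c : C) :
    h.liftBase (s ⊗ₜ c) = s • h.toAlgHom c := by
  simp [SemiBialgHom.liftBase, Algebra.smul_def]

/-- The ideal of the component `m` of the image. -/
def SemiBialgHom.comp' (h : SemiBialgHom R S C (MonoidAlgebra S M)) (m : M) : Ideal S :=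
  (Subalgebra.toSubmodule h.liftBase.range).comap (MonoidAlgebra.lsingle m)

theorem SemiBialgHom.mem_comp' {h : SemiBialgHom R S C (MonoidAlgebra S M)} {m : M} {r : S} :
    r ∈ h.comp' m ↔ MonoidAlgebra.single m r ∈ h.liftBase.range := Iff.rfl

theorem SemiBialgHom.coef_mem_comp (h : SemiBialgHom R S C (MonoidAlgebra S M)) (m : M) (c : C) :
    (h.coef m).ofConv c ∈ h.comp' m := by
  classical
  let F : C ⊗[R] C →ₗ[R] MonoidAlgebra S M :=
    TensorProduct.lift (((LinearMap.lsmul S (MonoidAlgebra S M)).restrictScalars₁₂ R R).flip.compl₁₂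
      h.toAlgHom.toLinearMap (h.coef m).ofConv)
  have hF : ∀ c c', F (c ⊗ₜ c') = (h.coef m).ofConv c' • h.toAlgHom c := fun c c' => by simp [F]
  have h1 : F (comul (R := R) c) ∈ h.liftBase.range := by
    generalize comul (R := R) c = z
    induction z using TensorProduct.induction_on with
    | zero => simp
    | add z₁ z₂ h₁ h₂ => rw [map_add]; exact add_mem h₁ h₂
    | tmul x y => exact ⟨(h.coef m).ofConv y ⊗ₜ x, by simp [hF]⟩
  have h2 : F (comul (R := R) c) = MonoidAlgebra.single m ((h.coef m).ofConv c) := by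
    ext n
    have e : (F (comul (R := R) c)).coeff n = (h.coef n * h.coef m).ofConv c := by
      rw [LinearMap.convMul_apply]
      generalize comul (R := R) c = z
      induction z using TensorProduct.induction_on with
      | zero => simp
      | add z₁ z₂ h₁ h₂ => simp [map_add, h₁, h₂]
      | tmul x y => simp [hF, SemiBialgHom.coef_apply, mul_comm]
    rw [e, h.coef_mul, MonoidAlgebra.coeff_single, Finsupp.single_apply]
    by_cases hn : n = m
    · subst hn; simp
    · simp [hn, Ne.symm hn]
  rw [SemiBialgHom.mem_comp', ← h2]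
  exact h1

theorem SemiBialgHom.comp_le_of_coef (h : SemiBialgHom R S C (MonoidAlgebra S M)) (m : M) (q : Ideal S)
    (hq : ∀ c, (h.coef m).ofConv c ∈ q) : h.comp' m ≤ q := by
  intro r hr
  obtain ⟨z, hz⟩ := SemiBialgHom.mem_comp'.mp hr
  have : ∀ z : S ⊗[R] C, (h.liftBase z).coeff m ∈ q := by
    intro z
    induction z using TensorProduct.induction_on with
    | zero => simp
    | add z₁ z₂ h₁ h₂ => simpa using add_mem h₁ h₂
    | tmul s c =>
      rw [h.liftBase_tmul, MonoidAlgebra.coeff_smul, Finsupp.smul_apply, ← h.coef_apply]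
      exact Ideal.mul_mem_left _ _ (hq c)
  have h2 := this z
  rw [show h.liftBase z = MonoidAlgebra.single m r from hz, MonoidAlgebra.coeff_single,
    Finsupp.single_eq_same] at h2
  exact h2

theorem SemiBialgHom.coef_antipode (h : SemiBialgHom R S C (MonoidAlgebra S M)) (m : M) (c : C) :
    (h.coef m).ofConv (HopfAlgebra.antipode R c) = (h.coef m⁻¹).ofConv c := by
  have hl : toConv (h.toAlgHom.toLinearMap ∘ₗ HopfAlgebra.antipode R) *
      h.pre (toConv LinearMap.id) = 1 := by
    refine WithConv.ext ?_
    have e := LinearMap.algHom_comp_convMul_distrib (R := R) h.toAlgHom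
      (toConv (HopfAlgebra.antipode R (A := C))) (toConv LinearMap.id)
    rw [LinearMap.antipode_mul_id] at e
    refine Eq.trans e.symm (LinearMap.ext fun c => ?_)
    simp
  have hr : h.pre (toConv LinearMap.id) *
      h.pre (toConv (HopfAlgebra.antipode S (A := MonoidAlgebra S M))) = 1 := by
    rw [← map_mul, LinearMap.id_mul_antipode, map_one]
  have he : toConv (h.toAlgHom.toLinearMap ∘ₗ HopfAlgebra.antipode R) = h.pre (toConv (HopfAlgebra.antipode S (A := MonoidAlgebra S M))) :=
    left_inv_eq_right_inv hl hr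
  have h2 : h.toAlgHom (HopfAlgebra.antipode R c) =
      HopfAlgebra.antipode S (h.toAlgHom c) := congrArg (fun f => f.ofConv c) he
  rw [h.coef_apply, h.coef_apply, h2]
  generalize h.toAlgHom c = y
  classical
  induction y using MonoidAlgebra.induction_linear with
  | zero => simp
  | add y z hy hz => simp [map_add, hy, hz]
  | single n r =>
    rw [MonoidAlgebra.antipode_single]
    simp [Finsupp.single_apply, inv_eq_iff_eq_inv]

end Range

variable {R : Type u} [CommRing R] {A : Type u} [CommRing A] [HopfAlgebra R A]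
variable {C : Type u} [CommRing C] [HopfAlgebra R C]

/-- A monomorphism is surjective on every component. -/
theorem Split.single_mem_of_mono (P : Split R A) (φ : C →ₐc[R] A)
    (hmono : ∀ (T : Type u) [CommRing T] [Algebra R T],
      Function.Injective (fun x : A →ₐ[R] T => x.comp (φ : C →ₐ[R] A))) (m₀ : P.M) :
    MonoidAlgebra.single m₀ (1 : P.S) ∈ (P.mapHom φ).liftBase.range := by
  classical
  let h := P.mapHom φ
  by_contra hm
  obtain ⟨q, hq, hle⟩ := Ideal.exists_le_maximal (h.comp' m₀) fun htop =>
    hm (SemiBialgHom.mem_comp'.mp (htop ▸ Submodule.mem_top))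
  let Sg : Set P.M := {m | ¬ h.comp' m ≤ q}
  have hmemS : ∀ m ∈ Subgroup.closure Sg, ¬ h.comp' m ≤ q := by
    intro m hm
    induction hm using Subgroup.closure_induction with
    | mem x hx => exact hx
    | one =>
      exact fun hle => hq.ne_top (q.eq_top_iff_one.mpr (hle (SemiBialgHom.mem_comp'.mpr (one_mem _))))
    | mul x y _ _ hx hy =>
      intro hle
      obtain ⟨r, hr, hrq⟩ := Set.not_subset.mp hx
      obtain ⟨r', hr', hrq'⟩ := Set.not_subset.mp hy
      refine (hq.isPrime.mem_or_mem (hle (SemiBialgHom.mem_comp'.mpr ?_))).elim hrq hrq'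
      rw [← MonoidAlgebra.single_mul_single]
      exact mul_mem (SemiBialgHom.mem_comp'.mp hr) (SemiBialgHom.mem_comp'.mp hr')
    | inv x _ hx =>
      intro hle
      refine hx (h.comp_le_of_coef x q fun c => hle ?_)
      have := h.coef_mem_comp x⁻¹ (HopfAlgebra.antipode R c)
      rwa [h.coef_antipode, inv_inv] at this
  have hN : m₀ ∉ Subgroup.closure Sg := fun hm => hmemS m₀ hm hle
  let G := P.M ⧸ Subgroup.closure Sg
  let K := P.S ⧸ q
  let T := MonoidAlgebra K G
  let θ : (P.M →* T) → (MonoidAlgebra P.S P.M →ₐ[P.S] T) := fun g => MonoidAlgebra.lift P.S T P.M g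
  let g1 : P.M →* T := (MonoidAlgebra.of K G).comp (QuotientGroup.mk' _)
  have key : ∀ x : MonoidAlgebra P.S P.M, (∀ m, m ∉ Subgroup.closure Sg → x.coeff m ∈ q) →
      θ g1 x = θ 1 x := by
    intro x hx
    simp only [θ, MonoidAlgebra.lift_apply]
    refine Finsupp.sum_congr fun m _ => ?_
    by_cases hmN : m ∈ Subgroup.closure Sg
    · have : QuotientGroup.mk' (Subgroup.closure Sg) m = 1 := (QuotientGroup.eq_one_iff m).mpr hmN
      simp [g1, this]
      rfl
    · have h0 : ∀ y : T, x.coeff m • y = 0 := fun y => by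
        rw [Algebra.smul_def, IsScalarTower.algebraMap_apply P.S K T, Ideal.Quotient.algebraMap_eq,
          Ideal.Quotient.eq_zero_iff_mem.mpr (hx m hmN), map_zero, zero_mul]
      rw [h0, h0]
  have heq : ((θ g1).restrictScalars R).comp P.hom.toAlgHom = ((θ 1).restrictScalars R).comp P.hom.toAlgHom := by
    refine hmono T (AlgHom.ext fun c => key (h.toAlgHom c) fun m hmN => ?_)
    rw [← h.coef_apply]
    by_contra hc
    exact hmN (Subgroup.subset_closure fun hle' => hc (hle' (h.coef_mem_comp m c)))
  have hall : ∀ z : P.S ⊗[R] A, θ g1 (P.equiv z) = θ 1 (P.equiv z) := by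
    intro z
    induction z using TensorProduct.induction_on with
    | zero => simp
    | add z₁ z₂ h₁ h₂ => simp [map_add, h₁, h₂]
    | tmul s a =>
      have e : (s ⊗ₜ[R] a : P.S ⊗[R] A) = s • ((1 : P.S) ⊗ₜ[R] a) := by
        rw [TensorProduct.smul_tmul', smul_eq_mul, mul_one]
      rw [e, map_smul, map_smul, map_smul, P.equiv_tmul]
      exact congrArg (s • ·) (AlgHom.congr_fun heq a)
  have h1 := hall (P.equiv.symm (MonoidAlgebra.single m₀ 1))
  rw [AlgEquiv.apply_symm_apply] at h1
  simp only [θ, MonoidAlgebra.lift_single, one_smul, g1, MonoidHom.one_apply, MonoidHom.comp_apply,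
    MonoidAlgebra.of_apply, QuotientGroup.mk'_apply, MonoidAlgebra.one_def] at h1
  have : Nontrivial K := Ideal.Quotient.nontrivial_iff.mpr hq.ne_top
  rcases (Finsupp.single_eq_single_iff _ _ _ _).mp (congrArg (·.coeff) h1) with ⟨h2, -⟩ | ⟨h2, -⟩
  · exact hN ((QuotientGroup.eq_one_iff m₀).mp h2)
  · exact one_ne_zero h2

/-- A monomorphism from a group of multiplicative type is a closed immersion. -/
theorem surjective_of_mono (hA : SGA3b.IsMultType R A) (φ : C →ₐc[R] A)
    (hmono : ∀ (T : Type u) [CommRing T] [Algebra R T],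
      Function.Injective (fun x : A →ₐ[R] T => x.comp (φ : C →ₐ[R] A))) : Function.Surjective φ := by
  obtain ⟨cv⟩ := exists_cover hA
  let L : Submodule R A := LinearMap.range (φ : C →ₐ[R] A).toLinearMap
  intro a
  suffices a ∈ L from this
  refine cv.mem_of_forall L a fun i => ?_
  let P := cv.split i
  have htop : ∀ x : MonoidAlgebra P.S P.M, x ∈ (P.mapHom φ).liftBase.range := by
    intro x
    induction x using MonoidAlgebra.induction_linear with
    | zero => exact zero_mem _
    | add y z hy hz => exact add_mem hy hz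
    | single n r =>
      have e : MonoidAlgebra.single n r = r • MonoidAlgebra.single n (1 : P.S) := by simp
      rw [e]
      exact Subalgebra.smul_mem _ (P.single_mem_of_mono φ hmono n) r
  obtain ⟨z, hz⟩ := htop (P.hom.toAlgHom a)
  refine ⟨LinearMap.lTensor P.S (φ : C →ₐ[R] A).toLinearMap.rangeRestrict z, ?_⟩
  apply P.equiv.injective
  rw [P.equiv_tmul, ← hz]
  clear hz
  induction z using TensorProduct.induction_on with
  | zero => simp
  | add z₁ z₂ h₁ h₂ => simp only [map_add]; rw [h₁, h₂]
  | tmul s c =>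
    have e : (s ⊗ₜ[R] φ c : P.S ⊗[R] A) = s • ((1 : P.S) ⊗ₜ[R] φ c) := by
      rw [TensorProduct.smul_tmul', smul_eq_mul, mul_one]
    show P.equiv (s ⊗ₜ[R] φ c) = (P.mapHom φ).liftBase (s ⊗ₜ c)
    rw [e, map_smul, P.equiv_tmul, SemiBialgHom.liftBase_tmul, Split.mapHom_apply]

end Groth.Agent.MultTypeLib
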