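import Groth.Agent.MultTypeLib.CoverType
import Groth.Agent.MultTypeLib.Mono

/-!
# Kernels of homomorphisms out of groups of multiplicative type
-/

universe u

open WithConv TensorProduct Coalgebra Bialgebra

noncomputable section

namespace Groth.Agent.MultTypeLib

variable {R : Type u} [CommRing R] {A : Type u} [CommRing A] [HopfAlgebra R A]
variable (J : Ideal A) [J.IsHopfIdeal R]

/-- The reduction of a split group modulo a Hopf ideal. -/
def Split.quot (P : Split R A) : MonoidAlgebra P.S P.M →ₐ[P.S] P.S ⊗[R] (A ⧸ J) :=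
  (Algebra.TensorProduct.map (AlgHom.id P.S P.S) (Ideal.Quotient.mkₐ R J)).comp P.equiv.symm.toAlgHom

omit [J.IsHopfIdeal R] in
theorem Split.quot_hom (P : Split R A) (a : A) :
    P.quot J (P.hom.toAlgHom a) = 1 ⊗ₜ Ideal.Quotient.mk J a := by
  show Algebra.TensorProduct.map _ _ (P.equiv.symm (P.hom.toAlgHom a)) = _
  rw [← P.equiv_tmul, AlgEquiv.symm_apply_apply]
  rfl

set_option maxHeartbeats 1000000 in
/-- A quotient of a split group cut out by a subgroup of the characters is split. -/
theorem Split.isDiag_quotient_of_subgroup (P : Split R A) (N : Subgroup P.M)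
    (hker : ∀ a ∈ J, MonoidAlgebra.mapDomainBialgHom P.S (QuotientGroup.mk' N) (P.hom.toAlgHom a) = 0)
    (hN : ∀ m ∈ N, P.quot J (MonoidAlgebra.single m 1) = 1) :
    SGA3b.IsDiag P.S (P.S ⊗[R] (A ⧸ J)) := by
  let pr : P.M →* P.M ⧸ N := QuotientGroup.mk' N
  let h1 : SemiBialgHom R P.S A (MonoidAlgebra P.S (P.M ⧸ N)) :=
    (SemiBialgHom.ofBialgHom (MonoidAlgebra.mapDomainBialgHom P.S pr)).comp P.hom
  have h1a : ∀ a, h1.toAlgHom a = MonoidAlgebra.mapDomainBialgHom P.S pr (P.hom.toAlgHom a) := fun a => rfl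
  let h2 : SemiBialgHom R P.S (A ⧸ J) (MonoidAlgebra P.S (P.M ⧸ N)) := h1.factor J hker
  have h2a : ∀ a, h2.toAlgHom (Ideal.Quotient.mk J a) = h1.toAlgHom a := fun a => rfl
  let ρ0 : P.M →* P.S ⊗[R] (A ⧸ J) :=
    ((P.quot J).toRingHom.toMonoidHom : MonoidAlgebra P.S P.M →* P.S ⊗[R] (A ⧸ J)).comp
      (MonoidAlgebra.of P.S P.M)
  have hN' : N ≤ ρ0.ker := fun m hm => hN m hm
  let ρ : MonoidAlgebra P.S (P.M ⧸ N) →ₐ[P.S] P.S ⊗[R] (A ⧸ J) :=
    MonoidAlgebra.lift P.S _ _ (QuotientGroup.lift N ρ0 hN')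
  have hρ1 : ∀ x : MonoidAlgebra P.S P.M,
      ρ (MonoidAlgebra.mapDomainBialgHom P.S pr x) = P.quot J x := by
    intro x
    induction x using MonoidAlgebra.induction_linear with
    | zero => simp
    | add y z hy hz => simp only [map_add, hy, hz]
    | single m r =>
      have e : MonoidAlgebra.single m r = r • MonoidAlgebra.single m (1 : P.S) := by simp
      rw [MonoidAlgebra.mapDomainBialgHom_single, MonoidAlgebra.lift_single, e, map_smul]
      rfl
  have hl : ρ.comp h2.extend = AlgHom.id P.S _ := by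
    refine Algebra.TensorProduct.ext (Subsingleton.elim _ _) (AlgHom.ext fun b => ?_)
    obtain ⟨a, rfl⟩ := Ideal.Quotient.mk_surjective b
    show ρ (h2.extend (1 ⊗ₜ Ideal.Quotient.mk J a)) = 1 ⊗ₜ Ideal.Quotient.mk J a
    rw [SemiBialgHom.extend_tmul, one_smul, h2a, h1a, hρ1, P.quot_hom]
  have hr : Function.Surjective h2.extend := by
    intro y
    obtain ⟨x, rfl⟩ : ∃ x, MonoidAlgebra.mapDomainBialgHom P.S pr x = y := by
      induction y using MonoidAlgebra.induction_linear with
      | zero => exact ⟨0, map_zero _⟩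
      | add y z hy hz =>
        obtain ⟨a, rfl⟩ := hy
        obtain ⟨b, rfl⟩ := hz
        exact ⟨a + b, map_add _ _ _⟩
      | single m r =>
        obtain ⟨m, rfl⟩ := QuotientGroup.mk'_surjective N m
        exact ⟨MonoidAlgebra.single m r, MonoidAlgebra.mapDomainBialgHom_single _ _ _⟩
    refine ⟨P.quot J x, ?_⟩
    obtain ⟨z, rfl⟩ := P.equiv.surjective x
    induction z using TensorProduct.induction_on with
    | zero => simp
    | add z₁ z₂ h₁ h₂ => simp only [map_add, h₁, h₂]
    | tmul s a =>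
      have e : (s ⊗ₜ[R] a : P.S ⊗[R] A) = s • ((1 : P.S) ⊗ₜ[R] a) := by
        rw [TensorProduct.smul_tmul', smul_eq_mul, mul_one]
      rw [e, map_smul, map_smul, map_smul, map_smul, P.equiv_tmul, P.quot_hom]
      congr 1
      rw [SemiBialgHom.extend_tmul, one_smul, h2a, h1a]
  have hinj : Function.Injective h2.extend :=
    Function.LeftInverse.injective (g := ρ) fun z => AlgHom.congr_fun hl z
  exact isDiag_of_equiv (h2.toBialgEquiv ⟨hinj, hr⟩)

variable {C : Type u} [CommRing C] [HopfAlgebra R C] (φ : C →ₐc[R] A)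

/-- The coefficient ideal of a character. -/
def coefIdeal {S : Type u} [CommRing S] [Algebra R S] {M : Type u} [CommGroup M]
    (h : SemiBialgHom R S C (MonoidAlgebra S M)) (m : M) : Ideal S :=
  Ideal.span (Set.range fun c => (h.coef m).ofConv c)

theorem coefIdeal_le_mul {S : Type u} [CommRing S] [Algebra R S] {M : Type u} [CommGroup M]
    (h : SemiBialgHom R S C (MonoidAlgebra S M)) (m : M) :
    coefIdeal h m ≤ coefIdeal h m * coefIdeal h m := by
  have hk : ∀ c, (h.coef m).ofConv c ∈ coefIdeal h m := fun c => Ideal.subset_span ⟨c, rfl⟩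
  refine Ideal.span_le.mpr ?_
  rintro _ ⟨c, rfl⟩
  have := conv_mul_mem _ _ _ _ hk hk c
  rwa [h.coef_idem m] at this

/-- Coefficients outside the subgroup of the supports of generators are controlled by those of generators. -/
theorem coef_mem_of_gens {S : Type u} [CommRing S] [Algebra R S] {M : Type u} [CommGroup M]
    (h : SemiBialgHom R S C (MonoidAlgebra S M)) (s : Set C) (hs : Algebra.adjoin R s = ⊤)
    (N : Subgroup M) (a : Ideal S) (ha : ∀ c ∈ s, ∀ m ∉ N, (h.coef m).ofConv c ∈ a) (c : C) (m : M)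
    (hm : m ∉ N) : (h.coef m).ofConv c ∈ a := by
  classical
  suffices ∀ c : C, ∀ m ∉ N, (h.toAlgHom c).coeff m ∈ a by exact this c m hm
  intro c
  induction (hs ▸ Algebra.mem_top : c ∈ Algebra.adjoin R s) using Algebra.adjoin_induction with
  | mem x hx => exact fun m hm => ha x hx m hm
  | algebraMap r =>
    intro m hm
    rw [AlgHom.commutes, IsScalarTower.algebraMap_apply R S (MonoidAlgebra S M),
      Algebra.algebraMap_eq_smul_one (A := MonoidAlgebra S M), MonoidAlgebra.coeff_smul, Finsupp.smul_apply,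
      MonoidAlgebra.one_def, MonoidAlgebra.coeff_single, Finsupp.single_apply,
      if_neg (fun h1 : 1 = m => hm (h1 ▸ N.one_mem)), smul_zero]
    exact a.zero_mem
  | add x y _ _ hx hy =>
    intro m hm
    rw [map_add, MonoidAlgebra.coeff_add, Finsupp.add_apply]
    exact add_mem (hx m hm) (hy m hm)
  | mul x y _ _ hx hy =>
    intro m hm
    rw [map_mul, MonoidAlgebra.coeff_mul, Finsupp.sum]
    refine sum_mem fun k _ => ?_
    rw [Finsupp.sum]
    refine sum_mem fun l _ => ?_
    split_ifs with hkl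
    · by_cases hk : k ∈ N
      · refine a.mul_mem_left _ (hy l fun hl => hm ?_)
        rw [← hkl]
        exact N.mul_mem hk hl
      · exact a.mul_mem_right _ (hx k hk)
    · exact a.zero_mem

/-- A split kernel. -/
theorem Split.isDiag_kernel (P : Split R A) (hJ : J = Ideal.map φ (RingHom.ker (counitAlgHom R C)))
    (T : Set P.M) (h1 : ∀ m ∈ T, ∃ r ∈ coefIdeal (P.mapHom φ) m, IsUnit r)
    (h0 : ∀ m ∉ Subgroup.closure T, ∀ c, ((P.mapHom φ).coef m).ofConv c = 0) :
    SGA3b.IsDiag P.S (P.S ⊗[R] (A ⧸ J)) := by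
  classical
  let h := P.mapHom φ
  let N := Subgroup.closure T
  have hq : ∀ z : P.S ⊗[R] C, P.quot J (h.liftBase z) = algebraMap P.S _ (counit (R := P.S) (h.liftBase z)) := by
    intro z
    induction z using TensorProduct.induction_on with
    | zero => simp
    | add x y hx hy => simp only [map_add, hx, hy]
    | tmul s c =>
      have e : Ideal.Quotient.mk J (φ c) = algebraMap R (A ⧸ J) (counit (R := R) c) := by
        rw [← Ideal.Quotient.mk_algebraMap, Ideal.Quotient.eq, hJ]
        have := Ideal.mem_map_of_mem φ (show c - algebraMap R C (counit (R := R) c) ∈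
          RingHom.ker (counitAlgHom R C) by simp [RingHom.mem_ker])
        rwa [map_sub, AlgHomClass.commutes φ] at this
      rw [SemiBialgHom.liftBase_tmul, map_smul, map_smul, h.counit_comp, Split.mapHom_apply, P.quot_hom, e,
        ← mul_one (algebraMap R (A ⧸ J) (counit (R := R) c)), ← Algebra.smul_def, TensorProduct.tmul_smul,
        ← Algebra.TensorProduct.one_def, smul_eq_mul, map_mul, ← Algebra.smul_def,
        ← IsScalarTower.algebraMap_apply, Algebra.algebraMap_eq_smul_one]
  have hN : ∀ m ∈ N, P.quot J (MonoidAlgebra.single m 1) = 1 := by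
    let ρ0 : P.M →* P.S ⊗[R] (A ⧸ J) :=
      ((P.quot J).toRingHom.toMonoidHom : MonoidAlgebra P.S P.M →* P.S ⊗[R] (A ⧸ J)).comp
        (MonoidAlgebra.of P.S P.M)
    suffices N ≤ ρ0.ker from fun m hm => this hm
    rw [Subgroup.closure_le]
    intro m hm
    show P.quot J (MonoidAlgebra.single m 1) = 1
    obtain ⟨r, hr, hu⟩ := h1 m hm
    have hr' : r ∈ h.comp' m :=
      (Ideal.span_le.mpr (by rintro _ ⟨c, rfl⟩; exact h.coef_mem_comp m c)) hr
    obtain ⟨z, hz⟩ := SemiBialgHom.mem_comp'.mp hr'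
    have hz' : h.liftBase z = MonoidAlgebra.single m r := hz
    have := hq z
    rw [hz', show MonoidAlgebra.single m r = r • MonoidAlgebra.single m (1 : P.S) by simp, map_smul,
      map_smul, (isGroupLike_single m).counit_eq_one, smul_eq_mul, mul_one,
      Algebra.algebraMap_eq_smul_one] at this
    exact hu.smul_left_cancel.mp this
  refine P.isDiag_quotient_of_subgroup J N ?_ hN
  intro a ha
  suffices hle : J ≤ RingHom.ker ((((MonoidAlgebra.mapDomainBialgHom P.S (QuotientGroup.mk' N) :
      MonoidAlgebra P.S P.M →ₐc[P.S] MonoidAlgebra P.S (P.M ⧸ N)) :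
      MonoidAlgebra P.S P.M →ₐ[P.S] MonoidAlgebra P.S (P.M ⧸ N)).restrictScalars R).comp P.hom.toAlgHom) from hle ha
  rw [hJ, Ideal.map_le_iff_le_comap]
  intro b hb
  rw [Ideal.mem_comap, RingHom.mem_ker]
  show MonoidAlgebra.mapDomainBialgHom P.S (QuotientGroup.mk' N) (h.toAlgHom b) = 0
  have key : ∀ x : MonoidAlgebra P.S P.M, (∀ m ∉ N, x.coeff m = 0) →
      MonoidAlgebra.mapDomainBialgHom P.S (QuotientGroup.mk' N) x =
        MonoidAlgebra.single 1 (counit (R := P.S) x) := by
    intro x hx
    conv_lhs => rw [← MonoidAlgebra.sum_coeff_single x, Finsupp.sum, map_sum]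
    conv_rhs => rw [← MonoidAlgebra.sum_coeff_single x, Finsupp.sum, map_sum]
    rw [← MonoidAlgebra.lsingle_apply (R := P.S), map_sum]
    refine Finset.sum_congr rfl fun m hm => ?_
    have hmN : m ∈ N := by
      by_contra hne
      exact Finsupp.mem_support_iff.mp hm (hx m hne)
    rw [MonoidAlgebra.mapDomainBialgHom_single, (QuotientGroup.eq_one_iff m).mpr hmN |>
      fun e => (show QuotientGroup.mk' N m = 1 from e)]
    simp
  rw [key (h.toAlgHom b) fun m hm => h0 m hm b, h.counit_comp, show counit (R := R) b = counitAlgHom R C b from rfl,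
    RingHom.mem_ker.mp hb, map_zero, MonoidAlgebra.single_zero]

set_option maxHeartbeats 1000000 in
/-- Locally on a splitting ring, the kernel is diagonalisable. -/
theorem Split.exists_loc_kernel (P : Split R A) (hJ : J = Ideal.map φ (RingHom.ker (counitAlgHom R C)))
    (hC : Algebra.FiniteType R C) (p : Ideal P.S) (hp : p.IsPrime) :
    ∃ f : P.S, f ∉ p ∧ SGA3b.IsDiag (Localization.Away f) (Localization.Away f ⊗[R] (A ⧸ J)) := by
  classical
  obtain ⟨s, hs⟩ := hC.out
  let h := P.mapHom φ
  let F : Finset P.M := s.biUnion fun c => (h.toAlgHom c).coeff.support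
  let T : Finset P.M := F.filter fun m => ¬ coefIdeal h m ≤ p
  let N : Subgroup P.M := Subgroup.closure (T : Set P.M)
  let G : Set P.S := (fun x : C × P.M => (h.coef x.2).ofConv x.1) '' ((s ×ˢ F.filter fun m => m ∉ N : Finset _) : Set (C × P.M))
  let a : Ideal P.S := Ideal.span G
  have hfg : a.FG := Submodule.fg_span ((Finset.finite_toSet _).image _)
  have hmem : ∀ c, ∀ m ∉ N, (h.coef m).ofConv c ∈ a := by
    intro c m hm
    refine coef_mem_of_gens h _ hs N a (fun c hc m hm => ?_) c m hm
    by_cases hmF : m ∈ F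
    · exact Ideal.subset_span ⟨(c, m), by simp [Finset.mem_product, hmF, hm, Finset.mem_coe.mp hc], rfl⟩
    · have : (h.toAlgHom c).coeff m = 0 := by
        by_contra hne
        exact hmF (Finset.mem_biUnion.mpr ⟨c, Finset.mem_coe.mp hc, Finsupp.mem_support_iff.mpr hne⟩)
      show (h.toAlgHom c).coeff m ∈ a
      rw [this]
      exact a.zero_mem
  have hidem : IsIdempotentElem a := by
    refine le_antisymm Ideal.mul_le_right (Ideal.span_le.mpr ?_)
    rintro _ ⟨⟨c, m⟩, hcm, rfl⟩
    have hm : m ∉ N := (Finset.mem_filter.mp (Finset.mem_product.mp (Finset.mem_coe.mp hcm)).2).2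
    have hle : coefIdeal h m ≤ a := Ideal.span_le.mpr (by rintro _ ⟨c, rfl⟩; exact hmem c m hm)
    exact Ideal.mul_mono hle hle (coefIdeal_le_mul h m (Ideal.subset_span ⟨c, rfl⟩))
  obtain ⟨e, he, hae⟩ := (Ideal.isIdempotentElem_iff_of_fg a hfg).mp hidem
  have hap : a ≤ p := by
    refine Ideal.span_le.mpr ?_
    rintro _ ⟨⟨c, m⟩, hcm, rfl⟩
    obtain ⟨hmF, hm⟩ := Finset.mem_filter.mp (Finset.mem_product.mp (Finset.mem_coe.mp hcm)).2
    have hmT : m ∉ T := fun hmT => hm (Subgroup.subset_closure (Finset.mem_coe.mpr hmT))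
    have hle : coefIdeal h m ≤ p := by
      by_contra hne
      exact hmT (Finset.mem_filter.mpr ⟨hmF, hne⟩)
    exact hle (Ideal.subset_span ⟨c, rfl⟩)
  have hex : ∀ m ∈ T, ∃ r ∈ coefIdeal h m, r ∉ p := fun m hm =>
    SetLike.not_le_iff_exists.mp (Finset.mem_filter.mp hm).2
  choose r hr hrp using hex
  let f : P.S := (1 - e) * ∏ m ∈ T.attach, r m.1 m.2
  have hep : e ∈ p := hap (hae ▸ Submodule.mem_span_singleton_self e)
  have hfp : f ∉ p := by
    intro hf
    rcases hp.mem_or_mem hf with h1 | h1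
    · exact hp.ne_top (p.eq_top_iff_one.mpr (by simpa using p.add_mem h1 hep))
    · obtain ⟨m, -, hm⟩ := (hp.prod_mem_iff).mp h1
      exact hrp m.1 m.2 hm
  refine ⟨f, hfp, ?_⟩
  let S' := Localization.Away f
  have hflat : Module.Flat R S' := Module.Flat.trans R P.S S'
  let Q : Split R A :=
    { S := S'
      M := P.M
      hom := P.homOver S'
      equiv := AlgEquiv.ofBijective _ (P.extend_homOver_bijective S')
      equiv_tmul := fun x => by
        show (P.homOver S').extend (1 ⊗ₜ x) = _
        rw [SemiBialgHom.extend_tmul, one_smul] }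
  have hcoef : ∀ m c, ((Q.mapHom φ).coef m).ofConv c = algebraMap P.S S' ((h.coef m).ofConv c) := fun m c =>
    coeff_mapCoeff (P.hom.toAlgHom (φ c)) m
  have hf : IsUnit (algebraMap P.S S' f) := IsLocalization.Away.algebraMap_isUnit f
  rw [map_mul] at hf
  obtain ⟨hu1, hu2⟩ := isUnit_of_mul_isUnit_left hf, isUnit_of_mul_isUnit_right hf
  have he0 : algebraMap P.S S' e = 0 := by
    refine hu1.mul_left_cancel ?_
    rw [mul_zero, ← map_mul, sub_mul, one_mul, he.eq, sub_self, map_zero]
  refine Q.isDiag_kernel J φ hJ (T : Set P.M) (fun m hm => ?_) (fun m hm c => ?_)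
  · refine ⟨algebraMap P.S S' (r m hm), ?_, ?_⟩
    · have hle : coefIdeal h m ≤ (coefIdeal (Q.mapHom φ) m).comap (algebraMap P.S S') := by
        refine Ideal.span_le.mpr ?_
        rintro _ ⟨c, rfl⟩
        exact Ideal.subset_span ⟨c, hcoef m c⟩
      exact hle (hr m hm)
    · rw [map_prod] at hu2
      exact isUnit_of_dvd_unit
        (Finset.dvd_prod_of_mem (fun x : {x // x ∈ T} => algebraMap P.S S' (r x.1 x.2))
          (Finset.mem_attach T ⟨m, hm⟩)) hu2
  · rw [hcoef]
    obtain ⟨t, ht⟩ := Submodule.mem_span_singleton.mp (hae ▸ hmem c m hm : _ ∈ P.S ∙ e)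
    rw [← ht, smul_eq_mul, map_mul, he0, mul_zero]

set_option maxHeartbeats 1000000 in
/-- The kernel of a homomorphism from a group of multiplicative type to an affine group of finite type is
of multiplicative type. -/
theorem isMultType_kernel (hA : SGA3b.IsMultType R A)
    (hJ : J = Ideal.map φ (RingHom.ker (counitAlgHom R C))) (hC : Algebra.FiniteType R C) :
    SGA3b.IsMultType R (A ⧸ J) := by
  obtain ⟨c⟩ := exists_cover hA
  have hex : ∀ i, ∃ t : Finset (c.split i).S, (∀ f ∈ t, SGA3b.IsDiag (Localization.Away f)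
      (Localization.Away f ⊗[R] (A ⧸ J))) ∧ (1 : (c.split i).S) ∈ Ideal.span (t : Set (c.split i).S) := by
    intro i
    let good : Set (c.split i).S := {f | SGA3b.IsDiag (Localization.Away f) (Localization.Away f ⊗[R] (A ⧸ J))}
    have htop : (1 : (c.split i).S) ∈ Ideal.span good := by
      by_contra hne
      obtain ⟨m, hm, hle⟩ := Ideal.exists_le_maximal (Ideal.span good)
        (fun h => hne (by rw [h]; exact Submodule.mem_top))
      obtain ⟨f, hf, hd⟩ := (c.split i).exists_loc_kernel J φ hJ hC m hm.isPrime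
      exact hf (hle (Ideal.subset_span hd))
    obtain ⟨t, ht, ht1⟩ := Submodule.mem_span_finite_of_mem_span htop
    exact ⟨t, fun f hf => ht hf, ht1⟩
  choose t ht ht1 using hex
  let ι' := Σ i : c.ι, {f : (c.split i).S // f ∈ t i}
  let S' : ι' → Type u := fun x => Localization.Away x.2.1
  have : ∀ x : ι', Module.Flat R (S' x) := fun x => Module.Flat.trans R (c.split x.1).S (S' x)
  refine isMultType_of_flatCover S' (fun p hp => ?_) fun x => ht x.1 x.2.1 x.2.2
  obtain ⟨i, q, hq, hqp⟩ := c.surj p hp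
  obtain ⟨f, hf, hfq⟩ : ∃ f ∈ t i, f ∉ q := by
    by_contra hne
    push Not at hne
    exact hq.ne_top (q.eq_top_iff_one.mpr (Submodule.span_le.mpr hne (ht1 i)))
  have hdis : Disjoint (Submonoid.powers f : Set (c.split i).S) (q : Set (c.split i).S) := by
    rw [Set.disjoint_left]
    rintro x ⟨n, rfl⟩ hx
    exact hfq (hq.mem_of_pow_mem n hx)
  refine ⟨⟨i, f, hf⟩, q.map (algebraMap _ _), IsLocalization.isPrime_of_isPrime_disjoint (Submonoid.powers f) (Localization.Away f) q hq hdis, ?_⟩
  show (q.map (algebraMap _ (Localization.Away f))).comap (algebraMap R (Localization.Away f)) = p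
  rw [IsScalarTower.algebraMap_eq R (c.split i).S (Localization.Away f), ← Ideal.comap_comap,
    show (q.map (algebraMap _ (Localization.Away f))).comap (algebraMap (c.split i).S (Localization.Away f)) = q from
      IsLocalization.under_map_of_isPrime_disjoint (Submonoid.powers f) (Localization.Away f) hq hdis]
  exact hqp

end Groth.Agent.MultTypeLib
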