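import Groth.Agent.MultTypeLib.Rigid
import Groth.Agent.MultTypeLib.Kernel

/-!
# Diagonalisability detected modulo an ideal in the radical
-/

universe u

open WithConv TensorProduct Coalgebra Bialgebra

noncomputable section

namespace Groth.Agent.MultTypeLib

variable {R : Type u} [CommRing R] (I : Ideal R)

/-- The reduction maps to the residue fields of primes containing the ideal. -/
theorem exists_quot_algHom {S : Type u} [CommRing S] [Algebra R S] (q : Ideal S) [q.IsPrime]
    (h : I ≤ q.comap (algebraMap R S)) : Nonempty ((R ⧸ I) →ₐ[R] q.ResidueField) :=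
  ⟨Ideal.Quotient.liftₐ I (Algebra.ofId R q.ResidueField) fun r hr => by
    rw [Algebra.ofId_apply, IsScalarTower.algebraMap_apply R S q.ResidueField,
      Ideal.algebraMap_residueField_eq_zero]
    exact h hr⟩

/-- Every prime of a faithfully flat extension is linked to a prime containing the ideal. -/
theorem exists_spread_pair (hI : I ≤ Ideal.jacobson ⊥) {S : Type u} [CommRing S] [Algebra R S]
    [Module.FaithfullyFlat R S] (q : Ideal S) [q.IsPrime] :
    ∃ q₁ q' : Ideal S, q₁.IsPrime ∧ q'.IsPrime ∧ I ≤ q₁.comap (algebraMap R S) ∧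
      q' ≤ q₁ ∧ q'.comap (algebraMap R S) = q.comap (algebraMap R S) := by
  obtain ⟨m, hm, hle⟩ := Ideal.exists_le_maximal (q.comap (algebraMap R S)) (Ideal.IsPrime.comap _).ne_top
  obtain ⟨⟨q₁, hq₁⟩, h₁⟩ := PrimeSpectrum.comap_surjective_of_faithfullyFlat (A := R) (B := S) ⟨m, hm.isPrime⟩
  have h₁' : q₁.comap (algebraMap R S) = m := congrArg PrimeSpectrum.asIdeal h₁
  have : q₁.LiesOver m := ⟨h₁'.symm⟩
  obtain ⟨q', hle', hq', hl⟩ := Ideal.exists_ideal_le_liesOver_of_le (p := q.comap (algebraMap R S))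
    (q := m) q₁ hle
  exact ⟨q₁, q', hq₁, hq', h₁' ▸ hI.trans (sInf_le ⟨bot_le, hm⟩), hle', hl.over.symm⟩

theorem evalAt_coordAt {A : Type u} [CommRing A] [HopfAlgebra R A] (P : Split R A) {T U : Type u} [CommRing T]
    [Algebra R T] [CommRing U] [Algebra R U] (j : P.S →ₐ[R] T) (i : T →ₐ[R] U) (z : T ⊗[R] A) :
    evalAt (i : T →+* U) (P.coordAt j z) = P.coordAt (i.comp j) (mA A i z) := by
  induction z using TensorProduct.induction_on with
  | zero => simp
  | add a b ha hb => simp only [map_add, ha, hb]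
  | tmul t a =>
    rw [P.coordAt_tmul, Algebra.TensorProduct.map_tmul, AlgHom.id_apply, P.coordAt_tmul]
    ext m
    simp [coeff_evalAt]

variable {A : Type u} [CommRing A] [HopfAlgebra R A] {M₀ : Type u} [CommGroup M₀]

/-- A single splitting when the type is constant modulo the ideal. -/
theorem exists_ff_split_of_pair (hI : I ≤ Ideal.jacobson ⊥) (hA : SGA3b.IsMultType R A)
    (e₀ : (R ⧸ I) ⊗[R] A ≃ₐc[R ⧸ I] MonoidAlgebra (R ⧸ I) M₀) :
    ∃ P : Split R A, Module.FaithfullyFlat R P.S := by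
  classical
  obtain ⟨c⟩ := exists_cover hA
  let ι' := {i : c.ι // Nontrivial (c.split i).S}
  have hσ : ∀ i : ι', Nonempty (M₀ ≃* (c.split i.1).M) := by
    intro i
    have := i.2
    obtain ⟨q, hq⟩ := Ideal.exists_maximal (c.split i.1).S
    have := hq.isPrime
    obtain ⟨m, hm, hle⟩ := Ideal.exists_le_maximal (q.comap (algebraMap R (c.split i.1).S))
      (Ideal.IsPrime.comap _).ne_top
    obtain ⟨j, q₁, hq₁, h₁⟩ := c.surj m hm.isPrime
    -- a common point of the two members
    have : q₁.LiesOver m := ⟨h₁.symm⟩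
    obtain ⟨q₂, -, hq₂, hl⟩ := Ideal.exists_ideal_le_liesOver_of_le
      (p := q.comap (algebraMap R (c.split i.1).S)) (q := m) q₁ hle
    obtain ⟨r, hr, -⟩ := exists_prime_tensor (c.split i.1).S (c.split j).S q q₂ hl.over.symm
    obtain ⟨σ⟩ := (c.split i.1).exists_mulEquiv (c.split j) ⟨0, 1, fun h => hr.ne_top
      (r.eq_top_iff_one.mpr (h ▸ r.zero_mem))⟩
    -- the member over the closed point has the given type
    have hIm : I ≤ m := hI.trans (sInf_le ⟨bot_le, hm⟩)
    obtain ⟨ρ⟩ := exists_quot_algHom I q₁ (h₁ ▸ hIm)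
    let K := q₁.ResidueField
    let _ : Algebra (R ⧸ I) K := ρ.toRingHom.toAlgebra
    have : IsScalarTower R (R ⧸ I) K := IsScalarTower.of_algebraMap_eq fun x => (ρ.commutes x).symm
    let h₀ : SemiBialgHom R (R ⧸ I) A (MonoidAlgebra (R ⧸ I) M₀) :=
      (SemiBialgHom.ofBialgHom (e₀ : (R ⧸ I) ⊗[R] A →ₐc[R ⧸ I] MonoidAlgebra (R ⧸ I) M₀)).comp
        (SemiBialgHom.baseChange R (R ⧸ I) A)
    have hb₀ : Function.Bijective h₀.extend := by
      rw [show ⇑h₀.extend = ⇑e₀ from funext (extend_eq_of_equiv e₀)]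
      exact e₀.bijective
    let E₁ : K ⊗[R] A ≃ₐc[K] MonoidAlgebra K M₀ :=
      ((mapCoeff (R ⧸ I) K M₀).comp h₀).toBialgEquiv (extend_comp_mapCoeff_bijective (T := K) h₀ hb₀)
    let E₂ : K ⊗[R] A ≃ₐc[K] MonoidAlgebra K (c.split j).M :=
      BialgEquiv.ofBijective ((c.split j).coordAt (IsScalarTower.toAlgHom R (c.split j).S K))
        ((c.split j).coordAt_bijective _)
    let f : MonoidAlgebra K M₀ →ₐc[K] MonoidAlgebra K (c.split j).M :=
      ((E₁.symm.trans E₂ : MonoidAlgebra K M₀ ≃ₐc[K] MonoidAlgebra K (c.split j).M) : _ →ₐc[K] _)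
    have hf : Function.Bijective (MonoidAlgebra.mapDomainBialgHom K (MonoidAlgebra.mapDomainOfBialgHom f)) := by
      rw [MonoidAlgebra.mapDomainBialgHom_mapDomainOfBialgHom]
      exact (E₁.symm.trans E₂).bijective
    exact ⟨(MulEquiv.ofBijective _ (bijective_of_mapDomain_bijective (K := K) _ hf)).trans σ.symm⟩
  let _ := Fintype.ofFinite c.ι
  let S : ι' → Type u := fun i => (c.split i.1).S
  have : Module.Flat R (∀ i, S i) := Module.Flat.of_linearEquiv DFinsupp.linearEquivFunOnFintype.symm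
  have hff : Module.FaithfullyFlat R (∀ i, S i) := Module.FaithfullyFlat.of_comap_surjective fun p => by
    obtain ⟨i, q, hq, hqp⟩ := c.surj p.asIdeal p.2
    have hi : Nontrivial (c.split i).S := ⟨0, 1, fun h => hq.ne_top (q.eq_top_iff_one.mpr (h ▸ q.zero_mem))⟩
    refine ⟨⟨q.comap (Pi.evalRingHom S ⟨i, hi⟩), Ideal.IsPrime.comap _⟩, PrimeSpectrum.ext ?_⟩
    show (q.comap (Pi.evalRingHom S ⟨i, hi⟩)).comap (algebraMap R (∀ i, S i)) = _
    rw [Ideal.comap_comap]
    exact hqp
  obtain ⟨M, inst, hom, equiv, he⟩ := exists_split_of_isDiag (∀ i, S i)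
    (isDiag_pi S (fun i => (c.split i.1).M) (fun i => (c.split i.1).hom) (fun i => (c.split i.1).equiv)
      (fun i => (c.split i.1).equiv_tmul) M₀ fun i => (hσ i).some)
  exact ⟨{ S := ∀ i, S i, M := M, hom := hom, equiv := equiv, equiv_tmul := he }, hff⟩

set_option maxHeartbeats 4000000 in
/-- Group-like elements of the reduction lift, given lifts on the torsion subgroups. -/
theorem Split.exists_groupLike_lift_pair (P : Split R A) [Module.FaithfullyFlat R P.S] [Group.FG P.M]
    (hft : Algebra.FiniteType R A) (hA : SGA3b.IsMultType R A)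
    [∀ n, (SGA3b.torsionIdeal R A n).IsHopfIdeal R]
    (hI : I ≤ Ideal.jacobson ⊥)
    {w : (R ⧸ I) ⊗[R] A} (hw : IsGroupLikeElem (R ⧸ I) w)
    (hlift : ∀ n, 0 < n → ∃ b : A ⧸ SGA3b.torsionIdeal R A n, IsGroupLikeElem R b ∧
      (1 : R ⧸ I) ⊗ₜ b = tpi n (R ⧸ I) w) :
    ∃ a : A, IsGroupLikeElem R a ∧ (1 : R ⧸ I) ⊗ₜ a = w := by
  classical
  let k := R ⧸ I
  have hflat := P.flat_self
  choose b hb eb using hlift
  let γ := fun n (hn : 0 < n) => (P.torHom n).toAlgHom (b n hn)
  have hγ : ∀ n hn, IsGroupLikeElem P.S (γ n hn) := fun n hn => (P.torHom n).isGroupLike (hb n hn)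
  obtain ⟨w', hw'⟩ := TensorProduct.mk_surjective R A k Ideal.Quotient.mk_surjective w
  have hw' : (1 : k) ⊗ₜ[R] w' = w := hw'
  let F : Finset P.M := (P.hom.toAlgHom w').coeff.support
  choose Gm hGm using fun θ => P.exists_support_bound (P.char θ)
  let G : Finset P.M := F.biUnion Gm
  let Val : Ideal P.S → P.M → Prop := fun q m => ∀ n hn, (γ n hn).coeff (prn n m) ∉ q
  have hgood : ∀ (q : Ideal P.S) [q.IsPrime] (ρ : k →ₐ[R] q.ResidueField), ∃ θ ∈ F,
      P.coordAt (IsScalarTower.toAlgHom R P.S q.ResidueField) (mA A ρ w) = MonoidAlgebra.single θ 1 ∧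
      Val q θ := by
    intro q _ ρ
    set j := IsScalarTower.toAlgHom R P.S q.ResidueField with hj
    obtain ⟨θ, hθ⟩ := exists_single_of_field ((isGroupLike_mA ρ hw).map (P.coordAt j))
    have hρw : mA A ρ w = (1 : q.ResidueField) ⊗ₜ[R] w' := by
      rw [← hw', Algebra.TensorProduct.map_tmul, map_one, AlgHom.id_apply]
    refine ⟨θ, ?_, hθ.symm, fun n hn => ?_⟩
    · rw [Finsupp.mem_support_iff]
      intro h0
      have h2 := congrArg (fun y => y.coeff θ) hθ
      rw [hρw, P.coordAt_one_tmul] at h2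
      simp only [coeff_evalAt, h0, map_zero, MonoidAlgebra.coeff_single, Finsupp.single_eq_same] at h2
      exact one_ne_zero h2
    · refine (toAlgHom_residueField_ne_zero (R := R) q _).mp ((evalAt_eq_single_iff (j : P.S →+* q.ResidueField) (hγ n hn) (prn n θ)).mp ?_)
      rw [← P.torCoordAt_one_tmul n j]
      have e1 : (1 : q.ResidueField) ⊗ₜ[R] b n hn = tpi n q.ResidueField (mA A ρ w) := by
        rw [← mA_tpi, ← eb n hn, Algebra.TensorProduct.map_tmul, map_one, AlgHom.id_apply]
      rw [e1, P.torCoordAt_tpi, ← hθ, MonoidAlgebra.mapDomainBialgHom_single]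
  have huniq : ∀ (q : Ideal P.S) [q.IsPrime] (m m' : P.M), Val q m → Val q m' → m = m' := by
    intro q hq m m' h h'
    obtain ⟨n, hn, hsep⟩ := exists_separating ({m, m'} : Finset P.M)
    refine hsep m (by simp) m' (by simp) (by_contra fun hne => ?_)
    have h0 := groupLike_orth' (hγ n hn) hne
    exact (hq.mem_or_mem (h0 ▸ q.zero_mem)).elim (h n hn) (h' n hn)
  have hval : ∀ (q : Ideal P.S) [q.IsPrime], ∃ m ∈ G, Val q m := by
    intro q _
    obtain ⟨q₁, q', hq₁, hq', h₁, hle, hcq⟩ := exists_spread_pair I hI q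
    obtain ⟨ρ⟩ := exists_quot_algHom I q₁ h₁
    obtain ⟨θ, hθF, -, hθ⟩ := hgood q₁ ρ
    obtain ⟨K, _, _, j, j', hj, hj'⟩ := exists_common_field (R := R) q q' hcq.symm
    have hker : ∀ (x : P.S), x ∉ q' → j' x ≠ 0 := fun x hx h0 => hx (hj' ▸ RingHom.mem_ker.mpr h0)
    let v := mA A j' (P.char θ)
    obtain ⟨m, hm⟩ := exists_single_of_field ((isGroupLike_mA j' (P.isGroupLike_char θ)).map (P.coordAt j))
    refine ⟨m, Finset.mem_biUnion.mpr ⟨θ, hθF, hGm θ K j j' ?_⟩, fun n hn => ?_⟩
    · rw [Finsupp.mem_support_iff, ← hm, MonoidAlgebra.coeff_single, Finsupp.single_eq_same]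
      exact one_ne_zero
    · have hv : tpi n K v = (1 : K) ⊗ₜ[R] b n hn := by
        apply P.torCoordAt_injective n j'
        rw [P.torCoordAt_tpi, P.coordAt_char, MonoidAlgebra.mapDomainBialgHom_single, P.torCoordAt_one_tmul]
        exact ((evalAt_eq_single_iff (j' : P.S →+* K) (hγ n hn) _).mpr
          (hker _ fun hmem => hθ n hn (hle hmem))).symm
      intro hmem
      have hev : evalAt (j : P.S →+* K) (γ n hn) = MonoidAlgebra.single (prn n m) 1 := by
        rw [← P.torCoordAt_one_tmul n j, ← hv, P.torCoordAt_tpi, ← hm, MonoidAlgebra.mapDomainBialgHom_single]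
      refine (evalAt_eq_single_iff (j : P.S →+* K) (hγ n hn) _).mp hev ?_
      rw [← hj] at hmem
      exact RingHom.mem_ker.mp hmem
  obtain ⟨n₀, hn₀, hsep⟩ := exists_separating G
  let c : P.M → P.S := fun m => (γ n₀ hn₀).coeff (prn n₀ m)
  have horth : ∀ m ∈ G, ∀ m' ∈ G, m ≠ m' → c m * c m' = 0 := fun m hm m' hm' hne =>
    groupLike_orth' (hγ n₀ hn₀) fun h => hne (hsep m hm m' hm' h)
  have hidem : ∀ m ∈ G, IsIdempotentElem (c m) := fun m _ => groupLike_idem (hγ n₀ hn₀) _
  have hsum : ∑ m ∈ G, c m = 1 := by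
    have hi : IsIdempotentElem (∑ m ∈ G, c m) := by
      show _ * _ = _
      rw [Finset.sum_mul_sum]
      refine Finset.sum_congr rfl fun m hm => ?_
      rw [Finset.sum_eq_single m (fun m' hm' hne => horth m hm m' hm' (Ne.symm hne)) fun h => absurd hm h]
      exact hidem m hm
    have hu : IsUnit (∑ m ∈ G, c m) := by
      by_contra hu
      obtain ⟨q, hq, hmem⟩ := exists_max_ideal_of_mem_nonunits hu
      obtain ⟨m, hmG, hm⟩ := hval q
      refine hm n₀ hn₀ ?_
      have h2 := q.mul_mem_left (c m) hmem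
      rw [Finset.mul_sum, Finset.sum_eq_single m (fun m' hm' hne => horth m hmG m' hm' (Ne.symm hne))
        fun h => absurd hmG h] at h2
      exact (hq.isPrime.mem_or_mem h2).elim id id
    exact hu.mul_left_cancel (hi.trans (mul_one _).symm)
  let z : MonoidAlgebra P.S P.M := ∑ m ∈ G, MonoidAlgebra.single m (c m)
  have hz : IsGroupLikeElem P.S z := isGroupLike_of_orth G c horth hidem hsum
  have hzval : ∀ (q : Ideal P.S) [q.IsPrime] (m : P.M), Val q m → z.coeff m ∉ q := by
    intro q _ m hm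
    obtain ⟨m', hm'G, hm'⟩ := hval q
    obtain rfl := huniq q m m' hm hm'
    have e : z.coeff m = c m := by
      simp only [z, MonoidAlgebra.coeff_sum, Finsupp.finsetSum_apply, MonoidAlgebra.coeff_single,
        Finsupp.single_apply, Finset.sum_ite_eq', if_pos hm'G]
    rw [e]
    exact hm n₀ hn₀
  have hzγ : ∀ n hn, MonoidAlgebra.mapDomainBialgHom P.S (prn n) z = γ n hn := by
    intro n hn
    refine groupLike_ext_primes (hz.map _) (hγ n hn) fun q _ => ?_
    obtain ⟨m, hmG, hm⟩ := hval q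
    rw [mapCoeff_mapDomain, (value_iff hz q m).mpr (hzval q m hm), (value_iff (hγ n hn) q _).mpr (hm n hn),
      MonoidAlgebra.mapDomainBialgHom_single]
  let zA := P.bialgEquiv.symm z
  have hzA : IsGroupLikeElem P.S zA := hz.map (P.bialgEquiv.symm : MonoidAlgebra P.S P.M →ₐc[P.S] P.S ⊗[R] A)
  have hzAeq : P.equiv zA = z := (P.extend_eq _).symm.trans (P.bialgEquiv.apply_symm_apply z)
  have htpi : ∀ n hn, tpi n P.S zA = (1 : P.S) ⊗ₜ[R] b n hn := by
    intro n hn
    apply P.torCoordAt_injective n (AlgHom.id R P.S)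
    rw [P.torCoordAt_tpi, P.coordAt_id, hzAeq, hzγ n hn, P.torCoordAt_one_tmul]
    ext m
    rw [coeff_evalAt]
    rfl
  have agree : mA A (Algebra.TensorProduct.includeLeft : P.S →ₐ[R] P.S ⊗[R] P.S) zA =
      mA A Algebra.TensorProduct.includeRight zA := by
    let T := P.S ⊗[R] P.S
    let j₁ : P.S →ₐ[R] T := Algebra.TensorProduct.includeLeft
    let j₂ : P.S →ₐ[R] T := Algebra.TensorProduct.includeRight
    show mA A j₁ zA = mA A j₂ zA
    apply (P.coordAt_bijective j₁).1
    set x₁ := P.coordAt j₁ (mA A j₁ zA)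
    set x₂ := P.coordAt j₁ (mA A j₂ zA)
    obtain ⟨n, hn, hs⟩ := exists_separating (x₁.coeff.support ∪ x₂.coeff.support)
    refine eq_of_mapDomain_eq (prn n) _ hs Finset.subset_union_left Finset.subset_union_right ?_
    rw [← P.torCoordAt_tpi, ← P.torCoordAt_tpi, ← mA_tpi, ← mA_tpi, htpi n hn, Algebra.TensorProduct.map_tmul,
      Algebra.TensorProduct.map_tmul, map_one, map_one]
  obtain ⟨a, ha, ea⟩ := (Cover.single P).descend_groupLike (fun _ => zA) (fun _ => hzA) fun _ _ => agree
  have ea' : (1 : P.S) ⊗ₜ[R] a = zA := ea ⟨⟩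
  refine ⟨a, ha, ?_⟩
  let T := P.S ⧸ I.map (algebraMap R P.S)
  let ρT : k →ₐ[R] T := ofRed I P.S
  let jT : P.S →ₐ[R] T := red I P.S
  have hρT : Function.Injective ρT := by
    rw [injective_iff_map_eq_zero]
    intro x hx
    obtain ⟨r, rfl⟩ := Ideal.Quotient.mk_surjective x
    refine Ideal.Quotient.eq_zero_iff_mem.mpr ?_
    have h1 : algebraMap R P.S r ∈ I.map (algebraMap R P.S) := by
      refine Ideal.Quotient.eq_zero_iff_mem.mp ?_
      exact hx
    rw [← Ideal.comap_map_eq_self_of_faithfullyFlat (B := P.S) I]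
    exact h1
  have hρinj : Function.Injective (mA A ρT) := by
    rw [show ⇑(mA A ρT) = ⇑(LinearMap.rTensor A ρT.toLinearMap) from funext (mA_eq_rTensor ρT)]
    exact Module.Flat.rTensor_preserves_injective_linearMap _ hρT
  apply hρinj
  apply (P.coordAt_bijective jT).1
  refine groupLike_ext_primes ((isGroupLike_mA ρT ((SemiBialgHom.baseChange R k A).isGroupLike ha)).map _)
    ((isGroupLike_mA ρT hw).map _) fun q _ => ?_
  let qS : Ideal P.S := q.comap jT
  have hqS : I ≤ qS.comap (algebraMap R P.S) := fun r hr => by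
    show jT (algebraMap R P.S r) ∈ q
    rw [show jT (algebraMap R P.S r) = 0 from
      Ideal.Quotient.eq_zero_iff_mem.mpr (Ideal.mem_map_of_mem _ hr)]
    exact q.zero_mem
  obtain ⟨ρ⟩ := exists_quot_algHom I qS hqS
  obtain ⟨θ, -, -, hθV⟩ := hgood qS ρ
  let i : T →ₐ[R] q.ResidueField := IsScalarTower.toAlgHom R T q.ResidueField
  have hi : ∀ s, s ∉ qS → (i.comp jT) s ≠ 0 := fun s hs => (toAlgHom_residueField_ne_zero (R := R) q _).mpr hs
  obtain ⟨θ', hθ'⟩ := exists_single_of_field
    ((isGroupLike_mA (i.comp ρT) hw).map (P.coordAt (i.comp jT)))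
  have hθ'eq : θ' = θ := by
    obtain ⟨n, hn, hsep⟩ := exists_separating ({θ, θ'} : Finset P.M)
    refine hsep θ' (by simp) θ (by simp) (single_inj (K := q.ResidueField) ?_)
    have e1 : tpi n q.ResidueField (mA A (i.comp ρT) w) = (1 : q.ResidueField) ⊗ₜ[R] b n hn := by
      rw [← mA_tpi, ← eb n hn, Algebra.TensorProduct.map_tmul, map_one, AlgHom.id_apply]
    rw [← MonoidAlgebra.mapDomainBialgHom_single, hθ', ← P.torCoordAt_tpi, e1, P.torCoordAt_one_tmul]
    exact (evalAt_eq_single_iff ((i.comp jT : P.S →ₐ[R] q.ResidueField) : P.S →+* q.ResidueField) (hγ n hn) _).mpr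
      (hi _ (hθV n hn))
  have key : evalAt (i : T →+* q.ResidueField) (P.coordAt jT (mA A ρT ((1 : k) ⊗ₜ[R] a))) =
      evalAt (i : T →+* q.ResidueField) (P.coordAt jT (mA A ρT w)) := by
    rw [evalAt_coordAt, evalAt_coordAt, mA_comp, mA_comp, Algebra.TensorProduct.map_tmul, map_one,
      AlgHom.id_apply, P.coordAt_one_tmul, ← P.equiv_tmul, ea', hzAeq, ← hθ', hθ'eq]
    exact (evalAt_eq_single_iff ((i.comp jT : P.S →ₐ[R] q.ResidueField) : P.S →+* q.ResidueField) hz θ).mpr
      (hi _ (hzval qS θ hθV))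
  ext m
  have e2 := congrArg (fun z => z.coeff m) key
  simp only [coeff_evalAt] at e2
  rw [coeff_mapCoeff, coeff_mapCoeff]
  exact e2

set_option maxHeartbeats 4000000 in
/-- Diagonalisability is detected modulo an ideal in the radical, given lifts on the torsion subgroups. -/
theorem isDiag_of_lifting (hI : I ≤ Ideal.jacobson ⊥) (hft : Algebra.FiniteType R A)
    (hA : SGA3b.IsMultType R A) (hd : SGA3b.IsDiag (R ⧸ I) ((R ⧸ I) ⊗[R] A))
    (hlift : ∀ n, 0 < n → ∀ w : (R ⧸ I) ⊗[R] A, IsGroupLikeElem (R ⧸ I) w →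
      ∃ b : A ⧸ SGA3b.torsionIdeal R A n,
        haveI := isHopfIdeal_torsionIdeal hA n
        IsGroupLikeElem R b ∧ (1 : R ⧸ I) ⊗ₜ b = tpi n (R ⧸ I) w) :
    SGA3b.IsDiag R A := by
  classical
  obtain ⟨M₀, inst, he⟩ := hd
  obtain ⟨e₀⟩ := he
  rcases subsingleton_or_nontrivial R with hR | hR
  · have : Subsingleton A := Module.subsingleton R A
    have : Subsingleton (MonoidAlgebra R M₀) := Module.subsingleton R _
    exact isDiag_of_equiv (BialgEquiv.ofBijective (homOfGroupLike (1 : M₀ →* A) fun _ => .one)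
      ⟨fun _ _ _ => Subsingleton.elim _ _, fun b => ⟨0, Subsingleton.elim _ _⟩⟩).symm
  obtain ⟨P, hP⟩ := exists_ff_split_of_pair I hI hA e₀
  have := P.flat_self
  have := fun n => isHopfIdeal_torsionIdeal hA n
  let k := R ⧸ I
  have hk : Nontrivial k := Ideal.Quotient.nontrivial_iff.mpr fun h => zero_ne_one (α := R) <| by
    have h1 := Ideal.mem_jacobson_bot.mp (hI (h ▸ Submodule.mem_top : (1 : R) ∈ I)) (-1)
    simp at h1
  have : Nontrivial P.S := by
    obtain ⟨m, hm⟩ := Ideal.exists_maximal R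
    obtain ⟨⟨q, hq⟩, -⟩ := PrimeSpectrum.comap_surjective_of_faithfullyFlat (A := R) (B := P.S)
      ⟨m, hm.isPrime⟩
    exact nontrivial_of_ne 0 1 fun h => hq.ne_top (q.eq_top_iff_one.mpr (h ▸ q.zero_mem))
  have : Group.FG P.M := by
    have : Algebra.FiniteType P.S (P.S ⊗[R] A) := inferInstance
    exact MonoidAlgebra.finiteType_iff_group_fg.mp (this.equiv P.equiv)
  have : Group.FG M₀ := by
    have : Algebra.FiniteType k (k ⊗[R] A) := inferInstance
    exact MonoidAlgebra.finiteType_iff_group_fg.mp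
      (this.equiv (e₀ : k ⊗[R] A ≃ₐ[k] MonoidAlgebra k M₀))
  choose g0 hg0 eg0 using fun m : M₀ =>
    let hwm := (isGroupLike_single (S := k) m).map (e₀.symm : MonoidAlgebra k M₀ →ₐc[k] k ⊗[R] A)
    P.exists_groupLike_lift_pair I hft hA hI hwm fun n hn => hlift n hn _ hwm
  let g : M₀ →* A :=
    { toFun := g0
      map_one' := groupLike_ext_jacobson hA I hI (hg0 1) .one (by
        rw [eg0, show MonoidAlgebra.single (1 : M₀) (1 : k) = 1 from rfl, map_one]; rfl)
      map_mul' := fun a b => groupLike_ext_jacobson hA I hI (hg0 _) ((hg0 a).mul (hg0 b)) (by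
        rw [eg0, show (1 : k) ⊗ₜ[R] (g0 a * g0 b) = ((1 : k) ⊗ₜ[R] g0 a) * ((1 : k) ⊗ₜ[R] g0 b) by simp,
          eg0, eg0]
        show e₀.symm (MonoidAlgebra.single (a * b) 1) = e₀.symm _ * e₀.symm _
        rw [← map_mul, MonoidAlgebra.single_mul_single, one_mul]) }
  have hg : ∀ m, IsGroupLikeElem R (g m) := hg0
  have hvals : ∀ (K : Type u) [Field K] [Algebra R K] (j : P.S →ₐ[R] K), ∃ θ : M₀ →* P.M,
      (∀ m, evalAt (j : P.S →+* K) (P.hom.toAlgHom (g m)) = MonoidAlgebra.single (θ m) 1) ∧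
      (Function.Bijective θ ↔ Function.Bijective (homOfGroupLike
        ((SemiBialgHom.baseChange R K A).toAlgHom.toRingHom.toMonoidHom.comp g)
        fun m => (SemiBialgHom.baseChange R K A).isGroupLike (hg m))) := by
    intro K _ _ j
    choose θ hθ using fun m => exists_single_of_field
      (isGroupLike_evalAt (j : P.S →+* K) (P.hom.isGroupLike (hg m)))
    let θ' : M₀ →* P.M :=
      { toFun := θ
        map_one' := single_inj (K := K) (by rw [hθ, map_one, map_one, map_one]; rfl)
        map_mul' := fun a b => single_inj (K := K) (by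
          rw [hθ, map_mul, map_mul, map_mul, ← hθ, ← hθ, MonoidAlgebra.single_mul_single, one_mul]) }
    refine ⟨θ', fun m => (hθ m).symm, ?_⟩
    set GK := homOfGroupLike ((SemiBialgHom.baseChange R K A).toAlgHom.toRingHom.toMonoidHom.comp g)
      fun m => (SemiBialgHom.baseChange R K A).isGroupLike (hg m) with hGK
    have hcomp : ⇑(MonoidAlgebra.mapDomainBialgHom K θ') = ⇑(P.coordAt j) ∘ ⇑GK := by
      funext x
      induction x using MonoidAlgebra.induction_linear with
      | zero => simp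
      | add x y hx hy => simp only [map_add, Function.comp_apply] at hx hy ⊢; rw [hx, hy]
      | single m r =>
        rw [Function.comp_apply, hGK, homOfGroupLike_single, map_smul, MonoidAlgebra.mapDomainBialgHom_single]
        show _ = r • P.coordAt j ((1 : K) ⊗ₜ g m)
        rw [P.coordAt_one_tmul, ← hθ m, MonoidAlgebra.smul_single, smul_eq_mul, mul_one]
        rfl
    refine ⟨fun h => ?_, fun h => bijective_of_mapDomain_bijective (K := K) θ' ?_⟩
    · have h2 := mapDomain_bijective (K := K) θ' h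
      rw [hcomp] at h2
      exact (Function.Bijective.of_comp_iff' (P.coordAt_bijective j) _).mp h2
    · rw [hcomp]
      exact (P.coordAt_bijective j).comp h
  have hloc : ∀ (q : Ideal P.S) [q.IsPrime], ∃ θ : M₀ →* P.M, Function.Bijective θ ∧
      ∀ m, (P.hom.toAlgHom (g m)).coeff (θ m) ∉ q := by
    intro q _
    obtain ⟨q₁, q', hq₁, hq', h₁, hle, hcq⟩ := exists_spread_pair I hI q
    obtain ⟨ρ⟩ := exists_quot_algHom I q₁ h₁
    obtain ⟨θ₁, hθ₁, hb₁⟩ := hvals q₁.ResidueField (IsScalarTower.toAlgHom R P.S q₁.ResidueField)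
    have hbij₁ : Function.Bijective θ₁ := by
      refine hb₁.mpr ?_
      let _ : Algebra k q₁.ResidueField := ρ.toRingHom.toAlgebra
      have : IsScalarTower R k q₁.ResidueField := IsScalarTower.of_algebraMap_eq fun r => (ρ.commutes r).symm
      let h₀ : SemiBialgHom R k A (MonoidAlgebra k M₀) :=
        (SemiBialgHom.ofBialgHom (e₀ : k ⊗[R] A →ₐc[k] MonoidAlgebra k M₀)).comp (SemiBialgHom.baseChange R k A)
      have hb₀ : Function.Bijective h₀.extend := by
        rw [show ⇑h₀.extend = ⇑e₀ from funext (extend_eq_of_equiv e₀)]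
        exact e₀.bijective
      have hE := extend_comp_mapCoeff_bijective (T := q₁.ResidueField) h₀ hb₀
      set E := ((mapCoeff k q₁.ResidueField M₀).comp h₀).extend with hEdef
      set GK := homOfGroupLike
        ((SemiBialgHom.baseChange R q₁.ResidueField A).toAlgHom.toRingHom.toMonoidHom.comp g)
        fun m => (SemiBialgHom.baseChange R q₁.ResidueField A).isGroupLike (hg m) with hGK
      have hEG : ⇑E ∘ ⇑GK = id := by
        funext x
        induction x using MonoidAlgebra.induction_linear with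
        | zero => simp
        | add x y hx hy => simp only [map_add, Function.comp_apply, id_eq] at hx hy ⊢; rw [hx, hy]
        | single m r =>
          rw [Function.comp_apply, hGK, homOfGroupLike_single, map_smul]
          show r • E ((1 : q₁.ResidueField) ⊗ₜ g0 m) = _
          rw [hEdef, SemiBialgHom.extend_tmul, one_smul]
          show r • (mapCoeff k q₁.ResidueField M₀).toAlgHom (e₀ ((1 : k) ⊗ₜ g0 m)) = _
          rw [eg0]
          show r • (mapCoeff k q₁.ResidueField M₀).toAlgHom (e₀ (e₀.symm _)) = _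
          rw [BialgEquiv.apply_symm_apply, mapCoeff_single, map_one, MonoidAlgebra.smul_single, smul_eq_mul,
            mul_one]
          rfl
      exact (Function.Bijective.of_comp_iff' hE _).mp (hEG ▸ Function.bijective_id)
    have hne₁ : ∀ m, (P.hom.toAlgHom (g m)).coeff (θ₁ m) ∉ q' := fun m hmem =>
      (toAlgHom_residueField_ne_zero (R := R) q₁ _).mp
        ((evalAt_eq_single_iff _ (P.hom.isGroupLike (hg m)) _).mp (hθ₁ m)) (hle hmem)
    obtain ⟨K, _, _, j, j', hj, hj'⟩ := exists_common_field (R := R) q q' hcq.symm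
    obtain ⟨θ', hθ', hb'⟩ := hvals K j'
    obtain ⟨θ, hθ, hb⟩ := hvals K j
    have heq : θ' = θ₁ := MonoidHom.ext fun m => by
      refine single_inj (K := K) ((hθ' m).symm.trans
        ((evalAt_eq_single_iff _ (P.hom.isGroupLike (hg m)) _).mpr fun h0 => hne₁ m ?_))
      rw [← hj']
      exact RingHom.mem_ker.mpr h0
    refine ⟨θ, hb.mpr (hb'.mp (heq ▸ hbij₁)), fun m hmem => ?_⟩
    refine (evalAt_eq_single_iff _ (P.hom.isGroupLike (hg m)) _).mp (hθ m) ?_
    rw [← hj] at hmem
    exact RingHom.mem_ker.mp hmem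
  obtain ⟨s, hs⟩ := Group.FG.out (G := M₀)
  choose θ hθb hθ using fun q : PrimeSpectrum P.S => hloc q.asIdeal
  let f : PrimeSpectrum P.S → P.S := fun q => ∏ x ∈ s, (P.hom.toAlgHom (g x)).coeff (θ q x)
  have hf : ∀ q : PrimeSpectrum P.S, f q ∉ q.asIdeal := fun q hmem => by
    obtain ⟨x, -, hx⟩ := q.isPrime.prod_mem_iff.mp hmem
    exact hθ q x hx
  have hspan : Ideal.span (Set.range f) = ⊤ := by
    by_contra hne
    obtain ⟨m, hm, hle⟩ := Ideal.exists_le_maximal _ hne
    exact hf ⟨m, hm.isPrime⟩ (hle (Ideal.subset_span ⟨_, rfl⟩))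
  obtain ⟨t, htr, ht⟩ := Submodule.mem_span_finite_of_mem_span
    (hspan ▸ Submodule.mem_top : (1 : P.S) ∈ Ideal.span (Set.range f))
  choose pt hpt using fun x : ↥t => htr x.2
  let Sf : ↥t → Type u := fun x => Localization.Away (x : P.S)
  let Q : ↥t → Split R A := fun x =>
    have : Module.Flat P.S (Sf x) := IsLocalization.flat (Sf x) (Submonoid.powers (x : P.S))
    have : Module.Flat R (Sf x) := Module.Flat.trans R P.S (Sf x)
    { S := Sf x
      M := P.M
      hom := P.homOver (Sf x)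
      equiv := AlgEquiv.ofBijective (P.homOver (Sf x)).extend (P.extend_homOver_bijective (Sf x))
      equiv_tmul := fun a => ((P.homOver (Sf x)).extend_tmul 1 a).trans (one_smul _ _) }
  let c : Cover R A :=
    { ι := ↥t
      split := Q
      surj := fun p hp => by
        obtain ⟨⟨q, hq⟩, hqp⟩ := PrimeSpectrum.comap_surjective_of_faithfullyFlat (A := R) (B := P.S) ⟨p, hp⟩
        obtain ⟨x, hxt, hxq⟩ : ∃ x ∈ t, x ∉ q := by
          by_contra hne
          push Not at hne
          exact hq.ne_top (q.eq_top_iff_one.mpr (Submodule.span_le.mpr hne ht))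
        have hdis : Disjoint (Submonoid.powers x : Set P.S) (q : Set P.S) := by
          rw [Set.disjoint_left]
          rintro y ⟨n, rfl⟩ hy
          exact hxq (hq.mem_of_pow_mem n hy)
        refine ⟨⟨x, hxt⟩, _, IsLocalization.isPrime_of_isPrime_disjoint _ (Localization.Away x) q hq hdis, ?_⟩
        show Ideal.comap (algebraMap R (Localization.Away x)) _ = p
        rw [IsScalarTower.algebraMap_eq R P.S (Localization.Away x), ← Ideal.comap_comap]
        have h2 : (q.map (algebraMap P.S (Localization.Away x))).comap (algebraMap P.S (Localization.Away x)) = q :=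
          IsLocalization.under_map_of_isPrime_disjoint _ _ hq hdis
        rw [h2]
        exact congrArg PrimeSpectrum.asIdeal hqp }
  have hb := c.bijective_of_bijective g hg fun x => by
    let φ : M₀ →* MonoidAlgebra (Sf x) P.M :=
      (P.homOver (Sf x)).toAlgHom.toRingHom.toMonoidHom.comp g
    have hφ : φ = (MonoidAlgebra.of (Sf x) P.M).comp (θ (pt x)) := by
      refine MonoidHom.eq_of_eqOn_dense hs fun y hy => ?_
      refine eq_single_of_isUnit ((P.homOver (Sf x)).isGroupLike (hg y)) ?_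
      show IsUnit (((mapCoeff P.S (Sf x) P.M).toAlgHom (P.hom.toAlgHom (g y))).coeff (θ (pt x) y))
      rw [coeff_mapCoeff]
      have hu : IsUnit (algebraMap P.S (Sf x) (f (pt x))) := by
        rw [hpt x]
        exact IsLocalization.Away.algebraMap_isUnit (x : P.S)
      exact isUnit_of_dvd_unit (map_dvd _ (Finset.dvd_prod_of_mem
        (fun z => (P.hom.toAlgHom (g z)).coeff (θ (pt x) z)) hy)) hu
    show Function.Bijective (homOfGroupLike φ fun m => (P.homOver (Sf x)).isGroupLike (hg m))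
    have e : ⇑(homOfGroupLike φ fun m => (P.homOver (Sf x)).isGroupLike (hg m)) =
        ⇑(MonoidAlgebra.mapDomainBialgHom (Sf x) (θ (pt x))) := by
      funext y
      induction y using MonoidAlgebra.induction_linear with
      | zero => simp
      | add x y hx hy => simp only [map_add, hx, hy]
      | single m r =>
        rw [homOfGroupLike_single, hφ, MonoidAlgebra.mapDomainBialgHom_single]
        show r • MonoidAlgebra.single (θ (pt x) m) (1 : Sf x) = _
        rw [MonoidAlgebra.smul_single, smul_eq_mul, mul_one]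
    rw [e]
    exact mapDomain_bijective _ (hθb _)
  exact isDiag_of_equiv (BialgEquiv.ofBijective (homOfGroupLike g hg) hb).symm

end Groth.Agent.MultTypeLib
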