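import Groth.Agent.MultTypeLib.Twist
import Groth.Agent.MultTypeLib.Pair
import Groth.Agent.Hensel.Factor
import Groth.Agent.Hensel.FiniteEtaleLift

/-!
# Lifting isotrivial groups of multiplicative type along henselian pairs
-/

universe u

open WithConv TensorProduct Coalgebra Bialgebra

noncomputable section

namespace Groth.Agent.MultTypeLib

section Transition

variable {R : Type u} [CommRing R] {A : Type u} [CommRing A] [HopfAlgebra R A] (P : Split R A)
variable {T : Type u} [CommRing T] [Algebra R T] (j j' : P.S →ₐ[R] T)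

/-- The group-like elements comparing the coordinates along two points. -/
def Split.trans : P.M →* MonoidAlgebra T P.M :=
  ((((P.coordAt j' : T ⊗[R] A →ₐ[T] MonoidAlgebra T P.M).restrictScalars R).comp (mA A j) :
    P.S ⊗[R] A →ₐ[R] MonoidAlgebra T P.M) : P.S ⊗[R] A →* MonoidAlgebra T P.M).comp P.char

theorem Split.trans_apply (m : P.M) : P.trans j j' m = P.coordAt j' (mA A j (P.char m)) := rfl

theorem Split.isGroupLike_trans (m : P.M) : IsGroupLikeElem T (P.trans j j' m) :=
  (isGroupLike_mA j (P.isGroupLike_char m)).map (P.coordAt j')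

/-- The comparison map turns the first coordinates into the second ones. -/
theorem Split.trans_coordAt (w : T ⊗[R] A) :
    homOfGroupLike (P.trans j j') (P.isGroupLike_trans j j') (P.coordAt j w) = P.coordAt j' w := by
  have key : ∀ y : MonoidAlgebra P.S P.M,
      homOfGroupLike (P.trans j j') (P.isGroupLike_trans j j') (evalAt (j : P.S →+* T) y) =
        P.coordAt j' (mA A j (P.equiv.symm y)) := by
    intro y
    induction y using MonoidAlgebra.induction_linear with
    | zero => simp
    | add a b ha hb => simp only [map_add, ha, hb]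
    | single m r =>
      rw [evalAt_single, homOfGroupLike_single, P.trans_apply,
        show P.equiv.symm (MonoidAlgebra.single m r) = r • P.char m from P.equiv.injective (by
          rw [AlgEquiv.apply_symm_apply, map_smul,
            show P.equiv (P.char m) = MonoidAlgebra.single m 1 from P.equiv.apply_symm_apply _,
            MonoidAlgebra.smul_single, smul_eq_mul, mul_one])]
      generalize P.char m = z
      induction z using TensorProduct.induction_on with
      | zero => simp
      | add a b ha hb => simp only [map_add, smul_add, ha, hb]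
      | tmul s a =>
        rw [← map_smul, Algebra.TensorProduct.map_tmul, TensorProduct.smul_tmul', TensorProduct.smul_tmul',
          Algebra.TensorProduct.map_tmul, smul_eq_mul, smul_eq_mul, map_mul]
        rfl
  induction w using TensorProduct.induction_on with
  | zero => simp
  | add a b ha hb => simp only [map_add, ha, hb]
  | tmul t a =>
    rw [show (t ⊗ₜ[R] a : T ⊗[R] A) = t • ((1 : T) ⊗ₜ[R] a) by rw [TensorProduct.smul_tmul', smul_eq_mul, mul_one],
      map_smul, map_smul, map_smul, P.coordAt_one_tmul, key,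
      show P.equiv.symm (P.hom.toAlgHom a) = (1 : P.S) ⊗ₜ[R] a by rw [← P.equiv_tmul, AlgEquiv.symm_apply_apply],
      Algebra.TensorProduct.map_tmul, map_one, AlgHom.id_apply]

theorem Split.evalAt_trans {U : Type u} [CommRing U] [Algebra R U] (i : T →ₐ[R] U) (m : P.M) :
    evalAt (i : T →+* U) (P.trans j j' m) = P.trans (i.comp j) (i.comp j') m := by
  rw [P.trans_apply, P.trans_apply, evalAt_coordAt, mA_comp]

end Transition

section Reduction

variable {R : Type u} [CommRing R] (I : Ideal R)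

/-- Idempotents lift uniquely along the reduction modulo the ideal. -/
class IdemLifts (S : Type u) [CommRing S] [Algebra R S] : Prop where
  bijOn : Set.BijOn (Ideal.Quotient.mk (I.map (algebraMap R S)))
    {e : S | IsIdempotentElem e} {e | IsIdempotentElem e}

instance idemLifts_of_henselian [HenselianRing R I] (S : Type u) [CommRing S] [Algebra R S]
    [Algebra.IsIntegral R S] : IdemLifts I S :=
  ⟨Hensel.bijOn_idempotents_of_isIntegral I S⟩

theorem idemLifts_of_nil (hI : ∀ x ∈ I, IsNilpotent x) (S : Type u) [CommRing S] [Algebra R S] :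
    IdemLifts I S := by
  have hker : ∀ x ∈ RingHom.ker (Ideal.Quotient.mk (I.map (algebraMap R S))), IsNilpotent x :=
    fun x hx => red_ker I hI S x (RingHom.mem_ker.mp hx)
  refine ⟨⟨fun e he => IsIdempotentElem.map he _, fun e he e' he' h => ?_, fun e he => ?_⟩⟩
  · exact eq_of_isNilpotent_sub_of_isIdempotentElem he he'
      (hker _ (by rw [RingHom.mem_ker, map_sub, h, sub_self]))
  · obtain ⟨e', he', hee⟩ := exists_isIdempotentElem_eq_of_ker_isNilpotent _ hker e
      (Ideal.Quotient.mk_surjective e) he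
    exact ⟨e', he', hee⟩

/-- A surjection of algebras with the kernel generated by the ideal. -/
structure IsRed {S S₀ : Type u} [CommRing S] [Algebra R S] [CommRing S₀] [Algebra R S₀]
    (π : S →ₐ[R] S₀) : Prop where
  surj : Function.Surjective π
  ker_le : ∀ x, π x = 0 → x ∈ I.map (algebraMap R S)

variable {I}

theorem IsRed.exists_inv {S S₀ : Type u} [CommRing S] [Algebra R S] [CommRing S₀] [Algebra R S₀]
    {π : S →ₐ[R] S₀} (h : IsRed I π) :
    ∃ σ : S₀ →ₐ[R] S ⧸ I.map (algebraMap R S), ∀ x, σ (π x) = Ideal.Quotient.mk _ x := by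
  let σ : (S ⧸ RingHom.ker π) →ₐ[R] S ⧸ I.map (algebraMap R S) :=
    Ideal.Quotient.liftₐ _ (Ideal.Quotient.mkₐ R _) fun x hx =>
      Ideal.Quotient.eq_zero_iff_mem.mpr (h.ker_le x hx)
  let e := Ideal.quotientKerAlgEquivOfSurjective (f := π) h.surj
  refine ⟨σ.comp e.symm.toAlgHom, fun x => ?_⟩
  show σ (e.symm (π x)) = _
  rw [show π x = e (Ideal.Quotient.mk _ x) from rfl, AlgEquiv.symm_apply_apply]
  rfl

theorem IsRed.map_le {S S₀ : Type u} [CommRing S] [Algebra R S] [CommRing S₀] [Algebra R S₀]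
    [Algebra (R ⧸ I) S₀] [IsScalarTower R (R ⧸ I) S₀] (π : S →ₐ[R] S₀) {x : S}
    (hx : x ∈ I.map (algebraMap R S)) : π x = 0 := by
  suffices I.map (algebraMap R S) ≤ RingHom.ker π from this hx
  rw [Ideal.map_le_iff_le_comap]
  intro r hr
  rw [Ideal.mem_comap, RingHom.mem_ker, AlgHom.commutes, IsScalarTower.algebraMap_apply R (R ⧸ I) S₀,
    Ideal.Quotient.algebraMap_eq, Ideal.Quotient.eq_zero_iff_mem.mpr hr, map_zero]

/-- The product of two reductions. -/
def redTensor {S S₀ S' S₀' : Type u} [CommRing S] [Algebra R S] [CommRing S₀] [Algebra R S₀]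
    [Algebra (R ⧸ I) S₀] [IsScalarTower R (R ⧸ I) S₀]
    [CommRing S'] [Algebra R S'] [CommRing S₀'] [Algebra R S₀'] [Algebra (R ⧸ I) S₀']
    [IsScalarTower R (R ⧸ I) S₀'] (π : S →ₐ[R] S₀) (π' : S' →ₐ[R] S₀') :
    S ⊗[R] S' →ₐ[R] S₀ ⊗[R ⧸ I] S₀' :=
  Algebra.TensorProduct.lift
    ((Algebra.TensorProduct.includeLeft (R := R ⧸ I) (S := R) (A := S₀) (B := S₀')).comp π)
    (((Algebra.TensorProduct.includeRight (R := R ⧸ I) (A := S₀) (B := S₀')).restrictScalars R).comp π')
    fun _ _ => commute_of_comm _ _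

theorem redTensor_tmul {S S₀ S' S₀' : Type u} [CommRing S] [Algebra R S] [CommRing S₀] [Algebra R S₀]
    [Algebra (R ⧸ I) S₀] [IsScalarTower R (R ⧸ I) S₀]
    [CommRing S'] [Algebra R S'] [CommRing S₀'] [Algebra R S₀'] [Algebra (R ⧸ I) S₀']
    [IsScalarTower R (R ⧸ I) S₀'] (π : S →ₐ[R] S₀) (π' : S' →ₐ[R] S₀') (x : S) (y : S') :
    redTensor (I := I) π π' (x ⊗ₜ y) = π x ⊗ₜ π' y := by
  simp [redTensor]

theorem IsRed.tensor {S S₀ S' S₀' : Type u} [CommRing S] [Algebra R S] [CommRing S₀] [Algebra R S₀]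
    [Algebra (R ⧸ I) S₀] [IsScalarTower R (R ⧸ I) S₀]
    [CommRing S'] [Algebra R S'] [CommRing S₀'] [Algebra R S₀'] [Algebra (R ⧸ I) S₀']
    [IsScalarTower R (R ⧸ I) S₀'] {π : S →ₐ[R] S₀} {π' : S' →ₐ[R] S₀'} (h : IsRed I π) (h' : IsRed I π') :
    IsRed I (redTensor (I := I) π π') := by
  let J := I.map (algebraMap R (S ⊗[R] S'))
  refine ⟨fun z => ?_, fun z hz => ?_⟩
  · induction z using TensorProduct.induction_on with
    | zero => exact ⟨0, map_zero _⟩
    | add a b ha hb =>
      obtain ⟨a', ha'⟩ := ha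
      obtain ⟨b', hb'⟩ := hb
      exact ⟨a' + b', by rw [map_add, ha', hb']⟩
    | tmul a b =>
      obtain ⟨a, rfl⟩ := h.surj a
      obtain ⟨b, rfl⟩ := h'.surj b
      exact ⟨a ⊗ₜ b, redTensor_tmul π π' a b⟩
  · obtain ⟨σ, hσ⟩ := h.exists_inv
    obtain ⟨σ', hσ'⟩ := h'.exists_inv
    have hle : I.map (algebraMap R S) ≤ J.comap (Algebra.TensorProduct.includeLeft : S →ₐ[R] S ⊗[R] S') :=
      Ideal.map_le_iff_le_comap.mpr fun r hr => by
        rw [Ideal.mem_comap, Ideal.mem_comap, AlgHom.commutes]; exact Ideal.mem_map_of_mem _ hr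
    have hle' : I.map (algebraMap R S') ≤ J.comap (Algebra.TensorProduct.includeRight : S' →ₐ[R] S ⊗[R] S') :=
      Ideal.map_le_iff_le_comap.mpr fun r hr => by
        rw [Ideal.mem_comap, Ideal.mem_comap, AlgHom.commutes]; exact Ideal.mem_map_of_mem _ hr
    let f₀ : S₀ →ₐ[R] (S ⊗[R] S') ⧸ J := (Ideal.quotientMapₐ J _ hle).comp σ
    let g₀ : S₀' →ₐ[R] (S ⊗[R] S') ⧸ J := (Ideal.quotientMapₐ J _ hle').comp σ'
    let _ : Algebra (R ⧸ I) ((S ⊗[R] S') ⧸ J) :=
      (Ideal.quotientMap J (algebraMap R (S ⊗[R] S')) Ideal.le_comap_map).toAlgebra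
    have hcomm : ∀ {X : Type u} [CommRing X] [Algebra R X] [Algebra (R ⧸ I) X] [IsScalarTower R (R ⧸ I) X]
        (f : X →ₐ[R] (S ⊗[R] S') ⧸ J) (r : R ⧸ I), f (algebraMap (R ⧸ I) X r) = algebraMap _ _ r := by
      intro X _ _ _ _ f r
      obtain ⟨r, rfl⟩ := Ideal.Quotient.mk_surjective r
      rw [← Ideal.Quotient.algebraMap_eq, ← IsScalarTower.algebraMap_apply, AlgHom.commutes]
      rfl
    let χ : S₀ ⊗[R ⧸ I] S₀' →ₐ[R ⧸ I] (S ⊗[R] S') ⧸ J :=
      Algebra.TensorProduct.lift ({ f₀.toRingHom with commutes' := hcomm f₀ } : S₀ →ₐ[R ⧸ I] _)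
        ({ g₀.toRingHom with commutes' := hcomm g₀ } : S₀' →ₐ[R ⧸ I] _) fun _ _ => .all _ _
    have key : ∀ w, χ (redTensor (I := I) π π' w) = Ideal.Quotient.mk J w := by
      intro w
      induction w using TensorProduct.induction_on with
      | zero => simp
      | add a b ha hb => simp only [map_add, ha, hb]
      | tmul a b =>
        rw [redTensor_tmul, Algebra.TensorProduct.lift_tmul]
        show f₀ (π a) * g₀ (π' b) = _
        simp only [f₀, g₀, AlgHom.comp_apply, hσ, hσ']
        show Ideal.Quotient.mk J (a ⊗ₜ 1) * Ideal.Quotient.mk J (1 ⊗ₜ b) = _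
        rw [← map_mul, Algebra.TensorProduct.tmul_mul_tmul, mul_one, one_mul]
    rw [← Ideal.Quotient.eq_zero_iff_mem, ← key, hz, map_zero]

variable {S S₀ : Type u} [CommRing S] [Algebra R S] [IdemLifts I S]
  [CommRing S₀] [Algebra R S₀] [Algebra (R ⧸ I) S₀] [IsScalarTower R (R ⧸ I) S₀] {π : S →ₐ[R] S₀}
  {M : Type u} [CommGroup M]

theorem IsRed.idem_eq (h : IsRed I π) {e e' : S} (he : IsIdempotentElem e) (he' : IsIdempotentElem e')
    (heq : π e = π e') : e = e' :=
  (IdemLifts.bijOn (I := I) (S := S)).injOn he he'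
    (Ideal.Quotient.eq.mpr (h.ker_le _ (by rw [map_sub, heq, sub_self])))

/-- Uniqueness of lifts of group-like elements. -/
theorem IsRed.groupLike_ext (h : IsRed I π) {x y : MonoidAlgebra S M} (hx : IsGroupLikeElem S x)
    (hy : IsGroupLikeElem S y) (heq : evalAt (π : S →+* S₀) x = evalAt (π : S →+* S₀) y) : x = y := by
  ext m
  refine h.idem_eq (groupLike_idem hx m) (groupLike_idem hy m) ?_
  have h2 := congrArg (fun z => z.coeff m) heq
  beta_reduce at h2
  rwa [coeff_evalAt, coeff_evalAt] at h2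

/-- Existence of lifts of group-like elements. -/
theorem IsRed.exists_groupLike (h : IsRed I π) {x₀ : MonoidAlgebra S₀ M} (hx₀ : IsGroupLikeElem S₀ x₀) :
    ∃ x : MonoidAlgebra S M, IsGroupLikeElem S x ∧ evalAt (π : S →+* S₀) x = x₀ := by
  classical
  have hex : ∀ m, ∃ e : S, IsIdempotentElem e ∧ π e = x₀.coeff m := by
    intro m
    obtain ⟨a, ha⟩ := h.surj (x₀.coeff m)
    have hid : IsIdempotentElem (Ideal.Quotient.mk (I.map (algebraMap R S)) a) := by
      show _ * _ = _
      rw [← map_mul, Ideal.Quotient.eq]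
      refine h.ker_le _ ?_
      rw [map_sub, map_mul, ha, (groupLike_idem hx₀ m).eq, sub_self]
    obtain ⟨e, he, hea⟩ := (IdemLifts.bijOn (I := I) (S := S)).surjOn hid
    refine ⟨e, he, ?_⟩
    rw [← ha, ← sub_eq_zero, ← map_sub]
    exact IsRed.map_le π (Ideal.Quotient.eq.mp hea)
  choose e he hπe using hex
  let t := x₀.coeff.support
  have horth : ∀ m ∈ t, ∀ n ∈ t, m ≠ n → e m * e n = 0 := fun m _ n _ hne =>
    h.idem_eq ((he m).mul (he n)) IsIdempotentElem.zero
      (by rw [map_mul, hπe, hπe, groupLike_orth' hx₀ hne, map_zero])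
  have hsum₀ : ∑ m ∈ t, x₀.coeff m = 1 := by
    conv_rhs => rw [← hx₀.counit_eq_one, ← MonoidAlgebra.sum_single x₀, Finsupp.sum]
    simp [map_sum]
    rfl
  have hsum : ∑ m ∈ t, e m = 1 := by
    refine h.idem_eq ?_ IsIdempotentElem.one (by rw [map_sum, map_one]; simp only [hπe]; exact hsum₀)
    show _ * _ = _
    rw [Finset.sum_mul_sum]
    refine Finset.sum_congr rfl fun m hm => ?_
    rw [Finset.sum_eq_single m (fun m' hm' hne => horth m hm m' hm' (Ne.symm hne)) fun h => absurd hm h]
    exact he m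
  refine ⟨∑ m ∈ t, MonoidAlgebra.single m (e m), isGroupLike_of_orth t e horth (fun m _ => he m) hsum, ?_⟩
  rw [map_sum]
  simp only [evalAt_single, RingHom.coe_coe, hπe]
  exact MonoidAlgebra.sum_coeff_single x₀

/-- Lifts of homomorphisms to group-like elements. -/
theorem IsRed.exists_hom (h : IsRed I π) {M' : Type u} [CommGroup M'] (c₀ : M' →* MonoidAlgebra S₀ M)
    (hc₀ : ∀ m, IsGroupLikeElem S₀ (c₀ m)) :
    ∃ c : M' →* MonoidAlgebra S M, (∀ m, IsGroupLikeElem S (c m)) ∧
      ∀ m, evalAt (π : S →+* S₀) (c m) = c₀ m := by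
  choose c hc ec using fun m => h.exists_groupLike (hc₀ m)
  refine ⟨{ toFun := c, map_one' := ?_, map_mul' := fun a b => ?_ }, hc, ec⟩
  · exact h.groupLike_ext (hc 1) .one (by rw [ec, map_one, map_one])
  · exact h.groupLike_ext (hc _) ((hc a).mul (hc b)) (by rw [ec, map_mul, map_mul, ec, ec])

end Reduction

section Lift

variable {R : Type u} [CommRing R] (I : Ideal R)

set_option maxHeartbeats 4000000 in
/-- Lifting a group that is diagonalisable over a liftable faithfully flat algebra. -/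
theorem exists_twist_lift (A₀ : Type u) [CommRing A₀] [HopfAlgebra (R ⧸ I) A₀]
    [Algebra R A₀] [IsScalarTower R (R ⧸ I) A₀]
    (C : Type u) [CommRing C] [Algebra (R ⧸ I) C] [Algebra R C] [IsScalarTower R (R ⧸ I) C]
    [Module.FaithfullyFlat (R ⧸ I) C] {M : Type u} [CommGroup M]
    (eC : C ⊗[R ⧸ I] A₀ ≃ₐc[C] MonoidAlgebra C M)
    (E : Type u) [CommRing E] [Algebra R E] [Module.FaithfullyFlat R E]
    [IdemLifts I (E ⊗[R] E)] [IdemLifts I (E ⊗[R] (E ⊗[R] E))] (π : E →ₐ[R] C) (hπ : IsRed I π) :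
    ∃ (A : Type u) (_ : CommRing A) (_ : HopfAlgebra R A),
      Nonempty (E ⊗[R] A ≃ₐc[E] MonoidAlgebra E M) ∧ Nonempty ((R ⧸ I) ⊗[R] A ≃ₐc[R ⧸ I] A₀) := by
  classical
  let P : Split (R ⧸ I) A₀ :=
    { S := C
      M := M
      hom := (SemiBialgHom.ofBialgHom (eC : C ⊗[R ⧸ I] A₀ →ₐc[C] MonoidAlgebra C M)).comp
        (SemiBialgHom.baseChange (R ⧸ I) C A₀)
      equiv := (eC : C ⊗[R ⧸ I] A₀ ≃ₐ[C] MonoidAlgebra C M)
      equiv_tmul := fun a => rfl }
  -- the reductions
  let C₂ := C ⊗[R ⧸ I] C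
  let C₃ := C ⊗[R ⧸ I] C₂
  let j₁ : C →ₐ[R ⧸ I] C₂ := Algebra.TensorProduct.includeLeft
  let j₂ : C →ₐ[R ⧸ I] C₂ := Algebra.TensorProduct.includeRight
  let πT : E ⊗[R] E →ₐ[R] C₂ := redTensor (I := I) π π
  have hπT : IsRed I πT := hπ.tensor hπ
  let πU : E ⊗[R] (E ⊗[R] E) →ₐ[R] C₃ := redTensor (I := I) π πT
  have hπU : IsRed I πU := hπ.tensor hπT
  -- the descent datum
  obtain ⟨c, hc, ec⟩ := hπT.exists_hom (P.trans j₁ j₂) (P.isGroupLike_trans j₁ j₂)
  obtain ⟨c', hc', ec'⟩ := hπT.exists_hom (P.trans j₂ j₁) (P.isGroupLike_trans j₂ j₁)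
  have hπc : ∀ x, evalAt (πT : E ⊗[R] E →+* C₂) (homOfGroupLike c hc x) =
      homOfGroupLike (P.trans j₁ j₂) (P.isGroupLike_trans j₁ j₂) (evalAt (πT : E ⊗[R] E →+* C₂) x) := by
    intro x
    rw [evalAt_homOfGroupLike]
    congr 2
    exact MonoidHom.ext ec
  have hπc' : ∀ x, evalAt (πT : E ⊗[R] E →+* C₂) (homOfGroupLike c' hc' x) =
      homOfGroupLike (P.trans j₂ j₁) (P.isGroupLike_trans j₂ j₁) (evalAt (πT : E ⊗[R] E →+* C₂) x) := by
    intro x
    rw [evalAt_homOfGroupLike]
    congr 2
    exact MonoidHom.ext ec'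
  have hleft : ∀ x, homOfGroupLike c' hc' (homOfGroupLike c hc x) = x := by
    intro x
    induction x using MonoidAlgebra.induction_linear with
    | zero => simp
    | add a b ha hb => simp only [map_add, ha, hb]
    | single m r =>
      rw [homOfGroupLike_single, map_smul]
      rw [show homOfGroupLike c' hc' (c m) = MonoidAlgebra.single m 1 from
        hπT.groupLike_ext ((hc m).map _) (isGroupLike_single m) (by
          rw [hπc', ec, P.trans_apply, P.trans_coordAt, evalAt_single, map_one]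
          exact P.coordAt_char j₁ m), MonoidAlgebra.smul_single, smul_eq_mul, mul_one]
  have hright : ∀ x, homOfGroupLike c hc (homOfGroupLike c' hc' x) = x := by
    intro x
    induction x using MonoidAlgebra.induction_linear with
    | zero => simp
    | add a b ha hb => simp only [map_add, ha, hb]
    | single m r =>
      rw [homOfGroupLike_single, map_smul]
      rw [show homOfGroupLike c hc (c' m) = MonoidAlgebra.single m 1 from
        hπT.groupLike_ext ((hc' m).map _) (isGroupLike_single m) (by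
          rw [hπc, ec', P.trans_apply, P.trans_coordAt, evalAt_single, map_one]
          exact P.coordAt_char j₂ m), MonoidAlgebra.smul_single, smul_eq_mul, mul_one]
  let k0 : C →ₐ[R ⧸ I] C₃ := Algebra.TensorProduct.includeLeft
  let r12 : C₂ →ₐ[R ⧸ I] C₃ := Algebra.TensorProduct.includeRight
  let r01 : C₂ →ₐ[R ⧸ I] C₃ := Algebra.TensorProduct.map (AlgHom.id _ C) j₁
  let r02 : C₂ →ₐ[R ⧸ I] C₃ := Algebra.TensorProduct.map (AlgHom.id _ C) j₂
  have s12 : ∀ x, πU (p12 R E x) = r12 (πT x) := fun x => by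
    show redTensor (I := I) π πT ((1 : E) ⊗ₜ x) = _
    rw [redTensor_tmul, map_one]
    rfl
  have s01 : ∀ x, πU (p01 R E x) = r01 (πT x) := fun x => by
    induction x using TensorProduct.induction_on with
    | zero => simp
    | add a b ha hb => simp only [map_add, ha, hb]
    | tmul a b =>
      show redTensor (I := I) π (redTensor (I := I) π π) (a ⊗ₜ (b ⊗ₜ 1)) = _
      rw [redTensor_tmul, redTensor_tmul, redTensor_tmul, map_one, Algebra.TensorProduct.map_tmul]
      rfl
  have s02 : ∀ x, πU (p02 R E x) = r02 (πT x) := fun x => by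
    induction x using TensorProduct.induction_on with
    | zero => simp
    | add a b ha hb => simp only [map_add, ha, hb]
    | tmul a b =>
      show redTensor (I := I) π (redTensor (I := I) π π) (a ⊗ₜ (1 ⊗ₜ b)) = _
      rw [redTensor_tmul, redTensor_tmul, redTensor_tmul, map_one, Algebra.TensorProduct.map_tmul]
      rfl
  have e12 : (πU : _ →+* C₃).comp (q12 R E) = (r12 : C₂ →+* C₃).comp (πT : _ →+* C₂) := RingHom.ext s12
  have e01 : (πU : _ →+* C₃).comp (q01 R E) = (r01 : C₂ →+* C₃).comp (πT : _ →+* C₂) := RingHom.ext s01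
  have e02 : (πU : _ →+* C₃).comp (q02 R E) = (r02 : C₂ →+* C₃).comp (πT : _ →+* C₂) := RingHom.ext s02
  have t01a : r01.comp j₁ = k0 := AlgHom.ext fun x => rfl
  have t02a : r02.comp j₁ = k0 := AlgHom.ext fun x => rfl
  have t01b : r01.comp j₂ = r12.comp j₁ := AlgHom.ext fun x => rfl
  have t02b : r02.comp j₂ = r12.comp j₂ := AlgHom.ext fun x => rfl
  let D : Twist R E M :=
    { c := c
      gl := hc
      bij := Function.bijective_iff_has_inverse.mpr ⟨_, hleft, hright⟩
      cocycle := fun m => by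
        refine hπU.groupLike_ext ((isGroupLike_evalAt _ (hc m)).map _) (isGroupLike_evalAt _ (hc m)) ?_
        rw [evalAt_homOfGroupLike, evalAt_evalAt, evalAt_evalAt, e01, e02, ← evalAt_evalAt, ← evalAt_evalAt, ec,
          P.evalAt_trans, P.evalAt_trans, t01a, t01b, t02a, t02b, P.trans_apply, P.trans_apply]
        have e : ((evalAt (πU : _ →+* C₃)).toMonoidHom.comp ((evalAt (q12 R E)).toMonoidHom.comp c)) =
            P.trans (r12.comp j₁) (r12.comp j₂) := by
          ext n : 1
          show evalAt (πU : _ →+* C₃) (evalAt (q12 R E) (c n)) = _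
          rw [evalAt_evalAt, e12, ← evalAt_evalAt, ec, P.evalAt_trans]
        refine Eq.trans ?_ (P.trans_coordAt (r12.comp j₁) (r12.comp j₂) _)
        congr 2 }
  -- the comparison with the given group
  let ι₀ : SemiBialgHom R C D.form (MonoidAlgebra C M) :=
    let _ : Algebra E C := π.toRingHom.toAlgebra
    have : IsScalarTower R E C := IsScalarTower.of_algebraMap_eq fun r => (π.commutes r).symm
    (mapCoeff E C M).comp D.inc
  have hι₀ : ∀ x : D.form, ι₀.toAlgHom x = evalAt (π : E →+* C) (x : MonoidAlgebra E M) := fun x => rfl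
  have hι₀b : Function.Bijective ι₀.extend := by
    let _ : Algebra E C := π.toRingHom.toAlgebra
    have : IsScalarTower R E C := IsScalarTower.of_algebraMap_eq fun r => (π.commutes r).symm
    exact extend_comp_mapCoeff_bijective (T := C) D.inc D.inc_bijective
  let H : SemiBialgHom R C D.form (C ⊗[R ⧸ I] A₀) :=
    (SemiBialgHom.ofBialgHom (eC.symm : MonoidAlgebra C M →ₐc[C] C ⊗[R ⧸ I] A₀)).comp ι₀
  have hH : ∀ x : D.form, H.toAlgHom x = eC.symm (evalAt (π : E →+* C) (x : MonoidAlgebra E M)) := fun x => rfl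
  have hagree : ∀ x : D.form, LinearMap.rTensor A₀ j₁.toLinearMap (H.toAlgHom x) =
      LinearMap.rTensor A₀ j₂.toLinearMap (H.toAlgHom x) := by
    intro x
    rw [← mA_eq_rTensor, ← mA_eq_rTensor]
    apply (P.coordAt_bijective j₂).1
    have hv : P.equiv (H.toAlgHom x) = evalAt (π : E →+* C) (x : MonoidAlgebra E M) := by
      rw [hH]; exact eC.apply_symm_apply _
    rw [← P.trans_coordAt j₁ j₂, P.coordAt_mA, P.coordAt_mA, hv, evalAt_evalAt, evalAt_evalAt]
    have h2 := congrArg (evalAt (πT : E ⊗[R] E →+* C₂)) ((D.mem_form _).mp x.2)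
    rw [Twist.d1_apply, Twist.d2_apply, hπc, evalAt_evalAt, evalAt_evalAt] at h2
    have u1 : (πT : E ⊗[R] E →+* C₂).comp
        ((Algebra.TensorProduct.includeLeft : E →ₐ[R] E ⊗[R] E) : E →+* E ⊗[R] E) =
        (j₁ : C →+* C₂).comp (π : E →+* C) := RingHom.ext fun a => by
      show redTensor (I := I) π π (a ⊗ₜ 1) = _
      rw [redTensor_tmul, map_one]
      rfl
    have u2 : (πT : E ⊗[R] E →+* C₂).comp
        ((Algebra.TensorProduct.includeRight : E →ₐ[R] E ⊗[R] E) : E →+* E ⊗[R] E) =
        (j₂ : C →+* C₂).comp (π : E →+* C) := RingHom.ext fun a => by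
      show redTensor (I := I) π π (1 ⊗ₜ a) = _
      rw [redTensor_tmul, map_one]
      rfl
    rw [u1, u2] at h2
    exact h2
  choose b hb using fun x => exists_of_agree (H.toAlgHom x) (hagree x)
  have inj : Function.Injective fun a : A₀ => (1 : C) ⊗ₜ[R ⧸ I] a :=
    Module.FaithfullyFlat.tensorProduct_mk_injective (A := R ⧸ I) (B := C) A₀
  let ψa : D.form →ₐ[R] A₀ :=
    { toFun := b
      map_one' := inj (by show (1 : C) ⊗ₜ b 1 = _; rw [hb, map_one]; rfl)
      map_mul' := fun x y => inj (by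
        show (1 : C) ⊗ₜ b (x * y) = (1 : C) ⊗ₜ[R ⧸ I] (b x * b y)
        rw [hb, map_mul, ← hb, ← hb, Algebra.TensorProduct.tmul_mul_tmul, mul_one])
      map_zero' := inj (by show (1 : C) ⊗ₜ b 0 = _; rw [hb, map_zero]; exact (TensorProduct.tmul_zero _ _).symm)
      map_add' := fun x y => inj (by
        show (1 : C) ⊗ₜ b (x + y) = (1 : C) ⊗ₜ[R ⧸ I] (b x + b y)
        rw [hb, map_add, TensorProduct.tmul_add, hb, hb])
      commutes' := fun r => inj (by
        show (1 : C) ⊗ₜ b (algebraMap R D.form r) = (1 : C) ⊗ₜ[R ⧸ I] algebraMap R A₀ r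
        rw [hb, AlgHom.commutes, IsScalarTower.algebraMap_apply R (R ⧸ I) A₀,
          Algebra.algebraMap_eq_smul_one (A := A₀), TensorProduct.tmul_smul, ← Algebra.TensorProduct.one_def,
          ← Algebra.algebraMap_eq_smul_one, ← IsScalarTower.algebraMap_apply]) }
  have hψa : ∀ x, (1 : C) ⊗ₜ[R ⧸ I] ψa x = H.toAlgHom x := hb
  have hsqinj : Function.Injective (sq C (SemiBialgHom.baseChange (R ⧸ I) C A₀).toAlgHom) := by
    have e : ∀ y : A₀ ⊗[R ⧸ I] A₀, sq C (SemiBialgHom.baseChange (R ⧸ I) C A₀).toAlgHom y =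
        AlgebraTensorModule.distribBaseChange (R ⧸ I) C A₀ A₀ ((1 : C) ⊗ₜ y) := by
      intro y
      induction y using TensorProduct.induction_on with
      | zero => simp
      | add a b ha hb => simp only [map_add, TensorProduct.tmul_add, ha, hb]
      | tmul p q => simp [SemiBialgHom.baseChange]
    intro y y' h
    rw [e, e] at h
    exact Module.FaithfullyFlat.tensorProduct_mk_injective (A := R ⧸ I) (B := C) _
      (show TensorProduct.mk (R ⧸ I) C _ 1 y = TensorProduct.mk (R ⧸ I) C _ 1 y' from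
        (AlgebraTensorModule.distribBaseChange (R ⧸ I) C A₀ A₀).injective h)
  let ψ : SemiBialgHom R (R ⧸ I) D.form A₀ :=
    { toAlgHom := ψa
      counit_comp := fun x => FaithfulSMul.algebraMap_injective (R ⧸ I) C (by
        have h1 := H.counit_comp x
        rw [← hψa, TensorProduct.counit_tmul, Bialgebra.counit_one] at h1
        rw [← IsScalarTower.algebraMap_apply, ← h1, Algebra.algebraMap_eq_smul_one])
      comul_comp := fun x => hsqinj (by
        rw [← (SemiBialgHom.baseChange (R ⧸ I) C A₀).comul_comp]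
        show comul ((1 : C) ⊗ₜ[R ⧸ I] ψa x) = _
        rw [hψa, H.comul_comp]
        generalize comul (R := R) x = y
        induction y using TensorProduct.induction_on with
        | zero => simp
        | add a b ha hb => simp only [map_add, ha, hb]
        | tmul p q => simp [SemiBialgHom.baseChange, hψa]) }
  have hHb : Function.Bijective H.extend := by
    have e : ⇑H.extend = ⇑eC.symm ∘ ⇑ι₀.extend := by
      funext z
      induction z using TensorProduct.induction_on with
      | zero => simp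
      | add a b ha hb => simp only [map_add, Function.comp_apply] at ha hb ⊢; rw [ha, hb]
      | tmul t x =>
        rw [Function.comp_apply, SemiBialgHom.extend_tmul, SemiBialgHom.extend_tmul, map_smul]
        rfl
    rw [e]
    exact eC.symm.bijective.comp hι₀b
  have hψb : Function.Bijective ψ.extend := by
    refine (Module.FaithfullyFlat.lTensor_bijective_iff_bijective (R ⧸ I) C ψ.extend.toLinearMap).mp ?_
    let θ := Algebra.TensorProduct.cancelBaseChange R (R ⧸ I) C C D.form
    have e : ⇑(LinearMap.lTensor C ψ.extend.toLinearMap) = ⇑H.extend ∘ ⇑θ := by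
      funext w
      induction w using TensorProduct.induction_on with
      | zero => simp
      | add a b ha hb => simp only [map_add, Function.comp_apply] at ha hb ⊢; rw [ha, hb]
      | tmul t z =>
        induction z using TensorProduct.induction_on with
        | zero => simp
        | add a b ha hb =>
          simp only [TensorProduct.tmul_add, map_add, Function.comp_apply] at ha hb ⊢; rw [ha, hb]
        | tmul s x =>
          rw [LinearMap.lTensor_tmul, Function.comp_apply, Algebra.TensorProduct.cancelBaseChange_tmul,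
            SemiBialgHom.extend_tmul]
          show t ⊗ₜ[R ⧸ I] ψ.extend (s ⊗ₜ[R] x) = _
          rw [SemiBialgHom.extend_tmul, ← hψa, TensorProduct.tmul_smul, TensorProduct.smul_tmul',
            TensorProduct.smul_tmul', smul_eq_mul, mul_one]
    rw [e]
    exact hHb.comp θ.bijective
  exact ⟨D.form, inferInstance, inferInstance, ⟨D.formEquiv⟩, ⟨ψ.toBialgEquiv hψb⟩⟩

variable [HenselianRing R I]

set_option maxHeartbeats 4000000 in
/-- Isotrivial groups lift along henselian pairs. -/
theorem exists_isotrivial_lift (A₀ : Type u) [CommRing A₀] [HopfAlgebra (R ⧸ I) A₀]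
    (h0 : SGA3b.IsIsotrivial (R ⧸ I) A₀) :
    ∃ (A : Type u) (_ : CommRing A) (_ : HopfAlgebra R A), SGA3b.IsIsotrivial R A ∧
      (Module.Finite (R ⧸ I) A₀ → Module.Finite R A) ∧ Nonempty ((R ⧸ I) ⊗[R] A ≃ₐc[R ⧸ I] A₀) := by
  classical
  obtain ⟨C, _, _, _, _, hffC, M, instM, ⟨eC⟩⟩ := h0
  obtain ⟨E, _, _, hfin, het, ⟨φ⟩⟩ := Hensel.exists_finite_etale_lift (I := I) C
  let _ : Algebra R A₀ := ((algebraMap (R ⧸ I) A₀).comp (algebraMap R (R ⧸ I))).toAlgebra
  have : IsScalarTower R (R ⧸ I) A₀ := IsScalarTower.of_algebraMap_eq fun _ => rfl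
  let _ : Algebra R C := ((algebraMap (R ⧸ I) C).comp (algebraMap R (R ⧸ I))).toAlgebra
  have : IsScalarTower R (R ⧸ I) C := IsScalarTower.of_algebraMap_eq fun _ => rfl
  let π : E →ₐ[R] C := (φ.toAlgHom.restrictScalars R).comp Algebra.TensorProduct.includeRight
  have hπ : IsRed I π := by
    refine ⟨fun c => ?_, fun x hx => ?_⟩
    · obtain ⟨z, rfl⟩ := φ.surjective c
      suffices ∃ x : E, (1 : R ⧸ I) ⊗ₜ[R] x = z from this.imp fun x hx => by rw [← hx]; rfl
      exact TensorProduct.mk_surjective R E (R ⧸ I) Ideal.Quotient.mk_surjective z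
    · let ψ : (R ⧸ I) ⊗[R] E →ₐ[R] E ⧸ I.map (algebraMap R E) := Algebra.TensorProduct.lift
        (ofRed I E) (Ideal.Quotient.mkₐ R _) fun _ _ => .all _ _
      have h1 : (1 : R ⧸ I) ⊗ₜ[R] x = 0 := φ.injective (hx.trans (map_zero φ).symm)
      have h2 := congrArg ψ h1
      rw [Algebra.TensorProduct.lift_tmul, map_one, one_mul, map_zero] at h2
      exact Ideal.Quotient.eq_zero_iff_mem.mp h2
  have hI : I ≤ Ideal.jacobson ⊥ := HenselianRing.jac
  have hffE : Module.FaithfullyFlat R E := Module.FaithfullyFlat.of_comap_surjective fun p => by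
    obtain ⟨m, hm, hle⟩ := Ideal.exists_le_maximal p.asIdeal p.2.ne_top
    have hIm : I ≤ m := hI.trans (sInf_le ⟨bot_le, hm⟩)
    let m' : Ideal (R ⧸ I) := m.map (Ideal.Quotient.mk I)
    have : m'.IsPrime := Ideal.map_isPrime_of_surjective Ideal.Quotient.mk_surjective
      (by rw [Ideal.mk_ker]; exact hIm)
    obtain ⟨⟨r, hr⟩, hrm⟩ := PrimeSpectrum.comap_surjective_of_faithfullyFlat (A := R ⧸ I)
      (B := C) ⟨m', inferInstance⟩
    let q : Ideal E := r.comap π
    have hqm : q.comap (algebraMap R E) = m := by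
      have h1 : r.comap (algebraMap (R ⧸ I) C) = m' := congrArg PrimeSpectrum.asIdeal hrm
      have h2 : m'.comap (Ideal.Quotient.mk I) = m := by
        rw [Ideal.comap_map_of_surjective _ Ideal.Quotient.mk_surjective, ← RingHom.ker_eq_comap_bot,
          Ideal.mk_ker, sup_eq_left]
        exact hIm
      rw [← h2, ← h1]
      ext x
      show π (algebraMap R E x) ∈ r ↔ algebraMap (R ⧸ I) C (algebraMap R (R ⧸ I) x) ∈ r
      rw [AlgHom.commutes, IsScalarTower.algebraMap_apply R (R ⧸ I) C]
    have : q.IsPrime := Ideal.IsPrime.comap _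
    have : q.LiesOver m := ⟨hqm.symm⟩
    obtain ⟨q', -, hq', hl⟩ := Ideal.exists_ideal_le_liesOver_of_le (p := p.asIdeal) (q := m) q hle
    exact ⟨⟨q', hq'⟩, PrimeSpectrum.ext hl.over.symm⟩
  obtain ⟨A, _, _, ⟨eE⟩, ⟨eA⟩⟩ := exists_twist_lift I A₀ C eC E π hπ
  refine ⟨A, inferInstance, inferInstance,
    ⟨E, inferInstance, inferInstance, het, hfin, hffE, isDiag_of_equiv eE⟩, fun hfin₀ => ?_,
    ⟨eA⟩⟩
  rcases subsingleton_or_nontrivial C with hC | hC
  · have : Subsingleton (R ⧸ I) := (FaithfulSMul.algebraMap_injective (R ⧸ I) C).subsingleton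
    have h1 : (1 : R) ∈ I := Ideal.Quotient.eq_zero_iff_mem.mp (Subsingleton.elim _ _)
    have : Subsingleton R := subsingleton_of_zero_eq_one (by
      have h2 := Ideal.mem_jacobson_bot.mp (hI h1) (-1)
      simp at h2
      exact h2)
    have : Subsingleton A := Module.subsingleton R A
    infer_instance
  · have : Module.Finite C (MonoidAlgebra C M) :=
      Module.Finite.equiv (eC : C ⊗[R ⧸ I] A₀ ≃ₐ[C] MonoidAlgebra C M).toLinearEquiv
    have : Finite M := Module.Finite.finite_basis (Finsupp.basisSingleOne (R := C) (ι := M) |>.map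
      (MonoidAlgebra.coeffLinearEquiv C).symm)
    have : Module.Finite E (MonoidAlgebra E M) := Module.Finite.equiv (MonoidAlgebra.coeffLinearEquiv E).symm
    have : Module.Finite E (E ⊗[R] A) :=
      Module.Finite.equiv (eE : E ⊗[R] A ≃ₐ[E] MonoidAlgebra E M).symm.toLinearEquiv
    exact Module.Finite.of_finite_tensorProduct_of_faithfullyFlat E


end Lift

end Groth.Agent.MultTypeLib
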