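import Groth.Agent.MultTypeLib.CompleteSplit
import Groth.Agent.MultTypeLib.TwistLift
import Groth.Agent.MultTypeLib.HopfKer
import Groth.Agent.MultTypeLib.NilLift
import Mathlib.RingTheory.Localization.BaseChange

/-!
# The open and closed isotrivial subgroup over a complete ring
-/

universe u

open WithConv TensorProduct Coalgebra Bialgebra

noncomputable section

namespace Groth.Agent.MultTypeLib

section Flat

variable {R : Type u} [CommRing R] (I : Ideal R) {C : Type u} [CommRing C] [Algebra R C]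

set_option maxHeartbeats 1000000 in
/-- Flatness at the points of the reduction gives flatness of all infinitesimal reductions. -/
theorem flat_level_of_flat_at
    (hfl : ∀ (q : Ideal C) [q.IsPrime], I.map (algebraMap R C) ≤ q → Module.Flat R (Localization.AtPrime q))
    (Q : Type u) [CommRing Q] [Algebra R Q] (hQ : ∃ n : ℕ, ∀ r ∈ I ^ n, algebraMap R Q r = 0) :
    Module.Flat Q (Q ⊗[R] C) := by
  refine Module.Flat.iff_lTensor_preserves_injective_linearMap.mpr fun N N' _ _ _ _ f hf => ?_
  let _ : Module R N := Module.compHom N (algebraMap R Q)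
  let _ : Module R N' := Module.compHom N' (algebraMap R Q)
  have : IsScalarTower R Q N := IsScalarTower.of_algebraMap_smul fun _ _ => rfl
  have : IsScalarTower R Q N' := IsScalarTower.of_algebraMap_smul fun _ _ => rfl
  let fR : N →ₗ[R] N' := f.restrictScalars R
  have hinj : Function.Injective (fR.baseChange C) := by
    refine (injective_iff_map_eq_zero _).mpr fun x hx => ?_
    by_contra hne
    obtain ⟨m, hm, hle⟩ := Ideal.exists_le_maximal (Ideal.torsionOf C (C ⊗[R] N) x)
      (fun h => hne (by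
        have h1 : (1 : C) ∈ Ideal.torsionOf C (C ⊗[R] N) x := h ▸ Submodule.mem_top
        simpa using h1))
    suffices ∃ s : C, s ∉ m ∧ s • x = 0 by
      obtain ⟨s, hs, hsx⟩ := this
      exact hs (hle ((Ideal.mem_torsionOf_iff _ _).mpr hsx))
    by_cases hIm : I.map (algebraMap R C) ≤ m
    · have := hfl m hIm
      let Cm := Localization.AtPrime m
      have h1 : Function.Injective (LinearMap.lTensor Cm fR) :=
        Module.Flat.lTensor_preserves_injective_linearMap fR hf
      let θ : ∀ P : Type u, [AddCommGroup P] → [Module R P] → (C ⊗[R] P) →ₗ[R] Cm ⊗[R] P := fun P _ _ =>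
        LinearMap.rTensor P (IsScalarTower.toAlgHom R C Cm).toLinearMap
      have h2 : θ N x = 0 := h1 (by
        rw [map_zero, ← LinearMap.comp_apply, LinearMap.lTensor_comp_rTensor, ← LinearMap.rTensor_comp_lTensor,
          LinearMap.comp_apply, show LinearMap.lTensor C fR x = fR.baseChange C x from rfl, hx, map_zero])
      have h3 : TensorProduct.mk C Cm (C ⊗[R] N) 1 x = 0 := by
        apply (AlgebraTensorModule.cancelBaseChange R C Cm Cm N).injective
        rw [map_zero, ← h2]
        generalize x = y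
        induction y using TensorProduct.induction_on with
        | zero => simp
        | add p q hp hq => simp only [map_add, hp, hq]
        | tmul a b => simp [θ, Algebra.smul_def]
      obtain ⟨s, hs⟩ := (IsLocalizedModule.eq_zero_iff m.primeCompl (TensorProduct.mk C Cm (C ⊗[R] N) 1)).mp h3
      exact ⟨s.1, s.2, hs⟩
    · obtain ⟨n, hn⟩ := hQ
      obtain ⟨r, hr, hrm⟩ : ∃ r ∈ I, algebraMap R C r ∉ m := by
        by_contra hcon
        push Not at hcon
        exact hIm (Ideal.map_le_iff_le_comap.mpr hcon)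
      refine ⟨algebraMap R C (r ^ n), by rw [map_pow]; exact fun h => hrm (hm.isPrime.mem_of_pow_mem n h), ?_⟩
      have hN : ∀ y : N, (r ^ n) • y = 0 := fun y => by
        rw [← IsScalarTower.algebraMap_smul Q, hn _ (Ideal.pow_mem_pow hr n), zero_smul]
      rw [IsScalarTower.algebraMap_smul]
      generalize x = y
      induction y using TensorProduct.induction_on with
      | zero => simp
      | add p q hp hq => rw [smul_add, hp, hq, add_zero]
      | tmul a b => rw [← TensorProduct.tmul_smul, hN, TensorProduct.tmul_zero]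
  let cN := (TensorProduct.comm R C N).symm
  let eN : (Q ⊗[R] C) ⊗[Q] N ≃ₗ[Q] N ⊗[R] C :=
    (TensorProduct.comm Q (Q ⊗[R] C) N).trans (AlgebraTensorModule.cancelBaseChange R Q Q N C)
  let eN' : (Q ⊗[R] C) ⊗[Q] N' ≃ₗ[Q] N' ⊗[R] C :=
    (TensorProduct.comm Q (Q ⊗[R] C) N').trans (AlgebraTensorModule.cancelBaseChange R Q Q N' C)
  have key : ∀ w, TensorProduct.comm R N' C (eN' (LinearMap.lTensor (Q ⊗[R] C) f w)) =
      fR.baseChange C (TensorProduct.comm R N C (eN w)) := by
    intro w
    induction w using TensorProduct.induction_on with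
    | zero => simp
    | add p q hp hq => simp only [map_add, hp, hq]
    | tmul a b =>
      induction a using TensorProduct.induction_on with
      | zero => simp
      | add p q hp hq => simp only [TensorProduct.add_tmul, map_add, hp, hq]
      | tmul a c => simp [eN, eN', fR]
  intro w w' h
  refine eN.injective ((TensorProduct.comm R N C).injective (hinj ?_))
  rw [← key, ← key, h]

end Flat

section Split

variable {R : Type u} [CommRing R] [IsNoetherianRing R] (I : Ideal R) [IsAdicComplete I R]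
variable {C : Type u} [CommRing C] [HopfAlgebra R C] {M : Type u} [CommGroup M]

theorem isSep_self : IsSep I R := fun x hx => IsHausdorff.haus' (I := I) x fun k => by
  rw [SModEq.zero]; exact hx k

omit [IsNoetherianRing R] [IsAdicComplete I R] in
/-- Idempotents in `IX` die in separated algebras. -/
theorem map_idem_eq_zero {X Y : Type u} [CommRing X] [Algebra R X] [CommRing Y] [Algebra R Y] (hY : IsSep I Y)
    (g : X →ₐ[R] Y) {f : X} (hf : IsIdempotentElem f) (hfI : f ∈ I.map (algebraMap R X)) : g f = 0 :=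
  hY _ fun k => map_smul_top g.toLinearMap (by
    rw [Ideal.smul_top_eq_map, Submodule.restrictScalars_mem, Ideal.map_pow]
    cases k with
    | zero => rw [pow_zero, Ideal.one_eq_top]; exact Submodule.mem_top
    | succ k => rw [← hf.pow_succ_eq k]; exact Ideal.pow_mem_pow hfI _)

theorem exists_surj_split (hflat : ∀ k : ℕ, Module.Flat (R ⧸ I ^ (k + 1)) ((R ⧸ I ^ (k + 1)) ⊗[R] C))
    (hft : Algebra.FiniteType R C) (e₀ : (R ⧸ I) ⊗[R] C ≃ₐc[R ⧸ I] MonoidAlgebra (R ⧸ I) M) :
    ∃ (π : C →ₐc[R] MonoidAlgebra R M) (e : C), Function.Surjective π ∧ IsIdempotentElem e ∧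
      e ∈ I.map (algebraMap R C) ∧ ∀ x, π x = 0 ↔ x ∈ Ideal.span {e} := by
  classical
  obtain ⟨π, hπ⟩ := exists_limit_hom I hflat e₀
  have hsurj : Function.Surjective π := by
    intro y
    induction y using MonoidAlgebra.induction_linear with
    | zero => exact ⟨0, map_zero _⟩
    | add a b ha hb =>
      obtain ⟨a', ha'⟩ := ha
      obtain ⟨b', hb'⟩ := hb
      exact ⟨a' + b', by rw [map_add, ha', hb']⟩
    | single m r =>
      obtain ⟨c, hc⟩ := TensorProduct.mk_surjective R C (R ⧸ I) Ideal.Quotient.mk_surjective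
        (e₀.symm (MonoidAlgebra.single m 1))
      have h1 : Ideal.Quotient.mk I ((π c).coeff m) = Ideal.Quotient.mk I 1 := by
        rw [← coeff_evalAt (Ideal.Quotient.mk I) (π c) m, ← hπ, show (1 : R ⧸ I) ⊗ₜ[R] c = _ from hc,
          e₀.apply_symm_apply, MonoidAlgebra.coeff_single, Finsupp.single_eq_same, map_one]
      have hu : IsUnit ((π c).coeff m) := by
        have h2 := Ideal.mem_jacobson_bot.mp (IsAdicComplete.le_jacobson_bot I (Ideal.Quotient.eq.mp h1)) 1
        rwa [mul_one, sub_add_cancel] at h2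
      obtain ⟨v, hv⟩ := hu.exists_left_inv
      have h3 := map_gradeHom_coeff π c m
      refine ⟨(r * v) • (gradeHom π c).coeff m, ?_⟩
      rw [map_smul, h3, coeffAt_apply, smul_smul, mul_assoc, hv, mul_one, MonoidAlgebra.smul_single, smul_eq_mul,
        mul_one]
  obtain ⟨e, he, heI, hker⟩ := exists_idem_ker π hft hsurj (IsAdicComplete.le_jacobson_bot I) fun x hx => by
    have h : (1 : R ⧸ I) ⊗ₜ[R] x = 0 := e₀.injective (by
      show e₀ _ = e₀ _
      rw [hπ, hx, map_zero, map_zero])
    have h' := (mem_smul_top_iff I x).mp h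
    rwa [Ideal.smul_top_eq_map] at h'
  exact ⟨π, e, hsurj, he, heI, hker⟩

end Split

section Descent

theorem faithfullyFlat_of_jac {R : Type u} [CommRing R] (I : Ideal R) (hI : I ≤ Ideal.jacobson ⊥) {E C : Type u}
    [CommRing E] [Algebra R E] [Module.Flat R E] [Algebra.IsIntegral R E] [CommRing C] [Algebra (R ⧸ I) C]
    [Algebra R C] [IsScalarTower R (R ⧸ I) C] [Module.FaithfullyFlat (R ⧸ I) C] (π : E →ₐ[R] C) :
    Module.FaithfullyFlat R E := Module.FaithfullyFlat.of_comap_surjective fun p => by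
  obtain ⟨m, hm, hle⟩ := Ideal.exists_le_maximal p.asIdeal p.2.ne_top
  have hIm : I ≤ m := hI.trans (sInf_le ⟨bot_le, hm⟩)
  let m' : Ideal (R ⧸ I) := m.map (Ideal.Quotient.mk I)
  have : m'.IsPrime := Ideal.map_isPrime_of_surjective Ideal.Quotient.mk_surjective
    (by rw [Ideal.mk_ker]; exact hIm)
  obtain ⟨⟨r, hr⟩, hrm⟩ := PrimeSpectrum.comap_surjective_of_faithfullyFlat (A := R ⧸ I)
    (B := C) ⟨m', inferInstance⟩
  let q : Ideal E := r.comap π
  have hqm : q.comap (algebraMap R E) = m := by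
    have h1 : r.comap (algebraMap (R ⧸ I) C) = m' := congrArg PrimeSpectrum.asIdeal hrm
    have h2 : m'.comap (Ideal.Quotient.mk I) = m := by
      rw [Ideal.comap_map_of_surjective _ Ideal.Quotient.mk_surjective, ← RingHom.ker_eq_comap_bot,
        Ideal.mk_ker, sup_eq_left]
      exact hIm
    rw [← h2, ← h1]
    ext x
    show π (algebraMap R E x) ∈ r ↔ algebraMap (R ⧸ I) C (algebraMap R (R ⧸ I) x) ∈ r
    rw [AlgHom.commutes, IsScalarTower.algebraMap_apply R (R ⧸ I) C]
  have : q.IsPrime := Ideal.IsPrime.comap _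
  have : q.LiesOver m := ⟨hqm.symm⟩
  obtain ⟨q', -, hq', hl⟩ := Ideal.exists_ideal_le_liesOver_of_le (p := p.asIdeal) (q := m) q hle
  exact ⟨⟨q', hq'⟩, PrimeSpectrum.ext hl.over.symm⟩

theorem one_tmul_injective (R : Type u) [CommRing R] (E : Type u) [CommRing E] [Algebra R E]
    [Module.FaithfullyFlat R E] (Q N : Type u) [AddCommGroup Q] [Module R Q] [AddCommGroup N] [Module R N] :
    Function.Injective (LinearMap.lTensor Q (TensorProduct.mk R E N 1)) := by
  have hcomp : (TensorProduct.leftComm R Q E N).toLinearMap ∘ₗ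
      LinearMap.lTensor Q (TensorProduct.mk R E N 1) = TensorProduct.mk R E (Q ⊗[R] N) 1 :=
    TensorProduct.ext' fun a b => rfl
  intro y y' h
  refine Module.FaithfullyFlat.tensorProduct_mk_injective (A := R) (B := E) (Q ⊗[R] N) ?_
  show TensorProduct.mk R E (Q ⊗[R] N) 1 y = TensorProduct.mk R E (Q ⊗[R] N) 1 y'
  rw [← hcomp, LinearMap.comp_apply, LinearMap.comp_apply, h]

set_option maxHeartbeats 4000000 in
/-- The open and closed isotrivial subgroup. -/
theorem exists_open_closed_isotrivial {R : Type u} [CommRing R] [IsNoetherianRing R] (I : Ideal R)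
    [IsAdicComplete I R] {C : Type u} [CommRing C] [HopfAlgebra R C] (hft : Algebra.FiniteType R C)
    (hflat : ∀ k : ℕ, Module.Flat (R ⧸ I ^ (k + 1)) ((R ⧸ I ^ (k + 1)) ⊗[R] C))
    (h0 : SGA3b.IsIsotrivial (R ⧸ I) ((R ⧸ I) ⊗[R] C)) :
    ∃ e : C, IsIdempotentElem e ∧ e ∈ I.map (algebraMap R C) ∧
      ∃ _ : (Ideal.span {e}).IsHopfIdeal R, SGA3b.IsIsotrivial R (C ⧸ Ideal.span {e}) := by
  classical
  obtain ⟨C₁, _, _, het1, hfin1, hff1, M, _, ⟨eC⟩⟩ := h0
  obtain ⟨E, _, _, hfin, het, ⟨φ⟩⟩ := Hensel.exists_finite_etale_lift (I := I) C₁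
  let _ : Algebra R C₁ := ((algebraMap (R ⧸ I) C₁).comp (algebraMap R (R ⧸ I))).toAlgebra
  have : IsScalarTower R (R ⧸ I) C₁ := IsScalarTower.of_algebraMap_eq fun _ => rfl
  let πE : E →ₐ[R] C₁ := (φ.toAlgHom.restrictScalars R).comp Algebra.TensorProduct.includeRight
  have hπE : IsRed I πE := by
    refine ⟨fun c => ?_, fun x hx => ?_⟩
    · obtain ⟨z, rfl⟩ := φ.surjective c
      suffices ∃ x : E, (1 : R ⧸ I) ⊗ₜ[R] x = z from this.imp fun x hx => by rw [← hx]; rfl
      exact TensorProduct.mk_surjective R E (R ⧸ I) Ideal.Quotient.mk_surjective z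
    · let ψ : (R ⧸ I) ⊗[R] E →ₐ[R] E ⧸ I.map (algebraMap R E) := Algebra.TensorProduct.lift
        (ofRed I E) (Ideal.Quotient.mkₐ R _) fun _ _ => .all _ _
      have h1 : (1 : R ⧸ I) ⊗ₜ[R] x = 0 := φ.injective (hx.trans (map_zero φ).symm)
      have h2 := congrArg ψ h1
      rw [Algebra.TensorProduct.lift_tmul, map_one, one_mul, map_zero] at h2
      exact Ideal.Quotient.eq_zero_iff_mem.mp h2
  have hffE : Module.FaithfullyFlat R E := faithfullyFlat_of_jac I (IsAdicComplete.le_jacobson_bot I) πE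
  -- over `E`
  let IE : Ideal E := I.map (algebraMap R E)
  have : IsNoetherianRing E := IsNoetherianRing.of_finite R E
  have hEc : IsAdicComplete I E := AdicLib.isAdicComplete_of_finite I E
  have : IsAdicComplete IE E := (IsAdicComplete.map_algebraMap_iff I E).mpr hEc
  obtain ⟨κ, hκ⟩ := hπE.exists_inv
  let _ : Algebra C₁ (E ⧸ IE) := κ.toRingHom.toAlgebra
  have : IsScalarTower R C₁ (E ⧸ IE) := IsScalarTower.of_algebraMap_eq fun r => (κ.commutes r).symm
  let hom₁ : SemiBialgHom R C₁ C (MonoidAlgebra C₁ M) :=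
    (SemiBialgHom.ofBialgHom (((baseChangeTrans (R := R) (R ⧸ I) C₁ C).trans eC :
      C₁ ⊗[R] C ≃ₐc[C₁] MonoidAlgebra C₁ M) : C₁ ⊗[R] C →ₐc[C₁] MonoidAlgebra C₁ M)).comp
      (SemiBialgHom.baseChange R C₁ C)
  have hb₁ : Function.Bijective hom₁.extend := by
    rw [show ⇑hom₁.extend = ⇑((baseChangeTrans (R := R) (R ⧸ I) C₁ C).trans eC) from
      funext (extend_eq_of_equiv _)]
    exact EquivLike.bijective _
  let eEI : (E ⧸ IE) ⊗[E] (E ⊗[R] C) ≃ₐc[E ⧸ IE] MonoidAlgebra (E ⧸ IE) M :=
    (baseChangeTrans (R := R) E (E ⧸ IE) C).symm.trans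
      (((mapCoeff C₁ (E ⧸ IE) M).comp hom₁).toBialgEquiv (extend_comp_mapCoeff_bijective hom₁ hb₁))
  have hflatE : ∀ k : ℕ, Module.Flat (E ⧸ IE ^ (k + 1)) ((E ⧸ IE ^ (k + 1)) ⊗[E] (E ⊗[R] C)) := by
    intro k
    let Qk := R ⧸ I ^ (k + 1)
    let Qe := E ⧸ IE ^ (k + 1)
    let χ : Qk →ₐ[R] Qe := Ideal.Quotient.liftₐ _ (Algebra.ofId R Qe) fun r hr => by
      rw [Algebra.ofId_apply, IsScalarTower.algebraMap_apply R E Qe]
      refine Ideal.Quotient.eq_zero_iff_mem.mpr ?_
      rw [← Ideal.map_pow]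
      exact Ideal.mem_map_of_mem _ hr
    let _ : Algebra Qk Qe := χ.toRingHom.toAlgebra
    have : IsScalarTower R Qk Qe := IsScalarTower.of_algebraMap_eq fun r => (χ.commutes r).symm
    have := hflat k
    have h1 : Module.Flat Qe (Qe ⊗[Qk] (Qk ⊗[R] C)) := inferInstance
    have h2 : Module.Flat Qe (Qe ⊗[R] C) :=
      Module.Flat.of_linearEquiv (AlgebraTensorModule.cancelBaseChange R Qk Qe Qe C).symm
    exact Module.Flat.of_linearEquiv (AlgebraTensorModule.cancelBaseChange R E Qe Qe C)
  obtain ⟨π, e', hsurj, he', he'I, hker⟩ :=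
    exists_surj_split IE hflatE (inferInstanceAs (Algebra.FiniteType E (E ⊗[R] C))) eEI
  let πE' : E ⊗[R] C →ₐ[E] MonoidAlgebra E M := (π : E ⊗[R] C →ₐ[E] MonoidAlgebra E M)
  choose σ₀ hσ₀ using fun m : M => hsurj (MonoidAlgebra.single m 1)
  -- the idempotent descends
  let T := E ⊗[R] E
  have hsepT : IsSep I T := fun t ht => by
    have : IsAdicComplete I T := AdicLib.isAdicComplete_of_finite I T
    exact IsHausdorff.haus' (I := I) t fun k => by rw [SModEq.zero]; exact ht k
  have hsepTM : IsSep I (MonoidAlgebra T M) := by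
    have : Module.Free T (MonoidAlgebra T M) := Module.Free.of_equiv (MonoidAlgebra.coeffLinearEquiv T).symm
    exact isSep_of_free hsepT _
  have hmax : ∀ (j : E →ₐ[R] T) (f : T ⊗[R] C), IsIdempotentElem f → f ∈ I.map (algebraMap R (T ⊗[R] C)) →
      f * mA C j e' = f := by
    intro j f hf hfI
    let homE : C →ₐ[R] MonoidAlgebra E M :=
      (πE'.restrictScalars R).comp Algebra.TensorProduct.includeRight
    let ψ : T ⊗[R] C →ₐ[T] MonoidAlgebra T M :=
      Algebra.TensorProduct.lift (Algebra.ofId T _) ((evalAlg j).comp homE) fun _ _ => .all _ _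
    let θ : MonoidAlgebra T M →ₗ[T] T ⊗[R] C :=
      Finsupp.linearCombination T (fun m => mA C j (σ₀ m) * (1 - mA C j e')) ∘ₗ
        (MonoidAlgebra.coeffLinearEquiv T).toLinearMap
    have hθ : ∀ y : MonoidAlgebra E M, ∃ c' : E ⊗[R] C, π c' = y ∧
        θ (evalAt (j : E →+* T) y) = mA C j c' * (1 - mA C j e') := by
      intro y
      induction y using MonoidAlgebra.induction_linear with
      | zero => exact ⟨0, map_zero _, by simp⟩
      | add a b ha hb =>
        obtain ⟨a', ha1, ha2⟩ := ha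
        obtain ⟨b', hb1, hb2⟩ := hb
        exact ⟨a' + b', by rw [map_add, ha1, hb1], by rw [map_add, map_add, ha2, hb2, map_add, add_mul]⟩
      | single m r =>
        refine ⟨r • σ₀ m, by rw [map_smul, hσ₀, MonoidAlgebra.smul_single, smul_eq_mul, mul_one], ?_⟩
        rw [evalAt_single]
        show Finsupp.linearCombination T _ (Finsupp.single m ((j : E →+* T) r)) = _
        rw [Finsupp.linearCombination_single, Algebra.smul_def r (σ₀ m), map_mul, mul_assoc,
          show mA C j (algebraMap E (E ⊗[R] C) r) = algebraMap T (T ⊗[R] C) ((j : E →+* T) r) by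
            simp [Algebra.TensorProduct.algebraMap_apply]]
        exact Algebra.smul_def ((j : E →+* T) r) (mA C j (σ₀ m) * (1 - mA C j e') : T ⊗[R] C)
    have key : ∀ w, θ (ψ w) = w * (1 - mA C j e') := by
      intro w
      induction w using TensorProduct.induction_on with
      | zero => simp
      | add a b ha hb => simp only [map_add, add_mul, ha, hb]
      | tmul t c =>
        rw [show (t ⊗ₜ[R] c : T ⊗[R] C) = t • ((1 : T) ⊗ₜ c) by
          rw [TensorProduct.smul_tmul', smul_eq_mul, mul_one], map_smul, map_smul, smul_mul_assoc]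
        congr 1
        have hψ : ψ ((1 : T) ⊗ₜ c) = evalAt (j : E →+* T) (π ((1 : E) ⊗ₜ c)) := by
          simp [ψ, homE, πE', evalAlg_apply, ← MonoidAlgebra.one_def]
        obtain ⟨c', hc', hθc⟩ := hθ (π ((1 : E) ⊗ₜ c))
        rw [hψ, hθc]
        obtain ⟨a, ha⟩ := Ideal.mem_span_singleton.mp ((hker (c' - (1 : E) ⊗ₜ c)).mp (by rw [map_sub, hc', sub_self]))
        have h1 : mA C j c' = (1 : T) ⊗ₜ c + mA C j e' * mA C j a := by
          rw [show c' = (1 : E) ⊗ₜ c + e' * a by rw [← ha, add_sub_cancel], map_add, map_mul,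
            Algebra.TensorProduct.map_tmul, map_one, AlgHom.id_apply]
        rw [h1, add_mul, mul_comm (mA C j e') (mA C j a), mul_assoc,
          mul_sub (mA C j e'), mul_one, ← map_mul, he'.eq, sub_self, mul_zero, add_zero]
    have h0f : ψ f = 0 := map_idem_eq_zero I hsepTM (ψ.restrictScalars R) hf hfI
    have h1 := key f
    rw [h0f, map_zero, mul_sub, mul_one] at h1
    exact (sub_eq_zero.mp h1.symm).symm
  let jL : E →ₐ[R] T := Algebra.TensorProduct.includeLeft
  let jR : E →ₐ[R] T := Algebra.TensorProduct.includeRight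
  have he'I' : e' ∈ I.map (algebraMap R (E ⊗[R] C)) := by
    rwa [Ideal.map_map, ← IsScalarTower.algebraMap_eq R E (E ⊗[R] C)] at he'I
  have himg : ∀ j : E →ₐ[R] T, IsIdempotentElem (mA C j e') ∧ mA C j e' ∈ I.map (algebraMap R (T ⊗[R] C)) :=
    fun j => ⟨he'.map _, by
      have h := Ideal.mem_map_of_mem (mA C j : E ⊗[R] C →+* T ⊗[R] C) he'I'
      rwa [Ideal.map_map, AlgHom.comp_algebraMap] at h⟩
  have hagree : mA C jL e' = mA C jR e' := by
    have h1 := hmax jR (mA C jL e') (himg jL).1 (himg jL).2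
    have h2 := hmax jL (mA C jR e') (himg jR).1 (himg jR).2
    rw [mul_comm] at h2
    exact h1.symm.trans h2
  obtain ⟨e, hee⟩ := exists_of_agree e' (by rw [← mA_eq_rTensor, ← mA_eq_rTensor]; exact hagree)
  have hinj : Function.Injective fun c : C => (1 : E) ⊗ₜ[R] c :=
    Module.FaithfullyFlat.tensorProduct_mk_injective (A := R) (B := E) C
  have he : IsIdempotentElem e := hinj (by
    show (1 : E) ⊗ₜ[R] (e * e) = (1 : E) ⊗ₜ[R] e
    rw [← mul_one (1 : E), ← Algebra.TensorProduct.tmul_mul_tmul, mul_one, hee]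
    exact he'.eq)
  have heI : e ∈ I.map (algebraMap R C) := by
    have h : (1 : R ⧸ I) ⊗ₜ[R] e = 0 := one_tmul_injective R E (R ⧸ I) C (by
      rw [map_zero, LinearMap.lTensor_tmul]
      show (1 : R ⧸ I) ⊗ₜ[R] ((1 : E) ⊗ₜ[R] e) = 0
      rw [hee, mem_smul_top_iff, Ideal.smul_top_eq_map]
      exact he'I')
    have h' := (mem_smul_top_iff I e).mp h
    rwa [Ideal.smul_top_eq_map] at h'
  let hom : SemiBialgHom R E C (MonoidAlgebra E M) :=
    (SemiBialgHom.ofBialgHom π).comp (SemiBialgHom.baseChange R E C)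
  have hhom : ∀ x, hom.toAlgHom x = π ((1 : E) ⊗ₜ x) := fun x => rfl
  have hmemK : ∀ x, x ∈ Ideal.span {e} ↔ hom.toAlgHom x = 0 := fun x => by
    rw [hhom, hker, ← hee, Ideal.mem_span_singleton, Ideal.mem_span_singleton]
    constructor
    · rintro ⟨a, rfl⟩
      exact ⟨(1 : E) ⊗ₜ a, by rw [Algebra.TensorProduct.tmul_mul_tmul, one_mul]⟩
    · rintro ⟨a, ha⟩
      refine ⟨x, hinj ?_⟩
      show (1 : E) ⊗ₜ[R] x = (1 : E) ⊗ₜ[R] (e * x)
      rw [show (1 : E) ⊗ₜ[R] (e * x) = ((1 : E) ⊗ₜ[R] e) * ((1 : E) ⊗ₜ[R] x) by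
        rw [Algebra.TensorProduct.tmul_mul_tmul, one_mul], ha, ← mul_assoc, Algebra.TensorProduct.tmul_mul_tmul,
        one_mul, he.eq]
  let D := C ⧸ Ideal.span {e}
  let j : D →ₐ[R] MonoidAlgebra E M := Ideal.Quotient.liftₐ _ hom.toAlgHom fun x hx => (hmemK x).mp hx
  let extD : E ⊗[R] D →ₐ[E] MonoidAlgebra E M :=
    Algebra.TensorProduct.lift (Algebra.ofId E _) j fun _ _ => .all _ _
  let qE : E ⊗[R] C →ₐ[E] E ⊗[R] D :=
    Algebra.TensorProduct.map (AlgHom.id E E) (Ideal.Quotient.mkₐ R (Ideal.span {e}))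
  have hqE : ∀ w, extD (qE w) = π w := by
    intro w
    induction w using TensorProduct.induction_on with
    | zero => simp
    | add a b ha hb => simp only [map_add, ha, hb]
    | tmul t c =>
      rw [show (t ⊗ₜ[R] c : E ⊗[R] C) = t • ((1 : E) ⊗ₜ c) by
        rw [TensorProduct.smul_tmul', smul_eq_mul, mul_one], map_smul, map_smul, map_smul]
      congr 1
      simp [extD, qE, j, ← MonoidAlgebra.one_def]
      rfl
  have hqs : Function.Surjective qE := by
    intro w
    induction w using TensorProduct.induction_on with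
    | zero => exact ⟨0, map_zero _⟩
    | add a b ha hb =>
      obtain ⟨a', rfl⟩ := ha
      obtain ⟨b', rfl⟩ := hb
      exact ⟨a' + b', map_add _ _ _⟩
    | tmul t d =>
      obtain ⟨c, rfl⟩ := Ideal.Quotient.mk_surjective d
      exact ⟨t ⊗ₜ c, by simp [qE]; rfl⟩
  have hDb : Function.Bijective extD := by
    refine ⟨(injective_iff_map_eq_zero _).mpr fun w hw => ?_, fun y => ?_⟩
    · obtain ⟨w, rfl⟩ := hqs w
      rw [hqE, hker, ← hee, Ideal.mem_span_singleton] at hw
      obtain ⟨a, rfl⟩ := hw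
      rw [map_mul, show qE ((1 : E) ⊗ₜ[R] e) = 0 by
        simp only [qE, Algebra.TensorProduct.map_tmul, AlgHom.id_apply]
        show (1 : E) ⊗ₜ[R] (Ideal.Quotient.mk (Ideal.span {e}) e) = 0
        rw [Ideal.Quotient.eq_zero_iff_mem.mpr (Ideal.mem_span_singleton_self e), TensorProduct.tmul_zero],
        zero_mul]
    · obtain ⟨c, rfl⟩ := hsurj y
      exact ⟨qE c, hqE c⟩
  have hsqinj : Function.Injective (sq E j) := by
    let eD : E ⊗[R] D ≃ₗ[E] MonoidAlgebra E M := LinearEquiv.ofBijective extD.toLinearMap hDb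
    have h : ∀ z, sq E j z = ((AlgebraTensorModule.distribBaseChange R E D D).trans
        (TensorProduct.congr eD eD)) ((1 : E) ⊗ₜ z) := by
      intro z
      induction z using TensorProduct.induction_on with
      | zero => simp
      | add a b ha hb => simp only [map_add, TensorProduct.tmul_add, ha, hb]
      | tmul a b => simp [eD, extD, ← MonoidAlgebra.one_def]
    intro z z' hzz
    rw [h, h] at hzz
    exact Module.FaithfullyFlat.tensorProduct_mk_injective (A := R) (B := E) (D ⊗[R] D)
      (((AlgebraTensorModule.distribBaseChange R E D D).trans (TensorProduct.congr eD eD)).injective hzz)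
  have hHopf : (Ideal.span {e}).IsHopfIdeal R :=
    { counit_eq_zero := fun x hx => FaithfulSMul.algebraMap_injective R E (by
        rw [map_zero, ← hom.counit_comp, (hmemK x).mp hx, map_zero])
      map_mkQ_comul_eq_zero := fun x hx => by
        let qD : C →ₐ[R] D := Ideal.Quotient.mkₐ R (Ideal.span {e})
        have e1 : ∀ z : C ⊗[R] C, sq E j (Algebra.TensorProduct.map qD qD z) = sq E hom.toAlgHom z := by
          intro z
          induction z using TensorProduct.induction_on with
          | zero => simp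
          | add a b ha hb => simp only [map_add, ha, hb]
          | tmul a b => rw [Algebra.TensorProduct.map_tmul, sq_tmul, sq_tmul]; rfl
        have h2 : Algebra.TensorProduct.map qD qD (comul x) = 0 := hsqinj (by
          rw [e1, ← hom.comul_comp, (hmemK x).mp hx, map_zero, map_zero])
        exact h2
      antipode_mem := fun x hx => (hmemK _).mpr (by
        rw [hhom, show (1 : E) ⊗ₜ[R] HopfAlgebra.antipode R x = HopfAlgebra.antipode E ((1 : E) ⊗ₜ[R] x) by simp,
          ← antipode_comm, ← hhom, (hmemK x).mp hx, map_zero]) }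
  refine ⟨e, he, heI, hHopf, E, inferInstance, inferInstance, het, hfin, hffE, ?_⟩
  let homD : SemiBialgHom R E D (MonoidAlgebra E M) := SemiBialgHom.factor (Ideal.span {e}) hom fun x hx => (hmemK x).mp hx
  exact isDiag_of_equiv (homD.toBialgEquiv hDb)

theorem idem_eq_zero_or_one {X : Type u} [CommRing X] [ConnectedSpace (PrimeSpectrum X)] {e : X}
    (he : IsIdempotentElem e) : e = 0 ∨ e = 1 := by
  have hcl : IsClopen (PrimeSpectrum.basicOpen e : Set (PrimeSpectrum X)) :=
    PrimeSpectrum.isClopen_iff.mpr ⟨e, he, rfl⟩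
  rcases isClopen_iff.mp hcl with h | h
  · refine Or.inl ?_
    have hn : IsNilpotent e := PrimeSpectrum.basicOpen_eq_bot_iff e |>.mp (TopologicalSpace.Opens.ext (by simpa using h))
    exact eq_of_isNilpotent_sub_of_isIdempotentElem he .zero (by rwa [sub_zero])
  · refine Or.inr ?_
    have hu : IsUnit e := by
      by_contra hu
      obtain ⟨m, hm, hem⟩ := Ideal.exists_le_maximal (Ideal.span {e}) (by rwa [Ne, Ideal.span_singleton_eq_top])
      have h2 : (⟨m, hm.isPrime⟩ : PrimeSpectrum X) ∈ (PrimeSpectrum.basicOpen e : Set (PrimeSpectrum X)) :=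
        h ▸ Set.mem_univ _
      exact h2 (hem (Ideal.mem_span_singleton_self e))
    exact (IsIdempotentElem.iff_eq_one_of_isUnit hu).mp he

/-- An isotrivial open and closed subgroup with trivial idempotent is everything. -/
theorem isIsotrivial_of_quotient_zero {R : Type u} [CommRing R] {C : Type u} [CommRing C] [HopfAlgebra R C]
    {J : Ideal C} [J.IsHopfIdeal R] (hJ : J = ⊥) (h : SGA3b.IsIsotrivial R (C ⧸ J)) :
    SGA3b.IsIsotrivial R C := by
  obtain ⟨E, _, _, h1, h2, h3, hd⟩ := h
  have hb : Function.Bijective (Bialgebra.Quotient.mkBialgHom (R := R) J) := by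
    refine ⟨fun x y hxy => ?_, Ideal.Quotient.mk_surjective⟩
    have := (Ideal.Quotient.eq.mp (hxy : Ideal.Quotient.mk J x = Ideal.Quotient.mk J y))
    rwa [hJ, Ideal.mem_bot, sub_eq_zero] at this
  exact ⟨E, inferInstance, inferInstance, h1, h2, h3,
    isDiag_congr (congrBase E (BialgEquiv.ofBijective (Bialgebra.Quotient.mkBialgHom (R := R) J) hb)).symm hd⟩

theorem flat_at_of_flat {R : Type u} [CommRing R] {C : Type u} [CommRing C] [Algebra R C] [Module.Flat R C]
    (q : Ideal C) [q.IsPrime] : Module.Flat R (Localization.AtPrime q) := Module.Flat.trans R C _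

theorem algebraMap_pow_eq_zero {R : Type u} [CommRing R] (I : Ideal R) (k : ℕ) :
    ∃ n : ℕ, ∀ r ∈ I ^ n, algebraMap R (R ⧸ I ^ (k + 1)) r = 0 :=
  ⟨k + 1, fun _ hr => Ideal.Quotient.eq_zero_iff_mem.mpr hr⟩

set_option maxHeartbeats 1000000 in
/-- Connected fibres make the open and closed subgroup everything. -/
theorem isIsotrivial_of_connected {R : Type u} [CommRing R] [IsNoetherianRing R] (I : Ideal R)
    [IsAdicComplete I R] {C : Type u} [CommRing C] [HopfAlgebra R C] [Module.Flat R C]
    (hft : Algebra.FiniteType R C)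
    (hconn : ∀ (p : Ideal R) [p.IsPrime], ConnectedSpace (PrimeSpectrum (p.ResidueField ⊗[R] C)))
    (h0 : SGA3b.IsIsotrivial (R ⧸ I) ((R ⧸ I) ⊗[R] C)) : SGA3b.IsIsotrivial R C := by
  have hflat : ∀ k : ℕ, Module.Flat (R ⧸ I ^ (k + 1)) ((R ⧸ I ^ (k + 1)) ⊗[R] C) := fun k => inferInstance
  obtain ⟨e, he, heI, hH, hiso⟩ := exists_open_closed_isotrivial I hft hflat h0
  have hce : counit (R := R) e = 0 := by
    refine map_idem_eq_zero I (isSep_self I) (Bialgebra.counitAlgHom R C) he heI
  have he0 : e = 0 := by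
    refine eq_of_isNilpotent_sub_of_isIdempotentElem he .zero ?_
    rw [sub_zero, nilpotent_iff_mem_prime]
    intro q hq
    let p := q.comap (algebraMap R C)
    have := hconn p
    let f : p.ResidueField ⊗[R] C := (1 : p.ResidueField) ⊗ₜ e
    have hf : IsIdempotentElem f := he.map (Algebra.TensorProduct.includeRight : C →ₐ[R] _)
    rcases idem_eq_zero_or_one hf with h | h
    · let _ : Algebra (R ⧸ p) (C ⧸ q) :=
        (Ideal.quotientMap q (algebraMap R C) le_rfl).toAlgebra
      by_contra hne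
      let ev : p.ResidueField ⊗[R] C →ₐ[R] q.ResidueField := Algebra.TensorProduct.lift
        (Ideal.ResidueField.mapₐ p q (Algebra.ofId R C) rfl)
        (IsScalarTower.toAlgHom R C q.ResidueField) fun _ _ => .all _ _
      have h2 := congrArg ev h
      rw [Algebra.TensorProduct.lift_tmul, map_one, one_mul, map_zero] at h2
      exact hne (Ideal.algebraMap_residueField_eq_zero.mp h2)
    · have h2 := congrArg (counit (R := p.ResidueField)) h
      rw [TensorProduct.counit_tmul, hce, zero_smul, Bialgebra.counit_one] at h2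
      exact absurd h2.symm one_ne_zero
  have := hH
  exact isIsotrivial_of_quotient_zero (by rw [he0, Ideal.span_singleton_eq_bot]) hiso

end Descent

end Groth.Agent.MultTypeLib
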