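import Groth.Agent.FlatModel.Local
import Groth.Agent.MultTypeLib.CompleteIso
import Mathlib.RingTheory.TensorProduct.MvPolynomial

/-!
# Descending flatness at the closed fibre to a Noetherian subring
-/

universe u

open MvPolynomial TensorProduct

noncomputable section

namespace Groth.Agent.MultTypeLib

open FlatModel (V KK CJ PtFlat mapV mem_CJ exists_smul_mem exists_fg_span_descent span_mono_subalgebra
  map_smul_KK_eq_span mapV_mem_span mapV_algebraMap mapV_val_inclusion mapV_injective mapL_mem_KK mapV_smul)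

variable {G : Type u} [CommRing G] {n : ℕ}

/-- The relations of a cyclic module. -/
def relMod (I₀ : Ideal (MvPolynomial (Fin n) G)) : Submodule (MvPolynomial (Fin n) G) (V 1 n G) :=
  Submodule.comap (LinearMap.proj (R := MvPolynomial (Fin n) G) (φ := fun _ : Fin 1 => MvPolynomial (Fin n) G) 0) I₀

theorem mem_KK_relMod (I₀ : Ideal (MvPolynomial (Fin n) G)) (R' : Type u) [CommRing R'] [Algebra G R']
    (x : V 1 n R') : x ∈ KK (relMod I₀) R' ↔ x 0 ∈ I₀.map (MvPolynomial.map (algebraMap G R')) := by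
  constructor
  · intro hx
    induction hx using Submodule.span_induction with
    | mem y hy =>
      obtain ⟨w, hw, rfl⟩ := hy
      exact Ideal.mem_map_of_mem (MvPolynomial.map (algebraMap G R')) (show w 0 ∈ I₀ from hw)
    | zero => exact zero_mem _
    | add y z _ _ hy hz => exact add_mem hy hz
    | smul r y _ hy => exact Ideal.mul_mem_left _ _ hy
  · intro hx
    rw [show x = fun _ => x 0 from funext fun i => by rw [Subsingleton.elim i 0]]
    generalize x 0 = y at hx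
    induction hx using Submodule.span_induction with
    | mem y hy =>
      obtain ⟨w, hw, rfl⟩ := hy
      exact Submodule.subset_span ⟨fun _ => w, (show (fun _ : Fin 1 => w) ∈ relMod I₀ from hw), rfl⟩
    | zero => exact zero_mem _
    | add y z _ _ hy hz => exact add_mem hy hz
    | smul r y _ hy => exact Submodule.smul_mem _ r hy

variable {X : Type u} [CommRing X] [Algebra G X] (π₀ : MvPolynomial (Fin n) G →ₐ[G] X)

/-- The presentation over an extension. -/
def presBC (R' : Type u) [CommRing R'] [Algebra G R'] : MvPolynomial (Fin n) R' →ₐ[R'] R' ⊗[G] X :=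
  (Algebra.TensorProduct.map (AlgHom.id R' R') π₀).comp (MvPolynomial.algebraTensorAlgEquiv G R').symm.toAlgHom

theorem presBC_surjective (hπ₀ : Function.Surjective π₀) (R' : Type u) [CommRing R'] [Algebra G R'] :
    Function.Surjective (presBC π₀ R') := by
  have hψ := (MvPolynomial.algebraTensorAlgEquiv G R' (σ := Fin n)).symm.surjective
  suffices h : Function.Surjective (Algebra.TensorProduct.map (AlgHom.id R' R') π₀) by
    intro z
    obtain ⟨w, rfl⟩ := h z
    obtain ⟨v, rfl⟩ := hψ w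
    exact ⟨v, rfl⟩
  intro z
  obtain ⟨w, hw⟩ := LinearMap.lTensor_surjective R' (g := π₀.toLinearMap) hπ₀ z
  refine ⟨w, hw ▸ ?_⟩
  clear hw
  induction w using TensorProduct.induction_on with
  | zero => simp
  | add u v hu hv => simp only [map_add, hu, hv]
  | tmul a b => simp

theorem ker_presBC (hπ₀ : Function.Surjective π₀) (R' : Type u) [CommRing R'] [Algebra G R'] :
    RingHom.ker (presBC π₀ R') = (RingHom.ker π₀).map (MvPolynomial.map (algebraMap G R')) := by
  let ψ := (MvPolynomial.algebraTensorAlgEquiv G R' (σ := Fin n))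
  have h1 : RingHom.ker (Algebra.TensorProduct.map (AlgHom.id R' R') π₀) =
      (RingHom.ker π₀).map (Algebra.TensorProduct.includeRight : MvPolynomial (Fin n) G →ₐ[G] _) :=
    Algebra.TensorProduct.lTensor_ker π₀ hπ₀
  have h2 : RingHom.ker (presBC π₀ R') =
      (RingHom.ker (Algebra.TensorProduct.map (AlgHom.id R' R') π₀)).map (ψ.toRingEquiv.toRingHom) := by
    rw [show ψ.toRingEquiv.toRingHom = (ψ.toRingEquiv : _ →+* _) from rfl, Ideal.map_comap_of_equiv]
    rfl
  have h3 : ψ.toRingEquiv.toRingHom.comp (Algebra.TensorProduct.includeRight :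
      MvPolynomial (Fin n) G →ₐ[G] R' ⊗[G] MvPolynomial (Fin n) G).toRingHom = MvPolynomial.map (algebraMap G R') :=
    RingHom.ext fun p => by
      show ψ ((1 : R') ⊗ₜ p) = _
      simp [ψ]
  rw [h2, h1, ← h3, ← Ideal.map_map]
  rfl

theorem ptFlat_iff_flat_atPrime (hπ₀ : Function.Surjective π₀) (R' : Type u) [CommRing R'] [Algebra G R']
    (q : Ideal (R' ⊗[G] X)) [q.IsPrime] :
    PtFlat (relMod (RingHom.ker π₀)) R' (q.comap (presBC π₀ R')).primeCompl ↔
      Module.Flat R' (Localization.AtPrime q) := by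
  let φ := presBC π₀ R'
  let _ : Algebra (MvPolynomial (Fin n) R') (R' ⊗[G] X) := φ.toRingHom.toAlgebra
  have : IsScalarTower R' (MvPolynomial (Fin n) R') (R' ⊗[G] X) :=
    IsScalarTower.of_algebraMap_eq fun r => (φ.commutes r).symm
  let π : V 1 n R' →ₗ[MvPolynomial (Fin n) R'] R' ⊗[G] X :=
    (Algebra.linearMap (MvPolynomial (Fin n) R') (R' ⊗[G] X)).comp (LinearMap.proj 0)
  have hsur : Function.Surjective π := fun z =>
    let ⟨p, hp⟩ := presBC_surjective π₀ hπ₀ R' z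
    ⟨fun _ => p, hp⟩
  have hker : LinearMap.ker π = KK (relMod (RingHom.ker π₀)) R' := by
    ext x
    rw [LinearMap.mem_ker, mem_KK_relMod, ← ker_presBC π₀ hπ₀ R', RingHom.mem_ker]
    rfl
  rw [FlatModel.flat_localized_iff q.primeCompl (Algebra.linearMap (R' ⊗[G] X) (Localization.AtPrime q)),
    FlatModel.ptFlat_iff (relMod (RingHom.ker π₀)) _ π hsur hker]
  have hsmul : ∀ (J : Ideal R') (p : MvPolynomial (Fin n) R') (y : (R' ⊗[G] X) ⊗[R'] J), φ p • y = p • y := by
    intro J p y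
    induction y using TensorProduct.induction_on with
    | zero => simp
    | tmul m j => rw [TensorProduct.smul_tmul', TensorProduct.smul_tmul']; rfl
    | add y z hy hz => rw [smul_add, smul_add, hy, hz]
  refine forall₂_congr fun J y => imp_congr_right fun _ => ⟨?_, ?_⟩
  · rintro ⟨p, hp, hpy⟩
    exact ⟨φ p, hp, (hsmul J p y).trans hpy⟩
  · rintro ⟨s, hs, hsy⟩
    obtain ⟨p, rfl⟩ := presBC_surjective π₀ hπ₀ R' s
    exact ⟨p, hs, (hsmul J p y) ▸ hsy⟩

section Spread

variable {a : ℕ} {R : Type u} [CommRing R] [Algebra G R] [IsNoetherianRing G]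

set_option maxHeartbeats 1000000 in
/-- Flatness at a point descends to all large finitely generated stages, around the point. -/
theorem exists_ptFlat_stage (K₀ : Submodule (MvPolynomial (Fin n) G) (V a n G))
    (Q : Ideal (MvPolynomial (Fin n) R)) [Q.IsPrime] (h : PtFlat K₀ R Q.primeCompl) :
    ∃ (R₁ : Subalgebra G R) (g : MvPolynomial (Fin n) R₁), R₁.FG ∧ MvPolynomial.map R₁.val.toRingHom g ∉ Q ∧
      ∀ (R₃ : Subalgebra G R) (hle : R₁ ≤ R₃), R₃.FG → ∀ (P : Ideal (MvPolynomial (Fin n) R₃)) [P.IsPrime],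
        MvPolynomial.map (Subalgebra.inclusion hle).toRingHom g ∉ P → PtFlat K₀ R₃ P.primeCompl := by
  classical
  obtain ⟨S, hS, hcover⟩ := FlatModel.exists_cover K₀ ⊥
  choose Gn hG using fun p : Ideal G => (IsNoetherian.noetherian (K₀ ⊓ CJ a n p) : (K₀ ⊓ CJ a n p).FG)
  let T : Ideal G → (R₁ : Subalgebra G R) → MvPolynomial (Fin n) R₁ → Set (V a n G) := fun p R₁ g =>
    {t | g • mapV (algebraMap G R₁) t ∈
      ((((p.map (algebraMap G R₁)).map C : Ideal (MvPolynomial (Fin n) R₁))) • KK K₀ R₁)}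
  have hmono : ∀ p (R₁ R₂ : Subalgebra G R) (hle : R₁ ≤ R₂) (g : MvPolynomial (Fin n) R₁)
      (g' : MvPolynomial (Fin n) R₂), T p R₁ g ⊆ T p R₂ (g' * MvPolynomial.map (Subalgebra.inclusion hle).toRingHom g) := by
    intro p R₁ R₂ hle g g' t ht
    simp only [T, Set.mem_setOf_eq, map_smul_KK_eq_span] at ht ⊢
    have := span_mono_subalgebra hle ht
    rw [mapV_smul, mapV_algebraMap] at this
    rw [mul_smul]
    exact Submodule.smul_mem _ _ this
  have hone : ∀ p, ∀ t ∈ K₀, t ∈ CJ a n p → ∃ R₁ : Subalgebra G R, R₁.FG ∧ ∃ g : MvPolynomial (Fin n) R₁,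
      MvPolynomial.map R₁.val.toRingHom g ∉ Q ∧ t ∈ T p R₁ g := by
    intro p t ht htp
    have h1 : mapV (algebraMap G R) t ∈ CJ a n (p.map (algebraMap G R)) := mem_CJ.2 fun i =>
      MvPolynomial.mem_map_C_iff.2 fun d => by
        rw [FlatModel.mapV_apply, MvPolynomial.coeff_map]
        exact Ideal.mem_map_of_mem _ (MvPolynomial.mem_map_C_iff.1 (mem_CJ.1 htp i) d)
    obtain ⟨s, hs, h2⟩ := h _ _ (mapL_mem_KK K₀ ht) h1
    rw [map_smul_KK_eq_span] at h2
    obtain ⟨R₁, hR₁, x₁, hx₁, hx₁t⟩ := exists_fg_span_descent h2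
    let R₂ := R₁ ⊔ Algebra.adjoin G (s.coeffs : Set R)
    obtain ⟨g, hg⟩ : s ∈ Set.range (MvPolynomial.map R₂.val.toRingHom) :=
      MvPolynomial.mem_range_map_iff_coeffs_subset.2 fun c hc =>
        ⟨⟨c, (le_sup_right : _ ≤ R₂) (Algebra.subset_adjoin hc)⟩, rfl⟩
    refine ⟨R₂, hR₁.sup (Subalgebra.fg_adjoin_finset _), g, hg.symm ▸ hs, ?_⟩
    have hx₂ := span_mono_subalgebra (le_sup_left : R₁ ≤ R₂) hx₁
    have : mapV (Subalgebra.inclusion le_sup_left).toRingHom x₁ = g • mapV (algebraMap G R₂) t :=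
      mapV_injective (g := R₂.val.toRingHom) Subtype.val_injective (by
        rw [mapV_val_inclusion, hx₁t, mapV_smul, hg, mapV_algebraMap]
        rfl)
    simp only [T, Set.mem_setOf_eq, map_smul_KK_eq_span]
    exact this ▸ hx₂
  have hfin : ∀ W : Finset (Ideal G × V a n G), (∀ w ∈ W, w.2 ∈ K₀ ⊓ CJ a n w.1) →
      ∃ R₁ : Subalgebra G R, R₁.FG ∧ ∃ g : MvPolynomial (Fin n) R₁,
        MvPolynomial.map R₁.val.toRingHom g ∉ Q ∧ ∀ w ∈ W, w.2 ∈ T w.1 R₁ g := by
    intro W
    induction W using Finset.induction with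
    | empty =>
      exact fun _ => ⟨⊥, Subalgebra.fg_bot, 1, by
        rw [map_one]; exact (Ideal.ne_top_iff_one Q).1 (Ideal.IsPrime.ne_top ‹_›), by simp⟩
    | insert w W _ ih =>
      intro hW
      obtain ⟨R₁, h₁, g₁, hg₁, h₁'⟩ := ih fun z hz => hW z (Finset.mem_insert_of_mem hz)
      obtain ⟨R₂, h₂, g₂, hg₂, h₂'⟩ := hone w.1 w.2 (hW w (Finset.mem_insert_self _ _)).1 (hW w (Finset.mem_insert_self _ _)).2
      let i₁ := MvPolynomial.map (σ := Fin n) (Subalgebra.inclusion (le_sup_left : R₁ ≤ R₁ ⊔ R₂)).toRingHom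
      let i₂ := MvPolynomial.map (σ := Fin n) (Subalgebra.inclusion (le_sup_right : R₂ ≤ R₁ ⊔ R₂)).toRingHom
      refine ⟨R₁ ⊔ R₂, h₁.sup h₂, i₁ g₁ * i₂ g₂, ?_, fun z hz => ?_⟩
      · rw [map_mul]
        refine Ideal.IsPrime.mul_notMem ‹_› ?_ ?_
        · simp only [i₁, MvPolynomial.map_map]; exact hg₁
        · simp only [i₂, MvPolynomial.map_map]; exact hg₂
      rcases Finset.mem_insert.1 hz with rfl | hz
      · exact hmono _ _ _ le_sup_right g₂ (i₁ g₁) h₂'
      · rw [mul_comm]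
        exact hmono _ _ _ le_sup_left g₁ (i₂ g₂) (h₁' z hz)
  obtain ⟨R₁, hR₁, g₁, hg₁, hW⟩ := hfin (S.biUnion fun x => (Gn x.1).image fun t => (x.1, t)) (by
    intro w hw
    simp only [Finset.mem_biUnion, Finset.mem_image] at hw
    obtain ⟨x, -, t, ht, rfl⟩ := hw
    exact (hG x.1).le (Submodule.subset_span ht))
  refine ⟨R₁, g₁, hR₁, hg₁, fun R₃ hle hR₃ P _ hgP J x hx hxJ => ?_⟩
  let g := MvPolynomial.map (Subalgebra.inclusion hle).toRingHom g₁
  have : Algebra.FiniteType G R₃ := (Subalgebra.fg_iff_finiteType R₃).1 hR₃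
  have : IsNoetherianRing R₃ := Algebra.FiniteType.isNoetherianRing G R₃
  obtain ⟨⟨p, f⟩, hpf, hpP, hfP⟩ :=
    hcover (P.comap ((C : R₃ →+* MvPolynomial (Fin n) R₃).comp (algebraMap G R₃))) (Ideal.IsPrime.comap _) bot_le
  have hT : ∀ t ∈ K₀, t ∈ CJ a n p → g • mapV (algebraMap G R₃) t ∈
      (((p.map (algebraMap G R₃)).map C : Ideal (MvPolynomial (Fin n) R₃))) • KK K₀ R₃ := by
    intro t ht htp
    have hmem : t ∈ Submodule.span (MvPolynomial (Fin n) G) (Gn p : Set (V a n G)) := (hG p).ge ⟨ht, htp⟩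
    have hle' : Submodule.span (MvPolynomial (Fin n) R₃) (mapV (algebraMap G R₃) '' (Gn p : Set (V a n G))) ≤
        (((p.map (algebraMap G R₃)).map C : Ideal (MvPolynomial (Fin n) R₃)) • KK K₀ R₃).comap
          (LinearMap.lsmul (MvPolynomial (Fin n) R₃) (V a n R₃) g) := by
      rw [Submodule.span_le]
      rintro _ ⟨t, ht, rfl⟩
      have h1 := hmono p R₁ R₃ hle g₁ 1 (hW (p, t) (Finset.mem_biUnion.2 ⟨(p, f), hpf, Finset.mem_image_of_mem _ ht⟩))
      rw [one_mul] at h1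
      exact h1
    exact hle' (mapV_mem_span (algebraMap G R₃) hmem)
  obtain ⟨s, hs, hsx⟩ := exists_smul_mem K₀ (hS _ hpf) g hT J hx hxJ P hpP hfP hgP
  exact ⟨s, hs, hsx⟩

end Spread

set_option maxHeartbeats 1000000 in
/-- Flatness at the closed fibre descends to a Noetherian stage, for all infinitesimal levels. -/
theorem exists_flat_stage {R : Type u} [CommRing R] [IsLocalRing R] [Algebra G R] [IsNoetherianRing G]
    [Algebra.FiniteType G X]
    (hfl : ∀ (q : Ideal (R ⊗[G] X)) [q.IsPrime],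
      Ideal.map (algebraMap R (R ⊗[G] X)) (IsLocalRing.maximalIdeal R) ≤ q → Module.Flat R (Localization.AtPrime q)) :
    ∃ R₃ : Subalgebra G R, R₃.FG ∧ ∀ (Q : Type u) [CommRing Q] [Algebra R₃ Q],
      (∃ k : ℕ, ∀ r ∈ ((IsLocalRing.maximalIdeal R).comap R₃.val) ^ k, algebraMap R₃ Q r = 0) →
        Module.Flat Q (Q ⊗[R₃] (R₃ ⊗[G] X)) := by
  classical
  obtain ⟨n, π₀, hπ₀⟩ := Algebra.FiniteType.iff_quotient_mvPolynomial''.1 (inferInstance : Algebra.FiniteType G X)
  let I₀ := RingHom.ker π₀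
  let K₀ := relMod I₀
  let 𝔪 := IsLocalRing.maximalIdeal R
  let B : Ideal (MvPolynomial (Fin n) R) := I₀.map (MvPolynomial.map (algebraMap G R)) ⊔ 𝔪.map C
  have hpt : ∀ Q : {Q : Ideal (MvPolynomial (Fin n) R) // Q.IsPrime ∧ B ≤ Q},
      haveI := Q.2.1; PtFlat K₀ R Q.1.primeCompl := by
    intro Q
    have := Q.2.1
    have hkerle : RingHom.ker (presBC π₀ R) ≤ Q.1 := by
      rw [ker_presBC π₀ hπ₀]; exact le_sup_left.trans Q.2.2
    let q : Ideal (R ⊗[G] X) := Q.1.map (presBC π₀ R)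
    have : q.IsPrime := Ideal.map_isPrime_of_surjective (presBC_surjective π₀ hπ₀ R) hkerle
    have hq : q.comap (presBC π₀ R) = Q.1 := by
      rw [Ideal.comap_map_of_surjective _ (presBC_surjective π₀ hπ₀ R), sup_eq_left]
      exact hkerle
    have hmq : 𝔪.map (algebraMap R (R ⊗[G] X)) ≤ q := Ideal.map_le_iff_le_comap.mpr fun r hr => by
      rw [Ideal.mem_comap, ← (presBC π₀ R).commutes]
      exact Ideal.mem_map_of_mem _ ((le_sup_right.trans Q.2.2) (Ideal.mem_map_of_mem _ hr))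
    have h := (ptFlat_iff_flat_atPrime π₀ hπ₀ R q).mpr (hfl q hmq)
    simp only [hq] at h
    exact h
  choose R₁ g hR₁ hg hspread using fun Q : {Q : Ideal (MvPolynomial (Fin n) R) // Q.IsPrime ∧ B ≤ Q} =>
    haveI := Q.2.1; exists_ptFlat_stage K₀ Q.1 (hpt Q)
  let T : Set (MvPolynomial (Fin n) R) := Set.range (fun Q => MvPolynomial.map (R₁ Q).val.toRingHom (g Q)) ∪
    (MvPolynomial.map (algebraMap G R) '' I₀ ∪ C '' 𝔪)
  have hT : (1 : MvPolynomial (Fin n) R) ∈ Ideal.span T := by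
    by_contra h1
    obtain ⟨M, hM, hle⟩ := Ideal.exists_le_maximal (Ideal.span T) ((Ideal.ne_top_iff_one _).mpr h1)
    have hBM : B ≤ M := sup_le (Ideal.span_le.mpr fun x hx => hle (Ideal.subset_span (Or.inr (Or.inl hx))))
      (Ideal.span_le.mpr fun x hx => hle (Ideal.subset_span (Or.inr (Or.inr hx))))
    exact hg ⟨M, hM.isPrime, hBM⟩ (hle (Ideal.subset_span (Or.inl ⟨⟨M, hM.isPrime, hBM⟩, rfl⟩)))
  obtain ⟨t, htT, ht⟩ := Submodule.mem_span_finite_of_mem_span hT
  obtain ⟨f, -, hf⟩ := Submodule.mem_span_finset.mp ht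
  have hex : ∀ x ∈ t, ∃ Rx : Subalgebra G R, Rx.FG ∧
      ((∃ Q, R₁ Q ≤ Rx ∧ x = MvPolynomial.map (R₁ Q).val.toRingHom (g Q)) ∨
        (x ∈ MvPolynomial.map (algebraMap G R) '' I₀ ∪ C '' 𝔪)) ∧ ↑x.coeffs ⊆ (Rx : Set R) ∧ ↑(f x).coeffs ⊆ (Rx : Set R) := by
    intro x hx
    let Rc := Algebra.adjoin G ((x.coeffs ∪ (f x).coeffs : Finset R) : Set R)
    have hc : ∀ {R' : Subalgebra G R}, Rc ≤ R' → ↑x.coeffs ⊆ (R' : Set R) ∧ ↑(f x).coeffs ⊆ (R' : Set R) := fun h =>
      ⟨fun c hc => h (Algebra.subset_adjoin (Finset.mem_union_left _ hc)),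
        fun c hc => h (Algebra.subset_adjoin (Finset.mem_union_right _ hc))⟩
    rcases htT hx with ⟨Q, rfl⟩ | h
    · exact ⟨R₁ Q ⊔ Rc, (hR₁ Q).sup (Subalgebra.fg_adjoin_finset _), Or.inl ⟨Q, le_sup_left, rfl⟩,
        hc le_sup_right⟩
    · exact ⟨Rc, Subalgebra.fg_adjoin_finset _, Or.inr h, hc le_rfl⟩
  choose! Rx hRx hcase hcx hcf using hex
  let R₃ := t.sup Rx
  have hR₃ : R₃.FG := Finset.sup_induction Subalgebra.fg_bot (fun _ ha _ hb => ha.sup hb) hRx
  refine ⟨R₃, hR₃, fun Q _ _ hQ => flat_level_of_flat_at ((IsLocalRing.maximalIdeal R).comap R₃.val) ?_ Q hQ⟩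
  intro q _ hmq
  rw [← ptFlat_iff_flat_atPrime π₀ hπ₀ R₃ q]
  let P := q.comap (presBC π₀ R₃)
  let ι := MvPolynomial.map (σ := Fin n) R₃.val.toRingHom
  have hι : Function.Injective ι := MvPolynomial.map_injective _ Subtype.val_injective
  by_contra hflat
  -- otherwise all the witnesses lie in the prime
  have hlift : ∀ p : MvPolynomial (Fin n) R, ↑p.coeffs ⊆ (R₃ : Set R) → ∃ p', ι p' = p := fun p hp =>
    MvPolynomial.mem_range_map_iff_coeffs_subset.2 fun c hc => ⟨⟨c, hp hc⟩, rfl⟩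
  have hsub : ∀ x ∈ t, Rx x ≤ R₃ := fun x hx => Finset.le_sup (f := Rx) hx
  have hxP : ∀ x ∈ t, ∃ x', ι x' = x ∧ x' ∈ P := by
    intro x hx
    rcases hcase x hx with ⟨Q', hle, rfl⟩ | h
    · refine ⟨MvPolynomial.map (Subalgebra.inclusion (hle.trans (hsub _ hx))).toRingHom (g Q'), ?_, ?_⟩
      · simp only [ι, MvPolynomial.map_map]; rfl
      · by_contra hnot
        exact hflat (hspread Q' R₃ (hle.trans (hsub _ hx)) hR₃ P hnot)
    · rcases h with ⟨p₀, hp₀, rfl⟩ | ⟨r, hr, rfl⟩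
      · refine ⟨MvPolynomial.map (algebraMap G R₃) p₀, by simp only [ι, MvPolynomial.map_map]; rfl, ?_⟩
        refine Ideal.comap_mono bot_le ?_
        show presBC π₀ R₃ _ = 0
        rw [← RingHom.mem_ker, ker_presBC π₀ hπ₀]
        exact Ideal.mem_map_of_mem _ hp₀
      · obtain ⟨x', hx'⟩ := hlift _ ((hcx _ hx).trans (hsub _ hx))
        refine ⟨x', hx', ?_⟩
        have hr' : r ∈ R₃ := by
          by_cases h0 : r = 0
          · rw [h0]; exact R₃.zero_mem
          · refine hsub _ hx (hcx _ hx ?_)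
            rw [Finset.mem_coe, MvPolynomial.mem_coeffs_iff]
            exact ⟨0, by simp [h0], by simp⟩
        rw [show x' = C (⟨r, hr'⟩ : R₃) from hι (hx'.trans (by simp [ι]))]
        refine hmq ?_
        show presBC π₀ R₃ (C _) ∈ _
        rw [← MvPolynomial.algebraMap_eq, AlgHom.commutes]
        exact Ideal.mem_map_of_mem _ hr
  choose! x' hx' hx'P using hxP
  have hfl' : ∀ x ∈ t, ∃ f', ι f' = f x := fun x hx => hlift _ ((hcf x hx).trans (hsub x hx))
  choose! f' hf' using hfl'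
  have h1 : (1 : MvPolynomial (Fin n) R₃) = ∑ x ∈ t, f' x * x' x := hι (by
    rw [map_one, map_sum, ← hf]
    exact Finset.sum_congr rfl fun x hx => by rw [map_mul, hf' x hx, hx' x hx, smul_eq_mul])
  exact (inferInstance : P.IsPrime).ne_top ((Ideal.eq_top_iff_one _).mpr
    (h1 ▸ Ideal.sum_mem _ fun x hx => Ideal.mul_mem_left _ _ (hx'P x hx)))

end Groth.Agent.MultTypeLib
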