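import Groth.Agent.MultTypeLib.HopfModel
import Groth.Agent.MultTypeLib.FlatStage
import Groth.Agent.MultTypeLib.CompleteIso
import Groth.Agent.MultTypeLib.EtaleLift
import Groth.Agent.MultTypeLib.Artin
import Groth.Agent.LocalCrit.Completion
import Mathlib.RingTheory.Etale.Field
import Mathlib.RingTheory.LocalRing.ResidueField.Basic

/-!
# The open and closed isotrivial subgroup over a faithfully flat local extension
-/

universe u

open TensorProduct Coalgebra Bialgebra IsLocalRing

noncomputable section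

namespace Groth.Agent.MultTypeLib

variable {R : Type u} [CommRing R]

/-- Flatness at a prime is invariant under isomorphisms. -/
theorem flat_atPrime_of_equiv {C C' : Type u} [CommRing C] [Algebra R C] [CommRing C'] [Algebra R C']
    (φ : C ≃ₐ[R] C') (q : Ideal C) [q.IsPrime] (q' : Ideal C') [q'.IsPrime] (h : q'.comap φ = q)
    [Module.Flat R (Localization.AtPrime q')] : Module.Flat R (Localization.AtPrime q) := by
  have hM : q.primeCompl.map φ = q'.primeCompl := by
    ext y
    constructor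
    · rintro ⟨x, hx, rfl⟩ hy
      exact hx (h ▸ hy)
    · intro hy
      refine ⟨φ.symm y, fun hx => hy ?_, φ.apply_symm_apply y⟩
      have hx' : φ.symm y ∈ q'.comap φ := by rw [h]; exact hx
      have hx'' : φ (φ.symm y) ∈ q' := hx'
      rwa [AlgEquiv.apply_symm_apply] at hx''
  exact Module.Flat.of_linearEquiv
    (IsLocalization.algEquivOfAlgEquiv (Localization.AtPrime q) (Localization.AtPrime q') φ hM).toLinearEquiv

/-- The completion of a Noetherian local ring. -/
theorem exists_complete_ff (A : Type u) [CommRing A] [IsLocalRing A] [IsNoetherianRing A] :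
    ∃ (B : Type u) (_ : CommRing B) (_ : IsLocalRing B) (_ : Algebra A B), IsNoetherianRing B ∧
      IsAdicComplete (maximalIdeal B) B ∧ maximalIdeal B = (maximalIdeal A).map (algebraMap A B) ∧
      Module.FaithfullyFlat A B := by
  let B := AdicCompletion (maximalIdeal A) A
  have hfg : (maximalIdeal A).FG := IsNoetherian.noetherian _
  have := AdicCompletion.isLocalRing_of_fg hfg
  have hN : IsNoetherianRing B := LocalCrit.isNoetherianRing_completion (A := A) (C := A)
    (by rw [Algebra.algebraMap_self, Ideal.map_id])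
  have hm : maximalIdeal B = (maximalIdeal A).map (algebraMap A B) := AdicCompletion.maximalIdeal_eq_map
  have : Module.Flat A B := inferInstance
  have : IsLocalHom (algebraMap A B) := ((IsLocalRing.local_hom_TFAE _).out 0 2).mpr (le_of_eq hm.symm)
  exact ⟨B, inferInstance, inferInstance, inferInstance, hN, inferInstance, hm,
    Module.FaithfullyFlat.of_flat_of_isLocalHom⟩

/-- A local faithfully flat extension receiving a faithfully flat algebra of a smaller ring. -/
theorem exists_local_compositum (A : Type u) [CommRing A] (R : Type u) [CommRing R] [IsLocalRing R] [Algebra A R]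
    (B : Type u) [CommRing B] [Algebra A B] [Module.FaithfullyFlat A B] :
    ∃ (T : Type u) (_ : CommRing T) (_ : IsLocalRing T) (_ : Algebra R T), Module.FaithfullyFlat R T ∧
      (maximalIdeal T).comap (algebraMap R T) = maximalIdeal R ∧
      ∃ j : B →+* T, ∀ a, j (algebraMap A B a) = algebraMap R T (algebraMap A R a) := by
  obtain ⟨⟨P, hP⟩, hP'⟩ := PrimeSpectrum.comap_surjective_of_faithfullyFlat (A := R) (B := R ⊗[A] B)
    ⟨maximalIdeal R, (maximalIdeal.isMaximal R).isPrime⟩
  have := hP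
  let T := Localization.AtPrime P
  have : Module.Flat R T := Module.Flat.trans R (R ⊗[A] B) T
  have hmT : (maximalIdeal T).comap (algebraMap R T) = maximalIdeal R := by
    rw [IsScalarTower.algebraMap_eq R (R ⊗[A] B) T, ← Ideal.comap_comap]
    exact (congrArg (Ideal.comap (algebraMap R (R ⊗[A] B))) Localization.AtPrime.comap_maximalIdeal).trans
      (congrArg PrimeSpectrum.asIdeal hP')
  have : IsLocalHom (algebraMap R T) := ((IsLocalRing.local_hom_TFAE _).out 0 4).mpr hmT
  refine ⟨T, inferInstance, inferInstance, inferInstance, Module.FaithfullyFlat.of_flat_of_isLocalHom, hmT,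
    (algebraMap (R ⊗[A] B) T).comp (Algebra.TensorProduct.includeRight : B →ₐ[A] R ⊗[A] B).toRingHom, fun a => ?_⟩
  show algebraMap (R ⊗[A] B) T ((Algebra.TensorProduct.includeRight : B →ₐ[A] R ⊗[A] B) (algebraMap A B a)) = _
  rw [AlgHom.commutes, IsScalarTower.algebraMap_apply R (R ⊗[A] B) T]
  rfl

/-- Multiplicative type is invariant under isomorphisms. -/
theorem isMultType_congr {A B : Type u} [CommRing A] [HopfAlgebra R A] [CommRing B] [HopfAlgebra R B]
    (e : A ≃ₐc[R] B) (h : SGA3b.IsMultType R A) : SGA3b.IsMultType R B :=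
  isMultType_of_transfer h fun S _ _ _ hd => isDiag_congr (congrBase S e) hd

/-- Over a field, multiplicative type descends from extensions and is isotrivial. -/
theorem isIsotrivial_of_field_ext (K : Type u) [Field K] (L : Type u) [Field L] [Algebra K L] (A : Type u)
    [CommRing A] [HopfAlgebra K A] (hft : Algebra.FiniteType K A) (h : SGA3b.IsMultType L (L ⊗[K] A)) :
    SGA3b.IsIsotrivial K A := by
  obtain ⟨L', _, _, _, -, M', inst', -, e'⟩ := isotrivial_of_field L (L ⊗[K] A) inferInstance h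
  let _ : Algebra K L' := ((algebraMap L L').comp (algebraMap K L)).toAlgebra
  have : IsScalarTower K L L' := IsScalarTower.of_algebraMap_eq fun _ => rfl
  have hd : SGA3b.IsDiag L' (L' ⊗[K] A) :=
    isDiag_congr (baseChangeTrans (R := K) L L' A).symm ⟨M', inst', e'⟩
  obtain ⟨K', _, _, _, _, M, inst, -, e⟩ := isotrivial_of_field K A hft (isMultType_of_ff L' hd)
  have : Algebra.FormallyEtale K K' := Algebra.FormallyEtale.of_isSeparable K K'
  have : Algebra.FinitePresentation K K' := Algebra.FinitePresentation.of_finiteType.mp inferInstance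
  exact ⟨K', inferInstance, inferInstance, ⟨inferInstance, inferInstance⟩, inferInstance, inferInstance, M, inst, e⟩

/-- Multiplicative type of a fibre is inherited along extensions. -/
theorem isMultType_fibre_ext (k K : Type u) [CommRing k] [CommRing K] [Algebra R k] [Algebra R K] [Algebra k K]
    [IsScalarTower R k K] {C : Type u} [CommRing C] [HopfAlgebra R C] (h : SGA3b.IsMultType k (k ⊗[R] C)) :
    SGA3b.IsMultType K (K ⊗[R] C) :=
  isMultType_congr (baseChangeTrans (R := R) k K C).symm (isMultType_baseChange K h)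

set_option maxHeartbeats 400000 in
theorem ker_bc_quot {A : Type u} [CommRing A] (T : Type u) [CommRing T] [Algebra A T] {X : Type u} [CommRing X]
    [Algebra A X] (J : Ideal X) (x : T ⊗[A] X) :
    Algebra.TensorProduct.map (AlgHom.id A T) (Ideal.Quotient.mkₐ A J) x = 0 ↔
      x ∈ J.map (Algebra.TensorProduct.includeRight : X →ₐ[A] T ⊗[A] X) := by
  rw [← RingHom.mem_ker]
  refine Iff.of_eq (congrArg (x ∈ ·) ((Algebra.TensorProduct.lTensor_ker _ Ideal.Quotient.mk_surjective).trans ?_))
  rw [show RingHom.ker (Ideal.Quotient.mkₐ A J) = J from Ideal.mk_ker]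

set_option maxHeartbeats 400000 in
theorem bcQuot_apply {A : Type u} [CommRing A] (T : Type u) [CommRing T] [Algebra A T] {X : Type u} [CommRing X]
    [HopfAlgebra A X] (J : Ideal X) [J.IsHopfIdeal A] (x : T ⊗[A] X) :
    Bialgebra.TensorProduct.map (BialgHom.id T T) (Bialgebra.Quotient.mkBialgHom (R := A) J) x =
      Algebra.TensorProduct.map (AlgHom.id A T) (Ideal.Quotient.mkₐ A J) x := by
  induction x using TensorProduct.induction_on with
  | zero => rw [map_zero, map_zero]
  | add a b ha hb => rw [map_add, map_add, ha, hb]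
  | tmul t y => rfl

set_option maxHeartbeats 1000000 in
/-- The open and closed isotrivial subgroup over a local algebra of a complete local ring. -/
theorem exists_local_idem_complete {A : Type u} [CommRing A] [IsNoetherianRing A] [IsLocalRing A]
    [IsAdicComplete (maximalIdeal A) A] (T : Type u) [CommRing T] [IsLocalRing T] [Algebra A T]
    (hlT : (maximalIdeal A).map (algebraMap A T) ≤ maximalIdeal T) {Xh : Type u} [CommRing Xh] [HopfAlgebra A Xh]
    (hft : Algebra.FiniteType A Xh)
    (hflat : ∀ k : ℕ, Module.Flat (A ⧸ maximalIdeal A ^ (k + 1)) ((A ⧸ maximalIdeal A ^ (k + 1)) ⊗[A] Xh))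
    (hs : SGA3b.IsMultType (ResidueField T) (ResidueField T ⊗[A] Xh)) :
    ∃ e : T ⊗[A] Xh, IsIdempotentElem e ∧ e ∈ (maximalIdeal T).map (algebraMap T (T ⊗[A] Xh)) ∧
      counit (R := T) e = 0 ∧ ∃ (D : Type u) (_ : CommRing D) (_ : HopfAlgebra T D) (π : T ⊗[A] Xh →ₐc[T] D),
        Function.Surjective π ∧ (∀ x, π x = 0 ↔ x ∈ Ideal.span {e}) ∧ SGA3b.IsIsotrivial T D := by
  have h0 : SGA3b.IsIsotrivial (A ⧸ maximalIdeal A) ((A ⧸ maximalIdeal A) ⊗[A] Xh) := by
    let _ : Algebra (ResidueField A) (ResidueField T) := (Ideal.quotientMap (maximalIdeal T) (algebraMap A T)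
      (Ideal.map_le_iff_le_comap.mp hlT)).toAlgebra
    have : IsScalarTower A (ResidueField A) (ResidueField T) := IsScalarTower.of_algebraMap_eq fun _ => rfl
    exact isIsotrivial_of_field_ext (ResidueField A) (ResidueField T) (ResidueField A ⊗[A] Xh) inferInstance
      (isMultType_congr (baseChangeTrans (R := A) (ResidueField A) (ResidueField T) Xh) hs)
  obtain ⟨e, he, heI, hH, hiso⟩ := exists_open_closed_isotrivial (maximalIdeal A) hft hflat h0
  have := hH
  let πq : T ⊗[A] Xh →ₐc[T] T ⊗[A] (Xh ⧸ Ideal.span {e}) :=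
    Bialgebra.TensorProduct.map (BialgHom.id T T) (Bialgebra.Quotient.mkBialgHom (R := A) (Ideal.span {e}))
  refine ⟨(1 : T) ⊗ₜ e, ?_, ?_, ?_, T ⊗[A] (Xh ⧸ Ideal.span {e}), inferInstance, inferInstance, πq, ?_,
    fun x => ?_, ?_⟩
  · exact he.map (Algebra.TensorProduct.includeRight : Xh →ₐ[A] T ⊗[A] Xh)
  · have h2 := Ideal.mem_map_of_mem (Algebra.TensorProduct.includeRight : Xh →ₐ[A] T ⊗[A] Xh).toRingHom heI
    rw [Ideal.map_map, show (Algebra.TensorProduct.includeRight : Xh →ₐ[A] T ⊗[A] Xh).toRingHom.comp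
        (algebraMap A Xh) = (algebraMap T (T ⊗[A] Xh)).comp (algebraMap A T) from RingHom.ext fun r => by
      show (Algebra.TensorProduct.includeRight : Xh →ₐ[A] T ⊗[A] Xh) (algebraMap A Xh r) = _
      rw [AlgHom.commutes, IsScalarTower.algebraMap_apply A T]; rfl, ← Ideal.map_map] at h2
    exact Ideal.map_mono hlT h2
  · have hce : counit (R := A) e = 0 :=
      map_idem_eq_zero (maximalIdeal A) (isSep_self _) (Bialgebra.counitAlgHom A Xh) he heI
    rw [TensorProduct.counit_tmul, hce, zero_smul]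
  · exact LinearMap.lTensor_surjective T (g := (Ideal.Quotient.mkₐ A (Ideal.span {e})).toLinearMap)
      Ideal.Quotient.mk_surjective
  · rw [bcQuot_apply, ker_bc_quot, Ideal.map_span, Set.image_singleton]
    rfl
  · obtain ⟨E, _, _, het, hfin, hffE, hd⟩ := hiso
    let _ : Algebra E (T ⊗[A] E) := Algebra.TensorProduct.rightAlgebra
    have : IsScalarTower A E (T ⊗[A] E) := Algebra.TensorProduct.right_isScalarTower
    exact ⟨T ⊗[A] E, inferInstance, inferInstance, inferInstance, inferInstance, inferInstance,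
      isDiag_congr (baseChangeTrans (R := A) T (T ⊗[A] E) (Xh ⧸ Ideal.span {e})) (isDiag_baseChange E (T ⊗[A] E) hd)⟩

set_option maxHeartbeats 1000000 in
/-- The transport of the subgroup from the completion of a model. -/
theorem exists_local_idem_of_model [IsLocalRing R] {C : Type u} [CommRing C] [HopfAlgebra R C]
    (hs : SGA3b.IsMultType (ResidueField R) (ResidueField R ⊗[R] C))
    {G : Type u} [CommRing G] [Algebra G R] {X : Type u} [CommRing X] [HopfAlgebra G X] [Algebra.FiniteType G X]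
    (eC : R ⊗[G] X ≃ₐc[R] C) (S : Type u) [CommRing S] [Algebra G S] [Algebra S R] [IsScalarTower G S R]
    (Rh : Type u) [CommRing Rh] [IsNoetherianRing Rh] [IsLocalRing Rh] [IsAdicComplete (maximalIdeal Rh) Rh]
    [Algebra S Rh] (T : Type u) [CommRing T] [IsLocalRing T] [Algebra R T] [Algebra G T] [IsScalarTower G R T]
    [Algebra S T] [IsScalarTower G S T] [Algebra Rh T] [IsScalarTower S Rh T]
    (hmT : (maximalIdeal T).comap (algebraMap R T) = maximalIdeal R)
    (hlT : (maximalIdeal Rh).map (algebraMap Rh T) ≤ maximalIdeal T)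
    (hlev : ∀ k : ℕ, Module.Flat (Rh ⧸ (maximalIdeal Rh) ^ (k + 1))
      ((Rh ⧸ (maximalIdeal Rh) ^ (k + 1)) ⊗[S] (S ⊗[G] X))) :
    ∃ e : T ⊗[R] C, IsIdempotentElem e ∧ e ∈ (maximalIdeal T).map (algebraMap T (T ⊗[R] C)) ∧
      counit (R := T) e = 0 ∧ ∃ (D : Type u) (_ : CommRing D) (_ : HopfAlgebra T D) (π : T ⊗[R] C →ₐc[T] D),
        Function.Surjective π ∧ (∀ x, π x = 0 ↔ x ∈ Ideal.span {e}) ∧ SGA3b.IsIsotrivial T D := by
  -- the group over the completion
  let Θ : T ⊗[R] C ≃ₐc[T] T ⊗[Rh] (Rh ⊗[S] (S ⊗[G] X)) :=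
    (congrBase T eC.symm).trans ((baseChangeTrans (R := G) R T X).symm.trans
      ((baseChangeTrans (R := G) S T X).trans (baseChangeTrans (R := S) Rh T (S ⊗[G] X))))
  have hflat : ∀ k : ℕ, Module.Flat (Rh ⧸ (maximalIdeal Rh) ^ (k + 1))
      ((Rh ⧸ (maximalIdeal Rh) ^ (k + 1)) ⊗[Rh] (Rh ⊗[S] (S ⊗[G] X))) := by
    intro k
    have := hlev k
    exact Module.Flat.of_linearEquiv (AlgebraTensorModule.cancelBaseChange S Rh (Rh ⧸ maximalIdeal Rh ^ (k + 1)) (Rh ⧸ maximalIdeal Rh ^ (k + 1)) (S ⊗[G] X))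
  have hκ : SGA3b.IsMultType (ResidueField T) (ResidueField T ⊗[Rh] (Rh ⊗[S] (S ⊗[G] X))) := by
    let _ : Algebra (ResidueField R) (ResidueField T) := (Ideal.quotientMap (maximalIdeal T) (algebraMap R T)
      (le_of_eq hmT.symm)).toAlgebra
    have : IsScalarTower R (ResidueField R) (ResidueField T) := IsScalarTower.of_algebraMap_eq fun _ => rfl
    exact isMultType_congr ((baseChangeTrans (R := R) T (ResidueField T) C).trans
      ((congrBase (ResidueField T) Θ).trans (baseChangeTrans (R := Rh) T (ResidueField T) _).symm))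
      (isMultType_fibre_ext (ResidueField R) (ResidueField T) hs)
  obtain ⟨e, he, hem, hce, D, _, _, π, hπ, hker, hiso⟩ := exists_local_idem_complete T hlT inferInstance hflat hκ
  refine ⟨Θ.symm e, ?_, ?_, ?_, D, inferInstance,
    inferInstance, π.comp (Θ : T ⊗[R] C →ₐc[T] T ⊗[Rh] (Rh ⊗[S] (S ⊗[G] X))), fun y => ?_, fun x => ?_, hiso⟩
  · exact he.map (Θ.symm : T ⊗[Rh] (Rh ⊗[S] (S ⊗[G] X)) ≃ₐ[T] T ⊗[R] C)
  · have h3 := Ideal.mem_map_of_mem
      (Θ.symm : T ⊗[Rh] (Rh ⊗[S] (S ⊗[G] X)) ≃ₐ[T] T ⊗[R] C).toAlgHom.toRingHom hem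
    rw [Ideal.map_map] at h3
    rwa [show (Θ.symm : T ⊗[Rh] (Rh ⊗[S] (S ⊗[G] X)) ≃ₐ[T] T ⊗[R] C).toAlgHom.toRingHom.comp
      (algebraMap T (T ⊗[Rh] (Rh ⊗[S] (S ⊗[G] X)))) = algebraMap T (T ⊗[R] C) from
      (Θ.symm : T ⊗[Rh] (Rh ⊗[S] (S ⊗[G] X)) ≃ₐ[T] T ⊗[R] C).toAlgHom.comp_algebraMap] at h3
  · rw [CoalgHomClass.counit_comp_apply, hce]
  · obtain ⟨z, rfl⟩ := hπ y
    exact ⟨Θ.symm z, congrArg π (BialgEquiv.apply_symm_apply Θ z)⟩
  · show π (Θ x) = 0 ↔ _
    rw [hker, Ideal.mem_span_singleton, Ideal.mem_span_singleton]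
    conv_lhs => rw [← BialgEquiv.apply_symm_apply Θ e]
    exact map_dvd_iff (Θ : T ⊗[R] C ≃ₐ[T] T ⊗[Rh] (Rh ⊗[S] (S ⊗[G] X)))


set_option maxHeartbeats 2000000 in
/-- A finitely presented group over a local ring, flat at the closed fibre and of multiplicative type there,
has an open and closed isotrivial subgroup over a faithfully flat local extension. -/
theorem exists_local_idem [IsLocalRing R] {C : Type u} [CommRing C] [HopfAlgebra R C]
    [Algebra.FinitePresentation R C]
    (hfl : ∀ (q : Ideal C) [q.IsPrime], Ideal.map (algebraMap R C) (maximalIdeal R) ≤ q →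
      Module.Flat R (Localization.AtPrime q))
    (hs : SGA3b.IsMultType (ResidueField R) (ResidueField R ⊗[R] C)) :
    ∃ (T : Type u) (_ : CommRing T) (_ : IsLocalRing T) (_ : Algebra R T), Module.FaithfullyFlat R T ∧
      ∃ e : T ⊗[R] C, IsIdempotentElem e ∧ e ∈ (maximalIdeal T).map (algebraMap T (T ⊗[R] C)) ∧
        counit (R := T) e = 0 ∧ ∃ (D : Type u) (_ : CommRing D) (_ : HopfAlgebra T D) (π : T ⊗[R] C →ₐc[T] D),
          Function.Surjective π ∧ (∀ x, π x = 0 ↔ x ∈ Ideal.span {e}) ∧ SGA3b.IsIsotrivial T D := by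
  classical
  obtain ⟨G, _, _, _, -, X, _, _, _, ⟨eC⟩⟩ := exists_hopf_model R C
  -- flatness at a stage
  obtain ⟨R₃, hR₃, hlev⟩ := exists_flat_stage (G := G) (X := X) (R := R) fun q _ hq => by
    let φ : R ⊗[G] X ≃ₐ[R] C := (eC : R ⊗[G] X ≃ₐ[R] C)
    let q' : Ideal C := q.comap (φ.symm : C →ₐ[R] R ⊗[G] X)
    have : q'.IsPrime := Ideal.IsPrime.comap _
    have := hfl q' (Ideal.map_le_iff_le_comap.mpr fun r hr => by
      show φ.symm (algebraMap R C r) ∈ q
      rw [AlgEquiv.commutes]
      exact hq (Ideal.mem_map_of_mem _ hr))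
    exact flat_atPrime_of_equiv φ q q' (Ideal.ext fun x => by
      show φ.symm (φ x) ∈ q ↔ _
      rw [AlgEquiv.symm_apply_apply])
  have : Algebra.FiniteType G R₃ := (Subalgebra.fg_iff_finiteType R₃).1 hR₃
  have : IsNoetherianRing R₃ := Algebra.FiniteType.isNoetherianRing G R₃
  let 𝔪 := maximalIdeal R
  let m₃ : Ideal R₃ := 𝔪.comap R₃.val
  have : m₃.IsPrime := Ideal.IsPrime.comap _
  let R₀ := Localization.AtPrime m₃
  have : IsNoetherianRing R₀ := IsLocalization.isNoetherianRing m₃.primeCompl R₀ inferInstance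
  let ρ : R₀ →+* R := IsLocalization.lift (M := m₃.primeCompl) (g := R₃.val.toRingHom) fun s =>
    IsLocalRing.notMem_maximalIdeal.mp fun hs => s.2 hs
  let _ : Algebra R₀ R := ρ.toAlgebra
  have : IsScalarTower R₃ R₀ R := IsScalarTower.of_algebraMap_eq fun x => (IsLocalization.lift_eq _ x).symm
  obtain ⟨Rh, _, _, _, _, _, hmh, _⟩ := exists_complete_ff R₀
  let _ : Algebra R₃ Rh := ((algebraMap R₀ Rh).comp (algebraMap R₃ R₀)).toAlgebra
  have : IsScalarTower R₃ R₀ Rh := IsScalarTower.of_algebraMap_eq fun _ => rfl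
  -- the local extension
  obtain ⟨T, _, _, _, hff, hmT, jh, hjh0⟩ := exists_local_compositum R₀ R Rh
  have hjh : ∀ a : R₀, jh (algebraMap R₀ Rh a) = algebraMap R T (ρ a) := hjh0
  let _ : Algebra Rh T := jh.toAlgebra
  have : IsScalarTower R₃ R T := inferInstance
  have : IsScalarTower R₃ Rh T := IsScalarTower.of_algebraMap_eq fun x => by
    show algebraMap R T (R₃.val x) = jh (algebraMap R₃ Rh x)
    rw [IsScalarTower.algebraMap_apply R₃ R₀ Rh, hjh]
    exact congrArg _ (IsLocalization.lift_eq _ x).symm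
  let _ : Algebra G T := ((algebraMap R T).comp (algebraMap G R)).toAlgebra
  have : IsScalarTower G R T := IsScalarTower.of_algebraMap_eq fun _ => rfl
  have : IsScalarTower G R₃ T := IsScalarTower.of_algebraMap_eq fun x => by
    show algebraMap R T (algebraMap G R x) = algebraMap R T (R₃.val (algebraMap G R₃ x))
    rw [AlgHom.commutes]
  have hlT : (maximalIdeal Rh).map (algebraMap Rh T) ≤ maximalIdeal T := by
    rw [hmh, Ideal.map_map, Ideal.map_le_iff_le_comap]
    intro a ha
    show jh (algebraMap R₀ Rh a) ∈ maximalIdeal T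
    rw [hjh]
    have hρ : ρ a ∈ 𝔪 := by
      obtain ⟨r, s, rfl⟩ := IsLocalization.exists_mk'_eq m₃.primeCompl a
      have hr : r ∈ m₃ := (IsLocalization.AtPrime.mk'_mem_maximal_iff R₀ m₃ r s).mp ha
      have h1 : ρ (IsLocalization.mk' R₀ r s) * R₃.val (s : R₃) = R₃.val r := by
        rw [show R₃.val (s : R₃) = ρ (algebraMap R₃ R₀ (s : R₃)) from (IsLocalization.lift_eq _ _).symm,
          ← map_mul, IsLocalization.mk'_spec]
        exact IsLocalization.lift_eq _ _
      exact ((maximalIdeal.isMaximal R).isPrime.mem_or_mem (h1.symm ▸ hr)).resolve_right s.2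
    exact Ideal.mem_comap.mp (hmT.symm ▸ hρ : ρ a ∈ (maximalIdeal T).comap (algebraMap R T))
  -- levels
  have hlev' : ∀ k : ℕ, Module.Flat (Rh ⧸ (maximalIdeal Rh) ^ (k + 1))
      ((Rh ⧸ (maximalIdeal Rh) ^ (k + 1)) ⊗[R₃] (R₃ ⊗[G] X)) := by
    intro k
    let Q := Rh ⧸ (maximalIdeal Rh) ^ (k + 1)
    have hk : ∃ k : ℕ, ∀ r ∈ ((maximalIdeal R).comap R₃.val) ^ k, algebraMap R₃ Q r = 0 := by
      refine ⟨k + 1, fun r hr => ?_⟩
      rw [IsScalarTower.algebraMap_apply R₃ Rh Q]
      refine Ideal.Quotient.eq_zero_iff_mem.mpr ?_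
      have hle : m₃.map (algebraMap R₃ Rh) ≤ maximalIdeal Rh := by
        rw [hmh, IsScalarTower.algebraMap_eq R₃ R₀ Rh, ← Ideal.map_map,
          Localization.AtPrime.map_eq_maximalIdeal]
      exact Ideal.pow_right_mono hle _ (by rw [← Ideal.map_pow]; exact Ideal.mem_map_of_mem _ hr)
    exact hlev Q hk
  exact ⟨T, inferInstance, inferInstance, inferInstance, hff,
    exists_local_idem_of_model hs eC R₃ Rh T hmT hlT hlev'⟩

end Groth.Agent.MultTypeLib
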