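import Groth.Agent.MultTypeLib.TorsionPoints
import Groth.Agent.MultTypeLib.LocalCriteria
import Mathlib.RingTheory.Ideal.GoingUp

/-!
# The finite-torsion criterion for multiplicative type
-/

universe u

open WithConv TensorProduct Coalgebra Bialgebra IsLocalRing

noncomputable section

namespace Groth.Agent.MultTypeLib

attribute [local instance 2000] algConvGroup

set_option maxHeartbeats 2000000 in
/-- An idempotent cutting out an isotrivial subgroup vanishes if it dies on all torsion subgroups. -/
theorem idem_eq_zero_of_torsion {R : Type u} [CommRing R] {C : Type u} [CommRing C] [HopfAlgebra R C]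
    [Coalgebra.IsCocomm R C] (hft : Algebra.FiniteType R C) {e : C} (he : IsIdempotentElem e)
    (hce : counit (R := R) e = 0) {D : Type u} [CommRing D] [HopfAlgebra R D] (π : C →ₐc[R] D)
    (hπ : Function.Surjective π) (hker : ∀ x, π x = 0 ↔ x ∈ Ideal.span {e}) (hiso : SGA3b.IsIsotrivial R D)
    (htor : ∀ N : ℕ, 0 < N → e ∈ SGA3b.torsionIdeal R C N) : e = 0 := by
  classical
  obtain ⟨E, _, _, -, -, hff, hd⟩ := hiso
  obtain ⟨M, _, hom, equiv, hequiv⟩ := exists_split_of_isDiag E hd
  let Φ : (C ⧸ Ideal.span {e}) →ₐ[R] D := Ideal.Quotient.liftₐ _ (π : C →ₐ[R] D) fun a ha => (hker a).mpr ha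
  have hΦ : Function.Bijective Φ := ⟨(injective_iff_map_eq_zero _).mpr fun z hz => by
      obtain ⟨c, rfl⟩ := Ideal.Quotient.mk_surjective z
      exact Ideal.Quotient.eq_zero_iff_mem.mpr ((hker c).mp hz),
    fun d => (hπ d).imp' (Ideal.Quotient.mk _) fun c hc => hc⟩
  let Ψ := AlgEquiv.ofBijective Φ hΦ
  refine eq_of_isNilpotent_sub_of_isIdempotentElem he .zero ?_
  rw [sub_zero, nilpotent_iff_mem_prime]
  intro q hq
  by_contra hne
  let p := q.comap (algebraMap R C)
  obtain ⟨⟨r, hr⟩, hrp⟩ := PrimeSpectrum.comap_surjective_of_faithfullyFlat (A := R) (B := E) ⟨p, inferInstance⟩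
  have hrp' : p = r.comap (algebraMap R E) := (congrArg PrimeSpectrum.asIdeal hrp).symm
  have := hr
  let k := AlgebraicClosure r.ResidueField
  have : IsScalarTower R E k := IsScalarTower.of_algebraMap_eq fun x => by
    rw [IsScalarTower.algebraMap_apply R r.ResidueField k, IsScalarTower.algebraMap_apply E r.ResidueField k,
      IsScalarTower.algebraMap_apply R E r.ResidueField]
  let ι : p.ResidueField →ₐ[R] k :=
    (IsScalarTower.toAlgHom R r.ResidueField k).comp (Ideal.ResidueField.mapₐ p r (Algebra.ofId R E) hrp')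
  let _ : Algebra p.ResidueField k := ι.toRingHom.toAlgebra
  have : IsScalarTower R p.ResidueField k := IsScalarTower.of_algebraMap_eq fun x => (ι.commutes x).symm
  -- a point outside the subgroup
  obtain ⟨x, hx⟩ : ∃ x : WithConv (C →ₐ[R] k), x.ofConv e ≠ 0 := by
    let F := p.ResidueField ⊗[R] C
    let f : F := (1 : p.ResidueField) ⊗ₜ e
    have hf : IsIdempotentElem f := he.map (Algebra.TensorProduct.includeRight : C →ₐ[R] F)
    let ev : F →ₐ[R] q.ResidueField := Algebra.TensorProduct.lift
      (Ideal.ResidueField.mapₐ p q (Algebra.ofId R C) rfl)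
      (IsScalarTower.toAlgHom R C q.ResidueField) fun _ _ => .all _ _
    have hnil : ¬ IsNilpotent f := fun h => by
      have h2 := congrArg ev (eq_of_isNilpotent_sub_of_isIdempotentElem hf .zero (by rwa [sub_zero]))
      rw [Algebra.TensorProduct.lift_tmul, map_one, one_mul, map_zero] at h2
      exact hne (Ideal.algebraMap_residueField_eq_zero.mp h2)
    have : Algebra.FiniteType p.ResidueField F := inferInstance
    have : IsJacobsonRing F := isJacobsonRing_of_finiteType (A := p.ResidueField)
    obtain ⟨m, hm, hfm⟩ : ∃ m : Ideal F, m.IsMaximal ∧ f ∉ m := by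
      by_contra hcon
      push Not at hcon
      refine hnil (mem_nilradical.mp ?_)
      rw [nilradical, show (0 : Ideal F).radical = Ideal.jacobson ⊥ from
        (Ideal.radical_eq_jacobson (⊥ : Ideal F)), Ideal.jacobson, Ideal.mem_sInf]
      exact fun m hm => hcon m hm.2
    let L := F ⧸ m
    let _ : Field L := Ideal.Quotient.field m
    have : Algebra.FiniteType p.ResidueField L := Algebra.FiniteType.of_surjective (Ideal.Quotient.mkₐ _ m)
      Ideal.Quotient.mk_surjective
    have : Module.Finite p.ResidueField L := finite_of_finite_type_of_isJacobsonRing p.ResidueField L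
    have : Algebra.IsAlgebraic p.ResidueField L := Algebra.IsAlgebraic.of_finite _ _
    have : Module.IsTorsionFree p.ResidueField L := Module.isTorsionFree_iff_algebraMap_injective.mpr
      (algebraMap p.ResidueField L).injective
    let σ : L →ₐ[p.ResidueField] k := IsAlgClosed.lift
    let xF : F →ₐ[R] k := ((σ.comp (Ideal.Quotient.mkₐ _ m)).restrictScalars R)
    refine ⟨toConv (xF.comp Algebra.TensorProduct.includeRight), fun h => hfm ?_⟩
    have h1 : σ (Ideal.Quotient.mk m f) = 0 := h
    exact Ideal.Quotient.eq_zero_iff_mem.mp ((map_eq_zero σ).mp h1)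
  -- the subgroup
  let pre : WithConv (D →ₐ[R] k) →* WithConv (C →ₐ[R] k) :=
    { toFun := fun g => toConv (g.ofConv.comp (π : C →ₐ[R] D))
      map_one' := by
        refine WithConv.ext (AlgHom.ext fun c => ?_)
        show algebraMap R k (counit (π c)) = algebraMap R k (counit c)
        rw [CoalgHomClass.counit_comp_apply]
      map_mul' := fun f g => WithConv.ext (AlgHom.convMul_comp_bialgHom_distrib f g π) }
  have hpre0 : ∀ g, (pre g).ofConv e = 0 := fun g => by
    show g.ofConv (π e) = 0
    rw [(hker e).mpr (Ideal.mem_span_singleton_self e), map_zero]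
  have hmem : ∀ g : WithConv (C →ₐ[R] k), g.ofConv e = 0 → ∃ gD, pre gD = g := fun g hg =>
    ⟨toConv ((Ideal.Quotient.liftₐ (Ideal.span {e}) g.ofConv fun a ha => by
      obtain ⟨b, rfl⟩ := Ideal.mem_span_singleton.mp ha
      rw [map_mul, hg, zero_mul]).comp Ψ.symm.toAlgHom), WithConv.ext (AlgHom.ext fun c => by
      refine (congrArg _ (show Ψ.symm (π c) = Ideal.Quotient.mk (Ideal.span {e}) c from
        (congrArg Ψ.symm (show π c = Ψ (Ideal.Quotient.mk _ c) from rfl)).trans (Ψ.symm_apply_apply _))).trans ?_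
      rfl)⟩
  -- some power of the point lies in the subgroup
  have : IsNoetherianRing (k ⊗[R] C) := Algebra.FiniteType.isNoetherianRing k _
  let F' := k ⊗[R] C
  let iL : k →ₐ[R] F' := Algebra.TensorProduct.includeLeft
  let iR : WithConv (C →ₐ[R] F') := toConv Algebra.TensorProduct.includeRight
  have hsame : ∀ a b : WithConv (C →ₐ[R] k), (convMap iL a * iR).ofConv e = (convMap iL b * iR).ofConv e →
      (b * a⁻¹).ofConv e = 0 := by
    intro a b hab
    let ev : F' →ₐ[R] k := Algebra.TensorProduct.lift (AlgHom.id R k) (a⁻¹).ofConv fun _ _ => .all _ _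
    have h1 : convMap ev iR = a⁻¹ := by
      refine WithConv.ext (AlgHom.ext fun c => ?_)
      exact (Algebra.TensorProduct.lift_tmul (AlgHom.id R k) (a⁻¹).ofConv (fun _ _ => .all _ _) (1 : k) c).trans
        (by rw [map_one, one_mul])
    have h2 : ∀ z : WithConv (C →ₐ[R] k), convMap ev (convMap iL z) = z := fun z => by
      refine WithConv.ext (AlgHom.ext fun c => ?_)
      exact (Algebra.TensorProduct.lift_tmul (AlgHom.id R k) (a⁻¹).ofConv (fun _ _ => .all _ _) (z.ofConv c)
        (1 : C)).trans (by rw [map_one, mul_one]; rfl)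
    have h3 : (convMap ev (convMap iL a * iR)).ofConv e = (convMap ev (convMap iL b * iR)).ofConv e :=
      congrArg ev hab
    rw [map_mul, map_mul, h1, h2, h2, mul_inv_cancel] at h3
    rw [← h3]
    show algebraMap R k (counit e) = 0
    rw [hce, map_zero]
  let fn : ℕ → {z : F' | IsIdempotentElem z} := fun i =>
    ⟨(convMap iL (x ^ i) * iR).ofConv e, he.map (convMap iL (x ^ i) * iR).ofConv⟩
  have : Finite {z : F' | IsIdempotentElem z} := (finite_idempotents F').to_subtype
  obtain ⟨i, j, hij, hfn⟩ : ∃ i j, i < j ∧ fn i = fn j := by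
    obtain ⟨i, j, hij, hfn⟩ := Finite.exists_ne_map_eq_of_infinite fn
    rcases lt_or_gt_of_ne hij with h | h
    · exact ⟨i, j, h, hfn⟩
    · exact ⟨j, i, h, hfn.symm⟩
  obtain ⟨n, rfl⟩ := Nat.exists_eq_add_of_lt hij
  have hxn : (x ^ (n + 1)).ofConv e = 0 := by
    have h1 := hsame (x ^ i) (x ^ (i + n + 1)) (congrArg Subtype.val hfn)
    rwa [show x ^ (i + n + 1) * (x ^ i)⁻¹ = x ^ (n + 1) by
      rw [show i + n + 1 = n + 1 + i by omega, pow_add, mul_assoc, mul_inv_cancel, mul_one]] at h1
  obtain ⟨gD, hgD⟩ := hmem _ hxn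
  -- roots in the subgroup
  have : Nontrivial E := (algebraMap E k).domain_nontrivial
  have : Algebra.FiniteType E (E ⊗[R] D) := by
    have : Algebra.FiniteType R D := Algebra.FiniteType.of_surjective (π : C →ₐ[R] D) hπ
    infer_instance
  have hM : Algebra.FiniteType E (MonoidAlgebra E M) := Algebra.FiniteType.equiv inferInstance equiv
  have : Group.FG M := (MonoidAlgebra.finiteType_iff_group_fg (R := E)).mp hM
  obtain ⟨t, ht, hroot⟩ := exists_root_char M (k := k)
  obtain ⟨χ, rfl⟩ := charPoint_surjective (k := k) hom equiv hequiv gD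
  obtain ⟨η, hη⟩ := hroot χ.toHomUnits (n + 1) n.succ_pos
  let hD : WithConv (D →ₐ[R] k) := charPoint hom ((Units.coeHom k).comp η)
  have hh : (pre hD) ^ ((n + 1) * t) = (x ^ (n + 1)) ^ t := by
    rw [← hgD, ← map_pow, ← map_pow, ← map_pow, ← map_pow]
    refine congrArg _ (congrArg _ (MonoidHom.ext fun m => ?_))
    have h1 := congrArg (fun f : M →* kˣ => ((f m : kˣ) : k)) hη
    simpa using h1
  let y : WithConv (C →ₐ[R] k) := x * (pre hD)⁻¹
  have hy : y ^ ((n + 1) * t) = 1 := by
    have hc : Commute x (pre hD)⁻¹ := mul_comm _ _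
    rw [hc.mul_pow, inv_pow, hh, ← pow_mul, mul_inv_cancel]
  have hye : y.ofConv e ≠ 0 := fun h => by
    obtain ⟨yD, hyD⟩ := hmem y h
    refine hx ?_
    have h1 : x = pre (yD * hD) := by rw [map_mul, hyD, inv_mul_cancel_right]
    rw [h1]
    exact hpre0 _
  -- the torsion point comes from a finite scheme
  refine hye (?_ : y.ofConv e = 0)
  have hle : SGA3b.torsionIdeal R C ((n + 1) * t) ≤ RingHom.ker y.ofConv.toRingHom := by
    refine Ideal.map_le_iff_le_comap.mpr fun c hc => ?_
    show y.ofConv ((toConv (AlgHom.id R C) ^ ((n + 1) * t)).ofConv c) = 0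
    have h1 : convMap y.ofConv (toConv (AlgHom.id R C) ^ ((n + 1) * t)) = 1 := by
      rw [map_pow, ← hy]
      rfl
    refine (congrArg (fun f : WithConv (C →ₐ[R] k) => f.ofConv c) h1).trans ?_
    show algebraMap R k (counit c) = 0
    rw [show counit (R := R) c = 0 from hc, map_zero]
  exact hle (htor _ (Nat.mul_pos n.succ_pos ht))

section BaseChange

variable {R : Type u} [CommRing R] (T : Type u) [CommRing T] [Algebra R T]
variable {C : Type u} [CommRing C] [HopfAlgebra R C]

/-- Points of a base change restrict to points. -/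
def restrictPoint (X : Type u) [CommRing X] [Algebra R X] [Algebra T X] [IsScalarTower R T X] :
    WithConv (T ⊗[R] C →ₐ[T] X) →* WithConv (C →ₐ[R] X) where
  toFun f := toConv ((f.ofConv.restrictScalars R).comp (SemiBialgHom.baseChange R T C).toAlgHom)
  map_one' := by
    refine WithConv.ext (AlgHom.ext fun c => ?_)
    show algebraMap T X (counit ((SemiBialgHom.baseChange R T C).toAlgHom c)) = algebraMap R X (counit c)
    rw [(SemiBialgHom.baseChange R T C).counit_comp, IsScalarTower.algebraMap_apply R T X]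
  map_mul' f g := by
    refine WithConv.ext (AlgHom.ext fun c => ?_)
    show (f * g).ofConv ((SemiBialgHom.baseChange R T C).toAlgHom c) = _
    rw [AlgHom.convMul_apply, (SemiBialgHom.baseChange R T C).comul_comp]
    refine Eq.trans ?_ (AlgHom.convMul_apply
      (toConv ((f.ofConv.restrictScalars R).comp (SemiBialgHom.baseChange R T C).toAlgHom))
      (toConv ((g.ofConv.restrictScalars R).comp (SemiBialgHom.baseChange R T C).toAlgHom)) c).symm
    generalize comul (R := R) c = z
    induction z using TensorProduct.induction_on with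
    | zero => simp
    | add a b ha hb => simp only [map_add, ha, hb]
    | tmul a b => simp

theorem tmul_mem_torsionIdeal (n : ℕ) {c : C} (hc : c ∈ SGA3b.torsionIdeal R C n) :
    (1 : T) ⊗ₜ[R] c ∈ SGA3b.torsionIdeal T (T ⊗[R] C) n := by
  let iR : C →ₐ[R] T ⊗[R] C := Algebra.TensorProduct.includeRight
  suffices hle : SGA3b.torsionIdeal R C n ≤ (SGA3b.torsionIdeal T (T ⊗[R] C) n).comap iR from hle hc
  refine Ideal.map_le_iff_le_comap.mpr fun a ha => ?_
  have h : convMap iR (toConv (AlgHom.id R C) ^ n) =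
      restrictPoint T (T ⊗[R] C) (toConv (AlgHom.id T (T ⊗[R] C)) ^ n) := by
    rw [map_pow, map_pow]
    rfl
  show iR ((toConv (AlgHom.id R C) ^ n).ofConv a) ∈ SGA3b.torsionIdeal T (T ⊗[R] C) n
  rw [show iR ((toConv (AlgHom.id R C) ^ n).ofConv a) =
      SGA3b.powConv T (T ⊗[R] C) n ((1 : T) ⊗ₜ[R] a) from
    congrArg (fun f : WithConv (C →ₐ[R] T ⊗[R] C) => f.ofConv a) h]
  refine Ideal.mem_map_of_mem _ ?_
  show counit (R := T) ((1 : T) ⊗ₜ[R] a) = 0
  rw [TensorProduct.counit_tmul, show counit (R := R) a = 0 from ha, zero_smul]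

theorem finite_torsion_baseChange (n : ℕ) [Module.Finite R (C ⧸ SGA3b.torsionIdeal R C n)] :
    Module.Finite T ((T ⊗[R] C) ⧸ SGA3b.torsionIdeal T (T ⊗[R] C) n) := by
  let J := SGA3b.torsionIdeal R C n
  let J' := SGA3b.torsionIdeal T (T ⊗[R] C) n
  let iR : C →ₐ[R] (T ⊗[R] C) ⧸ J' :=
    (Ideal.Quotient.mkₐ R J').comp Algebra.TensorProduct.includeRight
  let f : T ⊗[R] (C ⧸ J) →ₐ[T] (T ⊗[R] C) ⧸ J' := Algebra.TensorProduct.lift (Algebra.ofId T _)
    (Ideal.Quotient.liftₐ J iR fun c hc => Ideal.Quotient.eq_zero_iff_mem.mpr (tmul_mem_torsionIdeal T n hc))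
    fun _ _ => .all _ _
  refine Module.Finite.of_surjective f.toLinearMap fun z => ?_
  obtain ⟨z, rfl⟩ := Ideal.Quotient.mk_surjective z
  induction z using TensorProduct.induction_on with
  | zero => exact ⟨0, map_zero _⟩
  | add a b ha hb =>
    obtain ⟨x, hx⟩ := ha
    obtain ⟨y, hy⟩ := hb
    exact ⟨x + y, by rw [map_add, hx, hy, map_add]⟩
  | tmul t c =>
    refine ⟨t ⊗ₜ Ideal.Quotient.mk J c, ?_⟩
    show algebraMap T _ t * iR c = _
    rw [← Algebra.smul_def, show iR c = Ideal.Quotient.mkₐ T J' ((1 : T) ⊗ₜ[R] c) from rfl, ← map_smul,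
      TensorProduct.smul_tmul', smul_eq_mul, mul_one]
    rfl

end BaseChange

/-- Idempotents in the closed fibre ideal of a finite algebra over a local ring vanish. -/
theorem idem_eq_zero_of_finite {T : Type u} [CommRing T] [IsLocalRing T] {A : Type u} [CommRing A] [Algebra T A]
    [Module.Finite T A] {e : A} (he : IsIdempotentElem e) (hm : e ∈ (maximalIdeal T).map (algebraMap T A)) :
    e = 0 := by
  have hjac : e ∈ Ideal.jacobson (⊥ : Ideal A) := by
    rw [Ideal.jacobson, Ideal.mem_sInf]
    intro M hM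
    have := hM.2
    have h1 : (M.comap (algebraMap T A)).IsMaximal := Ideal.isMaximal_comap_of_isIntegral_of_isMaximal M
    exact Ideal.map_le_iff_le_comap.mpr (le_of_eq (eq_maximalIdeal h1).symm) hm
  have hu : IsUnit (1 - e) := by
    have := Ideal.mem_jacobson_bot.mp hjac (-1)
    rwa [mul_neg, mul_one, neg_add_eq_sub] at this
  exact (hu.mul_left_eq_zero).mp (show e * (1 - e) = 0 by rw [mul_sub, mul_one, he.eq, sub_self])

/-- An isotrivial full subgroup gives multiplicative type. -/
theorem isMultType_of_idem_zero {R : Type u} [CommRing R] {C : Type u} [CommRing C] [HopfAlgebra R C]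
    (T : Type u) [CommRing T] [Algebra R T] [Module.FaithfullyFlat R T] {D : Type u} [CommRing D] [HopfAlgebra T D]
    (π : T ⊗[R] C →ₐc[T] D) (hπ : Function.Surjective π) (hinj : ∀ x, π x = 0 → x = 0)
    (hiso : SGA3b.IsIsotrivial T D) : SGA3b.IsMultType R C := by
  let φ : T ⊗[R] C ≃ₐc[T] D := BialgEquiv.ofBijective π ⟨(injective_iff_map_eq_zero _).mpr hinj, hπ⟩
  obtain ⟨E, _, _, _, _, _, hd⟩ := hiso
  let _ : Algebra R E := ((algebraMap T E).comp (algebraMap R T)).toAlgebra
  have : IsScalarTower R T E := IsScalarTower.of_algebraMap_eq fun _ => rfl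
  have : Module.FaithfullyFlat R E := Module.FaithfullyFlat.trans R T E
  exact isMultType_of_ff E (isDiag_congr (baseChangeTrans (R := R) T E C).symm
    (isDiag_congr (congrBase E φ).symm hd))

/-- Local criterion: finite torsion, flat and of multiplicative type at the closed fibre. -/
theorem isMultType_local_of_torsion {R : Type u} [CommRing R] [IsLocalRing R] {C : Type u} [CommRing C]
    [HopfAlgebra R C] [Coalgebra.IsCocomm R C] [Algebra.FinitePresentation R C]
    (hfl : ∀ (q : Ideal C) [q.IsPrime], Ideal.map (algebraMap R C) (maximalIdeal R) ≤ q →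
      Module.Flat R (Localization.AtPrime q))
    (hs : SGA3b.IsMultType (ResidueField R) (ResidueField R ⊗[R] C))
    (hfin : ∀ n : ℕ, 0 < n → Module.Finite R (C ⧸ SGA3b.torsionIdeal R C n)) : SGA3b.IsMultType R C := by
  obtain ⟨T, _, _, _, _, e, he, hem, hce, D, _, _, π, hπ, hker, hiso⟩ := exists_local_idem hfl hs
  have h0 : e = 0 := idem_eq_zero_of_torsion inferInstance he hce π hπ hker hiso fun N hN => by
    have := hfin N hN
    have := finite_torsion_baseChange (R := R) T (C := C) N
    refine Ideal.Quotient.eq_zero_iff_mem.mp (idem_eq_zero_of_finite (T := T) (he.map (Ideal.Quotient.mk _)) ?_)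
    have h := Ideal.mem_map_of_mem (Ideal.Quotient.mk (SGA3b.torsionIdeal T (T ⊗[R] C) N)) hem
    rwa [Ideal.map_map] at h
  refine isMultType_of_idem_zero T π hπ (fun x hx => ?_) hiso
  have h := (hker x).mp hx
  rw [h0, Ideal.span_singleton_eq_bot.mpr rfl] at h
  exact h

end Groth.Agent.MultTypeLib
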