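import Groth.Agent.MultTypeLib.ConjNilLift
import Groth.Agent.MultTypeLib.SubgroupTransporter
import Groth.Agent.GrpSchLib.Shear

/-!
# Transporters of closed subgroups of multiplicative type of smooth groups

No affineness is required of the ambient group.
-/

universe u

open CategoryTheory CategoryTheory.Limits MonoidalCategory CartesianMonoidalCategory MonObj AlgebraicGeometry
open scoped CategoryTheory.Obj

namespace Groth.Agent.MultTypeLib.GenTransporter

open SubgroupLift GenMultType HomLift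

variable {S : Scheme.{u}} {H₁ H₂ G : Over S} [GrpObj H₁] [GrpObj H₂] [GrpObj G]

set_option maxHeartbeats 800000 in
/-- Transporting points of subgroups lift along nilpotent ideals. -/
theorem exists_lift_stransp (hH₁ : SGA3x.IsMultTypeFT H₁) (hH₂ : SGA3x.IsMultTypeFT H₂) [Smooth G.hom]
    (i₁ : H₁ ⟶ G) [IsMonHom i₁] [Mono i₁] (i₂ : H₂ ⟶ G) [IsMonHom i₂] [Mono i₂] {B : Type u} [CommRing B]
    (t : Spec (CommRingCat.of B) ⟶ S) (J : Ideal B) (hJ : IsNilpotent J)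
    (g₀ : GenLift.PT t (Ideal.Quotient.mk J) ⟶ G) (h0 : STransp i₁ i₂ g₀) :
    ∃ g : Over.mk t ⟶ G, GenLift.ptm t (Ideal.Quotient.mk J) ≫ g = g₀ ∧ STransp i₁ i₂ g := by
  let F := Over.pullback t
  let adj := Over.mapPullbackAdj t
  have hmul : ∀ {X : Over (Spec (CommRingCat.of B))} (a b : (Over.map t).obj X ⟶ G),
      adj.homEquiv X G (a * b) = adj.homEquiv X G a * adj.homEquiv X G b := by
    intro X a b
    rw [Adjunction.homEquiv_unit, Adjunction.homEquiv_unit, Adjunction.homEquiv_unit, Functor.map_mul,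
      MonObj.comp_mul]
  haveI : Smooth (F.obj G).hom := inferInstanceAs (Smooth (pullback.snd G.hom t))
  haveI : IsMonHom (F.map i₁) := inferInstance
  haveI : IsMonHom (F.map i₂) := inferInstance
  haveI : Mono (F.map i₁) := inferInstance
  haveI : Mono (F.map i₂) := inferInstance
  have hST : STransp (F.map i₁) (F.map i₂) (adj.homEquiv (P₀ J) G g₀) :=
    SubgroupTransporter.stransp_bc t (X₀ := P₀ J) (g := g₀) h0
  obtain ⟨φ, hφm, hφ⟩ := exists_iso_lift J hJ (H := F.obj H₁) (H' := F.obj H₂) (G := F.obj G)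
    (isMT_bc t (of_multTypeFT hH₁)) (isMT_bc t (of_multTypeFT hH₂)) (F.map i₁) (F.map i₂) _ hST
  haveI := hφm
  obtain ⟨g, hg, hgc⟩ := ConjNilLift.exists_conj_lift J hJ (H := F.obj H₁) (G := F.obj G)
    (isMT_bc t (of_multTypeFT hH₁)) (F.map i₁) (φ.hom ≫ F.map i₂) _ hφ
  let e : Over.mk t ≅ (Over.map t).obj (𝟙_ (Over (Spec (CommRingCat.of B)))) :=
    Over.isoMk (Iso.refl _) (by
      show 𝟙 _ ≫ 𝟙 _ ≫ t = t
      rw [Category.id_comp, Category.id_comp])
  obtain ⟨g', hg'⟩ := (adj.homEquiv (𝟙_ (Over (Spec (CommRingCat.of B)))) G).surjective g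
  have hnat : (Over.map t).map (toUnit (P₀ J)) ≫ g' = g₀ := by
    apply (adj.homEquiv (P₀ J) G).injective
    rw [Adjunction.homEquiv_naturality_left, hg', hg]
  refine ⟨e.hom ≫ g', ?_, ?_⟩
  · have e1 : GenLift.ptm t (Ideal.Quotient.mk J) ≫ e.hom = (Over.map t).map (toUnit (P₀ J)) := by
      refine Over.OverMorphism.ext ?_
      show Spec.map _ ≫ 𝟙 _ = _
      rw [Category.comp_id]
      exact ((Category.comp_id _).symm.trans (Over.w (toUnit (P₀ J)))).symm
    rw [← Category.assoc, e1, hnat]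
  · intro X' x
    have hconj : ∀ (Y : Over (Spec (CommRingCat.of B))) (a : Y ⟶ F.obj H₁),
        a ≫ φ.hom ≫ F.map i₂ = (toUnit Y ≫ g) * (a ≫ F.map i₁) * (toUnit Y ≫ g)⁻¹ := hgc
    let Y : Over (Spec (CommRingCat.of B)) := Over.mk x.left
    let ε : X' ≅ (Over.map t).obj Y := Over.isoMk (Iso.refl _) (by
      show 𝟙 _ ≫ x.left ≫ t = X'.hom
      rw [Category.id_comp]
      exact Over.w x)
    let Φ : ((Over.map t).obj Y ⟶ G) →* (Y ⟶ F.obj G) := MonoidHom.mk' (adj.homEquiv Y G) hmul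
    have hx : Φ (ε.inv ≫ x ≫ e.hom ≫ g') = toUnit Y ≫ g := by
      show adj.homEquiv Y G _ = _
      rw [← hg', ← Adjunction.homEquiv_naturality_left, ← Category.assoc x, ← Category.assoc ε.inv]
      congr 2
    refine ⟨fun a => ?_, fun a => ?_⟩
    · refine ⟨ε.hom ≫ (adj.homEquiv Y H₂).symm (adj.homEquiv Y H₁ (ε.inv ≫ a) ≫ φ.hom), ?_⟩
      rw [← cancel_epi ε.inv]
      apply (adj.homEquiv Y G).injective
      show Φ _ = Φ _
      simp only [MonObj.comp_mul, GrpObj.comp_inv, map_mul, map_inv, hx, Category.assoc, Iso.inv_hom_id_assoc]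
      show _ * adj.homEquiv Y G (ε.inv ≫ a ≫ i₁) * _ = adj.homEquiv Y G _
      rw [← Category.assoc ε.inv a]
      generalize ε.inv ≫ a = a'
      rw [Adjunction.homEquiv_naturality_right, Adjunction.homEquiv_naturality_right,
        Equiv.apply_symm_apply, Category.assoc, hconj]
    · refine ⟨ε.hom ≫ (adj.homEquiv Y H₁).symm (adj.homEquiv Y H₂ (ε.inv ≫ a) ≫ φ.inv), ?_⟩
      rw [← cancel_epi ε.inv]
      apply (adj.homEquiv Y G).injective
      show Φ _ = Φ _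
      simp only [MonObj.comp_mul, GrpObj.comp_inv, map_mul, map_inv, hx, Category.assoc, Iso.inv_hom_id_assoc]
      show _ * adj.homEquiv Y G (ε.inv ≫ a ≫ i₂) * _ = adj.homEquiv Y G _
      rw [← Category.assoc ε.inv a]
      generalize ε.inv ≫ a = a'
      rw [Adjunction.homEquiv_naturality_right, Adjunction.homEquiv_naturality_right,
        Equiv.apply_symm_apply]
      have h := hconj Y (adj.homEquiv Y H₂ a' ≫ φ.inv)
      simp only [Category.assoc, Iso.inv_hom_id_assoc] at h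
      rw [h, Category.assoc]
      group
      rfl

/-- The transporter of two subgroups of multiplicative type of a smooth separated group is a smooth closed subscheme. -/
theorem exists_transporter (hH₁ : SGA3x.IsMultTypeFT H₁) (hH₂ : SGA3x.IsMultTypeFT H₂) [Smooth G.hom]
    (i₁ : H₁ ⟶ G) [IsMonHom i₁] [IsClosedImmersion i₁.left] (i₂ : H₂ ⟶ G) [IsMonHom i₂] [IsClosedImmersion i₂.left] :
    ∃ (T : Over S) (j : T ⟶ G), IsClosedImmersion j.left ∧ Smooth T.hom ∧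
      ∀ (X : Over S) (g : X ⟶ G), (∃ t : X ⟶ T, t ≫ j = g) ↔ STransp i₁ i₂ g := by
  obtain ⟨hA₁, hE₁⟩ := TransLib.multTypeFT_essFree hH₁
  obtain ⟨hA₂, hE₂⟩ := TransLib.multTypeFT_essFree hH₂
  haveI : Mono i₁ := (Over.forget _).mono_of_mono_map (inferInstanceAs (Mono i₁.left))
  haveI : Mono i₂ := (Over.forget _).mono_of_mono_map (inferInstanceAs (Mono i₂.left))
  obtain ⟨T₁, c₁, hc₁, hf₁, hT₁⟩ := TransLib.exists_closed_universal_essFree (X := G) hE₁
    (snd H₁ G * (fst H₁ G ≫ i₁) * (snd H₁ G)⁻¹) i₂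
  obtain ⟨T₂, c₂, hc₂, hf₂, hT₂⟩ := TransLib.exists_closed_universal_essFree (X := G) hE₂
    ((snd H₂ G)⁻¹ * (fst H₂ G ≫ i₂) * snd H₂ G) i₁
  have k₁ : ∀ (X : Over S) (g : X ⟶ G), (∃ t : X ⟶ T₁, t ≫ c₁ = g) ↔ ∀ (X' : Over S) (x : X' ⟶ X),
      ∀ a : X' ⟶ H₁, ∃ b : X' ⟶ H₂, (x ≫ g) * (a ≫ i₁) * (x ≫ g)⁻¹ = b ≫ i₂ := fun X g => by
    refine (hT₁ g).trans ⟨fun ⟨l, hl⟩ X' x a => ?_, fun h => ?_⟩
    · refine ⟨lift a x ≫ l, ?_⟩
      rw [Category.assoc, hl]
      simp [MonObj.comp_mul, GrpObj.comp_inv, lift_whiskerLeft_assoc]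
    · obtain ⟨b, hb⟩ := h (H₁ ⊗ X) (snd H₁ X) (fst H₁ X)
      exact ⟨b, by rw [← hb]; simp [MonObj.comp_mul, GrpObj.comp_inv]⟩
  have k₂ : ∀ (X : Over S) (g : X ⟶ G), (∃ t : X ⟶ T₂, t ≫ c₂ = g) ↔ ∀ (X' : Over S) (x : X' ⟶ X),
      ∀ a : X' ⟶ H₂, ∃ b : X' ⟶ H₁, (x ≫ g)⁻¹ * (a ≫ i₂) * (x ≫ g) = b ≫ i₁ := fun X g => by
    refine (hT₂ g).trans ⟨fun ⟨l, hl⟩ X' x a => ?_, fun h => ?_⟩
    · refine ⟨lift a x ≫ l, ?_⟩
      rw [Category.assoc, hl]
      simp [MonObj.comp_mul, GrpObj.comp_inv, lift_whiskerLeft_assoc]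
    · obtain ⟨b, hb⟩ := h (H₂ ⊗ X) (snd H₂ X) (fst H₂ X)
      exact ⟨b, by rw [← hb]; simp [MonObj.comp_mul, GrpObj.comp_inv]⟩
  haveI : LocallyOfFinitePresentation c₁.left := hf₁ inferInstance (SubgroupTransporter.lfp_of_mono hH₂ i₂)
  haveI : LocallyOfFinitePresentation c₂.left := hf₂ inferInstance (SubgroupTransporter.lfp_of_mono hH₁ i₁)
  haveI : IsClosedImmersion c₁.left := hc₁
  haveI : IsClosedImmersion c₂.left := hc₂
  let T : Over S := Over.mk ((pullback.fst c₁.left c₂.left ≫ c₁.left) ≫ G.hom)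
  let j : T ⟶ G := Over.homMk (pullback.fst c₁.left c₂.left ≫ c₁.left) rfl
  haveI hj : IsClosedImmersion j.left := inferInstanceAs (IsClosedImmersion (pullback.fst c₁.left c₂.left ≫ c₁.left))
  have key : ∀ (X : Over S) (g : X ⟶ G), (∃ t : X ⟶ T, t ≫ j = g) ↔ STransp i₁ i₂ g := fun X g => by
    have hs : STransp i₁ i₂ g ↔ (∃ t : X ⟶ T₁, t ≫ c₁ = g) ∧ (∃ t : X ⟶ T₂, t ≫ c₂ = g) := by
      rw [k₁, k₂]
      exact ⟨fun h => ⟨fun X' x => (h X' x).1, fun X' x => (h X' x).2⟩, fun h X' x => ⟨h.1 X' x, h.2 X' x⟩⟩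
    rw [hs]
    constructor
    · rintro ⟨t, rfl⟩
      refine ⟨⟨Over.homMk (t.left ≫ pullback.fst c₁.left c₂.left) ?_, Over.OverMorphism.ext (Category.assoc _ _ _)⟩,
        ⟨Over.homMk (t.left ≫ pullback.snd c₁.left c₂.left) ?_, Over.OverMorphism.ext ?_⟩⟩
      · rw [← Over.w t, ← Over.w c₁]
        simp [T]
      · rw [← Over.w t, ← Over.w c₂]
        simp only [T, Over.mk_hom, pullback.condition, Category.assoc]
      · show (t.left ≫ pullback.snd c₁.left c₂.left) ≫ c₂.left = t.left ≫ pullback.fst c₁.left c₂.left ≫ c₁.left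
        rw [Category.assoc, pullback.condition]
    · rintro ⟨⟨a, ha⟩, ⟨b, hb⟩⟩
      have hab : a.left ≫ c₁.left = b.left ≫ c₂.left := congrArg CommaMorphism.left (ha.trans hb.symm)
      refine ⟨Over.homMk (pullback.lift a.left b.left hab) ?_, Over.OverMorphism.ext ?_⟩
      · show _ ≫ (pullback.fst c₁.left c₂.left ≫ c₁.left) ≫ G.hom = _
        rw [Category.assoc, Over.w c₁, pullback.lift_fst_assoc, Over.w a]
      · show pullback.lift a.left b.left hab ≫ pullback.fst c₁.left c₂.left ≫ c₁.left = g.left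
        rw [pullback.lift_fst_assoc, ← Over.comp_left, ha]
  haveI : LocallyOfFinitePresentation j.left :=
    inferInstanceAs (LocallyOfFinitePresentation (pullback.fst c₁.left c₂.left ≫ c₁.left))
  haveI : LocallyOfFinitePresentation T.hom := by rw [← Over.w j]; infer_instance
  refine ⟨T, j, hj, (Groth.Agent.S1488.result T.hom).mpr ⟨inferInstance, fun B _ J hJ p₀ t hp₀ => ?_⟩, key⟩
  obtain ⟨g, hg, hgS⟩ := exists_lift_stransp hH₁ hH₂ i₁ i₂ t J ⟨2, hJ⟩
    ((Over.homMk p₀ hp₀.symm : GenLift.PT t (Ideal.Quotient.mk J) ⟶ T) ≫ j) ((key _ _).mp ⟨_, rfl⟩)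
  obtain ⟨p, hp⟩ := (key _ g).mpr hgS
  haveI : Mono j := (Over.forget _).mono_of_mono_map (inferInstanceAs (Mono j.left))
  have e : GenLift.ptm t (Ideal.Quotient.mk J) ≫ p = Over.homMk p₀ hp₀.symm := by
    rw [← cancel_mono j, Category.assoc, hp, hg]
  exact ⟨p.left, congrArg (fun m => CommaMorphism.left m) e, Over.w p⟩

/-- The normalizer of a subgroup of multiplicative type of a smooth separated group is a smooth closed subgroup. -/
theorem exists_normalizer (hH : SGA3x.IsMultTypeFT H₁) [Smooth G.hom] (i : H₁ ⟶ G) [IsMonHom i]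
    [IsClosedImmersion i.left] :
    ∃ (N : Over S) (_ : GrpObj N) (j : N ⟶ G), Red.IsNormalizerOf i j ∧ IsClosedImmersion j.left ∧ Smooth N.hom := by
  obtain ⟨N, j, hj, hNs, hN⟩ := exists_transporter hH hH i i
  haveI : IsClosedImmersion j.left := hj
  haveI : Mono j := (Over.forget _).mono_of_mono_map (inferInstanceAs (Mono j.left))
  obtain ⟨e', he'⟩ := (hN _ η[G]).mpr fun X' x => by
    rw [show x ≫ η[G] = (1 : X' ⟶ G) by rw [Hom.one_def, toUnit_unique x (toUnit _)]]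
    exact ⟨fun a => ⟨a, by simp⟩, fun a => ⟨a, by simp⟩⟩
  obtain ⟨m', hm'⟩ := (hN _ ((fst N N ≫ j) * (snd N N ≫ j))).mpr fun X' x => by
    have h1 := (hN _ _).mp ⟨x ≫ fst N N, rfl⟩ X' (𝟙 _)
    have h2 := (hN _ _).mp ⟨x ≫ snd N N, rfl⟩ X' (𝟙 _)
    simp only [Category.id_comp] at h1 h2
    simp only [MonObj.comp_mul, ← Category.assoc]
    refine ⟨fun a => ?_, fun a => ?_⟩
    · obtain ⟨b, hb⟩ := h2.1 a
      obtain ⟨c, hc⟩ := h1.1 b
      exact ⟨c, by rw [← hc, ← hb]; group⟩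
    · obtain ⟨b, hb⟩ := h1.2 a
      obtain ⟨c, hc⟩ := h2.2 b
      exact ⟨c, by rw [← hc, ← hb]; group⟩
  obtain ⟨v', hv'⟩ := (hN _ j⁻¹).mpr fun X' x => by
    have h := (hN _ _).mp ⟨𝟙 N, rfl⟩ X' x
    simp only [Category.id_comp] at h
    simp only [GrpObj.comp_inv, inv_inv]
    exact ⟨h.2, h.1⟩
  obtain ⟨str, hstr⟩ := GrpSchLib.exists_grpObj_of_mono j e' he' m' hm' v' hv'
  exact ⟨N, str, j, ⟨hstr, ‹Mono j›, fun X g => (hN X g).trans
    ⟨fun h X' x a => ⟨(h X' x).1 a, (h X' x).2 a⟩, fun h X' x => ⟨fun a => (h X' x a).1, fun a => (h X' x a).2⟩⟩⟩, hj, hNs⟩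

/-- The centralizer of a homomorphism into a smooth separated group is a smooth closed subgroup. -/
theorem exists_centralizer (hH : SGA3x.IsMultTypeFT H₁) [IsSeparated G.hom] [Smooth G.hom]
    (u : H₁ ⟶ G) [IsMonHom u] :
    ∃ (Z : Over S) (_ : GrpObj Z) (j : Z ⟶ G), Red.IsCentralizerOf u j ∧ IsClosedImmersion j.left ∧ Smooth Z.hom := by
  obtain ⟨Z, j, hj, hjfp, hZ'⟩ := FixedSmooth.exists_fixed_locus hH (GenLift.conjAction u u)
  haveI := hj
  haveI := hjfp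
  have hZs : Smooth Z.hom := FixedSmooth.smooth_fixed hH (GenLift.conjAction u u) Z j hZ'
  have hZ : ∀ (X : Over S) (g : X ⟶ G), (∃ z : X ⟶ Z, z ≫ j = g) ↔ TransporterLift.Transp u u g := fun X g =>
    (hZ' X g).trans ((GenLift.fixPt_conj_iff u u g).trans
      ⟨fun h X' x a => (h X' x a).symm, fun h X' x a => (h X' x a).symm⟩)
  haveI : IsClosedImmersion j.left := hj
  haveI : Mono j := (Over.forget _).mono_of_mono_map (inferInstanceAs (Mono j.left))
  have htr : ∀ {X : Over S} (g : X ⟶ G), TransporterLift.Transp u u g ↔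
      ∀ (X' : Over S) (x : X' ⟶ X) (a : X' ⟶ H₁), Commute (x ≫ g) (a ≫ u) := fun g =>
    forall_congr' fun X' => forall_congr' fun x => forall_congr' fun a => mul_inv_eq_iff_eq_mul
  have hjc : ∀ {X : Over S} (z : X ⟶ Z) (X' : Over S) (x : X' ⟶ X) (a : X' ⟶ H₁),
      Commute (x ≫ z ≫ j) (a ≫ u) := fun z => (htr _).mp ((hZ _ _).mp ⟨z, rfl⟩)
  obtain ⟨e', he'⟩ := (hZ _ η[G]).mpr ((htr _).mpr fun X' x a => by
    rw [show x ≫ η[G] = (1 : X' ⟶ G) by rw [Hom.one_def, toUnit_unique x (toUnit _)]]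
    exact Commute.one_left _)
  obtain ⟨m', hm'⟩ := (hZ _ ((fst Z Z ≫ j) * (snd Z Z ≫ j))).mpr ((htr _).mpr fun X' x a => by
    rw [MonObj.comp_mul]
    exact (hjc (fst Z Z) X' x a).mul_left (hjc (snd Z Z) X' x a))
  obtain ⟨v', hv'⟩ := (hZ _ j⁻¹).mpr ((htr _).mpr fun X' x a => by
    rw [GrpObj.comp_inv]
    have := hjc (𝟙 Z) X' x a
    rw [Category.id_comp] at this
    exact this.inv_left)
  obtain ⟨str, hstr⟩ := GrpSchLib.exists_grpObj_of_mono j e' he' m' hm' v' hv'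
  exact ⟨Z, str, j, ⟨hstr, ‹Mono j›, fun X g => (hZ X g).trans (htr g)⟩, hj, hZs⟩


/-- A group with a closed subgroup affine over the base is separated. -/
theorem isSeparated_of_closed (i : H₁ ⟶ G) [IsMonHom i] [IsClosedImmersion i.left] [IsSeparated H₁.hom] :
    IsSeparated G.hom := by
  haveI : IsClosedImmersion η[H₁].left := by
    haveI : IsClosedImmersion (η[H₁].left ≫ H₁.hom) := by
      rw [Over.w η[H₁]]; exact inferInstanceAs (IsClosedImmersion (𝟙 S))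
    exact IsClosedImmersion.of_comp η[H₁].left H₁.hom
  refine (isSeparated_iff _).mpr ((GrpSchLib.diagonal_iff_unit @IsClosedImmersion).mpr ?_)
  rw [← IsMonHom.one_hom i, Over.comp_left]
  infer_instance

end Groth.Agent.MultTypeLib.GenTransporter
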