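import Groth.Agent.MultTypeLib.ConjLift
import Groth.Agent.MultTypeLib.SchemeBridge
import Mathlib.AlgebraicGeometry.Morphisms.Smooth

/-!
# Lifting points of transporters of homomorphisms out of groups of multiplicative type
-/

universe u

open CategoryTheory CategoryTheory.Limits MonoidalCategory CartesianMonoidalCategory MonObj AlgebraicGeometry
open TensorProduct WithConv

namespace Groth.Agent.MultTypeLib.TransporterLift

open GrpSchLib.AffineHopf

/-- A point of the transporter of two homomorphisms. -/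
def Transp {S : Scheme.{u}} {H G : Over S} [GrpObj G] (u₁ u₂ : H ⟶ G) {X : Over S} (g : X ⟶ G) : Prop :=
  ∀ (X' : Over S) (x : X' ⟶ X) (h : X' ⟶ H), (x ≫ g) * (h ≫ u₁) * (x ≫ g)⁻¹ = h ≫ u₂

attribute [local instance 2000] MultTypeLib.algConvGroup

theorem over_subsingleton {B : Type u} [CommRing B] {X : Over (Spec (CommRingCat.of B))} (f g : X ⟶ sp B B) : f = g := by
  have h : ∀ m : X ⟶ sp B B, m.left = X.hom := fun m => by
    have := Over.w m
    exact (Category.comp_id _).symm.trans ((congrArg (m.left ≫ ·) (Spec.map_id _).symm).trans this)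
  exact Over.OverMorphism.ext ((h f).trans (h g).symm)

set_option maxHeartbeats 800000 in
/-- Transporting points lift along nilpotent ideals, over an affine base. -/
theorem exists_lift_affine {B : Type u} [CommRing B] (H G : Over (Spec (CommRingCat.of B))) [GrpObj H] [GrpObj G]
    (hH : SGA3x.IsMultTypeFT H) [IsAffine G.left] [Smooth G.hom] (u₁ u₂ : H ⟶ G) [IsMonHom u₁] [IsMonHom u₂]
    (J : Ideal B) (hJ : IsNilpotent J) (g₀ : sp B (B ⧸ J) ⟶ G) (h0 : Transp u₁ u₂ g₀) :
    ∃ g : sp B B ⟶ G, spMap (Ideal.Quotient.mkₐ B J) ≫ g = g₀ ∧ Transp u₁ u₂ g := by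
  obtain ⟨A, _, _, hA, ⟨eH⟩⟩ := SchemeBridge.exists_hopf_multType H hH
  obtain ⟨C, _, _, ⟨eG⟩⟩ := exists_hopf G
  let eh : sp B A ⟶ H := eH.hom.hom.hom
  let eh' : H ⟶ sp B A := eH.inv.hom.hom
  have heh : eh' ≫ eh = 𝟙 H := congrArg (fun h => h.hom.hom) eH.inv_hom_id
  let θ : sp B C ⟶ G := eG.hom.hom.hom
  let θ' : G ⟶ sp B C := eG.inv.hom.hom
  have hθ : θ' ≫ θ = 𝟙 G := congrArg (fun h => h.hom.hom) eG.inv_hom_id
  have hθ' : θ ≫ θ' = 𝟙 (sp B C) := congrArg (fun h => h.hom.hom) eG.hom_inv_id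
  haveI : IsMonHom eh := eH.hom.hom.isMonHom_hom
  haveI : IsMonHom θ := eG.hom.hom.isMonHom_hom
  haveI : IsMonHom θ' := eG.inv.hom.isMonHom_hom
  haveI : Algebra.FormallySmooth B C := by
    haveI : IsIso θ := ⟨θ', hθ', hθ⟩
    haveI : IsIso θ.left := inferInstanceAs (IsIso ((Over.forget _).map θ))
    have h : Smooth (sp B C).hom := by
      rw [← Over.w θ]
      infer_instance
    have h' := RingHom.smooth_algebraMap.mp ((HasRingHomProperty.Spec_iff (P := @Smooth)
      (φ := CommRingCat.ofHom (algebraMap B C))).mp h)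
    exact h'.formallySmooth
  obtain ⟨mn⟩ := exists_mean hA
  obtain ⟨c₁, hc₁⟩ := exists_bialgHom (eh ≫ u₁ ≫ θ')
  obtain ⟨c₂, hc₂⟩ := exists_bialgHom (eh ≫ u₂ ≫ θ')
  obtain ⟨x₀', hx₀'⟩ := exists_eq_spMap (g₀ ≫ θ')
  let x₀ : C →ₐ[B] B := Algebra.FormallySmooth.lift J hJ x₀'
  have hx₀ : (Ideal.Quotient.mkₐ B J).comp x₀ = x₀' := Algebra.FormallySmooth.comp_lift J hJ x₀'
  let J' : Ideal A := J.map (algebraMap B A)
  let π : A →ₐ[B] A ⧸ J' := Ideal.Quotient.mkₐ B J'
  let ι₀ : B ⧸ J →ₐ[B] A ⧸ J' := Ideal.Quotient.liftₐ J (Algebra.ofId B (A ⧸ J')) fun b hb => by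
    show algebraMap B (A ⧸ J') b = 0
    rw [IsScalarTower.algebraMap_apply B A (A ⧸ J'), Ideal.Quotient.algebraMap_eq, Ideal.Quotient.eq_zero_iff_mem]
    exact Ideal.mem_map_of_mem _ hb
  let P : ∀ (T : Type u) [CommRing T] [Algebra B T], WithConv (C →ₐ[B] T) ≃* (sp B T ⟶ sp B C) := fun T _ _ =>
    Spec.mapMulEquiv
  have hP : ∀ (T : Type u) [CommRing T] [Algebra B T] (f : C →ₐ[B] T), P T (toConv f) = spMap f := fun T _ _ f => rfl
  have hcong : Cong J (lin (conjPt (toConv x₀) (toConv (c₁ : C →ₐ[B] A)))) (lin (toConv (c₂ : C →ₐ[B] A))) := by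
    have key : convMap π (conjPt (toConv x₀) (toConv (c₁ : C →ₐ[B] A))) = convMap π (toConv (c₂ : C →ₐ[B] A)) := by
      apply (P (A ⧸ J')).injective
      have h := congrArg (· ≫ θ') (h0 (sp B (A ⧸ J')) (spMap ι₀) (spMap π ≫ eh))
      simp only [MonObj.mul_comp, GrpObj.inv_comp, Category.assoc, hc₁, hc₂, hx₀', spMap_comp] at h
      have e0 : ι₀.comp x₀' = (Algebra.ofId B (A ⧸ J')).comp x₀ := by
        rw [← hx₀, ← AlgHom.comp_assoc]
        congr 1
      rw [e0] at h
      simp only [conjPt, map_mul, map_inv, convMap_ofId]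
      exact h
    intro c
    rw [Ideal.smul_top_eq_map]
    have := congrArg (fun f => f.ofConv c) key
    exact Ideal.Quotient.eq.mp this
  obtain ⟨x, hx, hxb⟩ := mn.exists_conjPt hJ (isHomPt_bialgHom c₁) (isHomPt_bialgHom c₂) (toConv x₀) hcong
  refine ⟨spMap x.ofConv ≫ θ, ?_, fun X' t h => ?_⟩
  · rw [← Category.assoc, spMap_comp]
    have e : (Ideal.Quotient.mkₐ B J).comp x.ofConv = x₀' := by
      rw [← hx₀]
      refine AlgHom.ext fun c => Ideal.Quotient.eq.mpr ?_
      have h := hx c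
      rwa [Ideal.smul_top_eq_map, Algebra.algebraMap_self, Ideal.map_id] at h
    rw [e, ← hx₀', Category.assoc, hθ, Category.comp_id]
  · have huniv : (spMap (Algebra.ofId B A) ≫ spMap x.ofConv ≫ θ) * (eh ≫ u₁) *
        (spMap (Algebra.ofId B A) ≫ spMap x.ofConv ≫ θ)⁻¹ = eh ≫ u₂ := by
      have h := congrArg (P A) hxb
      simp only [conjPt, map_mul, map_inv] at h
      rw [show P A (convMap (Algebra.ofId B A) x) = spMap (Algebra.ofId B A) ≫ spMap x.ofConv from
          (spMap_comp _ _).symm,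
        show P A (toConv (c₁ : C →ₐ[B] A)) = eh ≫ u₁ ≫ θ' from hc₁.symm,
        show P A (toConv (c₂ : C →ₐ[B] A)) = eh ≫ u₂ ≫ θ' from hc₂.symm] at h
      have h' := congrArg (· ≫ θ) h
      simp only [MonObj.mul_comp, GrpObj.inv_comp, Category.assoc, hθ, Category.comp_id] at h'
      exact h'
    have := congrArg (fun f => (h ≫ eh') ≫ f) huniv
    simp only [MonObj.comp_mul, GrpObj.comp_inv, ← Category.assoc] at this
    rw [show ((h ≫ eh') ≫ eh) = h by rw [Category.assoc, heh, Category.comp_id],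
      over_subsingleton ((h ≫ eh') ≫ spMap (Algebra.ofId B A)) t] at this
    simpa only [Category.assoc] using this

/-- Transporting points lift along nilpotent thickenings of affine schemes over the base. -/
theorem exists_lift {S : Scheme.{u}} (H G : Over S) [GrpObj H] [GrpObj G] (hH : SGA3x.IsMultTypeFT H)
    [IsAffineHom G.hom] [Smooth G.hom] (u₁ u₂ : H ⟶ G) [IsMonHom u₁] [IsMonHom u₂]
    {B : Type u} [CommRing B] (t : Spec (CommRingCat.of B) ⟶ S) (J : Ideal B) (hJ : IsNilpotent J)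
    (g₀ : (Over.map t).obj (sp B (B ⧸ J)) ⟶ G) (h0 : Transp u₁ u₂ g₀) :
    ∃ g : (Over.map t).obj (sp B B) ⟶ G,
      (Over.map t).map (spMap (Ideal.Quotient.mkₐ B J)) ≫ g = g₀ ∧ Transp u₁ u₂ g := by
  let F := Over.pullback t
  let adj := Over.mapPullbackAdj t
  have hmul : ∀ {X : Over (Spec (CommRingCat.of B))} (a b : (Over.map t).obj X ⟶ G),
      adj.homEquiv X G (a * b) = adj.homEquiv X G a * adj.homEquiv X G b := by
    intro X a b
    rw [Adjunction.homEquiv_unit, Adjunction.homEquiv_unit, Adjunction.homEquiv_unit, Functor.map_mul,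
      MonObj.comp_mul]
  let Φ : ∀ X, (((Over.map t).obj X ⟶ G) →* (X ⟶ F.obj G)) := fun X => MonoidHom.mk' (adj.homEquiv X G) hmul
  have hΦ : ∀ X, Function.Injective (Φ X) := fun X => (adj.homEquiv X G).injective
  haveI : IsAffine (F.obj G).left := by
    haveI : IsAffineHom (F.obj G).hom := inferInstanceAs (IsAffineHom (pullback.snd G.hom t))
    exact isAffine_of_isAffineHom (F.obj G).hom
  haveI : Smooth (F.obj G).hom := inferInstanceAs (Smooth (pullback.snd G.hom t))
  haveI : IsMonHom (F.map u₁) := inferInstance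
  haveI : IsMonHom (F.map u₂) := inferInstance
  have hbwd : Transp (F.map u₁) (F.map u₂) (Φ _ g₀) := by
    intro X x h
    obtain ⟨h', rfl⟩ := (adj.homEquiv X H).surjective h
    have e := congrArg (Φ X) (h0 ((Over.map t).obj X) ((Over.map t).map x) h')
    rw [map_mul, map_mul, map_inv] at e
    simp only [Φ, MonoidHom.mk'_apply, Adjunction.homEquiv_naturality_left] at e
    simp only [Adjunction.homEquiv_naturality_right] at e
    exact e
  obtain ⟨g', hg', hg'T⟩ := exists_lift_affine (F.obj H) (F.obj G) (GrpSchLib.MultTypeBC.isMultTypeFT_bc t hH)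
    (F.map u₁) (F.map u₂) J hJ _ hbwd
  obtain ⟨g, rfl⟩ := (adj.homEquiv _ G).surjective g'
  refine ⟨g, (adj.homEquiv _ G).injective ?_, fun X' x h => ?_⟩
  · rw [Adjunction.homEquiv_naturality_left]
    exact hg'
  · let X : Over (Spec (CommRingCat.of B)) := Over.mk (x.left ≫ (sp B B).hom)
    let x₁ : X ⟶ sp B B := Over.homMk x.left rfl
    let e : X' ≅ (Over.map t).obj X := Over.isoMk (Iso.refl _) (by
      show 𝟙 _ ≫ (x.left ≫ (sp B B).hom) ≫ t = X'.hom
      rw [Category.id_comp, Category.assoc]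
      exact Over.w x)
    have hx : e.inv ≫ x = (Over.map t).map x₁ := Over.OverMorphism.ext (Category.id_comp _)
    rw [← cancel_epi e.inv]
    apply hΦ X
    have e' := hg'T X x₁ (adj.homEquiv X H (e.inv ≫ h))
    simp only [MonObj.comp_mul, GrpObj.comp_inv, ← Category.assoc, hx, map_mul, map_inv]
    simp only [Φ, MonoidHom.mk'_apply, Adjunction.homEquiv_naturality_left]
    simp only [Adjunction.homEquiv_naturality_right] at e' ⊢
    exact e'

end Groth.Agent.MultTypeLib.TransporterLift
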