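import Groth.Agent.GrpSchLib.Action
import Groth.Agent.DSPtsLib.Basic
import Groth.Agent.MultTypeLib.TransporterLift

/-!
# Fixed points of actions of groups of multiplicative type lift along square zero ideals

Given a lift `y` of a point fixed modulo `J`, the average `μ ∘ α` of its orbit `α` is a fixed lift. The cocycle identity of
the orbit is linear in first order neighbourhoods of `y`, which are all induced from the universal one
`C ⧸ (ker y ^ 2 + J ker y)`.
-/

universe u

open CategoryTheory CategoryTheory.Limits MonoidalCategory CartesianMonoidalCategory MonObj AlgebraicGeometry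
open TensorProduct WithConv

noncomputable section

namespace Groth.Agent.MultTypeLib.FixedLift

open GrpSchLib.AffineHopf

variable {S : Scheme.{u}} {B : Type u} [CommRing B] (t : Spec (CommRingCat.of B) ⟶ S)

/-- The spectrum of a `B`-algebra over `S`. -/
abbrev OT (T : Type u) [CommRing T] [Algebra B T] : Over S := (Over.map t).obj (sp B T)

/-- The spectrum of a map of algebras over `S`. -/
abbrev OTm {T T' : Type u} [CommRing T] [Algebra B T] [CommRing T'] [Algebra B T'] (f : T →ₐ[B] T') :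
    OT t T' ⟶ OT t T :=
  (Over.map t).map (spMap f)

theorem OTm_comp {T T' T'' : Type u} [CommRing T] [Algebra B T] [CommRing T'] [Algebra B T'] [CommRing T'']
    [Algebra B T''] (f : T →ₐ[B] T') (g : T' →ₐ[B] T'') : OTm t g ≫ OTm t f = OTm t (g.comp f) := by
  rw [← Functor.map_comp, spMap_comp]

theorem spMap_left_injective {T C : Type u} [CommRing T] [Algebra B T] [CommRing C] [Algebra B C] {f g : C →ₐ[B] T}
    (h : (spMap f).left = (spMap g).left) : f = g :=
  AlgHom.coe_ringHom_injective (congrArg CommRingCat.Hom.hom (Spec.map_injective h))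

variable {X : Over S} {C : Type u} [CommRing C] [Algebra B C] (v : sp B C ⟶ (Over.pullback t).obj X)

/-- The point of `X` given by a point of a chart. -/
def chartPt {T : Type u} [CommRing T] [Algebra B T] (c : C →ₐ[B] T) : OT t T ⟶ X :=
  DSPtsLib.theta t (spMap c ≫ v)

theorem OTm_chartPt {T T' : Type u} [CommRing T] [Algebra B T] [CommRing T'] [Algebra B T'] (f : T →ₐ[B] T')
    (c : C →ₐ[B] T) : OTm t f ≫ chartPt t v c = chartPt t v (f.comp c) := by
  rw [chartPt, chartPt, ← DSPtsLib.theta_comp, ← Category.assoc, spMap_comp]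

theorem chartPt_injective [IsOpenImmersion v.left] {T : Type u} [CommRing T] [Algebra B T] :
    Function.Injective (chartPt t v : (C →ₐ[B] T) → _) := fun f g h =>
  spMap_left_injective ((cancel_mono v.left).mp
    (congrArg (fun m => CommaMorphism.left m) ((DSPtsLib.theta_bijective (H := X) (Y := sp B T) t).1 h)))

/-- A point reducing into the chart lies in it. -/
theorem exists_chartPt [IsOpenImmersion v.left] {T : Type u} [CommRing T] [Algebra B T] (z : OT t T ⟶ X)
    (K : Ideal T) (hK : IsNilpotent K) (c₀ : C →ₐ[B] T ⧸ K)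
    (h : OTm t (Ideal.Quotient.mkₐ B K) ≫ z = chartPt t v c₀) : ∃ c : C →ₐ[B] T, chartPt t v c = z := by
  obtain ⟨z', rfl⟩ := (DSPtsLib.theta_bijective (H := X) (Y := sp B T) t).2 z
  rw [← DSPtsLib.theta_comp] at h
  have h' : spMap (Ideal.Quotient.mkₐ B K) ≫ z' = spMap c₀ ≫ v := (DSPtsLib.theta_bijective t).1 h
  have hr : Set.range z'.left ⊆ Set.range v.left := by
    rintro _ ⟨p, rfl⟩
    have hp : K ≤ (p : PrimeSpectrum T).asIdeal := fun x hx => by
      obtain ⟨n, hn⟩ := hK
      refine (p : PrimeSpectrum T).2.mem_of_pow_mem n ?_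
      have h1 := Ideal.pow_mem_pow hx n
      rw [hn, Ideal.zero_eq_bot, Ideal.mem_bot] at h1
      rw [h1]; exact Ideal.zero_mem _
    obtain ⟨q, rfl⟩ : p ∈ Set.range (spMap (Ideal.Quotient.mkₐ B K)).left := by
      show (p : PrimeSpectrum T) ∈ Set.range (PrimeSpectrum.comap (Ideal.Quotient.mk K))
      rw [range_comap_of_surjective _ _ Ideal.Quotient.mk_surjective, Ideal.mk_ker]
      exact hp
    refine ⟨(spMap c₀).left q, ?_⟩
    rw [← Scheme.Hom.comp_apply, ← Over.comp_left, ← h']
    rfl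
  let l₀ : (sp B T).left ⟶ (sp B C).left := IsOpenImmersion.lift v.left z'.left hr
  have hl : l₀ ≫ v.left = z'.left := IsOpenImmersion.lift_fac _ _ _
  let l : Spec (CommRingCat.of T) ⟶ Spec (CommRingCat.of C) := l₀
  have hψ : Spec.map (Spec.preimage l) = l := Spec.map_preimage l
  have hw : CommRingCat.ofHom (algebraMap B C) ≫ Spec.preimage l = CommRingCat.ofHom (algebraMap B T) := by
    apply Spec.map_injective
    rw [Spec.map_comp, hψ]
    have h2 : l₀ ≫ v.left ≫ ((Over.pullback t).obj X).hom = z'.left ≫ ((Over.pullback t).obj X).hom := by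
      rw [← Category.assoc, hl]
    rw [Over.w v, Over.w z'] at h2
    exact h2
  refine ⟨{ toRingHom := (Spec.preimage l).hom, commutes' := fun r => congrArg (fun m => m.hom r) hw }, ?_⟩
  refine congrArg (DSPtsLib.theta t) (Over.OverMorphism.ext ?_)
  show Spec.map (Spec.preimage l) ≫ v.left = z'.left
  exact (congrArg (· ≫ v.left) hψ).trans hl

variable {G : Over S} [GrpObj G] (a : AlgGrp.Action G X)

/-- A point fixed by the action after every base change. -/
def FixPt {Y : Over S} (x : Y ⟶ X) : Prop :=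
  ∀ (T' : Over S) (q : T' ⟶ Y) (g : T' ⟶ G), lift g (q ≫ x) ≫ a.act = q ≫ x

variable {A : Type u} [CommRing A] [HopfAlgebra B A] (gA : OT t A ⟶ G)

set_option maxHeartbeats 1600000 in
/-- The average of the orbit of a lift of a fixed point is a fixed lift. -/
theorem exists_fixed [IsOpenImmersion v.left] (mn : Mean B A)
    (hgA : OTm t (Bialgebra.comulAlgHom B A) ≫ gA =
      (OTm t Algebra.TensorProduct.includeLeft ≫ gA) * (OTm t Algebra.TensorProduct.includeRight ≫ gA))
    (huniv : ∀ (T' : Over S) (q : T' ⟶ OT t B) (g : T' ⟶ G),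
      ∃ q' : T' ⟶ OT t A, q' ≫ OTm t (Algebra.ofId B A) = q ∧ q' ≫ gA = g)
    (J : Ideal B) (hJ : J ^ 2 = ⊥) (y : C →ₐ[B] B)
    (h0 : FixPt a (OTm t (Ideal.Quotient.mkₐ B J) ≫ chartPt t v y)) :
    ∃ x : C →ₐ[B] B, (∀ c, x c - y c ∈ J) ∧ FixPt a (chartPt t v x) := by
  let ofA : B →ₐ[B] A := Algebra.ofId B A
  let yA : C →ₐ[B] A := ofA.comp y
  let JA : Ideal A := J.map (algebraMap B A)
  have hJA2 : ∀ p ∈ JA, ∀ q ∈ JA, p * q = 0 := by
    intro p hp q hq
    have h := Ideal.mul_mem_mul hp hq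
    rwa [← Ideal.map_mul, ← pow_two, hJ, Ideal.map_bot, Ideal.mem_bot] at h
  have hJ2 : ∀ p ∈ J, ∀ q ∈ J, p * q = 0 := by
    intro p hp q hq
    have h := Ideal.mul_mem_mul hp hq
    rwa [← pow_two, hJ, Ideal.mem_bot] at h
  -- the orbit
  let z : OT t A ⟶ X := lift gA (chartPt t v yA) ≫ a.act
  have hJAn : IsNilpotent JA := ⟨2, by rw [← Ideal.map_pow, hJ, Ideal.map_bot]; rfl⟩
  let πA : A →ₐ[B] A ⧸ JA := Ideal.Quotient.mkₐ B JA
  have hzred : OTm t πA ≫ z = chartPt t v (πA.comp yA) := by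
    let ι₀ : B ⧸ J →ₐ[B] A ⧸ JA := Ideal.Quotient.liftₐ J (Algebra.ofId B (A ⧸ JA)) fun b hb => by
      show algebraMap B (A ⧸ JA) b = 0
      rw [IsScalarTower.algebraMap_apply B A (A ⧸ JA), Ideal.Quotient.algebraMap_eq, Ideal.Quotient.eq_zero_iff_mem]
      exact Ideal.mem_map_of_mem _ hb
    have e : (ι₀.comp (Ideal.Quotient.mkₐ B J)).comp y = πA.comp yA := by
      rw [Subsingleton.elim (ι₀.comp (Ideal.Quotient.mkₐ B J)) (πA.comp ofA), AlgHom.comp_assoc]
    have h := h0 _ (OTm t ι₀) (OTm t πA ≫ gA)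
    rw [OTm_chartPt, OTm_chartPt, ← AlgHom.comp_assoc, e] at h
    rw [← Category.assoc, comp_lift, OTm_chartPt]
    exact h
  obtain ⟨α, hα⟩ := exists_chartPt t v z JA hJAn _ hzred
  have hαy : ∀ c, α c - yA c ∈ JA := fun c => by
    have h : πA.comp α = πA.comp yA := chartPt_injective t v (by rw [← OTm_chartPt, hα, hzred])
    exact Ideal.Quotient.eq.mp (DFunLike.congr_fun h c)
  -- the average
  have hμJ : ∀ d ∈ JA, mn.«μ» d ∈ J := by
    intro d hd
    induction hd using Submodule.span_induction with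
    | mem p hp =>
      obtain ⟨j, hj, rfl⟩ := hp
      rw [Algebra.algebraMap_eq_smul_one, map_smul, mn.map_one', smul_eq_mul, _root_.mul_one]
      exact hj
    | zero => simp
    | add p q _ _ hp hq => rw [map_add]; exact add_mem hp hq
    | smul r p hp' _ =>
      rw [smul_eq_mul]
      refine Submodule.span_induction (p := fun p _ => ∀ r : A, mn.«μ» (r * p) ∈ J) ?_ ?_ ?_ ?_ hp' r
      · rintro _ ⟨j, hj, rfl⟩ r
        rw [mul_comm, ← Algebra.smul_def, map_smul, smul_eq_mul]
        exact Ideal.mul_mem_right _ _ hj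
      · intro r; simp
      · intro p q _ _ hp hq r; rw [mul_add, map_add]; exact add_mem (hp r) (hq r)
      · intro s p _ hp r; rw [smul_eq_mul, ← _root_.mul_assoc]; exact hp (r * s)
  have hμa : ∀ (b : B) (d : A), mn.«μ» (algebraMap B A b * d) = b * mn.«μ» d := fun b d => by
    rw [← Algebra.smul_def, map_smul, smul_eq_mul]
  let δ : C → A := fun c => α c - yA c
  have hα' : ∀ c, α c = algebraMap B A (y c) + δ c := fun c => (add_sub_cancel (algebraMap B A (y c)) (α c)).symm
  have hμα : ∀ c, mn.«μ» (α c) = y c + mn.«μ» (δ c) := fun c => by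
    rw [hα', map_add, Algebra.algebraMap_eq_smul_one, map_smul, mn.map_one', smul_eq_mul, _root_.mul_one]
  let x : C →ₐ[B] B :=
    { toFun := fun c => mn.«μ» (α c)
      map_one' := by rw [map_one, mn.map_one']
      map_mul' := fun c d => by
        have e : α (c * d) = algebraMap B A (y c * y d) + algebraMap B A (y c) * δ d + algebraMap B A (y d) * δ c := by
          rw [map_mul, hα' c, hα' d, map_mul]
          linear_combination hJA2 _ (hαy c) _ (hαy d)
        rw [e, map_add, map_add, hμa, hμa, Algebra.algebraMap_eq_smul_one, map_smul, mn.map_one', smul_eq_mul, _root_.mul_one,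
          hμα, hμα]
        linear_combination -(hJ2 _ (hμJ _ (hαy c)) _ (hμJ _ (hαy d)))
      map_zero' := by simp
      map_add' := fun c d => by simp
      commutes' := fun b => by
        rw [α.commutes, Algebra.algebraMap_eq_smul_one, map_smul, mn.map_one', smul_eq_mul, _root_.mul_one]
        rfl }
  have hxy : ∀ c, x c - y c ∈ J := fun c => by
    show mn.«μ» (α c) - y c ∈ J
    rw [hμα, add_sub_cancel_left]
    exact hμJ _ (hαy c)
  -- the universal first order neighbourhood of `y`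
  let I : Ideal C := RingHom.ker y
  let N : Ideal C := I * I ⊔ J.map (algebraMap B C) * I
  have hyJ : ∀ d ∈ J.map (algebraMap B C), ∀ (T : Type u) [CommRing T] [Algebra B T] (f : C →ₐ[B] T),
      f d ∈ J.map (algebraMap B T) := fun d hd T _ _ f => by
    have := Ideal.mem_map_of_mem f.toRingHom hd
    rw [Ideal.map_map] at this
    convert this using 2
    · exact f.comp_algebraMap.symm
    · rfl
  have hαI : ∀ c ∈ I, α c ∈ JA := fun c hc => by
    have h := hαy c
    rwa [show yA c = 0 by simp [yA, ofA, RingHom.mem_ker.mp hc], sub_zero] at h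
  have hxI : ∀ c ∈ I, x c ∈ J := fun c hc => by
    have h := hxy c
    rwa [RingHom.mem_ker.mp hc, sub_zero] at h
  have hNα : N ≤ RingHom.ker α := by
    refine sup_le (Ideal.mul_le.mpr fun p hp q hq => ?_) (Ideal.mul_le.mpr fun p hp q hq => ?_)
    · rw [RingHom.mem_ker, map_mul]; exact hJA2 _ (hαI p hp) _ (hαI q hq)
    · rw [RingHom.mem_ker, map_mul]; exact hJA2 _ (hyJ p hp A α) _ (hαI q hq)
  have hNx : N ≤ RingHom.ker x := by
    refine sup_le (Ideal.mul_le.mpr fun p hp q hq => ?_) (Ideal.mul_le.mpr fun p hp q hq => ?_)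
    · rw [RingHom.mem_ker, map_mul]; exact hJ2 _ (hxI p hp) _ (hxI q hq)
    · rw [RingHom.mem_ker, map_mul]
      refine hJ2 _ ?_ _ (hxI q hq)
      have := hyJ p hp B x
      rwa [Algebra.algebraMap_self, Ideal.map_id] at this
  let q : C →ₐ[B] C ⧸ N := Ideal.Quotient.mkₐ B N
  let ψα : C ⧸ N →ₐ[B] A := Ideal.Quotient.liftₐ N α fun c hc => hNα hc
  let ψx : C ⧸ N →ₐ[B] B := Ideal.Quotient.liftₐ N x fun c hc => hNx hc
  let iL : A →ₐ[B] A ⊗[B] (C ⧸ N) := Algebra.TensorProduct.includeLeft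
  let iR : C ⧸ N →ₐ[B] A ⊗[B] (C ⧸ N) := Algebra.TensorProduct.includeRight
  let z₁ : OT t (A ⊗[B] (C ⧸ N)) ⟶ X := lift (OTm t iL ≫ gA) (OTm t iR ≫ chartPt t v q) ≫ a.act
  let J' : Ideal C := I ⊔ J.map (algebraMap B C)
  let K₁ : Ideal (A ⊗[B] (C ⧸ N)) := J'.map (iR.comp q)
  have hK₁ : IsNilpotent K₁ := by
    refine ⟨3, ?_⟩
    have hJJ : J.map (algebraMap B C) * J.map (algebraMap B C) = ⊥ := by
      rw [← Ideal.map_mul, ← pow_two, hJ, Ideal.map_bot]
    have h : J' ^ 3 ≤ N := by
      have h2 : J' * J' ≤ N := by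
        show (I ⊔ _) * (I ⊔ _) ≤ N
        rw [Ideal.sup_mul, Ideal.mul_sup, Ideal.mul_sup, hJJ, sup_bot_eq, mul_comm I (Ideal.map _ _)]
        exact sup_le (sup_le le_sup_left le_sup_right) le_sup_right
      rw [pow_succ, pow_two]
      exact le_trans Ideal.mul_le_left h2
    rw [← Ideal.map_pow, Ideal.zero_eq_bot, eq_bot_iff, Ideal.map_le_iff_le_comap]
    intro c hc
    rw [Ideal.mem_comap, Ideal.mem_bot, AlgHom.comp_apply, show q c = 0 from Ideal.Quotient.eq_zero_iff_mem.mpr (h hc),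
      map_zero]
  let π₁ : A ⊗[B] (C ⧸ N) →ₐ[B] (A ⊗[B] (C ⧸ N)) ⧸ K₁ := Ideal.Quotient.mkₐ B K₁
  obtain ⟨α', hα''⟩ := exists_chartPt t v z₁ K₁ hK₁ ((Algebra.ofId B _).comp y) (by
    let ι₁ : B ⧸ J →ₐ[B] (A ⊗[B] (C ⧸ N)) ⧸ K₁ := Ideal.Quotient.liftₐ J (Algebra.ofId B _) fun b hb => by
      show algebraMap B _ b = 0
      rw [IsScalarTower.algebraMap_apply B (A ⊗[B] (C ⧸ N)), Ideal.Quotient.algebraMap_eq,
        Ideal.Quotient.eq_zero_iff_mem]
      have := Ideal.mem_map_of_mem (iR.comp q) (show algebraMap B C b ∈ J' from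
        Ideal.mem_sup_right (Ideal.mem_map_of_mem _ hb))
      rwa [AlgHom.commutes] at this
    have e : (π₁.comp iR).comp q = (ι₁.comp (Ideal.Quotient.mkₐ B J)).comp y := by
      rw [Subsingleton.elim (ι₁.comp (Ideal.Quotient.mkₐ B J)) (Algebra.ofId B _)]
      refine AlgHom.ext fun c => ?_
      have hc : c - algebraMap B C (y c) ∈ J' := Ideal.mem_sup_left (by
        rw [RingHom.mem_ker, map_sub, AlgHom.commutes]; simp)
      have := Ideal.Quotient.eq.mpr (show (iR.comp q) c - algebraMap B _ (y c) ∈ K₁ by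
        rw [← (iR.comp q).commutes, ← map_sub]; exact Ideal.mem_map_of_mem _ hc)
      exact this
    have h := h0 _ (OTm t ι₁) (OTm t (T := A ⊗[B] (C ⧸ N)) (T' := (A ⊗[B] (C ⧸ N)) ⧸ K₁) π₁ ≫ OTm t iL ≫ gA)
    rw [OTm_chartPt, OTm_chartPt, ← AlgHom.comp_assoc, ← e] at h
    show OTm t (T := A ⊗[B] (C ⧸ N)) (T' := (A ⊗[B] (C ⧸ N)) ⧸ K₁) π₁ ≫ z₁ = _
    rw [← Category.assoc, comp_lift, OTm_chartPt, OTm_chartPt, ← AlgHom.comp_assoc, h, e,
      Subsingleton.elim (ι₁.comp (Ideal.Quotient.mkₐ B J)) (Algebra.ofId B _)])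
  -- the cocycle identity
  let h : A ⊗[B] (C ⧸ N) →ₐ[B] A ⊗[B] A := Algebra.TensorProduct.map (AlgHom.id B A) ψα
  have hL : h.comp iL = (Algebra.TensorProduct.includeLeft : A →ₐ[B] A ⊗[B] A) := AlgHom.ext fun p => by
    simp [h, iL]
  have hR : (h.comp iR).comp q = (Algebra.TensorProduct.includeRight : A →ₐ[B] A ⊗[B] A).comp α :=
    AlgHom.ext fun c => by simp [h, iR, q, ψα]
  have hcoc : (Bialgebra.comulAlgHom B A).comp α = h.comp α' := by
    apply chartPt_injective t v
    rw [← OTm_chartPt, hα, ← OTm_chartPt, hα'']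
    show OTm t _ ≫ CartesianMonoidalCategory.lift gA (chartPt t v yA) ≫ a.act = OTm t h ≫ CartesianMonoidalCategory.lift _ _ ≫ a.act
    rw [← Category.assoc, comp_lift, hgA, ← GrpSchLib.act_mul, ← Category.assoc (OTm t h), comp_lift,
      ← Category.assoc (OTm t h), OTm_comp, hL, ← Category.assoc (OTm t h), OTm_comp, OTm_chartPt, OTm_chartPt, hR]
    congr 2
    rw [← OTm_chartPt t v (T := A) (T' := A ⊗[B] A) Algebra.TensorProduct.includeRight α, hα, ← Category.assoc, comp_lift, OTm_chartPt]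
    congr 3
    rw [← AlgHom.comp_assoc, ← AlgHom.comp_assoc]
    congr 1
    exact Subsingleton.elim _ _
  let hx : A ⊗[B] (C ⧸ N) →ₐ[B] A :=
    Algebra.TensorProduct.lift (AlgHom.id B A) (ofA.comp ψx) fun _ _ => .all _ _
  have hLx : ∀ w, mn.L (h w) = hx w := fun w => by
    induction w using TensorProduct.induction_on with
    | zero => simp
    | add p p' hp hp' => simp only [map_add, hp, hp']
    | tmul p c =>
      obtain ⟨c, rfl⟩ := Ideal.Quotient.mk_surjective c
      simp only [h, hx, Algebra.TensorProduct.map_tmul, Algebra.TensorProduct.lift_tmul, AlgHom.id_apply, mn.L_tmul,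
        AlgHom.comp_apply]
      rw [Algebra.smul_def, mul_comm]
      rfl
  have horb : hx.comp α' = ofA.comp x := AlgHom.ext fun c => by
    have h1 : mn.L (Coalgebra.comul (α c)) = mn.«μ» (α c) • (1 : A) := mn.inv _
    have h2 := congrArg mn.L (DFunLike.congr_fun hcoc c)
    rw [AlgHom.comp_apply, Bialgebra.comulAlgHom_apply, h1] at h2
    rw [AlgHom.comp_apply, ← hLx]
    refine h2.symm.trans ?_
    rw [← Algebra.algebraMap_eq_smul_one]
    rfl
  refine ⟨x, hxy, fun T' p g => ?_⟩
  obtain ⟨p', hp', hg⟩ := huniv T' p g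
  have hx1 : hx.comp iL = AlgHom.id B A := AlgHom.ext fun w => by simp [hx, iL]
  have hx2 : (hx.comp iR).comp q = ofA.comp x := AlgHom.ext fun c => by simp [hx, iR, q, ψx]
  have key : lift gA (chartPt t v (ofA.comp x)) ≫ a.act = chartPt t v (ofA.comp x) := by
    conv_rhs => rw [← horb, ← OTm_chartPt, hα'']
    show _ = OTm t hx ≫ CartesianMonoidalCategory.lift _ _ ≫ a.act
    rw [← Category.assoc, comp_lift, ← Category.assoc, OTm_comp, hx1, ← Category.assoc, OTm_comp, OTm_chartPt, hx2]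
    simp [OTm, spMap_id]
  rw [← hg, ← hp', Category.assoc, OTm_chartPt]
  have := congrArg (fun m => p' ≫ m) key
  rwa [← Category.assoc, comp_lift] at this

end Groth.Agent.MultTypeLib.FixedLift
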