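import Groth.Agent.MultTypeLib.FreeActionAlg
import Groth.Agent.MultTypeLib.GenMultType
import Groth.Agent.MultTypeLib.FixedLift
import Groth.Agent.FpqcDescLib.Closed

/-!
# Free actions of groups of multiplicative type on affine schemes

The graph of such an action is a closed immersion.
-/

universe u

open CategoryTheory CategoryTheory.Limits MonoidalCategory CartesianMonoidalCategory MonObj AlgebraicGeometry
open TensorProduct WithConv

noncomputable section

namespace Groth.Agent.MultTypeLib.FreeAction

open GrpSchLib.AffineHopf FixedLift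

variable {S : Scheme.{u}}

/-- The base change of a morphism over the base is a cartesian square. -/
theorem isPullback_map {Z : Scheme.{u}} (t : Z ⟶ S) {P Q : Over S} (φ : P ⟶ Q) :
    IsPullback (pullback.fst P.hom t) ((Over.pullback t).map φ).left φ.left (pullback.fst Q.hom t) := by
  refine IsPullback.of_bot ?_ (pullback.lift_fst _ _ _).symm (IsPullback.of_hasPullback Q.hom t)
  rw [Over.w φ]
  convert IsPullback.of_hasPullback P.hom t using 1
  exact pullback.lift_snd _ _ _

section

variable {B : Type u} [CommRing B] (t : Spec (CommRingCat.of B) ⟶ S)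

theorem exists_spMap {A C : Type u} [CommRing A] [Algebra B A] [CommRing C] [Algebra B C]
    (g : sp B A ⟶ sp B C) : ∃ f : C →ₐ[B] A, g = spMap f := by
  let χ : CommRingCat.of C ⟶ CommRingCat.of A := Spec.preimage g.left
  have hχ : Spec.map χ = g.left := Spec.map_preimage _
  refine ⟨{ toRingHom := χ.hom, commutes' := fun b => ?_ }, Over.OverMorphism.ext hχ.symm⟩
  have e : CommRingCat.ofHom (algebraMap B C) ≫ χ = CommRingCat.ofHom (algebraMap B A) := by
    apply Spec.map_injective
    rw [Spec.map_comp, hχ]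
    exact Over.w g
  exact congrArg (fun k => k.hom b) e

theorem lift_spMap_left {P Q T : Type u} [CommRing P] [Algebra B P] [CommRing Q] [Algebra B Q] [CommRing T]
    [Algebra B T] (f : P →ₐ[B] T) (g : Q →ₐ[B] T) :
    (lift (spMap f) (spMap g)).left =
      Spec.map (CommRingCat.ofHom (Algebra.TensorProduct.lift f g fun _ _ => Commute.all _ _).toRingHom) ≫
        (pullbackSpecIso B P Q).inv := by
  apply pullback.hom_ext
  · refine (congrArg CommaMorphism.left (lift_fst (spMap f) (spMap g))).trans ?_
    refine Eq.trans ?_ ((congrArg _ (pullbackSpecIso_inv_fst B P Q).symm).trans (Category.assoc _ _ _).symm)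
    refine Eq.trans (congrArg Spec.map ?_) (Spec.map_comp _ _)
    ext p
    show f p = Algebra.TensorProduct.lift f g (fun _ _ => Commute.all _ _) (p ⊗ₜ 1)
    simp
  · refine (congrArg CommaMorphism.left (lift_snd (spMap f) (spMap g))).trans ?_
    refine Eq.trans ?_ ((congrArg _ (pullbackSpecIso_inv_snd B P Q).symm).trans (Category.assoc _ _ _).symm)
    refine Eq.trans (congrArg Spec.map ?_) (Spec.map_comp _ _)
    ext q
    show g q = Algebra.TensorProduct.lift f g (fun _ _ => Commute.all _ _) (1 ⊗ₜ q)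
    simp

theorem theta_map {Y : Over (Spec (CommRingCat.of B))} {H H' : Over S} (z : Y ⟶ (Over.pullback t).obj H)
    (q : H ⟶ H') : DSPtsLib.theta t (z ≫ (Over.pullback t).map q) = DSPtsLib.theta t z ≫ q :=
  (Over.mapPullbackAdj t).homEquiv_naturality_right_symm z q

theorem theta_one {Y : Over (Spec (CommRingCat.of B))} {H : Over S} [GrpObj H] :
    DSPtsLib.theta t (1 : Y ⟶ Red.bc t H) = 1 :=
  (MonoidHom.mk' (DSPtsLib.theta t (Y := Y) (H := H)) (DSPtsLib.theta_mul t)).map_one

variable {M : Type} [CommGroup M]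

theorem spMap_lift_mul {T : Type u} [CommRing T] [Algebra B T] (χ χ' : M →* T) :
    spMap (MonoidAlgebra.lift B T M (χ * χ')) =
      spMap (MonoidAlgebra.lift B T M χ) * spMap (MonoidAlgebra.lift B T M χ') := by
  rw [spMap_mul]
  congr 1
  refine MonoidAlgebra.algHom_ext (fun m => ?_) (by ext)
  simp [AlgHom.convMul_apply]

theorem eq_one_of_spMap_eq_one {T : Type u} [CommRing T] [Algebra B T] (χ : M →* T)
    (h : spMap (MonoidAlgebra.lift B T M χ) = 1) (m : M) : χ m = 1 := by
  have h1 : spMap ((1 : WithConv (MonoidAlgebra B M →ₐ[B] T)).ofConv) = 1 :=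
    (spMap_eq_mapMulEquiv _).trans (map_one Spec.mapMulEquiv)
  have h2 := congrArg (fun f : MonoidAlgebra B M →ₐ[B] T => f (MonoidAlgebra.single m 1))
    (spMap_injective (h.trans h1.symm))
  simpa [AlgHom.convOne_apply] using h2

set_option maxHeartbeats 800000 in
/-- The graph of a free action is a closed immersion over an affine piece over which the group is diagonalisable. -/
theorem isClosedImmersion_bc {G X : Over S} [GrpObj G] (a : AlgGrp.Action G X)
    (eG : Grp.mk (sp B (MonoidAlgebra B M)) ≅ Grp.mk (Red.bc t G))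
    (C : Type u) [CommRing C] [Algebra B C] (eX : sp B C ≅ (Over.pullback t).obj X)
    (hfree : ∀ (Y : Over S) (g : Y ⟶ G) (x : Y ⟶ X), lift g x ≫ a.act = x → g = 1) :
    IsClosedImmersion ((Over.pullback t).map (lift a.act (snd G X))).left := by
  classical
  let F := Over.pullback t
  let eh : sp B (MonoidAlgebra B M) ⟶ Red.bc t G := eG.hom.hom.hom
  haveI : IsMonHom eh := eG.hom.hom.isMonHom_hom
  haveI : IsIso eh := ⟨eG.inv.hom.hom, congrArg (fun h => h.hom.hom) eG.hom_inv_id,
    congrArg (fun h => h.hom.hom) eG.inv_hom_id⟩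
  let gp : ∀ {T : Type u} [CommRing T] [Algebra B T], (M →* T) → (OT t T ⟶ G) := fun {T} _ _ χ =>
    DSPtsLib.theta t (spMap (MonoidAlgebra.lift B T M χ) ≫ eh)
  let xp : ∀ {T : Type u} [CommRing T] [Algebra B T], (C →ₐ[B] T) → (OT t T ⟶ X) := fun {T} _ _ y =>
    DSPtsLib.theta t (spMap y ≫ eX.hom)
  let L : ∀ {T : Type u} [CommRing T] [Algebra B T], (M →* T) → (C →ₐ[B] T) → (MonoidAlgebra C M →ₐ[B] T) :=
    fun χ y => MonoidAlgebra.liftNCAlgHom y χ fun _ _ => Commute.all _ _
  have hL : ∀ {T : Type u} [CommRing T] [Algebra B T] (χ : M →* T) (y : C →ₐ[B] T) (m : M) (r : C),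
      L χ y (MonoidAlgebra.single m r) = y r * χ m := fun χ y m r => MonoidAlgebra.liftNC_single _ _ _ _
  let inc : C →ₐ[B] MonoidAlgebra C M := MonoidAlgebra.singleOneAlgHom
  let o : M →* MonoidAlgebra C M := MonoidAlgebra.of C M
  obtain ⟨w, hw⟩ := (DSPtsLib.theta_bijective (H := X) (Y := sp B (MonoidAlgebra C M)) t).2
    (lift (gp o) (xp inc) ≫ a.act)
  obtain ⟨α, hα⟩ := exists_spMap (w ≫ eX.inv)
  have hxα : xp α = lift (gp o) (xp inc) ≫ a.act := by
    show DSPtsLib.theta t (spMap α ≫ eX.hom) = _
    rw [← hα, Category.assoc, Iso.inv_hom_id, Category.comp_id, hw]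
  have gp_comp : ∀ {T T' : Type u} [CommRing T] [Algebra B T] [CommRing T'] [Algebra B T'] (f : T →ₐ[B] T')
      (χ : M →* T), OTm t f ≫ gp χ = gp ((f : T →* T').comp χ) := fun f χ => by
    simp only [gp, ← DSPtsLib.theta_comp, ← Category.assoc, spMap_comp]
    congr 3
    exact MonoidAlgebra.algHom_ext (fun m => by simp) (by ext)
  have xp_comp : ∀ {T T' : Type u} [CommRing T] [Algebra B T] [CommRing T'] [Algebra B T'] (f : T →ₐ[B] T')
      (y : C →ₐ[B] T), OTm t f ≫ xp y = xp (f.comp y) := fun f y => by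
    simp only [xp, ← DSPtsLib.theta_comp, ← Category.assoc, spMap_comp]
  have xp_inj : ∀ {T : Type u} [CommRing T] [Algebra B T] (y y' : C →ₐ[B] T), xp y = xp y' → y = y' :=
    fun y y' h => spMap_left_injective
      (congrArg CommaMorphism.left ((cancel_mono eX.hom).mp ((DSPtsLib.theta_bijective t).1 h)))
  have hact : ∀ {T : Type u} [CommRing T] [Algebra B T] (χ : M →* T) (y : C →ₐ[B] T),
      lift (gp χ) (xp y) ≫ a.act = xp ((L χ y).comp α) := fun χ y => by
    rw [← xp_comp, hxα, comp_lift_assoc, gp_comp, xp_comp]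
    congr 3
    · exact MonoidHom.ext fun m => by simp [o, hL]
    · exact AlgHom.ext fun r => by simp [inc, hL]
  have hmul : ∀ {T : Type u} [CommRing T] [Algebra B T] (χ χ' : M →* T) (y : C →ₐ[B] T),
      (L (χ * χ') y).comp α = (L χ ((L χ' y).comp α)).comp α := fun χ χ' y => xp_inj _ _ <| by
    rw [← hact, ← hact, ← hact, GrpSchLib.act_mul a]
    congr 2
    simp only [gp, ← DSPtsLib.theta_mul, ← MonObj.mul_comp, ← spMap_lift_mul]
  -- coassociativity
  have hco : ∀ c m, α ((α c).coeff m) = MonoidAlgebra.single m ((α c).coeff m) := by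
    intro c m₀
    ext n
    let χ : M →* MonoidAlgebra C (M × M) := (MonoidAlgebra.of C (M × M)).comp (MonoidHom.inl M M)
    let χ' : M →* MonoidAlgebra C (M × M) := (MonoidAlgebra.of C (M × M)).comp (MonoidHom.inr M M)
    let y : C →ₐ[B] MonoidAlgebra C (M × M) := MonoidAlgebra.singleOneAlgHom
    have hy : ∀ r, y r = MonoidAlgebra.single 1 r := fun r => rfl
    have h1 : ∀ x : MonoidAlgebra C M, (L (χ * χ') y x).coeff (m₀, n) =
        (MonoidAlgebra.single m₀ (x.coeff m₀)).coeff n := by
      intro x
      induction x using MonoidAlgebra.induction_linear with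
      | zero => simp
      | add p q hp hq =>
        simp only [map_add, MonoidAlgebra.coeff_add, Finsupp.add_apply, hp, hq, MonoidAlgebra.single_add]
      | single m r =>
        simp [hL, χ, χ', hy, Finsupp.single_apply]
        by_cases e : m = m₀ <;> by_cases e' : m₀ = n <;> simp_all
    have h2 : ∀ x : MonoidAlgebra C M, ∀ m, (L χ' y x * χ m).coeff (m₀, n) =
        if m = m₀ then x.coeff n else 0 := by
      intro x m
      induction x using MonoidAlgebra.induction_linear with
      | zero => simp
      | add p q hp hq =>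
        simp only [map_add, add_mul, MonoidAlgebra.coeff_add, Finsupp.add_apply, hp, hq]
        split_ifs <;> simp
      | single k r =>
        simp [hL, χ, χ', hy, Finsupp.single_apply]
        by_cases e : m = m₀ <;> by_cases e' : k = n <;> simp_all
    have h3 : ∀ x : MonoidAlgebra C M, (L χ ((L χ' y).comp α) x).coeff (m₀, n) = (α (x.coeff m₀)).coeff n := by
      intro x
      induction x using MonoidAlgebra.induction_linear with
      | zero => simp
      | add p q hp hq => simp only [map_add, MonoidAlgebra.coeff_add, Finsupp.add_apply, hp, hq]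
      | single m r =>
        rw [hL, AlgHom.comp_apply, h2]
        by_cases e : m = m₀ <;> simp [e]
    rw [← h3, ← h1]
    exact congrArg (fun f : MonoidAlgebra C (M × M) => f.coeff (m₀, n)) (DFunLike.congr_fun (hmul χ χ' y) c).symm
  have hfree' : ∀ (T : Type u) [CommRing T] [Algebra B T] (χ : M →* T) (y : C →ₐ[B] T),
      (∀ c, (α c).coeff.sum (fun m r => χ m * y r) = y c) → ∀ m, χ m = 1 := by
    intro T _ _ χ y h
    have hy : (L χ y).comp α = y := AlgHom.ext fun c => by
      rw [AlgHom.comp_apply, ← MonoidAlgebra.sum_coeff_single (α c), ← h c, Finsupp.sum, Finsupp.sum, map_sum]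
      simp [hL, mul_comm]
    have h1 := hfree (OT t T) (gp χ) (xp y) ((hact χ y).trans (congrArg xp hy))
    rw [← theta_one t] at h1
    have h2 := (DSPtsLib.theta_bijective t).1 h1
    apply eq_one_of_spMap_eq_one (B := B)
    rw [← cancel_mono eh, h2, MonObj.one_comp]
  have htop := FreeActionAlg.adjoin_eq_top α hco hfree'
  let Φ := Algebra.TensorProduct.lift α inc fun _ _ => Commute.all _ _
  have hΦ : Function.Surjective Φ := fun x => by
    have hx : x ∈ Algebra.adjoin C (Set.range α) := htop ▸ Algebra.mem_top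
    induction hx using Algebra.adjoin_induction with
    | mem z hz =>
      obtain ⟨c, rfl⟩ := hz
      exact ⟨c ⊗ₜ 1, by simp [Φ]⟩
    | algebraMap r => exact ⟨1 ⊗ₜ r, by simp [Φ, inc, MonoidAlgebra.coe_algebraMap]⟩
    | add p q _ _ hp hq =>
      obtain ⟨p', rfl⟩ := hp
      obtain ⟨q', rfl⟩ := hq
      exact ⟨p' + q', map_add _ _ _⟩
    | mul p q _ _ hp hq =>
      obtain ⟨p', rfl⟩ := hp
      obtain ⟨q', rfl⟩ := hq
      exact ⟨p' * q', map_mul _ _ _⟩
  obtain ⟨z, hz⟩ := (DSPtsLib.theta_bijective (H := G ⊗ X) (Y := sp B (MonoidAlgebra C M)) t).2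
    (lift (gp o) (xp inc))
  let ιG := MonoidAlgebra.lift B (MonoidAlgebra C M) M o
  have hz1 : z ≫ CartesianMonoidalCategory.prodComparison F G X = lift (spMap ιG) (spMap inc) ≫ (eh ⊗ₘ eX.hom) := by
    apply CartesianMonoidalCategory.hom_ext
    · rw [Category.assoc, CartesianMonoidalCategory.prodComparison_fst, Category.assoc, tensorHom_fst, lift_fst_assoc]
      apply (DSPtsLib.theta_bijective t).1
      rw [theta_map, hz, lift_fst]
    · rw [Category.assoc, CartesianMonoidalCategory.prodComparison_snd, Category.assoc, tensorHom_snd, lift_snd_assoc]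
      apply (DSPtsLib.theta_bijective t).1
      rw [theta_map, hz, lift_snd]
  have hz2 : (z ≫ F.map (lift a.act (snd G X))) ≫ CartesianMonoidalCategory.prodComparison F X X =
      lift (spMap α) (spMap inc) ≫ (eX.hom ⊗ₘ eX.hom) := by
    apply CartesianMonoidalCategory.hom_ext
    · rw [Category.assoc, CartesianMonoidalCategory.prodComparison_fst, Category.assoc, ← F.map_comp, lift_fst, Category.assoc, tensorHom_fst,
        lift_fst_assoc]
      apply (DSPtsLib.theta_bijective t).1
      rw [theta_map, hz]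
      exact hxα.symm
    · rw [Category.assoc, CartesianMonoidalCategory.prodComparison_snd, Category.assoc, ← F.map_comp, lift_snd, Category.assoc, tensorHom_snd,
        lift_snd_assoc]
      apply (DSPtsLib.theta_bijective t).1
      rw [theta_map, hz, lift_snd]
  let e := Algebra.TensorProduct.lift ιG inc fun _ _ => Commute.all _ _
  have he : Function.Bijective e := by
    have : ∀ x, e x = MonoidAlgebra.scalarTensorEquiv B C (Algebra.TensorProduct.comm B _ _ x) := fun x => by
      induction x using TensorProduct.induction_on with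
      | zero => simp
      | add p q hp hq => simp only [map_add, hp, hq]
      | tmul p r =>
        rw [Algebra.TensorProduct.comm_tmul, MonoidAlgebra.scalarTensorEquiv_tmul]
        induction p using MonoidAlgebra.induction_linear with
        | zero => simp
        | add p q hp hq => simp only [TensorProduct.add_tmul, map_add, hp, hq, smul_add]
        | single m s => simp [e, ιG, inc, o, Algebra.smul_def, Algebra.ofId_apply, mul_comm, MonoidAlgebra.coe_algebraMap]
    rw [show ⇑e = MonoidAlgebra.scalarTensorEquiv B C ∘ Algebra.TensorProduct.comm B _ _ from funext this]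
    exact (AlgEquiv.bijective _).comp (AlgEquiv.bijective _)
  haveI : IsIso (lift (spMap ιG) (spMap inc)).left := by
    rw [lift_spMap_left]
    haveI : IsIso (CommRingCat.ofHom (Algebra.TensorProduct.lift ιG inc fun _ _ => Commute.all _ _).toRingHom) :=
      inferInstanceAs (IsIso (RingEquiv.ofBijective e.toRingHom he).toCommRingCatIso.hom)
    refine IsIso.comp_isIso' ?_ (Iso.isIso_inv _)
    exact inferInstanceAs (IsIso (Spec.map (CommRingCat.ofHom
      (Algebra.TensorProduct.lift ιG inc fun _ _ => Commute.all _ _).toRingHom)))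
  haveI : IsIso ((Over.forget _).map (lift (spMap ιG) (spMap inc))) := ‹IsIso (lift (spMap ιG) (spMap inc)).left›
  haveI : IsIso (lift (spMap ιG) (spMap inc)) := isIso_of_reflects_iso _ (Over.forget _)
  haveI : IsIso (z ≫ CartesianMonoidalCategory.prodComparison F G X) := by rw [hz1]; infer_instance
  haveI : IsIso z := IsIso.of_isIso_comp_right z (CartesianMonoidalCategory.prodComparison F G X)
  haveI : IsClosedImmersion (lift (spMap α) (spMap inc)).left := by
    rw [lift_spMap_left]
    exact MorphismProperty.comp_mem @IsClosedImmersion _ _ (IsClosedImmersion.spec_of_surjective _ hΦ)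
      (inferInstanceAs (IsClosedImmersion (pullbackSpecIso B C C).inv))
  have key : F.map (lift a.act (snd G X)) =
      inv z ≫ lift (spMap α) (spMap inc) ≫ (eX.hom ⊗ₘ eX.hom) ≫ inv (CartesianMonoidalCategory.prodComparison F X X) := by
    rw [IsIso.eq_inv_comp, ← Category.assoc (lift (spMap α) (spMap inc)), IsIso.eq_comp_inv, hz2]
  rw [key]
  simp only [Over.comp_left]
  haveI : IsIso (inv z).left := inferInstanceAs (IsIso ((Over.forget _).map (inv z)))
  haveI : IsIso ((eX.hom ⊗ₘ eX.hom) ≫ inv (CartesianMonoidalCategory.prodComparison F X X)).left :=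
    inferInstanceAs (IsIso ((Over.forget _).map ((eX.hom ⊗ₘ eX.hom) ≫ inv (CartesianMonoidalCategory.prodComparison F X X))))
  rw [← Over.comp_left]
  infer_instance

end

/-- The graph of a free action of a group of multiplicative type on a relatively affine scheme is a closed immersion. -/
theorem isClosedImmersion_graph {G X : Over S} [GrpObj G] (hG : GenMultType.IsMT G) [IsAffineHom X.hom]
    (a : AlgGrp.Action G X)
    (hfree : ∀ (Y : Over S) (g : Y ⟶ G) (x : Y ⟶ X), lift g x ≫ a.act = x → g = 1) :
    IsClosedImmersion (lift a.act (snd G X)).left := by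
  obtain ⟨S', f, hflat, hsurj, hqc, hloc⟩ := hG
  haveI := EtFound.fpqc_isClosedImmersion.{u}
  have hcov : FpqcDescLib.Covers f :=
    FpqcDescLib.covers_of_hcov f ⟨S', f, 𝟙 _, Category.id_comp _, hsurj, hflat, hqc⟩
  let φ := lift a.act (snd G X)
  let q := ((Over.pullback f).map φ).left
  refine (hcov.pullback (X ⊗ X).hom (pullback.fst (X ⊗ X).hom f) (pullback.snd (X ⊗ X).hom f)
    (IsPullback.of_hasPullback _ _)).descends @IsClosedImmersion φ.left q (pullback.fst _ f)
    (isPullback_map f φ).flip ?_
  refine IsZariskiLocalAtTarget.of_forall_exists_morphismRestrict fun z => ?_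
  let s' := pullback.snd (X ⊗ X).hom f z
  obtain ⟨O, hO, M, iM, ⟨e₀⟩⟩ := hloc s'
  obtain ⟨U, hU, hsU, hUO⟩ := exists_isAffineOpen_mem_and_subset hO
  let V := pullback.snd (X ⊗ X).hom f ⁻¹ᵁ U
  refine ⟨V, hsU, ?_⟩
  let B : Type u := Γ(S', U)
  let t : Spec (CommRingCat.of B) ⟶ S := hU.fromSpec ≫ f
  let l : Spec (CommRingCat.of B) ⟶ (O : Scheme.{u}) := hU.isoSpec.inv ≫ S'.homOfLE hUO
  have hl : t = l ≫ O.ι ≫ f := by
    simp only [t, l, Category.assoc, Scheme.homOfLE_ι_assoc]
    rw [← IsAffineOpen.isoSpec_inv_ι, Category.assoc]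
  obtain ⟨e₃⟩ := nonempty_bc_iso _ _ hl G
  obtain ⟨e₄⟩ := GrpSchLib.MultTypeBC.bc_bc l (O.ι ≫ f) G
  obtain ⟨e₅⟩ := GrpSchLib.MultTypeBC.bc_iso l e₀
  obtain ⟨e₆⟩ := GrpSchLib.MultTypeBC.bc_DS l M
  obtain ⟨e₇⟩ := nonempty_DS_iso B M
  let P := pullback X.hom t
  haveI : IsAffine P := isAffine_of_isAffineHom (pullback.snd X.hom t)
  let φC : CommRingCat.of B ⟶ Γ(P, ⊤) := Spec.preimage (P.isoSpec.inv ≫ pullback.snd X.hom t)
  have hφC : Spec.map φC = P.isoSpec.inv ≫ pullback.snd X.hom t := Spec.map_preimage _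
  let C : Type u := Γ(P, ⊤)
  letI : Algebra B C := φC.hom.toAlgebra
  let eX : sp B C ≅ (Over.pullback t).obj X := Over.isoMk P.isoSpec.symm hφC.symm
  have hT : IsClosedImmersion ((Over.pullback t).map φ).left :=
    isClosedImmersion_bc t a (e₇ ≪≫ e₆.symm ≪≫ e₅.symm ≪≫ e₄ ≪≫ e₃.symm) C eX hfree
  have hw : (V.ι ≫ pullback.fst (X ⊗ X).hom f) ≫ (X ⊗ X).hom =
      ((pullback.snd (X ⊗ X).hom f ∣_ U) ≫ hU.isoSpec.hom) ≫ t := by
    simp only [t, Category.assoc]
    rw [hU.isoSpec_hom_fromSpec_assoc, morphismRestrict_ι_assoc, pullback.condition]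
  let eV : (V : Scheme.{u}) ⟶ ((Over.pullback t).obj (X ⊗ X)).left := pullback.lift _ _ hw
  have H := (isPullback_morphismRestrict q V).flip.paste_horiz (isPullback_map f φ)
  rw [show V.ι ≫ pullback.fst (X ⊗ X).hom f = eV ≫ pullback.fst (X ⊗ X).hom t from
    (pullback.lift_fst _ _ _).symm] at H
  exact MorphismProperty.of_isPullback (IsPullback.of_right' H (isPullback_map t φ)) hT

/-- The orbit morphisms of such an action are closed immersions. -/
theorem isClosedImmersion_orbit {G X : Over S} [GrpObj G] (hG : GenMultType.IsMT G) [IsAffineHom X.hom]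
    (a : AlgGrp.Action G X)
    (hfree : ∀ (Y : Over S) (g : Y ⟶ G) (x : Y ⟶ X), lift g x ≫ a.act = x → g = 1) (σ : 𝟙_ (Over S) ⟶ X) :
    IsClosedImmersion (a.orbitMap σ).left := by
  haveI := isClosedImmersion_graph hG a hfree
  have hsec : ∀ {A B : Over S} [IsSeparated A.hom] [IsSeparated B.hom] (k : A ⟶ B) (r : B ⟶ A) (_ : k ≫ r = 𝟙 A),
      IsClosedImmersion k.left := by
    intro A B _ _ k r h
    haveI : IsSeparated r.left := by
      haveI : IsSeparated (r.left ≫ A.hom) := by rw [Over.w r]; infer_instance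
      exact IsSeparated.of_comp r.left A.hom
    haveI : IsClosedImmersion (k.left ≫ r.left) := by
      rw [← Over.comp_left, h]; exact inferInstanceAs (IsClosedImmersion (𝟙 A.left))
    exact IsClosedImmersion.of_comp k.left r.left
  haveI : IsAffineHom G.hom := GenMultType.isAffineHom hG
  haveI : IsSeparated (G ⊗ X).hom := by
    rw [Over.tensorObj_hom]; infer_instance
  haveI : IsSeparated (X ⊗ X).hom := by
    rw [Over.tensorObj_hom]; infer_instance
  let k : G ⟶ G ⊗ X := lift (𝟙 G) (toUnit G ≫ σ)
  let j : X ⟶ X ⊗ X := lift (𝟙 X) (toUnit X ≫ σ)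
  haveI := hsec k (fst G X) (lift_fst _ _)
  haveI := hsec j (fst X X) (lift_fst _ _)
  have e : a.orbitMap σ ≫ j = k ≫ lift a.act (snd G X) := by
    apply CartesianMonoidalCategory.hom_ext
    · simp [j, k, AlgGrp.Action.orbitMap]
    · simp [j, k, ← Category.assoc, toUnit_unique (a.orbitMap σ ≫ toUnit X) (toUnit G)]
  haveI : IsClosedImmersion ((a.orbitMap σ).left ≫ j.left) := by
    rw [← Over.comp_left, e, Over.comp_left]
    infer_instance
  exact IsClosedImmersion.of_comp (a.orbitMap σ).left j.left

end Groth.Agent.MultTypeLib.FreeAction
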