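import Groth.Agent.MultTypeLib.GenLift

/-!
# Lifting points conjugating a homomorphism into a smooth subgroup

The argument of `FixedLiftGlobal` for the action on cosets of the subgroup: points of the subgroup are corrected using
its formal smoothness.
-/

universe u

open CategoryTheory CategoryTheory.Limits MonoidalCategory CartesianMonoidalCategory MonObj AlgebraicGeometry
open TensorProduct WithConv

noncomputable section

namespace Groth.Agent.MultTypeLib.CosetLift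

open GrpSchLib.AffineHopf FixedLift FixedLiftGlobal GenMultType GenLift

variable {S : Scheme.{u}} {H G K : Over S} [GrpObj H] [GrpObj G] [GrpObj K] (k : K ⟶ G) (u : H ⟶ G)

/-- A point conjugating `u` into `k`. -/
def Into {Y : Over S} (g : Y ⟶ G) : Prop :=
  ∀ (T : Over S) (q : T ⟶ Y) (h : T ⟶ H), ∃ x : T ⟶ K, (q ≫ g) * (h ≫ u) * (q ≫ g)⁻¹ = x ≫ k

theorem into_comp {Y Y' : Over S} {g : Y ⟶ G} (h : Into k u g) (r : Y' ⟶ Y) : Into k u (r ≫ g) := fun T q a => by
  rw [← Category.assoc]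
  exact h T (q ≫ r) a

variable [IsMonHom k] [IsMonHom u] [Mono k]

/-- Points of a smooth scheme lift along square zero thickenings. -/
theorem exists_lift_pt [Smooth K.hom] {B : Type u} [CommRing B] (t : Spec (CommRingCat.of B) ⟶ S) {M : Type u}
    [CommRing M] [Algebra B M] (I : Ideal M) (hI : ∀ p ∈ I, ∀ q ∈ I, p * q = 0) (c₀ : OT t (M ⧸ I) ⟶ K) :
    ∃ c : OT t M ⟶ K, OTm t (Ideal.Quotient.mkₐ B I) ≫ c = c₀ := by
  have hI2 : I ^ 2 = ⊥ := by
    rw [pow_two, eq_bot_iff, Ideal.mul_le]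
    exact fun p hp q hq => Ideal.mem_bot.mpr (hI p hp q hq)
  obtain ⟨-, hfs⟩ := (Groth.Agent.S1488.result K.hom).mp inferInstance
  obtain ⟨l, hl1, hl2⟩ := hfs M I hI2 c₀.left (OT t M).hom
    ((Over.w (OTm t (Ideal.Quotient.mkₐ B I))).trans (Over.w c₀).symm)
  exact ⟨Over.homMk l hl2, Over.OverMorphism.ext hl1⟩

set_option maxHeartbeats 1600000 in
/-- Lifting a point conjugating into the subgroup along a square zero ideal. -/
theorem exists_into_global [Smooth K.hom] {B : Type u} [CommRing B] (t : Spec (CommRingCat.of B) ⟶ S)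
    {A : Type u} [CommRing A] [HopfAlgebra B A] (gA : OT t A ⟶ H) (mn : Mean B A)
    (hgA : OTm t (Bialgebra.comulAlgHom B A) ≫ gA =
      (OTm t Algebra.TensorProduct.includeLeft ≫ gA) * (OTm t Algebra.TensorProduct.includeRight ≫ gA))
    (huniv : ∀ (T' : Over S) (q : T' ⟶ OT t B) (g : T' ⟶ H),
      ∃ q' : T' ⟶ OT t A, q' ≫ OTm t (Algebra.ofId B A) = q ∧ q' ≫ gA = g)
    (J : Ideal B) (hJ : J ^ 2 = ⊥) (y : OT t B ⟶ G)
    (h0 : Into k u (OTm t (Ideal.Quotient.mkₐ B J) ≫ y)) :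
    ∃ x : OT t B ⟶ G, OTm t (Ideal.Quotient.mkₐ B J) ≫ x = OTm t (Ideal.Quotient.mkₐ B J) ≫ y ∧ Into k u x := by
  let x₀ := OTm t (Ideal.Quotient.mkₐ B J) ≫ y
  let U : OT t A ⟶ G := gA ≫ u
  have hU : OTm t (Bialgebra.comulAlgHom B A) ≫ U =
      (OTm t Algebra.TensorProduct.includeLeft ≫ U) * (OTm t Algebra.TensorProduct.includeRight ≫ U) := by
    simp only [U]
    rw [← Category.assoc, hgA, MonObj.mul_comp, Category.assoc, Category.assoc]
  have hsq : ∀ (N : Type u) [CommRing N] [Algebra B N], ∀ p ∈ J.map (algebraMap B N), ∀ q ∈ J.map (algebraMap B N),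
      p * q = 0 := by
    intro N _ _ p hp q hq
    have h := Ideal.mul_mem_mul hp hq
    rwa [← Ideal.map_mul, ← pow_two, hJ, Ideal.map_bot, Ideal.mem_bot] at h
  have hmap : ∀ {N N' : Type u} [CommRing N] [Algebra B N] [CommRing N'] [Algebra B N'] (f : N →ₐ[B] N'),
      ∀ p ∈ J.map (algebraMap B N), f p ∈ J.map (algebraMap B N') := by
    intro N N' _ _ _ _ f p hp
    have h := Ideal.mem_map_of_mem f.toRingHom hp
    rw [Ideal.map_map] at h
    convert h using 2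
    · exact f.comp_algebraMap.symm
    · rfl
  have hlin : ∀ {N N' : Type u} [CommRing N] [Algebra B N] [CommRing N'] [Algebra B N'] (L : N →ₗ[B] N'),
      ∀ p ∈ J.map (algebraMap B N), L p ∈ J.map (algebraMap B N') := by
    intro N N' _ _ _ _ L p hp
    have h1 : p ∈ (J • ⊤ : Submodule B N) := by
      rw [Ideal.smul_top_eq_map]; exact hp
    have h2 : L p ∈ (J • ⊤ : Submodule B N') := by
      have := Submodule.mem_map_of_mem (f := L) h1
      rw [Submodule.map_smul''] at this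
      exact Submodule.smul_mono le_rfl le_top this
    rw [Ideal.smul_top_eq_map] at h2
    exact h2
  have hsub : ∀ {N : Type u} [CommRing N] [Algebra B N] (η' : N →ₐ[B] B), Thick J η' (J.map (algebraMap B N)) :=
    fun {N} _ _ η' => ⟨hsq N, le_rfl, fun p hp => by
      have h := hmap η' p hp
      rwa [Algebra.algebraMap_self, Ideal.map_id] at h⟩
  let εA : A →ₐ[B] B := Bialgebra.counitAlgHom B A
  let JA : Ideal A := J.map (algebraMap B A)
  have hA : Thick J εA JA := hsub εA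
  let T := sub εA JA
  let π : T →ₐ[B] B ⧸ J := FixedLiftGlobal.red J εA JA
  let ofA : B →ₐ[B] A := Algebra.ofId B A
  let w : OT t A ⟶ G := OTm t ofA ≫ y
  have hwred : OTm t (Ideal.Quotient.mkₐ B JA) ≫ w = OTm t hA.incl ≫ x₀ := by
    show OTm t _ ≫ OTm t ofA ≫ y = OTm t _ ≫ OTm t _ ≫ y
    rw [← Category.assoc, ← Category.assoc, OTm_comp, OTm_comp,
      Subsingleton.elim (hA.incl.comp (Ideal.Quotient.mkₐ B J)) ((Ideal.Quotient.mkₐ B JA).comp ofA)]
  obtain ⟨κ₀, hκ₀⟩ := h0 _ (OTm t hA.incl) (OTm t (Ideal.Quotient.mkₐ B JA) ≫ gA)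
  obtain ⟨κ, hκ⟩ := exists_lift_pt t JA (hsq A) κ₀
  let z : OT t A ⟶ G := (κ ≫ k) * (w * U⁻¹)
  obtain ⟨zT, hzT, hzπ⟩ := exists_pt t hA z x₀ (by
    simp only [z, MonObj.comp_mul, GrpObj.comp_inv, hwred]
    rw [← Category.assoc _ κ k, hκ, ← hκ₀, Category.assoc, show gA ≫ u = U from rfl]
    simp only [x₀]
    group)
  let iL : A →ₐ[B] A ⊗[B] T := Algebra.TensorProduct.includeLeft
  let iR : T →ₐ[B] A ⊗[B] T := Algebra.TensorProduct.includeRight
  let ε₁ : A ⊗[B] T →ₐ[B] B := Algebra.TensorProduct.lift εA (εA.comp T.val) fun _ _ => .all _ _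
  let I₁ : Ideal (A ⊗[B] T) := (RingHom.ker π).map iR
  have hI₁ : Thick J ε₁ I₁ := by
    refine ⟨fun p hp q hq => ?_, ?_, fun p hp => ?_⟩
    · have h : (RingHom.ker π) * (RingHom.ker π) = ⊥ := by
        rw [eq_bot_iff, Ideal.mul_le]
        intro p hp q hq
        rw [Ideal.mem_bot]
        exact Subtype.ext (hA.nil _ (hA.mem_of_aug p (Ideal.Quotient.eq_zero_iff_mem.mp hp)) _
          (hA.mem_of_aug q (Ideal.Quotient.eq_zero_iff_mem.mp hq)))
      have h' := Ideal.mul_mem_mul hp hq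
      rwa [← Ideal.map_mul, h, Ideal.map_bot, Ideal.mem_bot] at h'
    · rw [Ideal.map_le_iff_le_comap]
      intro b hb
      rw [Ideal.mem_comap, ← iR.commutes]
      refine Ideal.mem_map_of_mem iR ?_
      rw [RingHom.mem_ker, AlgHom.commutes]
      exact Ideal.Quotient.eq_zero_iff_mem.mpr hb
    · have h := Ideal.mem_map_of_mem ε₁ hp
      rw [Ideal.map_mapₐ] at h
      refine Ideal.map_le_iff_le_comap.mpr (fun p hp => ?_) h
      show ε₁ (iR p) ∈ J
      simp only [ε₁, iR, Algebra.TensorProduct.includeRight_apply, Algebra.TensorProduct.lift_tmul, map_one,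
        _root_.one_mul, AlgHom.comp_apply]
      exact Ideal.Quotient.eq_zero_iff_mem.mp hp
  let π₁ : A ⊗[B] T →ₐ[B] (A ⊗[B] T) ⧸ I₁ := Ideal.Quotient.mkₐ B I₁
  have hz₁red : OTm t (T := A ⊗[B] T) (T' := (A ⊗[B] T) ⧸ I₁) π₁ ≫ OTm t iR ≫ zT = OTm t hI₁.incl ≫ x₀ := by
    have e : π₁.comp iR = hI₁.incl.comp π := by
      refine AlgHom.ext fun p => ?_
      have hp : p - algebraMap B T (εA p) ∈ RingHom.ker π := by
        rw [RingHom.mem_ker, map_sub, AlgHom.commutes]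
        exact sub_self _
      have := Ideal.Quotient.eq.mpr (show iR p - iR (algebraMap B T (εA p)) ∈ I₁ by
        rw [← map_sub]; exact Ideal.mem_map_of_mem iR hp)
      rw [iR.commutes] at this
      exact this
    rw [← Category.assoc, OTm_comp, e, ← OTm_comp, Category.assoc, hzπ]
  obtain ⟨κ₁₀, hκ₁₀⟩ := h0 _ (OTm t hI₁.incl) (OTm t (T := A ⊗[B] T) (T' := (A ⊗[B] T) ⧸ I₁) π₁ ≫ OTm t iL ≫ gA)
  obtain ⟨κ₁, hκ₁⟩ := exists_lift_pt t I₁ hI₁.nil κ₁₀
  let z₁ : OT t (A ⊗[B] T) ⟶ G := (κ₁ ≫ k) * ((OTm t iR ≫ zT) * (OTm t iL ≫ U)⁻¹)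
  obtain ⟨zT₁, hzT₁, hzπ₁⟩ := exists_pt t hI₁ z₁ x₀ (by
    show OTm t (T := A ⊗[B] T) (T' := (A ⊗[B] T) ⧸ I₁) π₁ ≫ z₁ = _
    simp only [z₁, MonObj.comp_mul, GrpObj.comp_inv, hz₁red]
    rw [← Category.assoc _ κ₁ k, show OTm t (T := A ⊗[B] T) (T' := (A ⊗[B] T) ⧸ I₁) π₁ ≫ κ₁ = κ₁₀ from hκ₁,
      ← hκ₁₀, Category.assoc, Category.assoc, show gA ≫ u = U from rfl]
    simp only [x₀]
    group)
  let ε₂ : A ⊗[B] A →ₐ[B] B := Algebra.TensorProduct.lift εA εA fun _ _ => .all _ _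
  let J₂ : Ideal (A ⊗[B] A) := J.map (algebraMap B (A ⊗[B] A))
  have h₂ : Thick J ε₂ J₂ := hsub ε₂
  let h : A ⊗[B] T →ₐ[B] A ⊗[B] A := Algebra.TensorProduct.map (AlgHom.id B A) T.val
  have hhI : ∀ p ∈ I₁, h p ∈ J₂ := fun p hp => by
    have h' := Ideal.mem_map_of_mem h hp
    rw [Ideal.map_mapₐ] at h'
    refine Ideal.map_le_iff_le_comap.mpr (fun p hp => ?_) h'
    show h (iR p) ∈ J₂
    rw [show h (iR p) = (Algebra.TensorProduct.includeRight : A →ₐ[B] A ⊗[B] A) (T.val p) by simp [h, iR]]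
    exact hmap _ _ (hA.mem_of_aug p (Ideal.Quotient.eq_zero_iff_mem.mp hp))
  let T₁ := sub ε₁ I₁
  let T₂ := sub ε₂ J₂
  let Δ : A →ₐ[B] A ⊗[B] A := Bialgebra.comulAlgHom B A
  have hhm : ∀ p : T₁, h p - algebraMap B (A ⊗[B] A) (ε₁ p) ∈ J₂ := fun p => by
    rw [← h.commutes, ← map_sub]
    exact hhI _ (mem_sub.mp p.2)
  have hΔm : ∀ p : T, Δ p - algebraMap B (A ⊗[B] A) (εA p) ∈ J₂ := fun p => by
    rw [← Δ.commutes, ← map_sub]
    exact hmap Δ _ (mem_sub.mp p.2)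
  let hT : T₁ →ₐ[B] T₂ := (h.comp T₁.val).codRestrict T₂ fun p => h₂.mem_sub_of (ε₁ p) (hhm p)
  let ΔT : T →ₐ[B] T₂ := (Δ.comp T.val).codRestrict T₂ fun p => h₂.mem_sub_of (εA p) (hΔm p)
  have hr1 : (FixedLiftGlobal.red J ε₂ J₂).comp hT = FixedLiftGlobal.red J ε₁ I₁ := AlgHom.ext fun p => by
    refine Ideal.Quotient.eq.mpr ?_
    have h' := h₂.aug _ (hhm p)
    rw [map_sub ε₂, AlgHom.commutes] at h'
    exact h'
  have hr2 : (FixedLiftGlobal.red J ε₂ J₂).comp ΔT = π := AlgHom.ext fun p => by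
    refine Ideal.Quotient.eq.mpr ?_
    have h' := h₂.aug _ (hΔm p)
    rw [map_sub ε₂, AlgHom.commutes] at h'
    exact h'
  let a : OT t T₂ ⟶ G := OTm t ΔT ≫ zT
  let b : OT t T₂ ⟶ G := OTm t hT ≫ zT₁
  have ha : OTm t T₂.val ≫ a = OTm t Δ ≫ z := by
    show _ ≫ OTm t ΔT ≫ zT = _
    rw [← Category.assoc, OTm_comp, show T₂.val.comp ΔT = Δ.comp T.val from AlgHom.ext fun p => rfl, ← OTm_comp,
      Category.assoc, hzT]
  have hb : OTm t T₂.val ≫ b = OTm t h ≫ z₁ := by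
    show _ ≫ OTm t hT ≫ zT₁ = _
    rw [← Category.assoc, OTm_comp, show T₂.val.comp hT = h.comp T₁.val from AlgHom.ext fun p => rfl, ← OTm_comp,
      Category.assoc, hzT₁]
  let iR₂ : A →ₐ[B] A ⊗[B] A := Algebra.TensorProduct.includeRight
  let c : OT t (A ⊗[B] A) ⟶ K := (OTm t Δ ≫ κ) * ((OTm t h ≫ κ₁) * (OTm t iR₂ ≫ κ))⁻¹
  have hL : h.comp iL = (Algebra.TensorProduct.includeLeft : A →ₐ[B] A ⊗[B] A) := AlgHom.ext fun p => by
    simp [h, iL]
  have hR : h.comp iR = iR₂.comp T.val :=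
    AlgHom.ext fun p => by simp [h, iR, iR₂]
  have hcoc : OTm t T₂.val ≫ (a * b⁻¹) = c ≫ k := by
    have hiR : OTm t h ≫ OTm t iR ≫ zT = OTm t iR₂ ≫ z := by
      rw [← Category.assoc, OTm_comp, hR, ← OTm_comp, Category.assoc, hzT]
    have hiL : OTm t h ≫ OTm t iL ≫ U = OTm t (T := A) (T' := A ⊗[B] A) Algebra.TensorProduct.includeLeft ≫ U := by
      rw [← Category.assoc, OTm_comp, hL]
    have hwR : OTm t iR₂ ≫ w = OTm t Δ ≫ w := by
      show _ ≫ OTm t ofA ≫ y = _ ≫ OTm t ofA ≫ y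
      rw [← Category.assoc, OTm_comp, ← Category.assoc, OTm_comp, Subsingleton.elim (iR₂.comp ofA) (Δ.comp ofA)]
    rw [MonObj.comp_mul, GrpObj.comp_inv, ha, hb]
    simp only [z₁, c, MonObj.comp_mul, GrpObj.comp_inv, MonObj.mul_comp, GrpObj.inv_comp, hiR, hiL]
    simp only [z, MonObj.comp_mul, GrpObj.comp_inv, hwR, Category.assoc]
    rw [show OTm t Δ ≫ U = (OTm t Algebra.TensorProduct.includeLeft ≫ U) * (OTm t iR₂ ≫ U) from hU]
    group
  obtain ⟨κT, hκT, -⟩ := exists_pt t h₂ c 1 (by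
    rw [← cancel_mono k]
    show (OTm t (Ideal.Quotient.mkₐ B J₂) ≫ c) ≫ k = (OTm t h₂.incl ≫ 1) ≫ k
    rw [Category.assoc, ← hcoc, ← Category.assoc, OTm_comp, ← h₂.incl_red, ← OTm_comp, Category.assoc]
    have e : OTm t (FixedLiftGlobal.red J ε₂ J₂) ≫ (a * b⁻¹) = 1 := by
      rw [MonObj.comp_mul, GrpObj.comp_inv,
        show OTm t (FixedLiftGlobal.red J ε₂ J₂) ≫ a = x₀ by rw [← Category.assoc, OTm_comp, hr2, hzπ],
        show OTm t (FixedLiftGlobal.red J ε₂ J₂) ≫ b = x₀ by rw [← Category.assoc, OTm_comp, hr1, hzπ₁], mul_inv_cancel]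
    rw [e, MonObj.comp_one, MonObj.comp_one, MonObj.one_comp])
  have hab : a = (κT ≫ k) * b := by
    have h' : a * b⁻¹ = κT ≫ k := pt_ext t h₂ (by rw [hcoc, ← Category.assoc, hκT])
    rw [← h', inv_mul_cancel_right]
  obtain ⟨μT, hμT⟩ := hA.exists_algHom mn.«μ» mn.map_one' J
    (fun p hp q hq => by
      have h := Ideal.mul_mem_mul hp hq
      rwa [← pow_two, hJ, Ideal.mem_bot] at h)
    (fun p hp => by
      have h := hlin mn.«μ» p hp
      rwa [Algebra.algebraMap_self, Ideal.map_id] at h)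
  obtain ⟨L₂, hL₂⟩ := h₂.exists_algHom mn.L mn.L_one JA (hsq A) (fun p hp => hlin mn.L p hp)
  refine ⟨OTm t μT ≫ zT, ?_, fun T' p g => ?_⟩
  · rw [← Category.assoc, OTm_comp]
    refine Eq.trans ?_ hzπ
    congr 2
    refine AlgHom.ext fun p => ?_
    show Ideal.Quotient.mk J (μT p) = Ideal.Quotient.mk J (εA p)
    rw [hμT, Ideal.Quotient.eq]
    have h := hlin mn.«μ» _ (mem_sub.mp p.2)
    rw [map_sub, Algebra.algebraMap_self, Ideal.map_id, Algebra.algebraMap_eq_smul_one, map_smul, mn.map_one',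
      smul_eq_mul, _root_.mul_one] at h
    exact h
  · obtain ⟨p', hp', hg⟩ := huniv T' p g
    let hx : A ⊗[B] T →ₐ[B] A :=
      Algebra.TensorProduct.lift (AlgHom.id B A) (ofA.comp μT) fun _ _ => .all _ _
    have hLx : ∀ w, mn.L (h w) = hx w := fun w => by
      induction w using TensorProduct.induction_on with
      | zero => simp
      | add p p' hp hp' => simp only [map_add, hp, hp']
      | tmul p c =>
        simp only [h, hx, Algebra.TensorProduct.map_tmul, Algebra.TensorProduct.lift_tmul, AlgHom.id_apply, mn.L_tmul,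
          AlgHom.comp_apply, hμT]
        rw [Algebra.smul_def, mul_comm]
        rfl
    have e1 : hx.comp T₁.val = L₂.comp hT := AlgHom.ext fun w => by
      rw [AlgHom.comp_apply, AlgHom.comp_apply, hL₂, ← hLx]
      rfl
    have e2 : L₂.comp ΔT = ofA.comp μT := AlgHom.ext fun w => by
      rw [AlgHom.comp_apply, AlgHom.comp_apply, hL₂, hμT]
      exact (mn.inv _).trans (Algebra.algebraMap_eq_smul_one _).symm
    have hx1 : hx.comp iL = AlgHom.id B A := AlgHom.ext fun w => by simp [hx, iL]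
    have hx2 : hx.comp iR = ofA.comp μT := AlgHom.ext fun c => by simp [hx, iR]
    let X : OT t A ⟶ G := OTm t ofA ≫ OTm t μT ≫ zT
    have eX : OTm t hx ≫ OTm t iR ≫ zT = X := by
      show _ = OTm t ofA ≫ OTm t μT ≫ zT
      rw [← Category.assoc, OTm_comp, hx2, ← OTm_comp, Category.assoc]
    have eU : OTm t hx ≫ OTm t iL ≫ U = U := by
      rw [← Category.assoc, OTm_comp, hx1]
      simp [OTm, spMap_id]
    have eB : OTm t L₂ ≫ b = OTm t hx ≫ z₁ := by
      show _ ≫ OTm t hT ≫ zT₁ = _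
      rw [← Category.assoc, OTm_comp, ← e1, ← OTm_comp, Category.assoc, hzT₁]
    have eA : OTm t L₂ ≫ a = X := by
      show _ ≫ OTm t ΔT ≫ zT = OTm t ofA ≫ OTm t μT ≫ zT
      rw [← Category.assoc, OTm_comp, e2, ← OTm_comp, Category.assoc]
    let κX : OT t A ⟶ K := (OTm t L₂ ≫ κT) * (OTm t hx ≫ κ₁)
    have key : X * U * X⁻¹ = κX ≫ k := by
      have h' := congrArg (OTm t L₂ ≫ ·) hab
      simp only [MonObj.comp_mul, eA, eB, z₁, GrpObj.comp_inv, eX, eU] at h'
      simp only [κX, MonObj.mul_comp, Category.assoc]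
      calc X * U * X⁻¹ = ((OTm t L₂ ≫ κT ≫ k) * ((OTm t hx ≫ κ₁ ≫ k) * (X * U⁻¹))) * U * X⁻¹ := by rw [← h']
        _ = _ := by group
    refine ⟨p' ≫ κX, ?_⟩
    rw [Category.assoc, ← key, ← hg, ← hp']
    simp only [MonObj.comp_mul, GrpObj.comp_inv, Category.assoc, X, U]
    rfl

/-- Over a square zero thickening, a lift can be changed into one conjugating into the subgroup. -/
theorem exists_into_sq [Smooth K.hom] (hH : IsMT H) {B C : Type u} [CommRing B] [CommRing C]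
    (t : Spec (CommRingCat.of B) ⟶ S) (f : B →+* C) (hf : Function.Surjective f) (hf2 : RingHom.ker f ^ 2 = ⊥)
    (y : Over.mk t ⟶ G) (h0 : Into k u (ptm t f ≫ y)) :
    ∃ x : Over.mk t ⟶ G, ptm t f ≫ x = ptm t f ≫ y ∧ Into k u x := by
  obtain ⟨A, _, _, gA, hA, hgA, huniv⟩ := exists_universal t hH
  obtain ⟨mn⟩ := exists_mean hA
  let J : Ideal B := RingHom.ker f
  let e : C ≃+* B ⧸ J := (RingHom.quotientKerEquivOfSurjective hf).symm
  have he : e.toRingHom.comp f = Ideal.Quotient.mk J := RingHom.ext fun b => by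
    show (RingHom.quotientKerEquivOfSurjective hf).symm (f b) = _
    rw [RingEquiv.symm_apply_eq]
    rfl
  have he' : Spec.map (CommRingCat.ofHom e.toRingHom) ≫ Spec.map (CommRingCat.ofHom f) =
      Spec.map (CommRingCat.ofHom (Ideal.Quotient.mk J)) := by
    rw [← Spec.map_comp, ← CommRingCat.ofHom_comp, he]
  let u₁ : Over.mk t ⟶ OT t B := Over.homMk (𝟙 _) ((Category.id_comp _).trans ((congrArg (· ≫ t) (Spec.map_id _)).trans (Category.id_comp t)))
  let u₁' : OT t B ⟶ Over.mk t := Over.homMk (𝟙 _)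
    (show 𝟙 _ ≫ t = Spec.map (𝟙 (CommRingCat.of B)) ≫ t by rw [Spec.map_id])
  let u₀ : OT t (B ⧸ J) ⟶ PT t f := Over.homMk (Spec.map (CommRingCat.ofHom e.toRingHom)) (by
    show Spec.map (CommRingCat.ofHom e.toRingHom) ≫ Spec.map (CommRingCat.ofHom f) ≫ t = _
    rw [reassoc_of% he']
    rfl)
  have hu : u₀ ≫ ptm t f = OTm t (Ideal.Quotient.mkₐ B J) ≫ u₁' :=
    Over.OverMorphism.ext (he'.trans (Category.comp_id _).symm)
  obtain ⟨x, hx, hxF⟩ := exists_into_global k u t gA mn hgA huniv J hf2 (u₁' ≫ y) (by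
    rw [← Category.assoc, ← hu, Category.assoc]
    exact into_comp k u h0 u₀)
  refine ⟨u₁ ≫ x, ?_, into_comp k u hxF u₁⟩
  haveI : IsIso u₀ := by
    haveI : IsIso (CommRingCat.ofHom e.toRingHom) := inferInstanceAs (IsIso e.toCommRingCatIso.hom)
    haveI : IsIso ((Over.forget S).map u₀) := inferInstanceAs (IsIso (Spec.map (CommRingCat.ofHom e.toRingHom)))
    exact isIso_of_reflects_iso u₀ (Over.forget S)
  rw [← cancel_epi u₀, ← Category.assoc u₀, ← Category.assoc u₀, hu, Category.assoc, Category.assoc,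
    show u₁' ≫ u₁ ≫ x = x by rw [← Category.assoc, show u₁' ≫ u₁ = 𝟙 _ from Over.OverMorphism.ext (Category.id_comp _),
      Category.id_comp]]
  exact hx

set_option maxHeartbeats 800000 in
/-- Points conjugating into a smooth subgroup lift along nilpotent thickenings. -/
theorem exists_into_lift [Smooth K.hom] [Smooth G.hom] (hH : IsMT H) {B C : Type u} [CommRing B] [CommRing C]
    (t : Spec (CommRingCat.of B) ⟶ S) (f : B →+* C) (hf : Function.Surjective f) (hfn : IsNilpotent (RingHom.ker f))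
    (x₀ : PT t f ⟶ G) (h0 : Into k u x₀) : ∃ x : Over.mk t ⟶ G, ptm t f ≫ x = x₀ ∧ Into k u x := by
  suffices Hk : ∀ (n : ℕ) (B : Type u) [CommRing B] (t : Spec (CommRingCat.of B) ⟶ S) (f : B →+* C)
      (_ : Function.Surjective f) (_ : RingHom.ker f ^ 2 ^ n = ⊥) (x₀ : PT t f ⟶ G) (_ : Into k u x₀),
      ∃ x : Over.mk t ⟶ G, ptm t f ≫ x = x₀ ∧ Into k u x by
    obtain ⟨n, hn⟩ := hfn
    exact Hk n B t f hf (pow_eq_zero_of_le Nat.lt_two_pow_self.le hn) x₀ h0
  clear h0 x₀ hfn hf f t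
  intro n
  induction n with
  | zero =>
    intro B _ t f hf hk x₀ h0
    rw [pow_zero, pow_one] at hk
    have hb : Function.Bijective f := ⟨(RingHom.injective_iff_ker_eq_bot f).mpr hk, hf⟩
    haveI : IsIso (ptm t f) := by
      haveI : IsIso (CommRingCat.ofHom f) := inferInstanceAs (IsIso (RingEquiv.ofBijective f hb).toCommRingCatIso.hom)
      haveI : IsIso ((Over.forget S).map (ptm t f)) := inferInstanceAs (IsIso (Spec.map (CommRingCat.ofHom f)))
      exact isIso_of_reflects_iso (ptm t f) (Over.forget S)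
    exact ⟨inv (ptm t f) ≫ x₀, IsIso.hom_inv_id_assoc _ _, into_comp k u h0 _⟩
  | succ n ih =>
    intro B _ t f hf hk x₀ h0
    let J' : Ideal B := RingHom.ker f ^ 2 ^ n
    have hJ' : J' ≤ RingHom.ker f := Ideal.pow_le_self (Nat.two_pow_pos n).ne'
    have hJ'2 : J' ^ 2 = ⊥ := by rw [← pow_mul, ← pow_succ]; exact hk
    let f' : B ⧸ J' →+* C := Ideal.Quotient.lift J' f fun b hb => hJ' hb
    have hf' : Function.Surjective f' := Ideal.Quotient.lift_surjective_of_surjective J' _ hf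
    have hk' : RingHom.ker f' ^ 2 ^ n = ⊥ := by
      rw [show (RingHom.ker f' : Ideal (B ⧸ J')) = (RingHom.ker f).map (Ideal.Quotient.mk J') from
        Ideal.ker_quotient_lift _ _, ← Ideal.map_pow, Ideal.map_eq_bot_iff_le_ker, Ideal.mk_ker]
    let t' : Spec (CommRingCat.of (B ⧸ J')) ⟶ S := Spec.map (CommRingCat.ofHom (Ideal.Quotient.mk J')) ≫ t
    have hff : Spec.map (CommRingCat.ofHom f') ≫ Spec.map (CommRingCat.ofHom (Ideal.Quotient.mk J')) =
        Spec.map (CommRingCat.ofHom f) := by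
      rw [← Spec.map_comp, ← CommRingCat.ofHom_comp]
      congr 2
    have hff' : Spec.map (CommRingCat.ofHom f') ≫ t' = Spec.map (CommRingCat.ofHom f) ≫ t := by
      simp only [t']
      exact (Category.assoc _ _ _).symm.trans (congrArg (· ≫ t) hff)
    let w : PT t' f' ⟶ PT t f := overEq hff'
    let w' : PT t f ⟶ PT t' f' := overEq hff'.symm
    have hww : w' ≫ w = 𝟙 _ := overEq_comp hff'.symm hff'
    obtain ⟨x₁, hx₁, hx₁F⟩ := ih (B ⧸ J') t' f' hf' hk' (w ≫ x₀) (into_comp k u h0 w)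
    obtain ⟨-, hfs⟩ := (Groth.Agent.S1488.result G.hom).mp inferInstance
    obtain ⟨l, hl1, hl2⟩ := hfs B J' hJ'2 x₁.left t (Over.w x₁).symm
    let y : Over.mk t ⟶ G := Over.homMk l hl2
    have hy : ptm t (Ideal.Quotient.mk J') ≫ y = x₁ := Over.OverMorphism.ext hl1
    obtain ⟨x, hx, hxF⟩ := exists_into_sq k u hH t (Ideal.Quotient.mk J') Ideal.Quotient.mk_surjective
      (by rw [Ideal.mk_ker]; exact hJ'2) y (by rw [hy]; exact hx₁F)
    refine ⟨x, ?_, hxF⟩
    have e : ptm t f = w' ≫ ptm t' f' ≫ ptm t (Ideal.Quotient.mk J') := by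
      refine Over.OverMorphism.ext ?_
      simp only [w', Over.comp_left, overEq_left, Category.id_comp]
      exact hff.symm
    calc ptm t f ≫ x = w' ≫ ptm t' f' ≫ ptm t (Ideal.Quotient.mk J') ≫ x := by rw [e]; simp only [Category.assoc]
      _ = w' ≫ ptm t' f' ≫ x₁ := by rw [hx, hy]
      _ = x₀ := by rw [hx₁, ← Category.assoc, hww, Category.id_comp]

end Groth.Agent.MultTypeLib.CosetLift
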