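import Groth.Agent.MultTypeLib.SubgroupTransporter

/-!
# Rigidity of normalizers of subgroups of multiplicative type

The centralizer is open and closed in the normalizer: a normalizing point centralizing modulo a nilpotent ideal
centralizes.
-/

universe u

open CategoryTheory CategoryTheory.Limits MonoidalCategory CartesianMonoidalCategory MonObj AlgebraicGeometry
open TensorProduct WithConv
open scoped CategoryTheory.Obj

namespace Groth.Agent.MultTypeLib.SubgroupRigid

open GrpSchLib.AffineHopf TransporterLift SubgroupLift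

attribute [local instance 2000] MultTypeLib.algConvGroup

set_option maxHeartbeats 800000 in
/-- A normalizing point centralizing modulo a nilpotent ideal centralizes, over an affine base. -/
theorem transp_affine {B : Type u} [CommRing B] (H G : Over (Spec (CommRingCat.of B))) [GrpObj H] [GrpObj G]
    (hH : SGA3x.IsMultTypeFT H) [IsAffine G.left] (i : H ⟶ G) [IsMonHom i] [Mono i]
    (J : Ideal B) (hJ : IsNilpotent J) (g : sp B B ⟶ G) (hg : STransp i i g)
    (h0 : Transp i i (spMap (Ideal.Quotient.mkₐ B J) ≫ g)) : Transp i i g := by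
  obtain ⟨C, _, _, ⟨eG⟩⟩ := exists_hopf G
  let θ : sp B C ⟶ G := eG.hom.hom.hom
  let θ' : G ⟶ sp B C := eG.inv.hom.hom
  have hθ : θ' ≫ θ = 𝟙 G := congrArg (fun h => h.hom.hom) eG.inv_hom_id
  have hθ' : θ ≫ θ' = 𝟙 (sp B C) := congrArg (fun h => h.hom.hom) eG.hom_inv_id
  haveI : IsMonHom θ' := eG.inv.hom.isMonHom_hom
  haveI : IsIso θ' := ⟨θ, hθ, hθ'⟩
  obtain ⟨A, _, _, eh, eh', cm, hA, h1, h2, hcm, hi⟩ := exists_hopf_subgroup hH θ' i
  obtain ⟨x, hx⟩ := exists_eq_spMap (g ≫ θ')
  let P : ∀ (T : Type u) [CommRing T] [Algebra B T], WithConv (C →ₐ[B] T) ≃* (sp B T ⟶ sp B C) := fun T _ _ =>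
    Spec.mapMulEquiv
  have hP : ∀ (T : Type u) [CommRing T] [Algebra B T] (f : C →ₐ[B] T), P T (toConv f) = spMap f := fun T _ _ f => rfl
  obtain ⟨k, hk⟩ := (hg (sp B A) (spMap (Algebra.ofId B A))).1 eh
  obtain ⟨q, hq⟩ := exists_eq_spMap (k ≫ eh')
  let d : WithConv (C →ₐ[B] A) := conjPt (toConv x) (toConv (cm : C →ₐ[B] A))
  have key : d = toConv (q.comp (cm : C →ₐ[B] A)) := by
    apply (P _).injective
    have h := congrArg (· ≫ θ') hk
    simp only [MonObj.mul_comp, GrpObj.inv_comp, Category.assoc] at h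
    rw [hi, show k ≫ i ≫ θ' = spMap q ≫ eh ≫ i ≫ θ' by rw [← hq, Category.assoc, reassoc_of% h2], hi, hx] at h
    simp only [spMap_comp] at h
    simp only [d, conjPt, map_mul, map_inv]
    exact h
  obtain ⟨e, he⟩ := exists_bialgHom_of_isHomMod d (fun c => by
    rw [Submodule.bot_smul, Submodule.mem_bot, ← map_mul]
    exact sub_eq_zero.mpr (congrArg (fun f => (lin f).ofConv c) ((isHomPt_bialgHom cm).conj (toConv x))))
  obtain ⟨φ, hφ⟩ := exists_bialgHom_of_comp_surjective cm hcm q e fun c => by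
    rw [he, key]
    rfl
  have h0' : ∀ c, d.ofConv c - cm c ∈ (J • ⊤ : Submodule B A) := by
    let π : A →ₐ[B] (B ⧸ J) ⊗[B] A := Algebra.TensorProduct.includeRight
    let ι₀ : B ⧸ J →ₐ[B] (B ⧸ J) ⊗[B] A := Algebra.TensorProduct.includeLeft
    have k0 : convMap π d = convMap π (toConv (cm : C →ₐ[B] A)) := by
      apply (P _).injective
      have h := congrArg (· ≫ θ') (h0 (sp B ((B ⧸ J) ⊗[B] A)) (spMap ι₀) (spMap π ≫ eh))
      simp only [MonObj.mul_comp, GrpObj.inv_comp, Category.assoc, hi, hx, spMap_comp] at h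
      rw [← AlgHom.comp_assoc, Subsingleton.elim (ι₀.comp (Ideal.Quotient.mkₐ B J))
        (Algebra.ofId B ((B ⧸ J) ⊗[B] A))] at h
      simp only [d, conjPt, map_mul, map_inv, convMap_ofId]
      exact h
    exact fun c => (one_tmul_eq_iff_mem J _ _).mp (congrArg (fun f => f.ofConv c) k0)
  have hid : φ = BialgHom.id B A := bialgHom_ext_nil hJ hA hA _ _ fun a => by
    obtain ⟨c, rfl⟩ := hcm a
    rw [hφ]
    have := h0' c
    rw [key] at this
    exact this
  have hd : d = toConv (cm : C →ₐ[B] A) := by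
    rw [key]
    refine WithConv.ext (AlgHom.ext fun c => ?_)
    show q (cm c) = cm c
    rw [← hφ, hid]
    rfl
  intro X' t a
  have huniv : (spMap (Algebra.ofId B A) ≫ g) * (eh ≫ i) * (spMap (Algebra.ofId B A) ≫ g)⁻¹ = eh ≫ i := by
    rw [← cancel_mono θ']
    simp only [MonObj.mul_comp, GrpObj.inv_comp, Category.assoc, hi, hx, spMap_comp]
    have h := congrArg (P A) hd
    simp only [d, conjPt, map_mul, map_inv] at h
    exact h
  have := congrArg (fun f => (a ≫ eh') ≫ f) huniv
  simp only [MonObj.comp_mul, GrpObj.comp_inv, ← Category.assoc] at this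
  rw [show ((a ≫ eh') ≫ eh) = a by rw [Category.assoc, h2, Category.comp_id],
    over_subsingleton ((a ≫ eh') ≫ spMap (Algebra.ofId B A)) t] at this
  simpa only [Category.assoc] using this

variable {S : Scheme.{u}}

/-- Transporting points can be detected after base change. -/
theorem transp_of_bc {H G : Over S} [GrpObj G] {u₁ u₂ : H ⟶ G} {S' : Scheme.{u}} (f : S' ⟶ S) {X₀ : Over S'}
    {g : (Over.map f).obj X₀ ⟶ G}
    (hg : Transp ((Over.pullback f).map u₁) ((Over.pullback f).map u₂)
      ((Over.mapPullbackAdj f).homEquiv X₀ G g)) : Transp u₁ u₂ g := by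
  intro X' x h
  let adj := Over.mapPullbackAdj f
  let X : Over S' := Over.mk (x.left ≫ X₀.hom)
  let x₁ : X ⟶ X₀ := Over.homMk x.left rfl
  let e : X' ≅ (Over.map f).obj X := Over.isoMk (Iso.refl _) (by
    show 𝟙 _ ≫ (x.left ≫ X₀.hom) ≫ f = X'.hom
    rw [Category.id_comp, Category.assoc]
    exact Over.w x)
  have hx : e.inv ≫ x = (Over.map f).map x₁ := Over.OverMorphism.ext (Category.id_comp _)
  have hmul : ∀ a b : (Over.map f).obj X ⟶ G, adj.homEquiv X G (a * b) = adj.homEquiv X G a * adj.homEquiv X G b := by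
    intro a b
    rw [Adjunction.homEquiv_unit, Adjunction.homEquiv_unit, Adjunction.homEquiv_unit, Functor.map_mul,
      MonObj.comp_mul]
  let Φ : ((Over.map f).obj X ⟶ G) →* (X ⟶ (Over.pullback f).obj G) := MonoidHom.mk' (adj.homEquiv X G) hmul
  have hΦ : Function.Injective Φ := (adj.homEquiv X G).injective
  rw [← cancel_epi e.inv]
  apply hΦ
  have e' := hg X x₁ (adj.homEquiv X H (e.inv ≫ h))
  simp only [MonObj.comp_mul, GrpObj.comp_inv, ← Category.assoc, hx, map_mul, map_inv]
  simp only [Φ, MonoidHom.mk'_apply, Adjunction.homEquiv_naturality_left]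
  simp only [Adjunction.homEquiv_naturality_right] at e' ⊢
  exact e'

/-- A normalizing point centralizing modulo a nilpotent ideal centralizes. -/
theorem transp_of_stransp (H G : Over S) [GrpObj H] [GrpObj G] (hH : SGA3x.IsMultTypeFT H) [IsAffineHom G.hom]
    (i : H ⟶ G) [IsMonHom i] [Mono i] {B : Type u} [CommRing B] (t : Spec (CommRingCat.of B) ⟶ S) (J : Ideal B)
    (hJ : IsNilpotent J) (g : (Over.map t).obj (sp B B) ⟶ G) (hg : STransp i i g)
    (h0 : Transp i i ((Over.map t).map (spMap (Ideal.Quotient.mkₐ B J)) ≫ g)) : Transp i i g := by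
  haveI : IsAffine ((Over.pullback t).obj G).left := by
    haveI : IsAffineHom ((Over.pullback t).obj G).hom := inferInstanceAs (IsAffineHom (pullback.snd G.hom t))
    exact isAffine_of_isAffineHom ((Over.pullback t).obj G).hom
  apply transp_of_bc t
  refine transp_affine _ _ (GrpSchLib.MultTypeBC.isMultTypeFT_bc t hH) ((Over.pullback t).map i) J hJ _
    (SubgroupTransporter.stransp_bc t hg) ?_
  have h := TransporterSmooth.transp_bc t h0
  rw [Adjunction.homEquiv_naturality_left] at h
  exact h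

end Groth.Agent.MultTypeLib.SubgroupRigid
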