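import Groth.Agent.MultTypeLib.Coord
import Groth.Agent.MultTypeLib.HopfKer
import Mathlib.RingTheory.Flat.FaithfullyFlat.Algebra
import Mathlib.LinearAlgebra.TensorProduct.RightExactness
import Mathlib.RingTheory.HopfAlgebra.MonoidAlgebra

/-!
# Forms of group algebras from descent data

A descent datum on `E[M]` for a faithfully flat `E` over `R`, given by group-like elements, defines a
Hopf algebra over `R` which becomes `E[M]` over `E`.
-/

universe u

open WithConv TensorProduct Coalgebra Bialgebra

noncomputable section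

namespace Groth.Agent.MultTypeLib

section EvalAlg

variable {R : Type u} [CommRing R] {M : Type u} [CommGroup M]
variable {S T : Type u} [CommRing S] [Algebra R S] [CommRing T] [Algebra R T]

/-- Evaluation of coefficients as a map of algebras. -/
def evalAlg (j : S →ₐ[R] T) : MonoidAlgebra S M →ₐ[R] MonoidAlgebra T M :=
  { evalAt (j : S →+* T) with
    commutes' := fun r => by
      show evalAt (j : S →+* T) (algebraMap R (MonoidAlgebra S M) r) = _
      simp [MonoidAlgebra.coe_algebraMap, evalAt_single] }

theorem evalAlg_apply (j : S →ₐ[R] T) (x : MonoidAlgebra S M) : evalAlg j x = evalAt (j : S →+* T) x := rfl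

theorem evalAt_smul (j : S →+* T) (a : S) (x : MonoidAlgebra S M) : evalAt j (a • x) = j a • evalAt j x := by
  ext m
  simp [coeff_evalAt, MonoidAlgebra.coeff_smul]

theorem counit_evalAt (j : S →+* T) (x : MonoidAlgebra S M) :
    counit (R := T) (evalAt j x) = j (counit (R := S) x) :=
  let _ : Algebra S T := j.toAlgebra
  (mapCoeff S T M).counit_comp x

theorem antipode_evalAt (j : S →+* T) (x : MonoidAlgebra S M) :
    HopfAlgebra.antipode T (evalAt j x) = evalAt j (HopfAlgebra.antipode S x) := by
  induction x using MonoidAlgebra.induction_linear with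
  | zero => simp
  | add a b ha hb => simp only [map_add, ha, hb]
  | single m r => simp [evalAt_single]

/-- Evaluation of coefficients on tensor squares. -/
def evalSq (j : S →+* T) :
    MonoidAlgebra S M ⊗[S] MonoidAlgebra S M →+* MonoidAlgebra T M ⊗[T] MonoidAlgebra T M :=
  let _ : Algebra S T := j.toAlgebra
  (sq T (mapCoeff S T M).toAlgHom).toRingHom

theorem evalSq_tmul (j : S →+* T) (x y : MonoidAlgebra S M) :
    evalSq j (x ⊗ₜ y) = evalAt j x ⊗ₜ evalAt j y :=
  let _ : Algebra S T := j.toAlgebra
  sq_tmul T (mapCoeff S T M).toAlgHom x y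

theorem comul_evalAt (j : S →+* T) (x : MonoidAlgebra S M) :
    comul (R := T) (evalAt j x) = evalSq j (comul (R := S) x) :=
  let _ : Algebra S T := j.toAlgebra
  (mapCoeff S T M).comul_comp x

theorem evalAt_homOfGroupLike {M' : Type u} [CommGroup M'] (p : S →+* T) (c : M' →* MonoidAlgebra S M)
    (hc : ∀ m, IsGroupLikeElem S (c m)) (x : MonoidAlgebra S M') :
    evalAt p (homOfGroupLike c hc x) =
      homOfGroupLike ((evalAt p).toMonoidHom.comp c) (fun m => isGroupLike_evalAt p (hc m)) (evalAt p x) := by
  induction x using MonoidAlgebra.induction_linear with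
  | zero => simp
  | add a b ha hb => simp only [map_add, ha, hb]
  | single m r =>
    rw [homOfGroupLike_single, evalAt_single, homOfGroupLike_single, evalAt_smul]
    rfl

end EvalAlg

section Xi

variable {R : Type u} [CommRing R] (E : Type u) [CommRing E] [Algebra R E] (M : Type u) [CommGroup M]
variable (S : Type u) [CommRing S] [Algebra R S]

/-- Base change of coefficients. -/
def xi : E ⊗[R] MonoidAlgebra S M →ₐ[E] MonoidAlgebra (E ⊗[R] S) M :=
  Algebra.TensorProduct.lift (Algebra.ofId E _)
    (evalAlg (Algebra.TensorProduct.includeRight : S →ₐ[R] E ⊗[R] S)) fun _ _ => .all _ _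

theorem xi_tmul (a : E) (x : MonoidAlgebra S M) : xi E M S (a ⊗ₜ x) =
    ((a ⊗ₜ[R] (1 : S)) : E ⊗[R] S) •
      evalAt ((Algebra.TensorProduct.includeRight : S →ₐ[R] E ⊗[R] S) : S →+* E ⊗[R] S) x := by
  rw [xi, Algebra.TensorProduct.lift_tmul, Algebra.ofId_apply,
    IsScalarTower.algebraMap_apply E (E ⊗[R] S) (MonoidAlgebra (E ⊗[R] S) M), ← Algebra.smul_def]
  rfl

theorem xi_bijective : Function.Bijective (xi (R := R) E M S) := by
  let f : E ⊗[R] S →+* E ⊗[R] MonoidAlgebra S M :=
    (Algebra.TensorProduct.map (AlgHom.id E E)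
      (IsScalarTower.toAlgHom R S (MonoidAlgebra S M))).toRingHom
  let g : M →* E ⊗[R] MonoidAlgebra S M :=
    ((Algebra.TensorProduct.includeRight : MonoidAlgebra S M →ₐ[R] E ⊗[R] MonoidAlgebra S M) :
      MonoidAlgebra S M →* E ⊗[R] MonoidAlgebra S M).comp (MonoidAlgebra.of S M)
  let inv := MonoidAlgebra.liftNCRingHom f g fun _ _ => .all _ _
  have hinv : ∀ (m : M) (u : E ⊗[R] S), inv (MonoidAlgebra.single m u) = f u * g m := fun m u =>
    MonoidAlgebra.liftNC_single _ _ _ _
  refine Function.bijective_iff_has_inverse.mpr ⟨inv, fun z => ?_, fun x => ?_⟩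
  · induction z using TensorProduct.induction_on with
    | zero => simp
    | add a b ha hb => simp only [map_add, ha, hb]
    | tmul a x =>
      rw [xi_tmul]
      induction x using MonoidAlgebra.induction_linear with
      | zero => simp
      | add x y hx hy => simp only [map_add, smul_add, TensorProduct.tmul_add, hx, hy]
      | single m r =>
        rw [evalAt_single, MonoidAlgebra.smul_single, hinv]
        simp [f, g, MonoidAlgebra.of_apply, MonoidAlgebra.coe_algebraMap, MonoidAlgebra.single_mul_single]
  · induction x using MonoidAlgebra.induction_linear with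
    | zero => simp
    | add a b ha hb => simp only [map_add, ha, hb]
    | single m u =>
      rw [hinv]
      induction u using TensorProduct.induction_on with
      | zero => simp
      | add a b ha hb => rw [map_add, add_mul, map_add, ha, hb, MonoidAlgebra.single_add]
      | tmul a r =>
        simp only [f, g, MonoidHom.coe_comp, Function.comp_apply, MonoidAlgebra.of_apply]
        show xi E M S ((a ⊗ₜ algebraMap S (MonoidAlgebra S M) r) * (1 ⊗ₜ MonoidAlgebra.single m 1)) = _
        rw [Algebra.TensorProduct.tmul_mul_tmul, mul_one, xi_tmul, MonoidAlgebra.coe_algebraMap]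
        simp [MonoidAlgebra.single_mul_single, evalAt_single, MonoidAlgebra.smul_single]

end Xi

section Commute

theorem commute_of_comm {S A B : Type u} [CommRing S] [CommRing A] [CommRing B] [Algebra S A] [Algebra S B]
    (x y : A ⊗[S] B) : Commute x y :=
  Commute.all x y

end Commute

section Descent

variable {R : Type u} [CommRing R] {E : Type u} [CommRing E] [Algebra R E]

theorem exists_of_agree [Module.FaithfullyFlat R E] {N : Type u} [AddCommGroup N] [Module R N] (z : E ⊗[R] N)
    (h : LinearMap.rTensor N (Algebra.TensorProduct.includeLeft : E →ₐ[R] E ⊗[R] E).toLinearMap z =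
      LinearMap.rTensor N (Algebra.TensorProduct.includeRight : E →ₐ[R] E ⊗[R] E).toLinearMap z) :
    ∃ x : N, (1 : E) ⊗ₜ[R] x = z := by
  let hom : SemiBialgHom R E R (MonoidAlgebra E PUnit.{u+1}) :=
    { toAlgHom := Algebra.ofId R _
      counit_comp := fun r => by
        simp [Algebra.ofId_apply, IsScalarTower.algebraMap_apply R E (MonoidAlgebra E PUnit.{u+1})]
      comul_comp := fun r => by
        simp [Algebra.ofId_apply, IsScalarTower.algebraMap_apply R E (MonoidAlgebra E PUnit.{u+1}),
          Algebra.TensorProduct.algebraMap_apply] }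
  have hb : Function.Bijective hom.extend := by
    refine Function.bijective_iff_has_inverse.mpr ⟨fun x => x.coeff 1 ⊗ₜ 1, fun y => ?_, fun x => ?_⟩
    · induction y using TensorProduct.induction_on with
      | zero => simp
      | add a b ha hb => simp only [map_add, MonoidAlgebra.coeff_add, Finsupp.add_apply, TensorProduct.add_tmul, ha, hb]
      | tmul a r =>
        simp [hom, Algebra.ofId_apply, IsScalarTower.algebraMap_apply R E (MonoidAlgebra E PUnit.{u+1}),
          MonoidAlgebra.coe_algebraMap, MonoidAlgebra.smul_single, ← Algebra.commutes r a, ← Algebra.smul_def,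
          TensorProduct.smul_tmul]
    · refine MonoidAlgebra.coeff_injective (Finsupp.ext fun m => ?_)
      obtain rfl : m = 1 := Subsingleton.elim _ _
      simp [hom, MonoidAlgebra.one_def]
  let P : Split R R :=
    { S := E, M := PUnit.{u+1}, hom := hom, equiv := AlgEquiv.ofBijective hom.extend hb,
      equiv_tmul := fun a => (hom.extend_tmul 1 a).trans (one_smul _ _) }
  have : Module.FaithfullyFlat R P.S := ‹Module.FaithfullyFlat R E›
  obtain ⟨x, hx⟩ := (Cover.single P).descend (fun _ => z) fun _ _ => h
  exact ⟨x, hx ⟨⟩⟩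

end Descent

section Twist

variable (R : Type u) [CommRing R] (E : Type u) [CommRing E] [Algebra R E] (M : Type u) [CommGroup M]

/-- The first projection. -/
abbrev p01 : E ⊗[R] E →ₐ[R] E ⊗[R] (E ⊗[R] E) :=
  Algebra.TensorProduct.map (AlgHom.id R E) (Algebra.TensorProduct.includeLeft : E →ₐ[R] E ⊗[R] E)

/-- The second projection. -/
abbrev p02 : E ⊗[R] E →ₐ[R] E ⊗[R] (E ⊗[R] E) :=
  Algebra.TensorProduct.map (AlgHom.id R E) (Algebra.TensorProduct.includeRight : E →ₐ[R] E ⊗[R] E)

/-- The third projection. -/
abbrev p12 : E ⊗[R] E →ₐ[R] E ⊗[R] (E ⊗[R] E) := Algebra.TensorProduct.includeRight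

/-- The first projection, as a ring map. -/
abbrev q01 : E ⊗[R] E →+* E ⊗[R] (E ⊗[R] E) := (p01 R E : E ⊗[R] E →ₐ[R] E ⊗[R] (E ⊗[R] E))

/-- The second projection, as a ring map. -/
abbrev q02 : E ⊗[R] E →+* E ⊗[R] (E ⊗[R] E) := (p02 R E : E ⊗[R] E →ₐ[R] E ⊗[R] (E ⊗[R] E))

/-- The third projection, as a ring map. -/
abbrev q12 : E ⊗[R] E →+* E ⊗[R] (E ⊗[R] E) := (p12 R E : E ⊗[R] E →ₐ[R] E ⊗[R] (E ⊗[R] E))

/-- A descent datum on a group algebra. -/
structure Twist where
  /-- the group-like elements -/
  c : M →* MonoidAlgebra (E ⊗[R] E) M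
  gl : ∀ m, IsGroupLikeElem (E ⊗[R] E) (c m)
  bij : Function.Bijective (homOfGroupLike c gl)
  cocycle : ∀ m, homOfGroupLike ((evalAt (q12 R E)).toMonoidHom.comp c)
    (fun n => isGroupLike_evalAt _ (gl n)) (evalAt (q01 R E) (c m)) = evalAt (q02 R E) (c m)

variable {R E M} (D : Twist R E M)

/-- The isomorphism of the two pullbacks. -/
abbrev Twist.Φ : MonoidAlgebra (E ⊗[R] E) M →ₐc[E ⊗[R] E] MonoidAlgebra (E ⊗[R] E) M :=
  homOfGroupLike D.c D.gl

/-- The twisted first pullback. -/
def Twist.d1 : MonoidAlgebra E M →ₐ[R] MonoidAlgebra (E ⊗[R] E) M :=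
  ((D.Φ : MonoidAlgebra (E ⊗[R] E) M →ₐ[E ⊗[R] E] MonoidAlgebra (E ⊗[R] E) M).restrictScalars R).comp
    (evalAlg (Algebra.TensorProduct.includeLeft : E →ₐ[R] E ⊗[R] E))

/-- The second pullback. -/
def Twist.d2 (_D : Twist R E M) : MonoidAlgebra E M →ₐ[R] MonoidAlgebra (E ⊗[R] E) M :=
  evalAlg (Algebra.TensorProduct.includeRight : E →ₐ[R] E ⊗[R] E)

theorem Twist.d1_apply (x : MonoidAlgebra E M) : D.d1 x =
    D.Φ (evalAt ((Algebra.TensorProduct.includeLeft : E →ₐ[R] E ⊗[R] E) : E →+* E ⊗[R] E) x) := rfl

theorem Twist.d2_apply (x : MonoidAlgebra E M) : D.d2 x =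
    evalAt ((Algebra.TensorProduct.includeRight : E →ₐ[R] E ⊗[R] E) : E →+* E ⊗[R] E) x := rfl

theorem Twist.d1_smul (a : E) (x : MonoidAlgebra E M) : D.d1 (a • x) = (a ⊗ₜ[R] (1 : E)) • D.d1 x := by
  rw [Twist.d1_apply, evalAt_smul, map_smul, Twist.d1_apply]
  rfl

/-- The descended algebra. -/
abbrev Twist.form : Subalgebra R (MonoidAlgebra E M) := AlgHom.equalizer D.d1 D.d2

theorem Twist.mem_form (x : MonoidAlgebra E M) : x ∈ D.form ↔ D.d1 x = D.d2 x := Iff.rfl

/-- The base change of the form. -/
def Twist.μ : E ⊗[R] D.form →ₐ[E] MonoidAlgebra E M :=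
  Algebra.TensorProduct.lift (Algebra.ofId E _) D.form.val fun _ _ => .all _ _

theorem Twist.μ_tmul (a : E) (x : D.form) : D.μ (a ⊗ₜ x) = a • (x : MonoidAlgebra E M) := by
  rw [Twist.μ, Algebra.TensorProduct.lift_tmul, Algebra.ofId_apply, ← Algebra.smul_def]
  rfl

theorem Twist.comp_apply_all (x : MonoidAlgebra (E ⊗[R] (E ⊗[R] E)) M) :
    homOfGroupLike ((evalAt (q12 R E)).toMonoidHom.comp D.c)
      (fun n => isGroupLike_evalAt _ (D.gl n))
      (homOfGroupLike ((evalAt (q01 R E)).toMonoidHom.comp D.c)
        (fun n => isGroupLike_evalAt _ (D.gl n)) x) =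
    homOfGroupLike ((evalAt (q02 R E)).toMonoidHom.comp D.c)
      (fun n => isGroupLike_evalAt _ (D.gl n)) x := by
  induction x using MonoidAlgebra.induction_linear with
  | zero => simp
  | add a b ha hb => simp only [map_add, ha, hb]
  | single m r =>
    rw [homOfGroupLike_single, homOfGroupLike_single, map_smul]
    exact congrArg (r • ·) (D.cocycle m)

variable [Module.FaithfullyFlat R E]

theorem Twist.d1_injective : Function.Injective D.d1 := by
  intro x y h
  rw [Twist.d1_apply, Twist.d1_apply] at h
  have h1 := D.bij.1 h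
  ext m
  have h2 := congrArg (fun z => z.coeff m) h1
  beta_reduce at h2
  rw [coeff_evalAt, coeff_evalAt] at h2
  exact Algebra.TensorProduct.includeLeft_injective (S := R) (FaithfulSMul.algebraMap_injective R E) h2

set_option maxHeartbeats 1000000 in
theorem Twist.μ_bijective : Function.Bijective D.μ := by
  let i₁ := (Algebra.TensorProduct.includeLeft : E →ₐ[R] E ⊗[R] E)
  let i₂ := (Algebra.TensorProduct.includeRight : E →ₐ[R] E ⊗[R] E)
  have key : ∀ w : E ⊗[R] D.form, xi E M E (LinearMap.lTensor E D.form.val.toLinearMap w) = D.d1 (D.μ w) := by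
    intro w
    induction w using TensorProduct.induction_on with
    | zero => simp
    | add a b ha hb => simp only [map_add, ha, hb]
    | tmul a x =>
      rw [LinearMap.lTensor_tmul, xi_tmul, Twist.μ_tmul, Twist.d1_smul, (D.mem_form _).mp x.2]
      rfl
  have hval : Function.Injective (LinearMap.lTensor E D.form.val.toLinearMap) :=
    Module.Flat.lTensor_preserves_injective_linearMap _ Subtype.val_injective
  refine ⟨fun w w' h => hval ((xi_bijective E M E).1 (by rw [key, key, h])), fun y => ?_⟩
  obtain ⟨Z, hZ⟩ := (xi_bijective (R := R) E M E).2 (D.d1 y)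
  have hexact : Function.Exact D.form.val.toLinearMap (D.d1.toLinearMap - D.d2.toLinearMap) := by
    intro x
    rw [LinearMap.sub_apply, sub_eq_zero]
    exact ⟨fun h => ⟨⟨x, h⟩, rfl⟩, fun ⟨a, ha⟩ => ha ▸ a.2⟩
  have K1 : ∀ Z : E ⊗[R] MonoidAlgebra E M, xi E M (E ⊗[R] E) (LinearMap.lTensor E D.d1.toLinearMap Z) =
      homOfGroupLike ((evalAt (q12 R E)).toMonoidHom.comp D.c)
        (fun n => isGroupLike_evalAt _ (D.gl n)) (evalAt (q01 R E) (xi E M E Z)) := by
    intro Z
    induction Z using TensorProduct.induction_on with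
    | zero => simp
    | add a b ha hb => simp only [map_add, ha, hb]
    | tmul a x =>
      rw [LinearMap.lTensor_tmul, xi_tmul, xi_tmul, AlgHom.toLinearMap_apply, Twist.d1_apply,
        evalAt_homOfGroupLike, evalAt_smul, map_smul, evalAt_evalAt, evalAt_evalAt]
      congr 1
  have K2 : ∀ Z : E ⊗[R] MonoidAlgebra E M, xi E M (E ⊗[R] E) (LinearMap.lTensor E D.d2.toLinearMap Z) =
      evalAt (q02 R E) (xi E M E Z) := by
    intro Z
    induction Z using TensorProduct.induction_on with
    | zero => simp
    | add a b ha hb => simp only [map_add, ha, hb]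
    | tmul a x =>
      rw [LinearMap.lTensor_tmul, xi_tmul, xi_tmul, AlgHom.toLinearMap_apply, Twist.d2_apply,
        evalAt_smul, evalAt_evalAt, evalAt_evalAt]
      congr 1
  have h0 : LinearMap.lTensor E (D.d1.toLinearMap - D.d2.toLinearMap) Z = 0 := by
    apply (xi_bijective (R := R) E M (E ⊗[R] E)).1
    rw [LinearMap.lTensor_sub, LinearMap.sub_apply, map_sub, map_zero, sub_eq_zero, K1, K2, hZ, Twist.d1_apply,
      evalAt_homOfGroupLike, evalAt_homOfGroupLike, D.comp_apply_all, evalAt_evalAt, evalAt_evalAt]
    congr 2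
  obtain ⟨w, hw⟩ := (Module.Flat.lTensor_exact E hexact Z).mp h0
  refine ⟨w, D.d1_injective ?_⟩
  rw [← key, hw, hZ]

/-- The tensor square of the inclusion. -/
abbrev Twist.ι₂ : D.form ⊗[R] D.form →ₐ[R] MonoidAlgebra E M ⊗[E] MonoidAlgebra E M :=
  sq E D.form.val

/-- The base change of the tensor square of the form. -/
def Twist.ν : E ⊗[R] (D.form ⊗[R] D.form) →ₐ[E] MonoidAlgebra E M ⊗[E] MonoidAlgebra E M :=
  Algebra.TensorProduct.lift (Algebra.ofId E _) D.ι₂ fun _ _ => .all _ _

theorem Twist.ν_one_tmul (z : D.form ⊗[R] D.form) : D.ν (1 ⊗ₜ z) = D.ι₂ z := by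
  rw [Twist.ν, Algebra.TensorProduct.lift_tmul, map_one, one_mul]

theorem Twist.ν_bijective : Function.Bijective D.ν := by
  let e := (AlgebraTensorModule.distribBaseChange R E D.form D.form).trans
    (TensorProduct.congr (LinearEquiv.ofBijective D.μ.toLinearMap D.μ_bijective)
      (LinearEquiv.ofBijective D.μ.toLinearMap D.μ_bijective))
  have h : ⇑D.ν = ⇑e := by
    funext z
    induction z using TensorProduct.induction_on with
    | zero => simp
    | add a b ha hb => simp only [map_add, ha, hb]
    | tmul a w =>
      induction w using TensorProduct.induction_on with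
      | zero => simp
      | add x y hx hy => simp only [TensorProduct.tmul_add, map_add, hx, hy]
      | tmul x y =>
        rw [Twist.ν, Algebra.TensorProduct.lift_tmul, Algebra.ofId_apply, ← Algebra.smul_def]
        have e1 : e (a ⊗ₜ[R] (x ⊗ₜ[R] y)) = a • e ((1 : E) ⊗ₜ[R] (x ⊗ₜ[R] y)) := by
          rw [← map_smul, TensorProduct.smul_tmul', smul_eq_mul, mul_one]
        rw [e1]
        simp [e, Twist.μ_tmul]
  rw [h]
  exact e.bijective

theorem Twist.ι₂_injective : Function.Injective D.ι₂ := fun z z' h =>
  Module.FaithfullyFlat.tensorProduct_mk_injective (A := R) (B := E) _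
    (show TensorProduct.mk R E _ 1 z = TensorProduct.mk R E _ 1 z' from D.ν_bijective.1
      (show D.ν ((1 : E) ⊗ₜ z) = D.ν ((1 : E) ⊗ₜ z') by rw [D.ν_one_tmul, D.ν_one_tmul, h]))

/-- The base change of the form along the second projection. -/
def Twist.μT : (E ⊗[R] E) ⊗[R] D.form →ₐ[E ⊗[R] E] MonoidAlgebra (E ⊗[R] E) M :=
  Algebra.TensorProduct.lift (Algebra.ofId _ _) (D.d2.comp D.form.val) fun _ _ => .all _ _

/-- The tensor square of the second pullback. -/
abbrev Twist.ι₂T : D.form ⊗[R] D.form →ₐ[R]
    MonoidAlgebra (E ⊗[R] E) M ⊗[E ⊗[R] E] MonoidAlgebra (E ⊗[R] E) M :=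
  sq (E ⊗[R] E) (D.d2.comp D.form.val)

/-- The base change of the tensor square along the second projection. -/
def Twist.νT : (E ⊗[R] E) ⊗[R] (D.form ⊗[R] D.form) →ₐ[E ⊗[R] E]
    MonoidAlgebra (E ⊗[R] E) M ⊗[E ⊗[R] E] MonoidAlgebra (E ⊗[R] E) M :=
  Algebra.TensorProduct.lift (Algebra.ofId (E ⊗[R] E) _) D.ι₂T fun _ _ =>
    commute_of_comm _ _

/-- The tensor square of the twist. -/
abbrev Twist.Θ : MonoidAlgebra (E ⊗[R] E) M ⊗[E ⊗[R] E] MonoidAlgebra (E ⊗[R] E) M →ₗ[E ⊗[R] E]
    MonoidAlgebra (E ⊗[R] E) M ⊗[E ⊗[R] E] MonoidAlgebra (E ⊗[R] E) M :=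
  TensorProduct.map (D.Φ : MonoidAlgebra (E ⊗[R] E) M →ₗ[E ⊗[R] E] MonoidAlgebra (E ⊗[R] E) M)
    (D.Φ : MonoidAlgebra (E ⊗[R] E) M →ₗ[E ⊗[R] E] MonoidAlgebra (E ⊗[R] E) M)

theorem Twist.Θ_comul (v : MonoidAlgebra (E ⊗[R] E) M) :
    D.Θ (comul (R := E ⊗[R] E) v) = comul (R := E ⊗[R] E) (D.Φ v) :=
  CoalgHomClass.map_comp_comul_apply D.Φ v

theorem Twist.μT_tmul (t : E ⊗[R] E) (y : D.form) : D.μT (t ⊗ₜ y) = t • D.d2 (y : MonoidAlgebra E M) := by
  rw [Twist.μT, Algebra.TensorProduct.lift_tmul, Algebra.ofId_apply, ← Algebra.smul_def]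
  rfl

theorem Twist.μT_map (w : E ⊗[R] D.form) :
    D.μT (Algebra.TensorProduct.map (Algebra.TensorProduct.includeRight : E →ₐ[R] E ⊗[R] E) (AlgHom.id R D.form) w) =
      evalAt ((Algebra.TensorProduct.includeRight : E →ₐ[R] E ⊗[R] E) : E →+* E ⊗[R] E) (D.μ w) := by
  induction w using TensorProduct.induction_on with
  | zero => simp
  | add a b ha hb => simp only [map_add, ha, hb]
  | tmul a y =>
    rw [Algebra.TensorProduct.map_tmul, D.μT_tmul, Twist.μ_tmul, evalAt_smul]
    rfl

set_option maxHeartbeats 1000000 in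
theorem Twist.μT_bijective : Function.Bijective D.μT := by
  let i₁ := (Algebra.TensorProduct.includeLeft : E →ₐ[R] E ⊗[R] E)
  let i₂ := (Algebra.TensorProduct.includeRight : E →ₐ[R] E ⊗[R] E)
  choose u hu using fun m : M => D.μ_bijective.2 (MonoidAlgebra.single m 1)
  let g : M →* (E ⊗[R] E) ⊗[R] D.form :=
    { toFun := fun m => Algebra.TensorProduct.map i₂ (AlgHom.id R D.form) (u m)
      map_one' := by
        rw [show u 1 = 1 from D.μ_bijective.1 (by rw [hu, map_one, MonoidAlgebra.one_def]), map_one]
      map_mul' := fun a b => by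
        rw [show u (a * b) = u a * u b from D.μ_bijective.1 (by
          rw [map_mul, hu, hu, hu, MonoidAlgebra.single_mul_single, one_mul]), map_mul] }
  let inv := MonoidAlgebra.lift (E ⊗[R] E) ((E ⊗[R] E) ⊗[R] D.form) M g
  have hinv : ∀ v : MonoidAlgebra E M, inv (evalAt (i₂ : E →+* E ⊗[R] E) v) =
      Algebra.TensorProduct.map i₂ (AlgHom.id R D.form)
        ((AlgEquiv.ofBijective D.μ D.μ_bijective).symm v) := by
    intro v
    induction v using MonoidAlgebra.induction_linear with
    | zero => simp
    | add a b ha hb => simp only [map_add, ha, hb]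
    | single m r =>
      rw [evalAt_single, MonoidAlgebra.lift_single,
        show (AlgEquiv.ofBijective D.μ D.μ_bijective).symm (MonoidAlgebra.single m r) = r • u m from
          (AlgEquiv.ofBijective D.μ D.μ_bijective).injective (by
            rw [AlgEquiv.apply_symm_apply, map_smul]
            show _ = r • D.μ (u m)
            rw [hu, MonoidAlgebra.smul_single, smul_eq_mul, mul_one])]
      show i₂ r • Algebra.TensorProduct.map i₂ (AlgHom.id R D.form) (u m) = _
      generalize u m = w
      induction w using TensorProduct.induction_on with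
      | zero => simp
      | add a b ha hb => simp only [smul_add, map_add, ha, hb]
      | tmul a y =>
        rw [Algebra.TensorProduct.map_tmul, TensorProduct.smul_tmul', TensorProduct.smul_tmul',
          Algebra.TensorProduct.map_tmul, smul_eq_mul, smul_eq_mul, map_mul]
  refine Function.bijective_iff_has_inverse.mpr ⟨inv, fun w => ?_, fun v => ?_⟩
  · induction w using TensorProduct.induction_on with
    | zero => simp
    | add a b ha hb => simp only [map_add, ha, hb]
    | tmul t y =>
      rw [D.μT_tmul, map_smul, Twist.d2_apply, hinv,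
        show (AlgEquiv.ofBijective D.μ D.μ_bijective).symm (y : MonoidAlgebra E M) = (1 : E) ⊗ₜ y from
          (AlgEquiv.ofBijective D.μ D.μ_bijective).injective (by
            rw [AlgEquiv.apply_symm_apply]
            show _ = D.μ (1 ⊗ₜ y)
            rw [Twist.μ_tmul, one_smul]),
        Algebra.TensorProduct.map_tmul, map_one, AlgHom.id_apply, TensorProduct.smul_tmul', smul_eq_mul,
        mul_one]
  · induction v using MonoidAlgebra.induction_linear with
    | zero => simp
    | add a b ha hb => simp only [map_add, ha, hb]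
    | single m t =>
      rw [MonoidAlgebra.lift_single, map_smul]
      show t • D.μT (Algebra.TensorProduct.map i₂ (AlgHom.id R D.form) (u m)) = _
      rw [D.μT_map, hu, evalAt_single, map_one, MonoidAlgebra.smul_single, smul_eq_mul, mul_one]

set_option maxHeartbeats 1000000 in
theorem Twist.νT_injective : Function.Injective D.νT := by
  let e := (AlgebraTensorModule.distribBaseChange R (E ⊗[R] E) D.form D.form).trans
    (TensorProduct.congr (LinearEquiv.ofBijective D.μT.toLinearMap D.μT_bijective)
      (LinearEquiv.ofBijective D.μT.toLinearMap D.μT_bijective))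
  have h : ⇑D.νT = ⇑e := by
    funext z
    induction z using TensorProduct.induction_on with
    | zero => simp
    | add a b ha hb => simp only [map_add, ha, hb]
    | tmul t w =>
      induction w using TensorProduct.induction_on with
      | zero => simp
      | add x y hx hy => simp only [TensorProduct.tmul_add, map_add, hx, hy]
      | tmul p q =>
        rw [show D.νT (t ⊗ₜ[R] (p ⊗ₜ[R] q)) = t • (sq (E ⊗[R] E) (D.d2.comp D.form.val) (p ⊗ₜ[R] q)) by
          rw [Twist.νT, Algebra.TensorProduct.lift_tmul, Algebra.ofId_apply, ← Algebra.smul_def]]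
        have e1 : e (t ⊗ₜ[R] (p ⊗ₜ[R] q)) = t • e ((1 : E ⊗[R] E) ⊗ₜ[R] (p ⊗ₜ[R] q)) := by
          rw [← map_smul, TensorProduct.smul_tmul', smul_eq_mul, mul_one]
        rw [e1]
        simp [e, D.μT_tmul]
  rw [h]
  exact e.injective

set_option maxHeartbeats 1000000 in
theorem Twist.νT_includeRight (b : E ⊗[R] (D.form ⊗[R] D.form)) :
    D.νT (LinearMap.rTensor _ (Algebra.TensorProduct.includeRight : E →ₐ[R] E ⊗[R] E).toLinearMap b) =
      evalSq ((Algebra.TensorProduct.includeRight : E →ₐ[R] E ⊗[R] E) : E →+* E ⊗[R] E) (D.ν b) := by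
  induction b using TensorProduct.induction_on with
  | zero => simp
  | add a b ha hb => simp only [map_add, ha, hb]
  | tmul a w =>
    induction w using TensorProduct.induction_on with
    | zero => simp
    | add x y hx hy => simp only [TensorProduct.tmul_add, map_add, hx, hy]
    | tmul p q =>
      rw [LinearMap.rTensor_tmul, Twist.νT, Twist.ν, Algebra.TensorProduct.lift_tmul, Algebra.TensorProduct.lift_tmul,
        Algebra.ofId_apply, Algebra.ofId_apply, ← Algebra.smul_def, ← Algebra.smul_def, sq_tmul, sq_tmul,
        TensorProduct.smul_tmul', TensorProduct.smul_tmul', evalSq_tmul, evalAt_smul]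
      rfl

set_option maxHeartbeats 1000000 in
theorem Twist.νT_includeLeft (b : E ⊗[R] (D.form ⊗[R] D.form)) :
    D.νT (LinearMap.rTensor _ (Algebra.TensorProduct.includeLeft : E →ₐ[R] E ⊗[R] E).toLinearMap b) =
      D.Θ (evalSq ((Algebra.TensorProduct.includeLeft : E →ₐ[R] E ⊗[R] E) : E →+* E ⊗[R] E) (D.ν b)) := by
  let i₁ := (Algebra.TensorProduct.includeLeft : E →ₐ[R] E ⊗[R] E)
  let i₂ := (Algebra.TensorProduct.includeRight : E →ₐ[R] E ⊗[R] E)
  induction b using TensorProduct.induction_on with
  | zero => simp
  | add a b ha hb => simp only [map_add, ha, hb]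
  | tmul a w =>
    induction w using TensorProduct.induction_on with
    | zero => simp
    | add x y hx hy => simp only [TensorProduct.tmul_add, map_add, hx, hy]
    | tmul p q =>
      rw [LinearMap.rTensor_tmul, Twist.νT, Twist.ν, Algebra.TensorProduct.lift_tmul, Algebra.TensorProduct.lift_tmul,
        Algebra.ofId_apply, Algebra.ofId_apply, ← Algebra.smul_def, ← Algebra.smul_def, sq_tmul, sq_tmul,
        TensorProduct.smul_tmul', TensorProduct.smul_tmul', evalSq_tmul, TensorProduct.map_tmul, evalAt_smul,
        map_smul]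
      show _ = (i₁ a • D.d1 (p : MonoidAlgebra E M)) ⊗ₜ D.d1 (q : MonoidAlgebra E M)
      rw [(D.mem_form _).mp p.2, (D.mem_form _).mp q.2]
      rfl

set_option maxHeartbeats 1000000 in
theorem Twist.exists_comul (x : D.form) : ∃ z, D.ι₂ z = comul (R := E) (x : MonoidAlgebra E M) := by
  obtain ⟨b, hb⟩ := D.ν_bijective.2 (comul (R := E) (x : MonoidAlgebra E M))
  refine (exists_of_agree (N := D.form ⊗[R] D.form) b ?_).imp fun z hz => by rw [← D.ν_one_tmul, hz, hb]
  apply D.νT_injective
  rw [D.νT_includeLeft, D.νT_includeRight, hb, ← comul_evalAt, ← comul_evalAt, D.Θ_comul, ← Twist.d1_apply,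
    ← Twist.d2_apply, (D.mem_form _).mp x.2]

theorem Twist.exists_counit (x : D.form) :
    ∃ r : R, algebraMap R E r = counit (R := E) (x : MonoidAlgebra E M) := by
  set e := counit (R := E) (x : MonoidAlgebra E M)
  have h : (Algebra.TensorProduct.includeLeft : E →ₐ[R] E ⊗[R] E) e =
      (Algebra.TensorProduct.includeRight : E →ₐ[R] E ⊗[R] E) e := by
    have h1 := congrArg (counit (R := E ⊗[R] E)) ((D.mem_form _).mp x.2)
    rw [Twist.d1_apply, Twist.d2_apply, CoalgHomClass.counit_comp_apply, counit_evalAt, counit_evalAt] at h1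
    exact h1
  obtain ⟨r, hr⟩ := exists_of_agree (e ⊗ₜ[R] (1 : R)) (by
    rw [LinearMap.rTensor_tmul, LinearMap.rTensor_tmul]
    exact congrArg (· ⊗ₜ[R] (1 : R)) h)
  refine ⟨r, ?_⟩
  have h2 := congrArg (TensorProduct.rid R E) hr
  rwa [TensorProduct.rid_tmul, TensorProduct.rid_tmul, one_smul, ← Algebra.algebraMap_eq_smul_one] at h2

/-- The comultiplication of the form. -/
def Twist.comulForm : D.form →ₐ[R] D.form ⊗[R] D.form where
  toFun x := (D.exists_comul x).choose
  map_one' := D.ι₂_injective (by rw [(D.exists_comul 1).choose_spec, map_one]; exact Bialgebra.comul_one)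
  map_mul' x y := D.ι₂_injective (by
    rw [(D.exists_comul (x * y)).choose_spec, map_mul, (D.exists_comul x).choose_spec,
      (D.exists_comul y).choose_spec]
    exact Bialgebra.comul_mul _ _)
  map_zero' := D.ι₂_injective (by rw [(D.exists_comul 0).choose_spec, map_zero]; exact map_zero _)
  map_add' x y := D.ι₂_injective (by
    rw [(D.exists_comul (x + y)).choose_spec, map_add, (D.exists_comul x).choose_spec,
      (D.exists_comul y).choose_spec]
    exact map_add _ _ _)
  commutes' r := D.ι₂_injective (by
    rw [(D.exists_comul _).choose_spec, AlgHom.commutes]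
    show comul (R := E) (algebraMap R (MonoidAlgebra E M) r) = _
    rw [IsScalarTower.algebraMap_apply R E (MonoidAlgebra E M), Bialgebra.comul_algebraMap,
      ← IsScalarTower.algebraMap_apply])

theorem Twist.ι₂_comulForm (x : D.form) : D.ι₂ (D.comulForm x) = comul (R := E) (x : MonoidAlgebra E M) :=
  (D.exists_comul x).choose_spec

/-- The counit of the form. -/
def Twist.counitForm : D.form →ₐ[R] R where
  toFun x := (D.exists_counit x).choose
  map_one' := FaithfulSMul.algebraMap_injective R E (by
    rw [(D.exists_counit 1).choose_spec, map_one]; exact Bialgebra.counit_one)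
  map_mul' x y := FaithfulSMul.algebraMap_injective R E (by
    rw [(D.exists_counit (x * y)).choose_spec, map_mul, (D.exists_counit x).choose_spec,
      (D.exists_counit y).choose_spec]
    exact Bialgebra.counit_mul _ _)
  map_zero' := FaithfulSMul.algebraMap_injective R E (by
    rw [(D.exists_counit 0).choose_spec, map_zero]; exact map_zero _)
  map_add' x y := FaithfulSMul.algebraMap_injective R E (by
    rw [(D.exists_counit (x + y)).choose_spec, map_add, (D.exists_counit x).choose_spec,
      (D.exists_counit y).choose_spec]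
    exact map_add _ _ _)
  commutes' r := FaithfulSMul.algebraMap_injective R E (by
    rw [(D.exists_counit _).choose_spec]
    show counit (R := E) (algebraMap R (MonoidAlgebra E M) r) = _
    rw [IsScalarTower.algebraMap_apply R E (MonoidAlgebra E M), Bialgebra.counit_algebraMap]
    rfl)

theorem Twist.algebraMap_counitForm (x : D.form) :
    algebraMap R E (D.counitForm x) = counit (R := E) (x : MonoidAlgebra E M) :=
  (D.exists_counit x).choose_spec

/-- The inclusion of a triple tensor power. -/
def Twist.ι₃ : D.form ⊗[R] (D.form ⊗[R] D.form) →ₐ[R]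
    MonoidAlgebra E M ⊗[E] (MonoidAlgebra E M ⊗[E] MonoidAlgebra E M) :=
  Algebra.TensorProduct.lift
    ((Algebra.TensorProduct.includeLeft (R := E) (S := R) (A := MonoidAlgebra E M)
      (B := MonoidAlgebra E M ⊗[E] MonoidAlgebra E M)).comp D.form.val)
    (((Algebra.TensorProduct.includeRight (R := E) (A := MonoidAlgebra E M)
      (B := MonoidAlgebra E M ⊗[E] MonoidAlgebra E M)).restrictScalars R).comp D.ι₂) fun _ _ => commute_of_comm _ _

theorem Twist.ι₃_tmul (x : D.form) (w : D.form ⊗[R] D.form) :
    D.ι₃ (x ⊗ₜ w) = (x : MonoidAlgebra E M) ⊗ₜ D.ι₂ w := by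
  simp [Twist.ι₃]

theorem Twist.ι₃_injective : Function.Injective D.ι₃ := by
  let e := (AlgebraTensorModule.distribBaseChange R E D.form (D.form ⊗[R] D.form)).trans
    (TensorProduct.congr (LinearEquiv.ofBijective D.μ.toLinearMap D.μ_bijective)
      (LinearEquiv.ofBijective D.ν.toLinearMap D.ν_bijective))
  have h : ∀ z, D.ι₃ z = e (1 ⊗ₜ z) := by
    intro z
    induction z using TensorProduct.induction_on with
    | zero => simp
    | add a b ha hb => simp only [map_add, TensorProduct.tmul_add, ha, hb]
    | tmul x w => simp [e, Twist.ι₃_tmul, Twist.μ_tmul, Twist.ν_one_tmul]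
  intro z z' hzz
  rw [h, h] at hzz
  exact Module.FaithfullyFlat.tensorProduct_mk_injective (A := R) (B := E) _
    (show TensorProduct.mk R E _ 1 z = TensorProduct.mk R E _ 1 z' from e.injective hzz)

set_option maxHeartbeats 1000000 in
/-- The bialgebra structure of the form. -/
instance Twist.instBialgebra : Bialgebra R D.form :=
  Bialgebra.ofAlgHom D.comulForm D.counitForm
    (AlgHom.ext fun x => D.ι₃_injective (by
      have hR : ∀ z : D.form ⊗[R] D.form, D.ι₃ (Algebra.TensorProduct.map (AlgHom.id R D.form) D.comulForm z) =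
          TensorProduct.map LinearMap.id (comul (R := E)) (D.ι₂ z) := by
        intro z
        induction z using TensorProduct.induction_on with
        | zero => simp
        | add a b ha hb => simp only [map_add, ha, hb]
        | tmul p q =>
          rw [Algebra.TensorProduct.map_tmul, Twist.ι₃_tmul, sq_tmul, TensorProduct.map_tmul, D.ι₂_comulForm]
          rfl
      have hL : ∀ z : D.form ⊗[R] D.form, D.ι₃ ((Algebra.TensorProduct.assoc R R R D.form D.form D.form)
          (Algebra.TensorProduct.map D.comulForm (AlgHom.id R D.form) z)) =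
          (TensorProduct.assoc E _ _ _) (TensorProduct.map (comul (R := E)) LinearMap.id (D.ι₂ z)) := by
        intro z
        induction z using TensorProduct.induction_on with
        | zero => simp
        | add a b ha hb => simp only [map_add, ha, hb]
        | tmul p q =>
          rw [Algebra.TensorProduct.map_tmul, sq_tmul, TensorProduct.map_tmul,
            show comul (R := E) (D.form.val p) = D.ι₂ (D.comulForm p) from (D.ι₂_comulForm p).symm]
          generalize D.comulForm p = w
          induction w using TensorProduct.induction_on with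
          | zero => simp
          | add a b ha hb => simp only [TensorProduct.add_tmul, map_add, ha, hb]
          | tmul a b => simp [Twist.ι₃_tmul]
      simp only [AlgHom.comp_apply, AlgEquiv.toAlgHom_eq_coe, AlgEquiv.coe_toAlgHom]
      rw [hR, hL, D.ι₂_comulForm]
      exact Coalgebra.coassoc_apply (R := E) (x : MonoidAlgebra E M)))
    (AlgHom.ext fun x => (Algebra.TensorProduct.lid R D.form).injective (Subtype.val_injective (by
      have h : ∀ z : D.form ⊗[R] D.form, ((Algebra.TensorProduct.lid R D.form
          (Algebra.TensorProduct.map D.counitForm (AlgHom.id R D.form) z) : D.form) : MonoidAlgebra E M) =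
          TensorProduct.lid E _ (LinearMap.rTensor _ (counit (R := E)) (D.ι₂ z)) := by
        intro z
        induction z using TensorProduct.induction_on with
        | zero => simp
        | add a b ha hb => simp only [map_add, Subalgebra.coe_add, ha, hb]
        | tmul p q => simp [← Twist.algebraMap_counitForm]
      simp only [AlgHom.comp_apply, AlgEquiv.toAlgHom_eq_coe, AlgEquiv.coe_toAlgHom]
      rw [h, D.ι₂_comulForm, Coalgebra.rTensor_counit_comul]
      simp)))
    (AlgHom.ext fun x => (Algebra.TensorProduct.rid R R D.form).injective (Subtype.val_injective (by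
      have h : ∀ z : D.form ⊗[R] D.form, ((Algebra.TensorProduct.rid R R D.form
          (Algebra.TensorProduct.map (AlgHom.id R D.form) D.counitForm z) : D.form) : MonoidAlgebra E M) =
          TensorProduct.rid E _ (LinearMap.lTensor _ (counit (R := E)) (D.ι₂ z)) := by
        intro z
        induction z using TensorProduct.induction_on with
        | zero => simp
        | add a b ha hb => simp only [map_add, Subalgebra.coe_add, ha, hb]
        | tmul p q => simp [← Twist.algebraMap_counitForm]
      simp only [AlgHom.comp_apply, AlgEquiv.toAlgHom_eq_coe, AlgEquiv.coe_toAlgHom]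
      rw [h, D.ι₂_comulForm, Coalgebra.lTensor_counit_comul]
      simp)))

/-- The antipode of the form. -/
def Twist.antipodeForm : D.form →ₐ[R] D.form :=
  (((HopfAlgebra.antipodeAlgHom E (MonoidAlgebra E M)).restrictScalars R).comp D.form.val).codRestrict D.form
    fun x => by
      show D.d1 (HopfAlgebra.antipode E (x : MonoidAlgebra E M)) = D.d2 (HopfAlgebra.antipode E (x : MonoidAlgebra E M))
      rw [Twist.d1_apply, Twist.d2_apply, ← antipode_evalAt, ← antipode_evalAt, ← antipode_comm]
      exact congrArg _ ((D.mem_form _).mp x.2)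

theorem Twist.antipodeForm_val (x : D.form) :
    (D.antipodeForm x : MonoidAlgebra E M) = HopfAlgebra.antipode E (x : MonoidAlgebra E M) := rfl

/-- The Hopf algebra structure of the form. -/
instance Twist.instHopf : HopfAlgebra R D.form :=
  HopfAlgebra.ofAlgHom D.antipodeForm
    (AlgHom.ext fun x => Subtype.val_injective (by
      have h : ∀ z : D.form ⊗[R] D.form,
          ((Algebra.TensorProduct.lift D.antipodeForm (AlgHom.id R D.form) (fun _ => Commute.all _) z : D.form) :
            MonoidAlgebra E M) =
          LinearMap.mul' E _ (LinearMap.rTensor _ (HopfAlgebra.antipode E) (D.ι₂ z)) := by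
        intro z
        induction z using TensorProduct.induction_on with
        | zero => simp
        | add a b ha hb => simp only [map_add, Subalgebra.coe_add, ha, hb]
        | tmul p q => simp [Twist.antipodeForm_val]
      simp only [AlgHom.comp_apply]
      rw [h, show Bialgebra.comulAlgHom R D.form x = D.comulForm x from rfl, D.ι₂_comulForm,
        HopfAlgebra.mul_antipode_rTensor_comul_apply, ← D.algebraMap_counitForm]
      rw [← IsScalarTower.algebraMap_apply]
      rfl))
    (AlgHom.ext fun x => Subtype.val_injective (by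
      have h : ∀ z : D.form ⊗[R] D.form,
          ((Algebra.TensorProduct.lift (AlgHom.id R D.form) D.antipodeForm (fun _ _ => Commute.all _ _) z : D.form) :
            MonoidAlgebra E M) =
          LinearMap.mul' E _ (LinearMap.lTensor _ (HopfAlgebra.antipode E) (D.ι₂ z)) := by
        intro z
        induction z using TensorProduct.induction_on with
        | zero => simp
        | add a b ha hb => simp only [map_add, Subalgebra.coe_add, ha, hb]
        | tmul p q => simp [Twist.antipodeForm_val]
      simp only [AlgHom.comp_apply]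
      rw [h, show Bialgebra.comulAlgHom R D.form x = D.comulForm x from rfl, D.ι₂_comulForm,
        HopfAlgebra.mul_antipode_lTensor_comul_apply, ← D.algebraMap_counitForm]
      rw [← IsScalarTower.algebraMap_apply]
      rfl))

/-- The inclusion of the form as a semilinear morphism of bialgebras. -/
def Twist.inc : SemiBialgHom R E D.form (MonoidAlgebra E M) where
  toAlgHom := D.form.val
  counit_comp x := (D.algebraMap_counitForm x).symm
  comul_comp x := (D.ι₂_comulForm x).symm

theorem Twist.inc_bijective : Function.Bijective D.inc.extend := D.μ_bijective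

/-- The form becomes the group algebra. -/
def Twist.formEquiv : E ⊗[R] D.form ≃ₐc[E] MonoidAlgebra E M := D.inc.toBialgEquiv D.inc_bijective

end Twist

end Groth.Agent.MultTypeLib
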