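import Groth.Agent.MultTypeLib.SmoothLift
import Groth.Agent.MultTypeLib.Twist

/-!
# Lifting homomorphisms to smooth groups over complete rings
-/

universe u

open WithConv TensorProduct Coalgebra Bialgebra

noncomputable section

namespace Groth.Agent.MultTypeLib

section Sep

variable {R : Type u} [CommRing R] (I : Ideal R)

/-- Separatedness, for the powers of the ideal. -/
def IsSep (N : Type u) [AddCommGroup N] [Module R N] : Prop :=
  ∀ x : N, (∀ k : ℕ, x ∈ (I ^ k • ⊤ : Submodule R N)) → x = 0

variable {I}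

theorem isSep_of_free {E : Type u} [CommRing E] [Algebra R E] (h : IsSep I E) (V : Type u) [AddCommGroup V]
    [Module R V] [Module E V] [IsScalarTower R E V] [Module.Free E V] : IsSep I V := fun x hx => by
  obtain ⟨⟨ι, b⟩⟩ := Module.Free.exists_basis (R := E) (M := V)
  refine b.repr.injective (Finsupp.ext fun i => ?_)
  rw [map_zero, Finsupp.zero_apply]
  exact h _ fun k => map_smul_top (((Finsupp.lapply i).comp b.repr.toLinearMap).restrictScalars R) (hx k)

theorem isSep_of_equiv {N N' : Type u} [AddCommGroup N] [Module R N] [AddCommGroup N'] [Module R N']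
    (e : N ≃ₗ[R] N') (h : IsSep I N') : IsSep I N := fun x hx =>
  e.injective ((h _ fun k => map_smul_top e.toLinearMap (hx k)).trans (map_zero e).symm)

theorem isSep_of_ff {E : Type u} [CommRing E] [Algebra R E] [Module.FaithfullyFlat R E] {N : Type u}
    [AddCommGroup N] [Module R N] (h : IsSep I (E ⊗[R] N)) : IsSep I N := fun x hx =>
  Module.FaithfullyFlat.tensorProduct_mk_injective (A := R) (B := E) N
    ((h _ fun k => map_smul_top (TensorProduct.mk R E N 1) (hx k)).trans (TensorProduct.tmul_zero _ _).symm)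

theorem eq_of_sep {N : Type u} [AddCommGroup N] [Module R N] (h : IsSep I N) {x y : N}
    (hxy : ∀ k : ℕ, x - y ∈ (I ^ k • ⊤ : Submodule R N)) : x = y := sub_eq_zero.mp (h _ hxy)

end Sep

section Step

variable {R : Type u} [CommRing R] {B : Type u} [CommRing B] [HopfAlgebra R B] {C : Type u} [CommRing C]
  [HopfAlgebra R C] [Algebra.FormallySmooth R C]

theorem mem_smul_top_of_rTensor {S T : Type u} [CommRing S] [Algebra R S] [CommRing T] [Algebra R T]
    (p : S →ₐ[R] T) (hp : Function.Surjective p) {N : Type u} [AddCommGroup N] [Module R N]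
    (w : S ⊗[R] N) (hw : LinearMap.rTensor N p.toLinearMap w = 0) :
    w ∈ (RingHom.ker p • ⊤ : Submodule S (S ⊗[R] N)) := by
  obtain ⟨v, rfl⟩ := (rTensor_exact N (LinearMap.exact_subtype_ker_map p.toLinearMap) hp w).mp hw
  induction v using TensorProduct.induction_on with
  | zero => simp
  | add a b ha hb =>
    rw [map_add]
    exact add_mem (ha (by rw [← LinearMap.comp_apply, ← LinearMap.rTensor_comp, LinearMap.comp_ker_subtype]; simp))
      (hb (by rw [← LinearMap.comp_apply, ← LinearMap.rTensor_comp, LinearMap.comp_ker_subtype]; simp))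
  | tmul s n =>
    rw [LinearMap.rTensor_tmul, show (LinearMap.ker p.toLinearMap).subtype s ⊗ₜ[R] n =
      (s : S) • ((1 : S) ⊗ₜ[R] n) by rw [TensorProduct.smul_tmul', smul_eq_mul, mul_one]; rfl]
    exact Submodule.smul_mem_smul (LinearMap.mem_ker.mp s.2) trivial

theorem distrib_map_tmul {S T : Type u} [CommRing S] [Algebra R S] [CommRing T] [Algebra R T] (p : S →ₐ[R] T)
    (x y : S ⊗[R] B) :
    AlgebraTensorModule.distribBaseChange R T B B (LinearMap.rTensor (B ⊗[R] B) p.toLinearMap
      ((AlgebraTensorModule.distribBaseChange R S B B).symm (x ⊗ₜ[S] y))) = mA B p x ⊗ₜ[T] mA B p y := by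
  induction x using TensorProduct.induction_on with
  | zero => simp
  | add a b ha hb => simp only [TensorProduct.add_tmul, map_add, ha, hb]
  | tmul s a =>
    induction y using TensorProduct.induction_on with
    | zero => simp
    | add p' q hp' hq => simp only [TensorProduct.tmul_add, map_add, hp', hq]
    | tmul t b =>
      have e : AlgebraTensorModule.distribBaseChange R S B B ((s * t) ⊗ₜ (a ⊗ₜ b)) =
          (s ⊗ₜ[R] a) ⊗ₜ[S] (t ⊗ₜ[R] b) := by
        rw [AlgebraTensorModule.distribBaseChange_tmul,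
          show ((s * t) ⊗ₜ[R] a : S ⊗[R] B) = t • (s ⊗ₜ[R] a) by
            rw [TensorProduct.smul_tmul', smul_eq_mul, mul_comm],
          TensorProduct.smul_tmul, TensorProduct.smul_tmul', smul_eq_mul, mul_one]
      rw [(AlgebraTensorModule.distribBaseChange R S B B).symm_apply_eq.mpr e.symm, LinearMap.rTensor_tmul,
        AlgHom.toLinearMap_apply, map_mul, AlgebraTensorModule.distribBaseChange_tmul,
        Algebra.TensorProduct.map_tmul, Algebra.TensorProduct.map_tmul, AlgHom.id_apply, AlgHom.id_apply,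
        show ((p s * p t) ⊗ₜ[R] a : T ⊗[R] B) = p t • (p s ⊗ₜ[R] a) by
          rw [TensorProduct.smul_tmul', smul_eq_mul, mul_comm],
        TensorProduct.smul_tmul, TensorProduct.smul_tmul', smul_eq_mul, mul_one]

set_option maxHeartbeats 400000 in
/-- One step of lifting, in terms of semilinear morphisms. -/
theorem exists_semiBialgHom_lift (hB : SGA3b.IsMultType R B) {S T : Type u} [CommRing S] [Algebra R S]
    [CommRing T] [Algebra R T] (p : S →ₐ[R] T) (hp : Function.Surjective p) (hker : IsNilpotent (RingHom.ker p))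
    (h : SemiBialgHom R T C (T ⊗[R] B)) :
    ∃ h' : SemiBialgHom R S C (S ⊗[R] B), ∀ c, mA B p (h'.toAlgHom c) = h.toAlgHom c := by
  have hmem : ∀ w : S ⊗[R] B, mA B p w = 0 → w ∈ (RingHom.ker p • ⊤ : Submodule S (S ⊗[R] B)) :=
    fun w hw => mem_smul_top_of_rTensor p hp w (by rw [← mA_eq_rTensor]; exact hw)
  have hπ : Function.Surjective (mA B p) := fun z => by
    obtain ⟨w, hw⟩ := LinearMap.rTensor_surjective B (g := p.toLinearMap) hp z
    exact ⟨w, (mA_eq_rTensor p w).trans hw⟩
  have hker' : IsNilpotent (RingHom.ker (mA B p)) := by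
    obtain ⟨n, hn⟩ := hker
    refine ⟨n, eq_bot_iff.mpr (le_trans (Ideal.pow_right_mono
      (show RingHom.ker (mA B p) ≤ (RingHom.ker p).map (algebraMap S (S ⊗[R] B)) from fun x hx => ?_) n) ?_)⟩
    · have h := hmem x hx
      rwa [Ideal.smul_top_eq_map] at h
    · rw [← Ideal.map_pow, hn, Ideal.zero_eq_bot, Ideal.map_bot]
  let g : C →ₐ[R] S ⊗[R] B := Algebra.FormallySmooth.liftOfSurjective h.toAlgHom (mA B p) hπ hker'
  have hg : ∀ c, mA B p (g c) = h.toAlgHom c :=
    Algebra.FormallySmooth.liftOfSurjective_apply h.toAlgHom (mA B p) hπ hker'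
  let f : S ⊗[R] C →ₐ[S] S ⊗[R] B :=
    Algebra.TensorProduct.lift (Algebra.ofId S _) g fun _ _ => .all _ _
  have hf1 : ∀ c, f ((1 : S) ⊗ₜ c) = g c := fun c => by simp [f, ← Algebra.TensorProduct.one_def]
  obtain ⟨μ⟩ := exists_mean (isMultType_baseChange S hB)
  let D := AlgebraTensorModule.distribBaseChange R S B B
  let DT := AlgebraTensorModule.distribBaseChange R T B B
  let Ψ : (S ⊗[R] B) ⊗[S] (S ⊗[R] B) →ₗ[R] T ⊗[R] (B ⊗[R] B) :=
    LinearMap.rTensor (B ⊗[R] B) p.toLinearMap ∘ₗ D.symm.toLinearMap.restrictScalars R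
  have hΨ : ∀ y, Ψ y = 0 → y ∈ (RingHom.ker p • ⊤ : Submodule S ((S ⊗[R] B) ⊗[S] (S ⊗[R] B))) := fun y hy => by
    have h1 := mem_smul_top_of_rTensor p hp _ hy
    rw [← D.apply_symm_apply y]
    exact map_smul_top D.toLinearMap h1
  have hΨ2 : ∀ x y, DT (Ψ (x ⊗ₜ[S] y)) = mA B p x ⊗ₜ[T] mA B p y := fun x y => distrib_map_tmul p x y
  have hΨs' : ∀ (s : S) y, DT (Ψ (s • y)) = p s • DT (Ψ y) := fun s y => by
    show DT (LinearMap.rTensor _ p.toLinearMap (D.symm (s • y))) = p s • DT (LinearMap.rTensor _ p.toLinearMap (D.symm y))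
    rw [map_smul, ← map_smul DT]
    refine congrArg DT ?_
    generalize D.symm y = z
    induction z using TensorProduct.induction_on with
    | zero => simp
    | add q r hq hr => simp only [smul_add, map_add, hq, hr]
    | tmul q r => simp [TensorProduct.smul_tmul']
  have hΨc : ∀ x : S ⊗[R] B, DT (Ψ (comul x)) = comul (mA B p x) := by
    intro x
    induction x using TensorProduct.induction_on with
    | zero => simp
    | add a b ha hb => simp only [map_add, ha, hb]
    | tmul s a =>
      rw [show (s ⊗ₜ[R] a : S ⊗[R] B) = s • ((SemiBialgHom.baseChange R S B).toAlgHom a) by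
          simp [SemiBialgHom.baseChange, TensorProduct.smul_tmul'],
        map_smul, (SemiBialgHom.baseChange R S B).comul_comp, hΨs']
      have e : mA B p (s • (SemiBialgHom.baseChange R S B).toAlgHom a) =
          p s • (SemiBialgHom.baseChange R T B).toAlgHom a := by
        simp [SemiBialgHom.baseChange, TensorProduct.smul_tmul']
      rw [e, map_smul, (SemiBialgHom.baseChange R T B).comul_comp]
      generalize comul (R := R) a = z
      induction z using TensorProduct.induction_on with
      | zero => simp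
      | add q r hq hr => simp only [map_add, smul_add, hq, hr]
      | tmul q r =>
        rw [sq_tmul, sq_tmul, hΨ2]
        simp [SemiBialgHom.baseChange]
  have hΨs : ∀ z : C ⊗[R] C, DT (Ψ (Algebra.TensorProduct.map f f (sq S (SemiBialgHom.baseChange R S C).toAlgHom z))) =
      sq T h.toAlgHom z := by
    intro z
    induction z using TensorProduct.induction_on with
    | zero => simp
    | add q r hq hr => simp only [map_add, hq, hr]
    | tmul q r =>
      rw [sq_tmul, sq_tmul, Algebra.TensorProduct.map_tmul]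
      show DT (Ψ (f (1 ⊗ₜ q) ⊗ₜ f (1 ⊗ₜ r))) = _
      rw [hΨ2, hf1, hf1, hg, hg]
  have hhom : IsHomMod (RingHom.ker p) (toConv f) := by
    intro w
    induction w using TensorProduct.induction_on with
    | zero => simp
    | add a b ha hb => simp only [map_add] at ha hb ⊢; rw [add_sub_add_comm]; exact add_mem ha hb
    | tmul s c =>
      rw [show (s ⊗ₜ[R] c : S ⊗[R] C) = s • ((1 : S) ⊗ₜ c) by rw [TensorProduct.smul_tmul', smul_eq_mul, mul_one],
        map_smul, map_smul, ← smul_sub]
      refine Submodule.smul_mem _ _ (hΨ _ (DT.injective ?_))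
      rw [map_zero, map_sub, map_sub, sub_eq_zero]
      show DT (Ψ (comul (f ((1 : S) ⊗ₜ[R] c)))) = _
      rw [hΨc, hf1, hg, h.comul_comp, ← hΨs, LinearMap.convMul_apply,
        ← (SemiBialgHom.baseChange R S C).comul_comp]
      refine congrArg _ (congrArg _ ?_)
      show _ = LinearMap.mul' S _ (TensorProduct.map _ _ (comul ((SemiBialgHom.baseChange R S C).toAlgHom c)))
      generalize comul (R := S) ((SemiBialgHom.baseChange R S C).toAlgHom c) = v
      induction v using TensorProduct.induction_on with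
      | zero => simp
      | add q r hq hr => simp only [map_add, hq, hr]
      | tmul q r => simp [convMap_apply]
  obtain ⟨φ, hφ⟩ := μ.exists_bialgHom hker (toConv f) hhom
  refine ⟨(SemiBialgHom.ofBialgHom φ).comp (SemiBialgHom.baseChange R S C), fun c => ?_⟩
  show mA B p (φ ((1 : S) ⊗ₜ c)) = _
  rw [← hg, ← hf1, ← sub_eq_zero, ← map_sub]
  have h1 : φ ((1 : S) ⊗ₜ c) - f ((1 : S) ⊗ₜ c) ∈ (RingHom.ker p • ⊤ : Submodule S (S ⊗[R] B)) := hφ _
  refine Submodule.smul_induction_on h1 (fun s hs y _ => ?_) fun a b ha hb => by rw [map_add, ha, hb, add_zero]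
  rw [Algebra.smul_def, map_mul, show mA B p (algebraMap S (S ⊗[R] B) s) = 0 by
    rw [Algebra.TensorProduct.algebraMap_apply, Algebra.algebraMap_self, RingHom.id_apply,
      Algebra.TensorProduct.map_tmul, RingHom.mem_ker.mp hs, TensorProduct.zero_tmul], zero_mul]

end Step

section Limit

variable {R : Type u} [CommRing R] [IsNoetherianRing R] (I : Ideal R) [IsAdicComplete I R]
variable {B : Type u} [CommRing B] [HopfAlgebra R B] {C : Type u} [CommRing C] [HopfAlgebra R C]

/-- The coefficients of two orthogonal families of vectors are finite in number. -/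
theorem finite_of_orth {E : Type u} [CommRing E] [IsNoetherianRing E] {M ι : Type u} [Fintype ι]
    (u v : M → ι → E) (w : M → E) (horth : ∀ m n, m ≠ n → ∑ i, u m i * v n i = 0)
    (hw : ∀ m, ∑ i, u m i * v m i = w m) : {m | w m ≠ 0}.Finite := by
  by_contra hinf
  let g := Set.Infinite.natEmbedding _ (Set.not_finite.mp hinf |> id)
  let P : ℕ →o Submodule E (ι → E) :=
    { toFun := fun k => Submodule.span E ((fun l : ℕ => u (g l).1) '' {l | l < k})
      monotone' := fun k k' hk => Submodule.span_mono (Set.image_mono fun l hl => lt_of_lt_of_le hl hk) }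
  obtain ⟨k, hk⟩ := monotone_stabilizes_iff_noetherian.mpr (inferInstance : IsNoetherian E (ι → E)) P
  have hmem : u (g k).1 ∈ Submodule.span E ((fun l : ℕ => u (g l).1) '' {l | l < k}) := by
    have h1 : u (g k).1 ∈ P (k + 1) := Submodule.subset_span ⟨k, Nat.lt_succ_self k, rfl⟩
    rwa [← hk (k + 1) (Nat.le_succ k)] at h1
  let L : (ι → E) →ₗ[E] E := ∑ i, v (g k).1 i • LinearMap.proj i
  have hL : ∀ x, L x = ∑ i, x i * v (g k).1 i := fun x => by simp [L, mul_comm]
  have hle : Submodule.span E ((fun l : ℕ => u (g l).1) '' {l | l < k}) ≤ LinearMap.ker L := by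
    rw [Submodule.span_le]
    rintro _ ⟨l, hl, rfl⟩
    rw [SetLike.mem_coe, LinearMap.mem_ker, hL]
    exact horth _ _ fun h => (Nat.ne_of_lt hl) (g.injective (Subtype.ext h))
  exact (g k).2 (by rw [← hw, ← hL]; exact hle hmem)

theorem coeff_comul (S : Type u) [CommRing S] (M : Type u) [CommGroup M] (m n : M) (x : MonoidAlgebra S M)
    [Decidable (m = n)] :
    LinearMap.mul' S S (TensorProduct.map
      ((Finsupp.lapply m).comp (MonoidAlgebra.coeffLinearEquiv S).toLinearMap)
      ((Finsupp.lapply n).comp (MonoidAlgebra.coeffLinearEquiv S).toLinearMap) (comul x)) =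
      if m = n then x.coeff m else 0 := by
  classical
  induction x using MonoidAlgebra.induction_linear with
  | zero => simp
  | add a b ha hb =>
    simp only [map_add, ha, hb, MonoidAlgebra.coeff_add, Finsupp.add_apply]
    split_ifs <;> simp
  | single l r =>
    rw [show MonoidAlgebra.single l r = r • MonoidAlgebra.single l (1 : S) by simp, map_smul, map_smul, map_smul,
      comul_single_one]
    by_cases h : m = n
    · subst h
      by_cases h1 : l = m <;> simp [Finsupp.single_apply, h1]
    · by_cases h1 : l = m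
      · subst h1; simp [Finsupp.single_apply, h, Ne.symm h]
      · simp [Finsupp.single_apply, h, h1]

set_option maxHeartbeats 4000000 in
/-- Over a complete ring, homomorphisms from isotrivial groups to smooth groups lift. -/
theorem exists_bialgHom_lift_complete [Algebra.FormallySmooth R C] (hB : SGA3b.IsIsotrivial R B)
    (φ₀ : (R ⧸ I) ⊗[R] C →ₐc[R ⧸ I] (R ⧸ I) ⊗[R] B) :
    ∃ φ : C →ₐc[R] B, ∀ c, φ₀ (1 ⊗ₜ c) = 1 ⊗ₜ φ c := by
  classical
  obtain ⟨E, _, _, -, hfin, hff, hd⟩ := hB
  have hB' : SGA3b.IsMultType R B := isMultType_of_ff E hd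
  obtain ⟨M, _, hom, equiv, he⟩ := exists_split_of_isDiag E hd
  have : IsNoetherianRing E := IsNoetherianRing.of_finite R E
  have : IsAdicComplete I E := AdicLib.isAdicComplete_of_finite I E
  -- the levels
  let Q : ℕ → Type u := fun k => R ⧸ I ^ (k + 1)
  let base : SemiBialgHom R (R ⧸ I) C ((R ⧸ I) ⊗[R] B) :=
    (SemiBialgHom.ofBialgHom φ₀).comp (SemiBialgHom.baseChange R (R ⧸ I) C)
  have hle0 : I ^ (0 + 1) ≤ I := le_of_eq (by simp)
  let p0 : Q 0 →ₐ[R] R ⧸ I := Ideal.Quotient.factorₐ R hle0
  obtain ⟨h0, eh0⟩ := exists_semiBialgHom_lift hB' p0 (Ideal.Quotient.factor_surjective hle0)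
    ⟨1, by
      refine (pow_one (RingHom.ker p0)).trans (le_bot_iff.mp ?_)
      intro x hx
      obtain ⟨r, rfl⟩ := Ideal.Quotient.mk_surjective x
      have hr : r ∈ I := Ideal.Quotient.eq_zero_iff_mem.mp (RingHom.mem_ker.mp hx)
      exact Ideal.mem_bot.mpr (Ideal.Quotient.eq_zero_iff_mem.mpr (by simpa using hr))⟩ base
  let pk : ∀ k, Q (k + 1) →ₐ[R] Q k := fun k =>
    Ideal.Quotient.factorₐ R (Ideal.pow_le_pow_right (Nat.le_succ _))
  have hstep : ∀ k (h : SemiBialgHom R (Q k) C (Q k ⊗[R] B)),
      ∃ h' : SemiBialgHom R (Q (k + 1)) C (Q (k + 1) ⊗[R] B), ∀ c, mA B (pk k) (h'.toAlgHom c) = h.toAlgHom c := by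
    intro k h
    refine exists_semiBialgHom_lift hB' (pk k) (Ideal.Quotient.factor_surjective (Ideal.pow_le_pow_right (Nat.le_succ _))) ⟨2, ?_⟩ h
    rw [Ideal.zero_eq_bot, eq_bot_iff]
    have hle : RingHom.ker (pk k) ≤ (I ^ (k + 1)).map (Ideal.Quotient.mk (I ^ (k + 1 + 1))) := fun x hx => by
      obtain ⟨r, rfl⟩ := Ideal.Quotient.mk_surjective x
      exact Ideal.mem_map_of_mem _ (Ideal.Quotient.eq_zero_iff_mem.mp (RingHom.mem_ker.mp hx))
    refine le_trans (Ideal.pow_right_mono hle 2) ?_
    rw [← Ideal.map_pow, Ideal.map_le_iff_le_comap]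
    intro r hr
    rw [Ideal.mem_comap, Ideal.mem_bot, Ideal.Quotient.eq_zero_iff_mem]
    rw [← pow_mul] at hr
    exact Ideal.pow_le_pow_right (by omega) hr
  choose next hnext using hstep
  let H : ∀ k, SemiBialgHom R (Q k) C (Q k ⊗[R] B) := fun k => Nat.rec (motive := fun k =>
    SemiBialgHom R (Q k) C (Q k ⊗[R] B)) h0 (fun k h => next k h) k
  have hH : ∀ k c, mA B (pk k) ((H (k + 1)).toAlgHom c) = (H k).toAlgHom c := fun k c => hnext k (H k) c
  choose u hu using fun k c => TensorProduct.mk_surjective R B (Q k) Ideal.Quotient.mk_surjective ((H k).toAlgHom c)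
  have hu' : ∀ k c, (1 : Q k) ⊗ₜ[R] u k c = (H k).toAlgHom c := hu
  have hcomp : ∀ k c, u (k + 1) c - u k c ∈ (I ^ (k + 1) • ⊤ : Submodule R B) := fun k c => by
    rw [← one_tmul_eq_iff_mem, hu' k, ← hH, ← hu' (k + 1), Algebra.TensorProduct.map_tmul, map_one, AlgHom.id_apply]
  -- the coefficients
  let ν : M → B →ₗ[R] E := fun m =>
    (((Finsupp.lapply m).comp (MonoidAlgebra.coeffLinearEquiv E).toLinearMap).restrictScalars R).comp
      hom.toAlgHom.toLinearMap
  have hcauchy : ∀ m c, ∀ a b, a ≤ b → ν m (u b c) - ν m (u a c) ∈ (I ^ (a + 1) • ⊤ : Submodule R E) := by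
    intro m c a b hab
    induction hab with
    | refl => rw [sub_self]; exact zero_mem _
    | @step b hab ih =>
      rw [← sub_add_sub_cancel _ (ν m (u b c))]
      refine add_mem ?_ ih
      rw [← map_sub]
      exact Submodule.smul_mono (Ideal.pow_le_pow_right (Nat.succ_le_succ hab)) le_rfl
        (map_smul_top (ν m) (hcomp b c))
  have hlim : ∀ m c, ∃ L : E, ∀ k, ν m (u k c) - L ∈ (I ^ (k + 1) • ⊤ : Submodule R E) := by
    intro m c
    obtain ⟨L, hL⟩ := IsPrecomplete.prec (inferInstance : IsPrecomplete I E) (f := fun k => ν m (u k c))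
      (fun {a b} hab => by
        rw [SModEq.sub_mem, ← neg_sub]
        exact Submodule.neg_mem _ (Submodule.smul_mono (Ideal.pow_le_pow_right (Nat.le_succ a)) le_rfl
          (hcauchy m c a b hab)))
    refine ⟨L, fun k => ?_⟩
    rw [← sub_add_sub_cancel _ (ν m (u (k + 1) c)), ← neg_sub (ν m (u (k + 1) c))]
    exact add_mem (neg_mem (hcauchy m c k (k + 1) (Nat.le_succ k))) (SModEq.sub_mem.mp (hL (k + 1)))
  choose e he' using hlim
  have hsepE : IsSep I E := fun x hx => IsHausdorff.haus' (I := I) x fun k => by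
    rw [SModEq.zero]; exact hx k
  have horth : ∀ {ι : Type u} c (rep : Coalgebra.Repr R c ι) (m n : M),
      ∑ i ∈ rep.index, e m (rep.left i) * e n (rep.right i) = if m = n then e m c else 0 := by
    intro ι c rep m n
    refine eq_of_sep hsepE fun k => Submodule.smul_mono (Ideal.pow_le_pow_right (Nat.le_succ k)) le_rfl ?_
    have h1 : comul (u k c) - ∑ i ∈ rep.index, u k (rep.left i) ⊗ₜ[R] u k (rep.right i) ∈
        (I ^ (k + 1) • ⊤ : Submodule R (B ⊗[R] B)) := by
      rw [← one_tmul_eq_iff_mem]
      apply (AlgebraTensorModule.distribBaseChange R (Q k) B B).injective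
      rw [← sq_baseChange_eq, ← sq_baseChange_eq, ← (SemiBialgHom.baseChange R (Q k) B).comul_comp]
      show comul ((1 : Q k) ⊗ₜ[R] u k c) = _
      rw [hu', (H k).comul_comp, ← rep.eq, map_sum, map_sum]
      refine Finset.sum_congr rfl fun i _ => ?_
      simp [SemiBialgHom.baseChange, hu']
    let χ : B ⊗[R] B →ₗ[R] E := LinearMap.mul' R E ∘ₗ TensorProduct.map (ν m) (ν n)
    have h2 : χ (comul (u k c)) = if m = n then ν m (u k c) else 0 := by
      have h3 := coeff_comul E M m n (hom.toAlgHom (u k c))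
      rw [hom.comul_comp] at h3
      refine Eq.trans ?_ h3
      generalize comul (R := R) (u k c) = z
      induction z using TensorProduct.induction_on with
      | zero => simp
      | add a b ha hb => simp only [map_add, ha, hb]
      | tmul a b => simp [χ, ν]
    have h4 := map_smul_top χ h1
    rw [map_sub, map_sum, h2] at h4
    have h5 : (if m = n then ν m (u k c) else 0) - (if m = n then e m c else 0) ∈
        (I ^ (k + 1) • ⊤ : Submodule R E) := by
      by_cases h : m = n
      · simp only [if_pos h]; exact he' m c k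
      · simp only [if_neg h, sub_self]; exact zero_mem _
    have h6 : ∑ i ∈ rep.index, e m (rep.left i) * e n (rep.right i) - ∑ i ∈ rep.index,
        χ (u k (rep.left i) ⊗ₜ[R] u k (rep.right i)) ∈ (I ^ (k + 1) • ⊤ : Submodule R E) := by
      rw [← Finset.sum_sub_distrib]
      refine Submodule.sum_mem _ fun i _ => ?_
      show e m (rep.left i) * e n (rep.right i) - ν m (u k (rep.left i)) * ν n (u k (rep.right i)) ∈ _
      rw [show e m (rep.left i) * e n (rep.right i) - ν m (u k (rep.left i)) * ν n (u k (rep.right i)) =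
        e m (rep.left i) * (e n (rep.right i) - ν n (u k (rep.right i))) +
          ν n (u k (rep.right i)) * (e m (rep.left i) - ν m (u k (rep.left i))) by ring]
      exact add_mem (mul_mem_smul_left _ (by rw [← neg_sub]; exact neg_mem (he' n _ k)))
        (mul_mem_smul_left _ (by rw [← neg_sub]; exact neg_mem (he' m _ k)))
    have h7 := add_mem (sub_mem h6 h4) h5
    convert h7 using 1
    ring
  have hfinsupp : ∀ c, {m | e m c ≠ 0}.Finite := fun c => by
    let rep := Coalgebra.Repr.arbitrary R c
    refine finite_of_orth (fun m (i : rep.index) => e m (rep.left i.1)) (fun m (i : rep.index) => e m (rep.right i.1))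
      (fun m => e m c) (fun m n h => ?_) fun m => ?_
    · have := horth c rep m n
      rw [if_neg h] at this
      rw [← this]
      exact Finset.sum_coe_sort rep.index fun i => e m (rep.left i) * e n (rep.right i)
    · have := horth c rep m m
      rw [if_pos rfl] at this
      rw [← this]
      exact Finset.sum_coe_sort rep.index fun i => e m (rep.left i) * e m (rep.right i)
  let x : C → MonoidAlgebra E M := fun c => ∑ m ∈ (hfinsupp c).toFinset, MonoidAlgebra.single m (e m c)
  have hx : ∀ c m, (x c).coeff m = e m c := fun c m => by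
    by_cases h : e m c = 0
    · simp [x, Finsupp.single_apply, h]
    · simp [x, Finsupp.single_apply, h]
  -- separatedness
  have hsepM : IsSep I (MonoidAlgebra E M) := by
    have : Module.Free E (MonoidAlgebra E M) := Module.Free.of_equiv (MonoidAlgebra.coeffLinearEquiv E).symm
    exact isSep_of_free hsepE _
  let eqR : E ⊗[R] B ≃ₗ[R] MonoidAlgebra E M := equiv.toLinearEquiv.restrictScalars R
  have hsepEB : IsSep I (E ⊗[R] B) := isSep_of_equiv eqR hsepM
  have hsepB : IsSep I B := isSep_of_ff hsepEB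
  have hsepBB : IsSep I (B ⊗[R] B) := by
    refine isSep_of_ff (E := E) ?_
    have : Module.Free E (MonoidAlgebra E M) := Module.Free.of_equiv (MonoidAlgebra.coeffLinearEquiv E).symm
    exact isSep_of_equiv (((AlgebraTensorModule.distribBaseChange R E B B).trans
      (TensorProduct.congr equiv.toLinearEquiv equiv.toLinearEquiv)).restrictScalars R) (isSep_of_free hsepE _)
  have hz : ∀ c k, eqR.symm (x c) - (1 : E) ⊗ₜ[R] u k c ∈ (I ^ (k + 1) • ⊤ : Submodule R (E ⊗[R] B)) := by
    intro c k
    have h1 : x c - hom.toAlgHom (u k c) ∈ (I ^ (k + 1) • ⊤ : Submodule R (MonoidAlgebra E M)) := by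
      rw [← MonoidAlgebra.sum_coeff_single (x c - hom.toAlgHom (u k c))]
      refine Submodule.sum_mem _ fun m _ => ?_
      let l : E →ₗ[R] MonoidAlgebra E M := (((MonoidAlgebra.coeffLinearEquiv E).symm.toLinearMap).comp
        (Finsupp.lsingle (R := E) (M := E) m)).restrictScalars R
      refine map_smul_top l ?_
      rw [MonoidAlgebra.coeff_sub, Finsupp.sub_apply, hx]
      exact (by rw [← neg_sub]; exact neg_mem (he' m c k) :
        e m c - ν m (u k c) ∈ (I ^ (k + 1) • ⊤ : Submodule R E))
    have h2 := map_smul_top eqR.symm.toLinearMap h1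
    rw [map_sub] at h2
    convert h2 using 1
    show _ = eqR.symm (x c) - equiv.symm (hom.toAlgHom (u k c))
    rw [← he, AlgEquiv.symm_apply_apply]
  have hz' : ∀ c, ∃ b : B, (1 : E) ⊗ₜ[R] b = eqR.symm (x c) := by
    intro c
    refine exists_of_agree (eqR.symm (x c)) ?_
    let jL : E →ₐ[R] E ⊗[R] E := Algebra.TensorProduct.includeLeft
    let jR : E →ₐ[R] E ⊗[R] E := Algebra.TensorProduct.includeRight
    let P : Split R B := { S := E, M := M, hom := hom, equiv := equiv, equiv_tmul := he }
    have hsepT : IsSep I (E ⊗[R] E) := fun t ht => by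
      have : IsAdicComplete I (E ⊗[R] E) := AdicLib.isAdicComplete_of_finite I (E ⊗[R] E)
      exact IsHausdorff.haus' (I := I) t fun k => by rw [SModEq.zero]; exact ht k
    have hsep3 : IsSep I ((E ⊗[R] E) ⊗[R] B) := by
      have : Module.Free (E ⊗[R] E) (MonoidAlgebra (E ⊗[R] E) M) :=
        Module.Free.of_equiv (MonoidAlgebra.coeffLinearEquiv (E ⊗[R] E)).symm
      exact isSep_of_equiv ((LinearEquiv.ofBijective (P.coordAt jL).toLinearMap
        (P.coordAt_bijective jL)).restrictScalars R) (isSep_of_free hsepT _)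
    refine eq_of_sep hsep3 fun k => Submodule.smul_mono (Ideal.pow_le_pow_right (Nat.le_succ k)) le_rfl ?_
    have h1 := map_smul_top (LinearMap.rTensor B jL.toLinearMap) (hz c k)
    have h2 := map_smul_top (LinearMap.rTensor B jR.toLinearMap) (hz c k)
    rw [map_sub, LinearMap.rTensor_tmul, AlgHom.toLinearMap_apply, map_one] at h1 h2
    convert sub_mem h1 h2 using 1
    abel
  choose b hb using hz'
  have hbu : ∀ c k, b c - u k c ∈ (I ^ (k + 1) • ⊤ : Submodule R B) := fun c k => by
    rw [← one_tmul_eq_iff_mem]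
    have hinj : Function.Injective (LinearMap.lTensor (Q k) (TensorProduct.mk R E B 1)) := by
      intro y y' hy
      refine Module.FaithfullyFlat.tensorProduct_mk_injective (A := R) (B := E) (Q k ⊗[R] B) ?_
      have hcomp : (TensorProduct.leftComm R (Q k) E B).toLinearMap ∘ₗ
          LinearMap.lTensor (Q k) (TensorProduct.mk R E B 1) = TensorProduct.mk R E (Q k ⊗[R] B) 1 :=
        TensorProduct.ext' fun a b => rfl
      have hsw : ∀ y : Q k ⊗[R] B, TensorProduct.leftComm R (Q k) E B
          (LinearMap.lTensor (Q k) (TensorProduct.mk R E B 1) y) = (1 : E) ⊗ₜ y := LinearMap.congr_fun hcomp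
      show (1 : E) ⊗ₜ y = (1 : E) ⊗ₜ y'
      rw [← hsw, ← hsw, hy]
    refine hinj ?_
    rw [LinearMap.lTensor_tmul, LinearMap.lTensor_tmul, one_tmul_eq_iff_mem]
    show (1 : E) ⊗ₜ b c - _ ∈ _
    rw [hb]
    exact hz c k
  have hHb : ∀ c k, (H k).toAlgHom c = (1 : Q k) ⊗ₜ[R] b c := fun c k => by
    rw [← hu', eq_comm, one_tmul_eq_iff_mem]; exact hbu c k
  have sepB : ∀ y y' : B, (∀ k, (1 : Q k) ⊗ₜ[R] y = (1 : Q k) ⊗ₜ[R] y') → y = y' := fun y y' h =>
    eq_of_sep hsepB fun k => Submodule.smul_mono (Ideal.pow_le_pow_right (Nat.le_succ k)) le_rfl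
      ((one_tmul_eq_iff_mem _ _ _).mp (h k))
  let ψ : C →ₐ[R] B :=
    { toFun := b
      map_one' := sepB _ _ fun k => by rw [← hHb, map_one]; rfl
      map_mul' := fun p q => sepB _ _ fun k => by
        rw [← hHb, map_mul, hHb, hHb, Algebra.TensorProduct.tmul_mul_tmul, mul_one]
      map_zero' := sepB _ _ fun k => by rw [← hHb, map_zero, TensorProduct.tmul_zero]
      map_add' := fun p q => sepB _ _ fun k => by rw [← hHb, map_add, hHb, hHb, TensorProduct.tmul_add]
      commutes' := fun r => sepB _ _ fun k => by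
        rw [← hHb, AlgHom.commutes, Algebra.algebraMap_eq_smul_one, Algebra.algebraMap_eq_smul_one,
          TensorProduct.tmul_smul]
        rfl }
  have hψ : ∀ c k, (1 : Q k) ⊗ₜ[R] ψ c = (H k).toAlgHom c := fun c k => (hHb c k).symm
  refine ⟨BialgHom.ofAlgHom ψ (AlgHom.ext fun c => ?_) (AlgHom.ext fun c => ?_), fun c => ?_⟩
  · refine sub_eq_zero.mp (IsHausdorff.haus' (I := I) _ fun k => ?_)
    rw [SModEq.zero]
    have h1 := (H k).counit_comp c
    rw [← hψ, TensorProduct.counit_tmul, Bialgebra.counit_one, Algebra.smul_def, mul_one] at h1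
    have h2 : counit (R := R) (ψ c) - counit (R := R) c ∈ I ^ (k + 1) := Ideal.Quotient.eq.mp h1
    rw [smul_eq_mul, Ideal.mul_top]
    exact Ideal.pow_le_pow_right (Nat.le_succ k) h2
  · refine eq_of_sep hsepBB fun k => Submodule.smul_mono (Ideal.pow_le_pow_right (Nat.le_succ k)) le_rfl ?_
    rw [← one_tmul_eq_iff_mem]
    apply (AlgebraTensorModule.distribBaseChange R (Q k) B B).injective
    simp only [AlgHom.comp_apply, Bialgebra.comulAlgHom_apply]
    rw [← sq_baseChange_eq, ← sq_baseChange_eq, ← (SemiBialgHom.baseChange R (Q k) B).comul_comp]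
    show _ = comul ((1 : Q k) ⊗ₜ[R] ψ c)
    rw [hψ, (H k).comul_comp]
    show sq (Q k) (SemiBialgHom.baseChange R (Q k) B).toAlgHom
      (Algebra.TensorProduct.map ψ ψ (comul c)) = _
    generalize comul (R := R) c = z
    induction z using TensorProduct.induction_on with
    | zero => simp
    | add a b ha hb => simp only [map_add, ha, hb]
    | tmul a b => simp [SemiBialgHom.baseChange, hψ]
  · have h1 : φ₀ ((1 : R ⧸ I) ⊗ₜ[R] c) = base.toAlgHom c := rfl
    rw [h1, ← eh0]
    show mA B p0 ((H 0).toAlgHom c) = _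
    rw [← hψ, Algebra.TensorProduct.map_tmul, map_one, AlgHom.id_apply]
    rfl

end Limit

end Groth.Agent.MultTypeLib
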