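import Groth.Agent.MultTypeLib.MultNil
import Groth.Agent.MultTypeLib.CompleteIso
import Groth.Agent.MultTypeLib.SmoothComplete

/-!
# Homomorphisms out of isotrivial groups over complete rings
-/

universe u

open WithConv TensorProduct Coalgebra Bialgebra

noncomputable section

namespace Groth.Agent.MultTypeLib

variable {R : Type u} [CommRing R]

theorem isQuasiIsotrivial_congr {X Y : Type u} [CommRing X] [HopfAlgebra R X] [CommRing Y] [HopfAlgebra R Y]
    (e : X ≃ₐc[R] Y) (h : SGA3b.IsQuasiIsotrivial R X) : SGA3b.IsQuasiIsotrivial R Y := by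
  obtain ⟨s, hs, hX⟩ := h
  refine ⟨s, hs, fun f hf => ?_⟩
  obtain ⟨C, _, _, het, hff, hd⟩ := hX f hf
  exact ⟨C, inferInstance, inferInstance, het, hff, isDiag_congr (congrBase C (congrBase _ e)) hd⟩

set_option maxHeartbeats 1000000 in
/-- Quasi-isotriviality is stable under change of base. -/
theorem isQuasiIsotrivial_baseChange {A : Type u} [CommRing A] [HopfAlgebra R A] (T : Type u) [CommRing T]
    [Algebra R T] (h : SGA3b.IsQuasiIsotrivial R A) : SGA3b.IsQuasiIsotrivial T (T ⊗[R] A) := by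
  obtain ⟨s, hs, hA⟩ := h
  refine ⟨algebraMap R T '' s, by rw [← Ideal.map_span, hs, Ideal.map_top], ?_⟩
  rintro _ ⟨f, hf, rfl⟩
  obtain ⟨C, _, _, het, hff, hd⟩ := hA f hf
  let Rf := Localization.Away f
  let Tf := Localization.Away (algebraMap R T f)
  let g : Rf →+* Tf := IsLocalization.Away.map Rf Tf (algebraMap R T) f
  let _ : Algebra Rf Tf := g.toAlgebra
  have : IsScalarTower R Rf Tf := IsScalarTower.of_algebraMap_eq fun r => by
    show _ = IsLocalization.Away.map Rf Tf (algebraMap R T) f (algebraMap R Rf r)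
    rw [IsLocalization.Away.map, IsLocalization.map_eq, ← IsScalarTower.algebraMap_apply]
  let _ : Algebra R C := ((algebraMap Rf C).comp (algebraMap R Rf)).toAlgebra
  have : IsScalarTower R Rf C := IsScalarTower.of_algebraMap_eq fun _ => rfl
  let C' := Tf ⊗[Rf] C
  let _ : Algebra C C' := Algebra.TensorProduct.rightAlgebra
  have : IsScalarTower R C C' := IsScalarTower.of_algebraMap_eq fun r => by
    show (algebraMap R Tf r) ⊗ₜ[Rf] (1 : C) = (1 : Tf) ⊗ₜ[Rf] algebraMap Rf C (algebraMap R Rf r)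
    rw [IsScalarTower.algebraMap_apply R Rf Tf, Algebra.algebraMap_eq_smul_one (R := Rf),
      Algebra.algebraMap_eq_smul_one (R := Rf) (A := C), TensorProduct.smul_tmul]
  have hd1 : SGA3b.IsDiag C' (C' ⊗[R] A) :=
    isDiag_baseChange C C' (isDiag_congr (baseChangeTrans (R := R) Rf C A).symm hd)
  exact ⟨C', inferInstance, inferInstance, inferInstance, inferInstance,
    isDiag_congr (congrBase C' (baseChangeTrans (R := R) T Tf A)) (isDiag_congr (baseChangeTrans (R := R) Tf C' A) hd1)⟩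

variable (I : Ideal R) {B : Type u} [CommRing B] [HopfAlgebra R B] {C : Type u} [CommRing C] [HopfAlgebra R C]

theorem pow_succ_map_eq_bot (k : ℕ) : (I.map (algebraMap R (R ⧸ I ^ (k + 1)))) ^ (k + 1) = ⊥ := by
  rw [← Ideal.map_pow, Ideal.Quotient.algebraMap_eq, Ideal.map_quotient_self]

/-- The infinitesimal levels of a group, flat at the reduction, are of multiplicative type. -/
theorem isMultType_level
    (hfl : ∀ (q : Ideal C) [q.IsPrime], Ideal.map (algebraMap R C) I ≤ q → Module.Flat R (Localization.AtPrime q))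
    (h0 : SGA3b.IsQuasiIsotrivial (R ⧸ I) ((R ⧸ I) ⊗[R] C)) (k : ℕ) :
    SGA3b.IsMultType (R ⧸ I ^ (k + 1)) ((R ⧸ I ^ (k + 1)) ⊗[R] C) := by
  let Q := R ⧸ I ^ (k + 1)
  let J : Ideal Q := I.map (algebraMap R Q)
  have := flat_level_of_flat_at I hfl Q (algebraMap_pow_eq_zero I k)
  let _ : Algebra (R ⧸ I) (Q ⧸ J) := (ofRed I Q).toRingHom.toAlgebra
  have : IsScalarTower R (R ⧸ I) (Q ⧸ J) := IsScalarTower.of_algebraMap_eq fun r => ((ofRed I Q).commutes r).symm
  refine isMultType_of_flat_nil (I := J) ⟨k + 1, pow_succ_map_eq_bot I k⟩ ?_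
  exact isQuasiIsotrivial_congr ((baseChangeTrans (R := R) (R ⧸ I) (Q ⧸ J) C).symm.trans
    (baseChangeTrans (R := R) Q (Q ⧸ J) C)) (isQuasiIsotrivial_baseChange (Q ⧸ J) h0)

variable [IsNoetherianRing R] [IsAdicComplete I R]

/-- Groups of multiplicative type which are isotrivial over a complete ring are separated. -/
theorem isSep_of_isotrivial (hB : SGA3b.IsIsotrivial R B) : IsSep I B := by
  obtain ⟨E, _, _, -, hfin, hff, hd⟩ := hB
  obtain ⟨M, _, hom, equiv, he⟩ := exists_split_of_isDiag E hd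
  have : IsAdicComplete I E := AdicLib.isAdicComplete_of_finite I E
  have hsepE : IsSep I E := fun x hx => IsHausdorff.haus' (I := I) x fun k => by
    rw [SModEq.zero]; exact hx k
  have : Module.Free E (MonoidAlgebra E M) := Module.Free.of_equiv (MonoidAlgebra.coeffLinearEquiv E).symm
  exact isSep_of_ff (isSep_of_equiv (equiv.toLinearEquiv.restrictScalars R) (isSep_of_free hsepE _))

set_option maxHeartbeats 4000000 in
/-- A compatible system of infinitesimal homomorphisms comes from a homomorphism. -/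
theorem exists_bialgHom_of_compat (hB : SGA3b.IsIsotrivial R B)
    (H : ∀ k : ℕ, SemiBialgHom R (R ⧸ I ^ (k + 1)) C ((R ⧸ I ^ (k + 1)) ⊗[R] B))
    (hH : ∀ k c, mA B (Ideal.Quotient.factorₐ R (Ideal.pow_le_pow_right (I := I) (Nat.le_succ (k + 1))))
      ((H (k + 1)).toAlgHom c) = (H k).toAlgHom c) :
    ∃ φ : C →ₐc[R] B, ∀ k c, (1 : R ⧸ I ^ (k + 1)) ⊗ₜ[R] φ c = (H k).toAlgHom c := by
  classical
  obtain ⟨E, _, _, -, hfin, hff, hd⟩ := hB
  obtain ⟨M, _, hom, equiv, he⟩ := exists_split_of_isDiag E hd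
  have : IsNoetherianRing E := IsNoetherianRing.of_finite R E
  have : IsAdicComplete I E := AdicLib.isAdicComplete_of_finite I E
  let Q : ℕ → Type u := fun k => R ⧸ I ^ (k + 1)
  choose u hu using fun k c => TensorProduct.mk_surjective R B (Q k) Ideal.Quotient.mk_surjective ((H k).toAlgHom c)
  have hu' : ∀ k c, (1 : Q k) ⊗ₜ[R] u k c = (H k).toAlgHom c := hu
  have hcomp : ∀ k c, u (k + 1) c - u k c ∈ (I ^ (k + 1) • ⊤ : Submodule R B) := fun k c => by
    rw [← one_tmul_eq_iff_mem, hu' k, ← hH, ← hu' (k + 1), Algebra.TensorProduct.map_tmul, map_one, AlgHom.id_apply]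
  -- the coefficients
  let ν : M → B →ₗ[R] E := fun m =>
    (((Finsupp.lapply m).comp (MonoidAlgebra.coeffLinearEquiv E).toLinearMap).restrictScalars R).comp
      hom.toAlgHom.toLinearMap
  have hcauchy : ∀ m c, ∀ a b, a ≤ b → ν m (u b c) - ν m (u a c) ∈ (I ^ (a + 1) • ⊤ : Submodule R E) := by
    intro m c a b hab
    induction hab with
    | refl => rw [sub_self]; exact zero_mem _
    | @step b hab ih =>
      rw [← sub_add_sub_cancel _ (ν m (u b c))]
      refine add_mem ?_ ih
      rw [← map_sub]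
      exact Submodule.smul_mono (Ideal.pow_le_pow_right (Nat.succ_le_succ hab)) le_rfl
        (map_smul_top (ν m) (hcomp b c))
  have hlim : ∀ m c, ∃ L : E, ∀ k, ν m (u k c) - L ∈ (I ^ (k + 1) • ⊤ : Submodule R E) := by
    intro m c
    obtain ⟨L, hL⟩ := IsPrecomplete.prec (inferInstance : IsPrecomplete I E) (f := fun k => ν m (u k c))
      (fun {a b} hab => by
        rw [SModEq.sub_mem, ← neg_sub]
        exact Submodule.neg_mem _ (Submodule.smul_mono (Ideal.pow_le_pow_right (Nat.le_succ a)) le_rfl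
          (hcauchy m c a b hab)))
    refine ⟨L, fun k => ?_⟩
    rw [← sub_add_sub_cancel _ (ν m (u (k + 1) c)), ← neg_sub (ν m (u (k + 1) c))]
    exact add_mem (neg_mem (hcauchy m c k (k + 1) (Nat.le_succ k))) (SModEq.sub_mem.mp (hL (k + 1)))
  choose e he' using hlim
  have hsepE : IsSep I E := fun x hx => IsHausdorff.haus' (I := I) x fun k => by
    rw [SModEq.zero]; exact hx k
  have horth : ∀ {ι : Type u} c (rep : Coalgebra.Repr R c ι) (m n : M),
      ∑ i ∈ rep.index, e m (rep.left i) * e n (rep.right i) = if m = n then e m c else 0 := by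
    intro ι c rep m n
    refine eq_of_sep hsepE fun k => Submodule.smul_mono (Ideal.pow_le_pow_right (Nat.le_succ k)) le_rfl ?_
    have h1 : comul (u k c) - ∑ i ∈ rep.index, u k (rep.left i) ⊗ₜ[R] u k (rep.right i) ∈
        (I ^ (k + 1) • ⊤ : Submodule R (B ⊗[R] B)) := by
      rw [← one_tmul_eq_iff_mem]
      apply (AlgebraTensorModule.distribBaseChange R (Q k) B B).injective
      rw [← sq_baseChange_eq, ← sq_baseChange_eq, ← (SemiBialgHom.baseChange R (Q k) B).comul_comp]
      show comul ((1 : Q k) ⊗ₜ[R] u k c) = _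
      rw [hu', (H k).comul_comp, ← rep.eq, map_sum, map_sum]
      refine Finset.sum_congr rfl fun i _ => ?_
      simp [SemiBialgHom.baseChange, hu']
      rfl
    let χ : B ⊗[R] B →ₗ[R] E := LinearMap.mul' R E ∘ₗ TensorProduct.map (ν m) (ν n)
    have h2 : χ (comul (u k c)) = if m = n then ν m (u k c) else 0 := by
      have h3 := coeff_comul E M m n (hom.toAlgHom (u k c))
      rw [hom.comul_comp] at h3
      refine Eq.trans ?_ h3
      generalize comul (R := R) (u k c) = z
      induction z using TensorProduct.induction_on with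
      | zero => simp
      | add a b ha hb => simp only [map_add, ha, hb]
      | tmul a b => simp [χ, ν]
    have h4 := map_smul_top χ h1
    rw [map_sub, map_sum, h2] at h4
    have h5 : (if m = n then ν m (u k c) else 0) - (if m = n then e m c else 0) ∈
        (I ^ (k + 1) • ⊤ : Submodule R E) := by
      by_cases h : m = n
      · simp only [if_pos h]; exact he' m c k
      · simp only [if_neg h, sub_self]; exact zero_mem _
    have h6 : ∑ i ∈ rep.index, e m (rep.left i) * e n (rep.right i) - ∑ i ∈ rep.index,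
        χ (u k (rep.left i) ⊗ₜ[R] u k (rep.right i)) ∈ (I ^ (k + 1) • ⊤ : Submodule R E) := by
      rw [← Finset.sum_sub_distrib]
      refine Submodule.sum_mem _ fun i _ => ?_
      show e m (rep.left i) * e n (rep.right i) - ν m (u k (rep.left i)) * ν n (u k (rep.right i)) ∈ _
      rw [show e m (rep.left i) * e n (rep.right i) - ν m (u k (rep.left i)) * ν n (u k (rep.right i)) =
        e m (rep.left i) * (e n (rep.right i) - ν n (u k (rep.right i))) +
          ν n (u k (rep.right i)) * (e m (rep.left i) - ν m (u k (rep.left i))) by ring]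
      exact add_mem (mul_mem_smul_left _ (by rw [← neg_sub]; exact neg_mem (he' n _ k)))
        (mul_mem_smul_left _ (by rw [← neg_sub]; exact neg_mem (he' m _ k)))
    have h7 := add_mem (sub_mem h6 h4) h5
    convert h7 using 1
    ring
  have hfinsupp : ∀ c, {m | e m c ≠ 0}.Finite := fun c => by
    let rep := Coalgebra.Repr.arbitrary R c
    refine finite_of_orth (fun m (i : rep.index) => e m (rep.left i.1)) (fun m (i : rep.index) => e m (rep.right i.1))
      (fun m => e m c) (fun m n h => ?_) fun m => ?_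
    · have := horth c rep m n
      rw [if_neg h] at this
      rw [← this]
      exact Finset.sum_coe_sort rep.index fun i => e m (rep.left i) * e n (rep.right i)
    · have := horth c rep m m
      rw [if_pos rfl] at this
      rw [← this]
      exact Finset.sum_coe_sort rep.index fun i => e m (rep.left i) * e m (rep.right i)
  let x : C → MonoidAlgebra E M := fun c => ∑ m ∈ (hfinsupp c).toFinset, MonoidAlgebra.single m (e m c)
  have hx : ∀ c m, (x c).coeff m = e m c := fun c m => by
    by_cases h : e m c = 0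
    · simp [x, Finsupp.single_apply, h]
    · simp [x, Finsupp.single_apply, h]
  -- separatedness
  have hsepM : IsSep I (MonoidAlgebra E M) := by
    have : Module.Free E (MonoidAlgebra E M) := Module.Free.of_equiv (MonoidAlgebra.coeffLinearEquiv E).symm
    exact isSep_of_free hsepE _
  let eqR : E ⊗[R] B ≃ₗ[R] MonoidAlgebra E M := equiv.toLinearEquiv.restrictScalars R
  have hsepEB : IsSep I (E ⊗[R] B) := isSep_of_equiv eqR hsepM
  have hsepB : IsSep I B := isSep_of_ff hsepEB
  have hsepBB : IsSep I (B ⊗[R] B) := by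
    refine isSep_of_ff (E := E) ?_
    have : Module.Free E (MonoidAlgebra E M) := Module.Free.of_equiv (MonoidAlgebra.coeffLinearEquiv E).symm
    exact isSep_of_equiv (((AlgebraTensorModule.distribBaseChange R E B B).trans
      (TensorProduct.congr equiv.toLinearEquiv equiv.toLinearEquiv)).restrictScalars R) (isSep_of_free hsepE _)
  have hz : ∀ c k, eqR.symm (x c) - (1 : E) ⊗ₜ[R] u k c ∈ (I ^ (k + 1) • ⊤ : Submodule R (E ⊗[R] B)) := by
    intro c k
    have h1 : x c - hom.toAlgHom (u k c) ∈ (I ^ (k + 1) • ⊤ : Submodule R (MonoidAlgebra E M)) := by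
      rw [← MonoidAlgebra.sum_coeff_single (x c - hom.toAlgHom (u k c))]
      refine Submodule.sum_mem _ fun m _ => ?_
      let l : E →ₗ[R] MonoidAlgebra E M := (((MonoidAlgebra.coeffLinearEquiv E).symm.toLinearMap).comp
        (Finsupp.lsingle (R := E) (M := E) m)).restrictScalars R
      refine map_smul_top l ?_
      rw [MonoidAlgebra.coeff_sub, Finsupp.sub_apply, hx]
      exact (by rw [← neg_sub]; exact neg_mem (he' m c k) :
        e m c - ν m (u k c) ∈ (I ^ (k + 1) • ⊤ : Submodule R E))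
    have h2 := map_smul_top eqR.symm.toLinearMap h1
    rw [map_sub] at h2
    convert h2 using 1
    show _ = eqR.symm (x c) - equiv.symm (hom.toAlgHom (u k c))
    rw [← he, AlgEquiv.symm_apply_apply]
  have hz' : ∀ c, ∃ b : B, (1 : E) ⊗ₜ[R] b = eqR.symm (x c) := by
    intro c
    refine exists_of_agree (eqR.symm (x c)) ?_
    let jL : E →ₐ[R] E ⊗[R] E := Algebra.TensorProduct.includeLeft
    let jR : E →ₐ[R] E ⊗[R] E := Algebra.TensorProduct.includeRight
    let P : Split R B := { S := E, M := M, hom := hom, equiv := equiv, equiv_tmul := he }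
    have hsepT : IsSep I (E ⊗[R] E) := fun t ht => by
      have : IsAdicComplete I (E ⊗[R] E) := AdicLib.isAdicComplete_of_finite I (E ⊗[R] E)
      exact IsHausdorff.haus' (I := I) t fun k => by rw [SModEq.zero]; exact ht k
    have hsep3 : IsSep I ((E ⊗[R] E) ⊗[R] B) := by
      have : Module.Free (E ⊗[R] E) (MonoidAlgebra (E ⊗[R] E) M) :=
        Module.Free.of_equiv (MonoidAlgebra.coeffLinearEquiv (E ⊗[R] E)).symm
      exact isSep_of_equiv ((LinearEquiv.ofBijective (P.coordAt jL).toLinearMap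
        (P.coordAt_bijective jL)).restrictScalars R) (isSep_of_free hsepT _)
    refine eq_of_sep hsep3 fun k => Submodule.smul_mono (Ideal.pow_le_pow_right (Nat.le_succ k)) le_rfl ?_
    have h1 := map_smul_top (LinearMap.rTensor B jL.toLinearMap) (hz c k)
    have h2 := map_smul_top (LinearMap.rTensor B jR.toLinearMap) (hz c k)
    rw [map_sub, LinearMap.rTensor_tmul, AlgHom.toLinearMap_apply, map_one] at h1 h2
    convert sub_mem h1 h2 using 1
    abel
  choose b hb using hz'
  have hbu : ∀ c k, b c - u k c ∈ (I ^ (k + 1) • ⊤ : Submodule R B) := fun c k => by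
    rw [← one_tmul_eq_iff_mem]
    have hinj : Function.Injective (LinearMap.lTensor (Q k) (TensorProduct.mk R E B 1)) := by
      intro y y' hy
      refine Module.FaithfullyFlat.tensorProduct_mk_injective (A := R) (B := E) (Q k ⊗[R] B) ?_
      have hcomp : (TensorProduct.leftComm R (Q k) E B).toLinearMap ∘ₗ
          LinearMap.lTensor (Q k) (TensorProduct.mk R E B 1) = TensorProduct.mk R E (Q k ⊗[R] B) 1 :=
        TensorProduct.ext' fun a b => rfl
      have hsw : ∀ y : Q k ⊗[R] B, TensorProduct.leftComm R (Q k) E B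
          (LinearMap.lTensor (Q k) (TensorProduct.mk R E B 1) y) = (1 : E) ⊗ₜ y := LinearMap.congr_fun hcomp
      show (1 : E) ⊗ₜ y = (1 : E) ⊗ₜ y'
      rw [← hsw, ← hsw, hy]
    refine hinj ?_
    rw [LinearMap.lTensor_tmul, LinearMap.lTensor_tmul, one_tmul_eq_iff_mem]
    show (1 : E) ⊗ₜ b c - _ ∈ _
    rw [hb]
    exact hz c k
  have hHb : ∀ c k, (H k).toAlgHom c = (1 : Q k) ⊗ₜ[R] b c := fun c k => by
    rw [← hu', eq_comm, one_tmul_eq_iff_mem]; exact hbu c k
  have sepB : ∀ y y' : B, (∀ k, (1 : Q k) ⊗ₜ[R] y = (1 : Q k) ⊗ₜ[R] y') → y = y' := fun y y' h =>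
    eq_of_sep hsepB fun k => Submodule.smul_mono (Ideal.pow_le_pow_right (Nat.le_succ k)) le_rfl
      ((one_tmul_eq_iff_mem _ _ _).mp (h k))
  let ψ : C →ₐ[R] B :=
    { toFun := b
      map_one' := sepB _ _ fun k => by rw [← hHb, map_one]; rfl
      map_mul' := fun p q => sepB _ _ fun k => by
        rw [← hHb, map_mul, hHb, hHb, Algebra.TensorProduct.tmul_mul_tmul, mul_one]
      map_zero' := sepB _ _ fun k => by rw [← hHb, map_zero, TensorProduct.tmul_zero]
      map_add' := fun p q => sepB _ _ fun k => by rw [← hHb, map_add, hHb, hHb, TensorProduct.tmul_add]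
      commutes' := fun r => sepB _ _ fun k => by
        rw [← hHb, AlgHom.commutes, Algebra.algebraMap_eq_smul_one, Algebra.algebraMap_eq_smul_one,
          TensorProduct.tmul_smul]
        rfl }
  have hψ : ∀ c k, (1 : Q k) ⊗ₜ[R] ψ c = (H k).toAlgHom c := fun c k => (hHb c k).symm
  refine ⟨BialgHom.ofAlgHom ψ (AlgHom.ext fun c => ?_) (AlgHom.ext fun c => ?_), fun k c => hψ c k⟩
  · refine sub_eq_zero.mp (IsHausdorff.haus' (I := I) _ fun k => ?_)
    rw [SModEq.zero]
    have h1 := (H k).counit_comp c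
    rw [← hψ, TensorProduct.counit_tmul, Bialgebra.counit_one, Algebra.smul_def, mul_one] at h1
    have h2 : counit (R := R) (ψ c) - counit (R := R) c ∈ I ^ (k + 1) := Ideal.Quotient.eq.mp h1
    rw [smul_eq_mul, Ideal.mul_top]
    exact Ideal.pow_le_pow_right (Nat.le_succ k) h2
  · refine eq_of_sep hsepBB fun k => Submodule.smul_mono (Ideal.pow_le_pow_right (Nat.le_succ k)) le_rfl ?_
    rw [← one_tmul_eq_iff_mem]
    apply (AlgebraTensorModule.distribBaseChange R (Q k) B B).injective
    simp only [AlgHom.comp_apply, Bialgebra.comulAlgHom_apply]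
    rw [← sq_baseChange_eq, ← sq_baseChange_eq, ← (SemiBialgHom.baseChange R (Q k) B).comul_comp]
    show _ = comul ((1 : Q k) ⊗ₜ[R] ψ c)
    rw [hψ, (H k).comul_comp]
    show sq (Q k) (SemiBialgHom.baseChange R (Q k) B).toAlgHom
      (Algebra.TensorProduct.map ψ ψ (comul c)) = _
    generalize comul (R := R) c = z
    induction z using TensorProduct.induction_on with
    | zero => simp
    | add a b ha hb => simp only [map_add, ha, hb]
    | tmul a b => simp [SemiBialgHom.baseChange, hψ]; rfl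

set_option maxHeartbeats 1000000 in
/-- Homomorphisms from an isotrivial group into a group flat at the reduction are determined by their reduction. -/
theorem bialgHom_ext_complete
    (hfl : ∀ (q : Ideal C) [q.IsPrime], Ideal.map (algebraMap R C) I ≤ q → Module.Flat R (Localization.AtPrime q))
    (h0 : SGA3b.IsQuasiIsotrivial (R ⧸ I) ((R ⧸ I) ⊗[R] C)) (hB : SGA3b.IsIsotrivial R B)
    (φ ψ : C →ₐc[R] B) (h : ∀ c : C, (1 : R ⧸ I) ⊗ₜ[R] φ c = (1 : R ⧸ I) ⊗ₜ[R] ψ c) : φ = ψ := by
  have hsep := isSep_of_isotrivial I hB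
  obtain ⟨E, _, _, -, -, hff, hd⟩ := hB
  have hB' : SGA3b.IsMultType R B := isMultType_of_ff E hd
  ext c
  refine eq_of_sep hsep fun k => Submodule.smul_mono (Ideal.pow_le_pow_right (Nat.le_succ k)) le_rfl ?_
  let Q := R ⧸ I ^ (k + 1)
  have e := bialgHom_ext_nil (I := I.map (algebraMap R Q)) ⟨k + 1, pow_succ_map_eq_bot I k⟩
    (isMultType_level I hfl h0 k) (isMultType_baseChange Q hB') (bcHom Q φ) (bcHom Q ψ) fun z => by
    induction z using TensorProduct.induction_on with
    | zero => simp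
    | add a b ha hb => simp only [map_add]; rw [add_sub_add_comm]; exact add_mem ha hb
    | tmul s a =>
      rw [bcHom_tmul, bcHom_tmul, ← TensorProduct.tmul_sub,
        show (s ⊗ₜ[R] (φ a - ψ a) : Q ⊗[R] B) = s • ((1 : Q) ⊗ₜ (φ a - ψ a)) by
          rw [TensorProduct.smul_tmul', smul_eq_mul, mul_one]]
      exact Submodule.smul_mem _ _ (map_smul_top_base ((one_tmul_eq_iff_mem I _ _).mp (h a)))
  have e1 := congrArg (fun f : Q ⊗[R] C →ₐc[Q] Q ⊗[R] B => f (1 ⊗ₜ c)) e
  beta_reduce at e1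
  rw [bcHom_tmul, bcHom_tmul] at e1
  exact (one_tmul_eq_iff_mem _ _ _).mp e1

omit [IsNoetherianRing R] [IsAdicComplete I R] in
theorem mA_mem_map_smul {S T : Type u} [CommRing S] [Algebra R S] [CommRing T] [Algebra R T] (k : S →ₐ[R] T)
    {y : S ⊗[R] B} (hy : y ∈ ((I.map (algebraMap R S)) • ⊤ : Submodule S (S ⊗[R] B))) :
    mA B k y ∈ ((I.map (algebraMap R T)) • ⊤ : Submodule T (T ⊗[R] B)) := by
  rw [Ideal.smul_top_eq_map, Submodule.restrictScalars_mem, Ideal.map_map] at hy ⊢
  let m : S ⊗[R] B →ₐ[R] T ⊗[R] B := mA B k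
  have h := Ideal.mem_map_of_mem m.toRingHom hy
  rw [Ideal.map_map] at h
  rw [show m.toRingHom.comp ((algebraMap S (S ⊗[R] B)).comp (algebraMap R S)) =
      (algebraMap T (T ⊗[R] B)).comp (algebraMap R T) from
    RingHom.ext fun r => by simp [m, Algebra.TensorProduct.algebraMap_apply]] at h
  exact h

set_option maxHeartbeats 2000000 in
/-- Homomorphisms from an isotrivial group into a group flat at the reduction lift from the reduction. -/
theorem exists_bialgHom_lift_complete'
    (hfl : ∀ (q : Ideal C) [q.IsPrime], Ideal.map (algebraMap R C) I ≤ q → Module.Flat R (Localization.AtPrime q))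
    (h0 : SGA3b.IsQuasiIsotrivial (R ⧸ I) ((R ⧸ I) ⊗[R] C)) (hB : SGA3b.IsIsotrivial R B)
    (φ₀ : (R ⧸ I) ⊗[R] C →ₐc[R ⧸ I] (R ⧸ I) ⊗[R] B) :
    ∃ φ : C →ₐc[R] B, ∀ c, φ₀ (1 ⊗ₜ c) = 1 ⊗ₜ φ c := by
  classical
  have hB' : SGA3b.IsMultType R B := by
    obtain ⟨E, _, _, -, -, hff, hd⟩ := id hB
    exact isMultType_of_ff E hd
  choose u hu using fun c : C => TensorProduct.mk_surjective R B (R ⧸ I) Ideal.Quotient.mk_surjective (φ₀ (1 ⊗ₜ c))
  have hu' : ∀ c, φ₀ ((1 : R ⧸ I) ⊗ₜ c) = (1 : R ⧸ I) ⊗ₜ u c := fun c => (hu c).symm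
  let Q : ℕ → Type u := fun k => R ⧸ I ^ (k + 1)
  have hlev : ∀ k, ∃ Φ : Q k ⊗[R] C →ₐc[Q k] Q k ⊗[R] B, ∀ c, Φ (1 ⊗ₜ c) - 1 ⊗ₜ u c ∈
      ((I.map (algebraMap R (Q k))) • ⊤ : Submodule (Q k) (Q k ⊗[R] B)) := by
    intro k
    let S := Q k
    let J : Ideal S := I.map (algebraMap R S)
    let φJ : (S ⧸ J) ⊗[S] (S ⊗[R] C) →ₐc[S ⧸ J] (S ⧸ J) ⊗[S] (S ⊗[R] B) :=
      (baseChangeTrans (R := R) S (S ⧸ J) B : (S ⧸ J) ⊗[R] B →ₐc[S ⧸ J] _).comp
        ((pushHom (ofRed I S) φ₀).comp
          ((baseChangeTrans (R := R) S (S ⧸ J) C).symm : (S ⧸ J) ⊗[S] (S ⊗[R] C) →ₐc[S ⧸ J] (S ⧸ J) ⊗[R] C))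
    obtain ⟨ψ, hψ⟩ := exists_bialgHom_lift_nil (I := J) ⟨k + 1, pow_succ_map_eq_bot I k⟩
      (isMultType_level I hfl h0 k) (isMultType_baseChange S hB') φJ
    refine ⟨ψ, fun c => (one_tmul_eq_iff_mem J _ _).mp ?_⟩
    rw [← hψ]
    show baseChangeTrans (R := R) S (S ⧸ J) B (pushHom (ofRed I S) φ₀
      ((baseChangeTrans (R := R) S (S ⧸ J) C).symm ((1 : S ⧸ J) ⊗ₜ[S] ((1 : S) ⊗ₜ[R] c)))) = _
    rw [← baseChangeTrans_one_tmul S (S ⧸ J) C c, BialgEquiv.symm_apply_apply, pushHom_one_tmul, hu',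
      Algebra.TensorProduct.map_tmul, map_one, AlgHom.id_apply, baseChangeTrans_one_tmul]
  choose Φ hΦ using hlev
  obtain ⟨φ, hφ⟩ := exists_bialgHom_of_compat I hB
    (fun k => (SemiBialgHom.ofBialgHom (Φ k)).comp (SemiBialgHom.baseChange R (Q k) C)) fun k c => by
    let p : Q (k + 1) →ₐ[R] Q k := Ideal.Quotient.factorₐ R (Ideal.pow_le_pow_right (Nat.le_succ _))
    have e := bialgHom_ext_nil (I := I.map (algebraMap R (Q k))) ⟨k + 1, pow_succ_map_eq_bot I k⟩
      (isMultType_level I hfl h0 k) (isMultType_baseChange (Q k) hB') (pushHom p (Φ (k + 1))) (Φ k) fun z => by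
      induction z using TensorProduct.induction_on with
      | zero => simp
      | add a b ha hb => simp only [map_add]; rw [add_sub_add_comm]; exact add_mem ha hb
      | tmul t a =>
        rw [show (t ⊗ₜ[R] a : Q k ⊗[R] C) = t • ((1 : Q k) ⊗ₜ a) by
          rw [TensorProduct.smul_tmul', smul_eq_mul, mul_one], map_smul, map_smul, ← smul_sub, pushHom_one_tmul,
          show mA B p (Φ (k + 1) (1 ⊗ₜ a)) - Φ k (1 ⊗ₜ a) =
            mA B p (Φ (k + 1) (1 ⊗ₜ a) - 1 ⊗ₜ u a) - (Φ k (1 ⊗ₜ a) - 1 ⊗ₜ u a) by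
            rw [map_sub, Algebra.TensorProduct.map_tmul, map_one, AlgHom.id_apply, sub_sub_sub_cancel_right]]
        exact Submodule.smul_mem _ _ (sub_mem (mA_mem_map_smul I p (hΦ (k + 1) a)) (hΦ k a))
    have e1 := congrArg (fun f : Q k ⊗[R] C →ₐc[Q k] Q k ⊗[R] B => f (1 ⊗ₜ c)) e
    beta_reduce at e1
    rw [pushHom_one_tmul] at e1
    exact e1
  refine ⟨φ, fun c => ?_⟩
  rw [hu', one_tmul_eq_iff_mem]
  have h1 := hΦ 0 c
  rw [show I.map (algebraMap R (Q 0)) = ⊥ from (pow_one _).symm.trans (pow_succ_map_eq_bot I 0), Submodule.bot_smul,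
    Submodule.mem_bot, sub_eq_zero] at h1
  have h2 : (1 : Q 0) ⊗ₜ[R] φ c = (1 : Q 0) ⊗ₜ[R] u c := (hφ 0 c).trans h1
  have h3 := (one_tmul_eq_iff_mem _ _ _).mp h2.symm
  simpa using h3

end Groth.Agent.MultTypeLib
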