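import Groth.Agent.MultTypeLib.Henselian
import Groth.Agent.MultTypeLib.Field
import Groth.Agent.MultTypeLib.Artin
import Groth.Agent.MultTypeLib.EtaleLift
import Groth.Agent.Hensel.EtaleResidueExt
import Mathlib.RingTheory.LocalProperties.Basic
import Mathlib.RingTheory.LocalProperties.Submodule

/-!
# Rigidity of group-like elements and homomorphisms
-/

universe u

open WithConv TensorProduct Coalgebra Bialgebra IsLocalRing

noncomputable section

namespace Groth.Agent.MultTypeLib

section Spread

variable {R : Type u} [CommRing R] [IsLocalRing R]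

/-- Every prime of a faithfully flat extension of a local ring is linked to a prime over the closed point. -/
theorem exists_spread_local {S : Type u} [CommRing S] [Algebra R S] [Module.FaithfullyFlat R S] (q : Ideal S)
    [q.IsPrime] : ∃ q₁ q' : Ideal S, q₁.IsPrime ∧ q'.IsPrime ∧ q₁.comap (algebraMap R S) = maximalIdeal R ∧
      q' ≤ q₁ ∧ q'.comap (algebraMap R S) = q.comap (algebraMap R S) := by
  obtain ⟨⟨q₁, hq₁⟩, h₁⟩ := PrimeSpectrum.comap_surjective_of_faithfullyFlat (A := R) (B := S)
    ⟨maximalIdeal R, (maximalIdeal.isMaximal R).isPrime⟩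
  have h₁' : q₁.comap (algebraMap R S) = maximalIdeal R := congrArg PrimeSpectrum.asIdeal h₁
  have : q₁.LiesOver (maximalIdeal R) := ⟨h₁'.symm⟩
  obtain ⟨q', hle, hq', hl⟩ := Ideal.exists_ideal_le_liesOver_of_le (p := q.comap (algebraMap R S))
    (q := maximalIdeal R) q₁ (IsLocalRing.le_maximalIdeal (Ideal.IsPrime.comap (algebraMap R S)).ne_top)
  exact ⟨q₁, q', hq₁, hq', h₁', hle, hl.over.symm⟩

variable {A : Type u} [CommRing A] [HopfAlgebra R A]

/-- Over a local ring, group-like elements are determined by the closed fibre. -/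
theorem Split.groupLike_ext_local (P : Split R A) [Module.FaithfullyFlat R P.S] {a b : A}
    (ha : IsGroupLikeElem R a) (hb : IsGroupLikeElem R b)
    (h : (1 : ResidueField R) ⊗ₜ[R] a = (1 : ResidueField R) ⊗ₜ[R] b) : a = b := by
  refine P.eq_of_hom a b (groupLike_ext_primes (P.hom.isGroupLike ha) (P.hom.isGroupLike hb) fun q _ => ?_)
  obtain ⟨q₁, q', hq₁, hq', h₁, hle, hcq⟩ := exists_spread_local (R := R) q
  let ρ : ResidueField R →ₐ[R] q₁.ResidueField :=
    Ideal.Quotient.liftₐ (maximalIdeal R) (Algebra.ofId R q₁.ResidueField) fun r hr => by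
      rw [Algebra.ofId_apply, IsScalarTower.algebraMap_apply R P.S q₁.ResidueField,
        Ideal.algebraMap_residueField_eq_zero]
      rw [← h₁] at hr
      exact hr
  set x := P.hom.toAlgHom a with hx
  set y := P.hom.toAlgHom b with hy
  have gx : IsGroupLikeElem P.S x := P.hom.isGroupLike ha
  have gy : IsGroupLikeElem P.S y := P.hom.isGroupLike hb
  obtain ⟨θ, hθ⟩ := exists_value gx q₁
  have hθy : (mapCoeff P.S q₁.ResidueField P.M).toAlgHom y = MonoidAlgebra.single θ 1 := by
    let j := IsScalarTower.toAlgHom R P.S q₁.ResidueField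
    have e : evalAt (j : P.S →+* q₁.ResidueField) x = evalAt (j : P.S →+* q₁.ResidueField) y := by
      rw [hx, hy, ← P.coordAt_one_tmul, ← P.coordAt_one_tmul]
      refine congrArg _ ?_
      simpa using congrArg (mA A ρ) h
    rw [← hθ]
    ext m
    have e2 := congrArg (fun z => z.coeff m) e
    simp only [coeff_evalAt] at e2
    rw [coeff_mapCoeff, coeff_mapCoeff]
    exact e2.symm
  have hxq' := (value_iff gx q' θ).mp (value_generize gx hle hθ)
  have hyq' := (value_iff gy q' θ).mp (value_generize gy hle hθy)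
  obtain ⟨K, _, _, j, j', hj, hj'⟩ := exists_common_field (R := R) q q' hcq.symm
  have hne : ∀ s : P.S, s ∉ q' → j' s ≠ 0 := fun s hs h0 => hs (hj' ▸ RingHom.mem_ker.mpr h0)
  have e : (1 : K) ⊗ₜ[R] a = (1 : K) ⊗ₜ[R] b := by
    apply (P.coordAt_bijective j').1
    rw [P.coordAt_one_tmul, P.coordAt_one_tmul, (evalAt_eq_single_iff (j' : P.S →+* K) gx θ).mpr (hne _ hxq'),
      (evalAt_eq_single_iff (j' : P.S →+* K) gy θ).mpr (hne _ hyq')]
  have e2 := congrArg (P.coordAt j) e
  rw [P.coordAt_one_tmul, P.coordAt_one_tmul] at e2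
  obtain ⟨m, hm⟩ := exists_value gx q
  rw [hm]
  refine ((value_iff gy q m).mpr fun hmem => ?_).symm
  have h3 := congrArg (fun z => z.coeff m) e2
  simp only [coeff_evalAt] at h3
  have hmx := (value_iff gx q m).mp hm
  rw [← hj] at hmem hmx
  exact hmx (RingHom.mem_ker.mpr (h3.trans (RingHom.mem_ker.mp hmem)))

end Spread

section Jacobson

variable {R : Type u} [CommRing R] {A : Type u} [CommRing A] [HopfAlgebra R A]

set_option maxHeartbeats 1000000 in
/-- Group-like elements which agree modulo an ideal in the radical are equal. -/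
theorem groupLike_ext_jacobson (hA : SGA3b.IsMultType R A) (I : Ideal R) (hI : I ≤ Ideal.jacobson ⊥) {a b : A}
    (ha : IsGroupLikeElem R a) (hb : IsGroupLikeElem R b)
    (h : (1 : R ⧸ I) ⊗ₜ[R] a = (1 : R ⧸ I) ⊗ₜ[R] b) : a = b := by
  refine Module.eq_of_localization_maximal
    (fun (m : Ideal R) [m.IsMaximal] => Localization.AtPrime m ⊗[R] A)
    (fun (m : Ideal R) [m.IsMaximal] => TensorProduct.mk R (Localization.AtPrime m) A 1) a b fun m hm => ?_
  let Rm := Localization.AtPrime m
  obtain ⟨P, hP⟩ := exists_ff_split (isMultType_baseChange Rm hA)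
  refine P.groupLike_ext_local ((SemiBialgHom.baseChange R Rm A).isGroupLike ha)
    ((SemiBialgHom.baseChange R Rm A).isGroupLike hb) ?_
  have hIm : I ≤ m := hI.trans (sInf_le ⟨bot_le, hm⟩)
  let π : (R ⧸ I) →ₐ[R] ResidueField Rm := Ideal.Quotient.liftₐ I (Algebra.ofId R (ResidueField Rm)) fun r hr => by
    rw [Algebra.ofId_apply, IsScalarTower.algebraMap_apply R Rm (ResidueField Rm),
      IsLocalRing.ResidueField.algebraMap_eq, residue_eq_zero_iff]
    exact (IsLocalization.AtPrime.to_map_mem_maximal_iff Rm m r).mpr (hIm hr)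
  apply (Algebra.TensorProduct.cancelBaseChange R Rm (ResidueField Rm) (ResidueField Rm) A).injective
  have e := congrArg (mA A π) h
  simpa using e

/-- Homomorphisms into a group of multiplicative type from a diagonalisable one which agree modulo an ideal
in the radical are equal. -/
theorem bialgHom_ext_jacobson {C : Type u} [CommRing C] [HopfAlgebra R C] (hC : SGA3b.IsDiag R C)
    (hA : SGA3b.IsMultType R A) (I : Ideal R) (hI : I ≤ Ideal.jacobson ⊥) (φ ψ : C →ₐc[R] A)
    (h : ∀ c, (1 : R ⧸ I) ⊗ₜ[R] φ c = (1 : R ⧸ I) ⊗ₜ[R] ψ c) : φ = ψ := by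
  obtain ⟨M, _, ⟨e⟩⟩ := hC
  have key : ∀ m, φ (e.symm (MonoidAlgebra.single m 1)) = ψ (e.symm (MonoidAlgebra.single m 1)) := fun m =>
    groupLike_ext_jacobson hA I hI
      (((isGroupLike_single m).map (e.symm : MonoidAlgebra R M →ₐc[R] C)).map φ)
      (((isGroupLike_single m).map (e.symm : MonoidAlgebra R M →ₐc[R] C)).map ψ) (h _)
  refine DFunLike.ext _ _ fun c => ?_
  rw [← e.symm_apply_apply c]
  generalize e c = x
  induction x using MonoidAlgebra.induction_linear with
  | zero => simp
  | add a b ha hb => simp only [map_add, ha, hb]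
  | single m r =>
    rw [show MonoidAlgebra.single m r = r • MonoidAlgebra.single m (1 : R) by simp, map_smul, map_smul, map_smul,
      key]

end Jacobson

section Henselian

variable {R : Type u} [CommRing R] [HenselianLocalRing R] {A : Type u} [CommRing A] [HopfAlgebra R A]

set_option maxHeartbeats 1000000 in
/-- A local finite étale splitting algebra. -/
theorem exists_local_split (hft : Algebra.FiniteType R A) (hA : SGA3b.IsMultType R A) :
    ∃ (E : Type u) (_ : CommRing E) (_ : HenselianLocalRing E) (_ : Algebra R E),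
      Algebra.Etale R E ∧ Module.Finite R E ∧ Module.FaithfullyFlat R E ∧ SGA3b.IsDiag E (E ⊗[R] A) := by
  obtain ⟨k', _, _, hfin, hsep, M, inst, -, e⟩ :=
    isotrivial_of_field (ResidueField R) (ResidueField R ⊗[R] A)
      inferInstance (isMultType_baseChange (ResidueField R) hA)
  have hd : SGA3b.IsDiag k' (k' ⊗[ResidueField R] (ResidueField R ⊗[R] A)) := ⟨M, inst, e⟩
  let _ : Algebra R k' := ((algebraMap (ResidueField R) k').comp (algebraMap R (ResidueField R))).toAlgebra
  have : IsScalarTower R (ResidueField R) k' := IsScalarTower.of_algebraMap_eq fun _ => rfl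
  have hd1 : SGA3b.IsDiag k' (k' ⊗[R] A) := isDiag_congr
    (baseChangeTrans (R := R) (ResidueField R) k' A).symm hd
  obtain ⟨E, _, _, _, _, hfE, hetE, ⟨φ⟩⟩ := Groth.Agent.Hensel.exists_finite_etale_residueField R k'
  have := Groth.Agent.Hensel.henselianLocalRing_of_finite R E
  have : Module.Free R E := Module.free_of_flat_of_isLocalRing
  let _ : Algebra k' (ResidueField E) := φ.symm.toAlgHom.toRingHom.toAlgebra
  have : IsScalarTower R k' (ResidueField E) := IsScalarTower.of_algebraMap_eq fun r => by
    show algebraMap R (ResidueField E) r = φ.symm (algebraMap (ResidueField R) k' (residue R r))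
    rw [AlgEquiv.commutes]
    rfl
  have hd2 : SGA3b.IsDiag (ResidueField E) (ResidueField E ⊗[R] A) := isDiag_baseChange k' (ResidueField E) hd1
  have hd3 : SGA3b.IsDiag (ResidueField E) (ResidueField E ⊗[E] (E ⊗[R] A)) :=
    isDiag_congr (baseChangeTrans (R := R) E (ResidueField E) A) hd2
  exact ⟨E, inferInstance, inferInstance, inferInstance, hetE, hfE, inferInstance,
    isDiag_of_henselian inferInstance (isMultType_baseChange E hA) hd3⟩

/-- The extension of scalars of a morphism. -/
abbrev bcHom {R : Type u} [CommRing R] {B C : Type u} [CommRing B] [HopfAlgebra R B] [CommRing C]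
    [HopfAlgebra R C] (T : Type u) [CommRing T] [Algebra R T] (φ : C →ₐc[R] B) : T ⊗[R] C →ₐc[T] T ⊗[R] B :=
  Bialgebra.TensorProduct.map (BialgHom.id T T) φ

theorem bcHom_tmul {R : Type u} [CommRing R] {B C : Type u} [CommRing B] [HopfAlgebra R B] [CommRing C]
    [HopfAlgebra R C] (T : Type u) [CommRing T] [Algebra R T] (φ : C →ₐc[R] B) (t : T) (c : C) :
    bcHom T φ (t ⊗ₜ c) = t ⊗ₜ φ c := rfl

variable {C : Type u} [CommRing C] [HopfAlgebra R C]

set_option maxHeartbeats 1000000 in
/-- Rigidity of homomorphisms over a henselian local ring. -/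
theorem bialgHom_ext_henselian (hftC : Algebra.FiniteType R C) (hC : SGA3b.IsMultType R C)
    (hA : SGA3b.IsMultType R A) (φ ψ : C →ₐc[R] A)
    (h : ∀ c, (1 : ResidueField R) ⊗ₜ[R] φ c = (1 : ResidueField R) ⊗ₜ[R] ψ c) : φ = ψ := by
  obtain ⟨E, _, _, _, _, _, _, hd⟩ := exists_local_split hftC hC
  have e : bcHom E φ = bcHom E ψ := by
    refine bialgHom_ext_jacobson hd (isMultType_baseChange E hA) ((maximalIdeal R).map (algebraMap R E))
      (Groth.Agent.Hensel.map_maximalIdeal_le_jacobson R E) _ _ fun z => ?_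
    induction z using TensorProduct.induction_on with
    | zero => simp
    | add a b ha hb => simp only [map_add, TensorProduct.tmul_add, ha, hb]
    | tmul t c =>
      let I := (maximalIdeal R).map (algebraMap R E)
      let π : ResidueField R →ₐ[R] E ⧸ I := Ideal.Quotient.liftₐ (maximalIdeal R) (Algebra.ofId R (E ⧸ I))
        fun r hr => by
          rw [Algebra.ofId_apply, IsScalarTower.algebraMap_apply R E (E ⧸ I)]
          exact Ideal.Quotient.eq_zero_iff_mem.mpr (Ideal.mem_map_of_mem _ hr)
      apply (Algebra.TensorProduct.cancelBaseChange R E (E ⧸ I) (E ⧸ I) A).injective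
      have e1 := congrArg (fun w => (Ideal.Quotient.mk I t) • mA A π w) (h c)
      simpa [bcHom_tmul, TensorProduct.smul_tmul', Algebra.smul_def] using e1
  refine DFunLike.ext _ _ fun c => ?_
  refine Module.FaithfullyFlat.tensorProduct_mk_injective (A := R) (B := E) A ?_
  exact DFunLike.congr_fun e ((1 : E) ⊗ₜ c)

section Push

variable {R : Type u} [CommRing R] {B C : Type u} [CommRing B] [HopfAlgebra R B] [CommRing C] [HopfAlgebra R C]
variable {S T : Type u} [CommRing S] [Algebra R S] [CommRing T] [Algebra R T]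

/-- Base change of a morphism between base changes. -/
def pushHom (f : S →ₐ[R] T) (φ : S ⊗[R] C →ₐc[S] S ⊗[R] B) : T ⊗[R] C →ₐc[T] T ⊗[R] B :=
  let _ : Algebra S T := f.toRingHom.toAlgebra
  have : IsScalarTower R S T := IsScalarTower.of_algebraMap_eq fun r => (f.commutes r).symm
  (((SemiBialgHom.baseChange R T B).extendSemi (S := S)).comp
    ((SemiBialgHom.ofBialgHom φ).comp (SemiBialgHom.baseChange R S C))).extendBialg

theorem pushHom_one_tmul (f : S →ₐ[R] T) (φ : S ⊗[R] C →ₐc[S] S ⊗[R] B) (c : C) :
    pushHom f φ (1 ⊗ₜ c) = mA B f (φ (1 ⊗ₜ c)) := by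
  let _ : Algebra S T := f.toRingHom.toAlgebra
  have : IsScalarTower R S T := IsScalarTower.of_algebraMap_eq fun r => (f.commutes r).symm
  show (((SemiBialgHom.baseChange R T B).extendSemi (S := S)).comp
    ((SemiBialgHom.ofBialgHom φ).comp (SemiBialgHom.baseChange R S C))).extend (1 ⊗ₜ c) = _
  rw [SemiBialgHom.extend_tmul, one_smul]
  show ((SemiBialgHom.baseChange R T B).extendSemi (S := S)).toAlgHom (φ (1 ⊗ₜ c)) = _
  generalize φ (1 ⊗ₜ c) = z
  induction z using TensorProduct.induction_on with
  | zero => simp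
  | add a b ha hb => simp only [map_add, ha, hb]
  | tmul s a =>
    rw [SemiBialgHom.extendSemi_tmul]
    simp [SemiBialgHom.baseChange, Algebra.TensorProduct.algebraMap_apply, RingHom.algebraMap_toAlgebra]

theorem pushHom_tmul (f : S →ₐ[R] T) (φ : S ⊗[R] C →ₐc[S] S ⊗[R] B) (t : T) (c : C) :
    pushHom f φ (t ⊗ₜ c) = t • mA B f (φ (1 ⊗ₜ c)) := by
  rw [← pushHom_one_tmul, ← map_smul, TensorProduct.smul_tmul', smul_eq_mul, mul_one]

theorem pushHom_mA (f : S →ₐ[R] T) (φ : S ⊗[R] C →ₐc[S] S ⊗[R] B) (z : S ⊗[R] C) :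
    pushHom f φ (mA C f z) = mA B f (φ z) := by
  induction z using TensorProduct.induction_on with
  | zero => simp
  | add a b ha hb => simp only [map_add, ha, hb]
  | tmul s c =>
    rw [Algebra.TensorProduct.map_tmul, AlgHom.id_apply, pushHom_tmul,
      show (s ⊗ₜ[R] c : S ⊗[R] C) = s • ((1 : S) ⊗ₜ[R] c) by rw [TensorProduct.smul_tmul', smul_eq_mul, mul_one],
      map_smul, Algebra.smul_def, Algebra.smul_def, map_mul]
    simp

end Push

set_option maxHeartbeats 4000000 in
/-- Homomorphisms lift from the closed fibre over a henselian local ring. -/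
theorem exists_bialgHom_lift_henselian (hftC : Algebra.FiniteType R C) (hC : SGA3b.IsMultType R C)
    (hftA : Algebra.FiniteType R A) (hA : SGA3b.IsMultType R A)
    (φ₀ : ResidueField R ⊗[R] C →ₐc[ResidueField R] ResidueField R ⊗[R] A) :
    ∃ φ : C →ₐc[R] A, ∀ c, φ₀ (1 ⊗ₜ c) = (1 : ResidueField R) ⊗ₜ[R] φ c := by
  classical
  obtain ⟨E₁, _, _, _, het₁, hfin₁, hff₁, hd₁⟩ := exists_local_split hftC hC
  obtain ⟨E, _, _, _, het₂, hfin₂, hff₂, hd₂⟩ :=
    exists_local_split (R := E₁) (A := E₁ ⊗[R] A) inferInstance (isMultType_baseChange E₁ hA)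
  let _ : Algebra R E := ((algebraMap E₁ E).comp (algebraMap R E₁)).toAlgebra
  have : IsScalarTower R E₁ E := IsScalarTower.of_algebraMap_eq fun _ => rfl
  have : Algebra.Etale R E := Algebra.Etale.comp R E₁ E
  have : Module.Finite R E := Module.Finite.trans E₁ E
  have : Module.FaithfullyFlat R E := Module.FaithfullyFlat.trans R E₁ E
  have hdC : SGA3b.IsDiag E (E ⊗[R] C) := isDiag_baseChange E₁ E hd₁
  have hdA : SGA3b.IsDiag E (E ⊗[R] A) := isDiag_congr (baseChangeTrans (R := R) E₁ E A).symm hd₂
  obtain ⟨MC, _, ⟨eC⟩⟩ := hdC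
  obtain ⟨MA, instA, hom, equiv, he⟩ := exists_split_of_isDiag E hdA
  let Q : Split R A := { S := E, M := MA, hom := hom, equiv := equiv, equiv_tmul := he }
  have hQ : Module.FaithfullyFlat R Q.S := ‹Module.FaithfullyFlat R E›
  have hloc : (maximalIdeal R).map (algebraMap R E) ≤ maximalIdeal E :=
    (Groth.Agent.Hensel.map_maximalIdeal_le_jacobson R E).trans
      (by rw [IsLocalRing.jacobson_eq_maximalIdeal ⊥ bot_ne_top])
  have : IsLocalHom (algebraMap R E) :=
    ((local_hom_TFAE (algebraMap R E)).out 0 2).mpr hloc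
  have hmax : (maximalIdeal R).map (algebraMap R E) = maximalIdeal E :=
    Algebra.FormallyUnramified.map_maximalIdeal
  let k := ResidueField R
  let K := ResidueField E
  let ρ : k →ₐ[R] K := Ideal.Quotient.liftₐ (maximalIdeal R) (Algebra.ofId R K) fun r hr => by
    rw [Algebra.ofId_apply, IsScalarTower.algebraMap_apply R E K, IsLocalRing.ResidueField.algebraMap_eq,
      residue_eq_zero_iff]
    exact hloc (Ideal.mem_map_of_mem _ hr)
  let j : E →ₐ[R] K := IsScalarTower.toAlgHom R E K
  let φK := pushHom ρ φ₀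
  let u : MC → E ⊗[R] C := fun m => eC.symm (MonoidAlgebra.single m 1)
  have hu : ∀ m, IsGroupLikeElem E (u m) := fun m =>
    (isGroupLike_single m).map (eC.symm : MonoidAlgebra E MC →ₐc[E] E ⊗[R] C)
  choose f hf using fun m => exists_single_of_field (((isGroupLike_mA j (hu m)).map φK).map (Q.coordAt j))
  let g : MC →* E ⊗[R] A :=
    { toFun := fun m => Q.char (f m)
      map_one' := by
        rw [show f 1 = 1 from single_inj (K := K) ((hf 1).trans (by
          rw [show u 1 = 1 from by simp [u, ← MonoidAlgebra.one_def], map_one, map_one, map_one,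
            MonoidAlgebra.one_def]))]
        exact map_one Q.char
      map_mul' := fun a b => by
        rw [show f (a * b) = f a * f b from single_inj (K := K) (by
          rw [hf, show u (a * b) = u a * u b from by
            simp only [u]; rw [← map_mul, MonoidAlgebra.single_mul_single, one_mul],
            map_mul, map_mul, map_mul, ← hf, ← hf, MonoidAlgebra.single_mul_single, one_mul])]
        exact map_mul Q.char _ _ }
  let φE : E ⊗[R] C →ₐc[E] E ⊗[R] A :=
    (homOfGroupLike g fun m => Q.isGroupLike_char _).comp (eC : E ⊗[R] C →ₐc[E] MonoidAlgebra E MC)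
  have hφE : ∀ z, mA A j (φE z) = φK (mA C j z) := by
    intro z
    rw [← eC.symm_apply_apply z]
    generalize eC z = x
    induction x using MonoidAlgebra.induction_linear with
    | zero => simp
    | add a b ha hb => simp only [map_add, ha, hb]
    | single m r =>
      have e1 : φE (eC.symm (MonoidAlgebra.single m r)) = r • Q.char (f m) := by
        show homOfGroupLike g (fun m => Q.isGroupLike_char _) (eC (eC.symm _)) = _
        rw [BialgEquiv.apply_symm_apply, homOfGroupLike_single]
        rfl
      have e2 : eC.symm (MonoidAlgebra.single m r) = r • u m := by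
        rw [show MonoidAlgebra.single m r = r • MonoidAlgebra.single m (1 : E) by simp, map_smul]
      have e3 : ∀ (B : Type u) [CommRing B] [HopfAlgebra R B] (w : E ⊗[R] B), mA B j (r • w) = j r • mA B j w := by
        intro B _ _ w
        induction w using TensorProduct.induction_on with
        | zero => simp
        | add a b ha hb => simp only [smul_add, map_add, ha, hb]
        | tmul s a => simp [TensorProduct.smul_tmul']
      rw [e1, e2, e3, e3, map_smul]
      congr 1
      apply (Q.coordAt_bijective j).1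
      rw [Q.coordAt_char]
      exact hf m
  let T := E ⊗[R] E
  let i₁ : E →ₐ[R] T := Algebra.TensorProduct.includeLeft
  let i₂ : E →ₐ[R] T := Algebra.TensorProduct.includeRight
  let I := (maximalIdeal R).map (algebraMap R T)
  let σ : k →ₐ[R] T ⧸ I := Ideal.Quotient.liftₐ (maximalIdeal R) (Algebra.ofId R (T ⧸ I)) fun r hr => by
    rw [Algebra.ofId_apply, IsScalarTower.algebraMap_apply R T (T ⧸ I)]
    exact Ideal.Quotient.eq_zero_iff_mem.mpr (Ideal.mem_map_of_mem _ hr)
  have hkey : ∀ (i : E →ₐ[R] T) (c : C),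
      mA A (Ideal.Quotient.mkₐ R I) (mA A i (φE (1 ⊗ₜ c))) = mA A σ (φ₀ (1 ⊗ₜ c)) := by
    intro i c
    let iK : K →ₐ[R] T ⧸ I := Ideal.Quotient.liftₐ (maximalIdeal E) ((Ideal.Quotient.mkₐ R I).comp i) fun x hx => by
      rw [← hmax] at hx
      refine Ideal.Quotient.eq_zero_iff_mem.mpr ?_
      have h2 := Ideal.mem_map_of_mem (i : E →+* T) hx
      rw [Ideal.map_map] at h2
      rwa [show (i : E →+* T).comp (algebraMap R E) = algebraMap R T from i.comp_algebraMap] at h2
    rw [mA_comp, show (Ideal.Quotient.mkₐ R I).comp i = iK.comp j from AlgHom.ext fun x => rfl, ← mA_comp, hφE,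
      Algebra.TensorProduct.map_tmul, map_one, AlgHom.id_apply, pushHom_one_tmul, mA_comp,
      show iK.comp ρ = σ from AlgHom.ext fun x => by
        obtain ⟨r, rfl⟩ := residue_surjective x
        exact ((iK.comp ρ).commutes r).trans (σ.commutes r).symm]
  have heq : pushHom i₁ φE = pushHom i₂ φE := by
    have hdT : SGA3b.IsDiag T (T ⊗[R] C) := isDiag_baseChange E T (isDiag_of_equiv eC)
    refine bialgHom_ext_jacobson hdT (isMultType_baseChange T hA) I
      (Groth.Agent.Hensel.map_maximalIdeal_le_jacobson R T) _ _ fun z => ?_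
    induction z using TensorProduct.induction_on with
    | zero => simp
    | add a b ha hb => simp only [map_add, TensorProduct.tmul_add, ha, hb]
    | tmul t c =>
      apply (Algebra.TensorProduct.cancelBaseChange R T (T ⧸ I) (T ⧸ I) A).injective
      have e : ∀ w : T ⊗[R] A, Algebra.TensorProduct.cancelBaseChange R T (T ⧸ I) (T ⧸ I) A ((1 : T ⧸ I) ⊗ₜ[T] w) =
          mA A (Ideal.Quotient.mkₐ R I) w := by
        intro w
        induction w using TensorProduct.induction_on with
        | zero => simp
        | add a b ha hb => simp only [TensorProduct.tmul_add, map_add, ha, hb]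
        | tmul s a => simp [Algebra.smul_def]
      rw [e, e, pushHom_tmul, pushHom_tmul, Algebra.smul_def, Algebra.smul_def, map_mul, map_mul, hkey, hkey]
  have hagree : ∀ c, mA A i₁ (φE (1 ⊗ₜ c)) = mA A i₂ (φE (1 ⊗ₜ c)) := fun c => by
    rw [← pushHom_one_tmul, ← pushHom_one_tmul, heq]
  choose b hb using fun c => (Cover.single Q).descend (N := A) (fun _ => φE ((1 : E) ⊗ₜ[R] c))
    fun _ _ => (mA_eq_rTensor _ _).symm.trans ((hagree c).trans (mA_eq_rTensor _ _))
  have hb' : ∀ c, (1 : E) ⊗ₜ[R] b c = φE (1 ⊗ₜ c) := fun c => hb c ⟨⟩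
  have inj : Function.Injective fun a : A => (1 : E) ⊗ₜ[R] a :=
    Module.FaithfullyFlat.tensorProduct_mk_injective (A := R) (B := E) A
  let φa : C →ₐ[R] A :=
    { toFun := b
      map_one' := inj (by
        show (1 : E) ⊗ₜ[R] b 1 = _
        rw [hb', ← Algebra.TensorProduct.one_def, map_one]
        rfl)
      map_mul' := fun x y => inj (by
        show (1 : E) ⊗ₜ[R] b (x * y) = (1 : E) ⊗ₜ[R] (b x * b y)
        rw [hb', show ((1 : E) ⊗ₜ[R] (x * y)) = (1 ⊗ₜ x) * (1 ⊗ₜ y) by simp, map_mul, ← hb', ← hb']
        simp)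
      map_zero' := inj (by
        show (1 : E) ⊗ₜ[R] b 0 = _
        rw [hb', TensorProduct.tmul_zero, map_zero]
        simp)
      map_add' := fun x y => inj (by
        show (1 : E) ⊗ₜ[R] b (x + y) = (1 : E) ⊗ₜ[R] (b x + b y)
        rw [hb', TensorProduct.tmul_add, map_add, TensorProduct.tmul_add, hb', hb'])
      commutes' := fun r => inj (by
        show (1 : E) ⊗ₜ[R] b (algebraMap R C r) = _
        rw [hb', Algebra.algebraMap_eq_smul_one, TensorProduct.tmul_smul, ← algebraMap_smul E r,
          ← Algebra.TensorProduct.one_def, map_smul, map_one, Algebra.algebraMap_eq_smul_one (A := A)]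
        show _ = (1 : E) ⊗ₜ[R] (r • (1 : A))
        rw [TensorProduct.tmul_smul, ← Algebra.TensorProduct.one_def, algebraMap_smul]) }
  let φ : C →ₐc[R] A := BialgHom.ofAlgHom φa
    (AlgHom.ext fun c => by
      show counit (R := R) (b c) = counit (R := R) c
      apply FaithfulSMul.algebraMap_injective R E
      have h1 := congrArg (counit (R := E)) (hb' c)
      rw [CoalgHomClass.counit_comp_apply, TensorProduct.counit_tmul, TensorProduct.counit_tmul] at h1
      simpa [Algebra.smul_def] using h1)
    (AlgHom.ext fun c => by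
      show Algebra.TensorProduct.map φa φa (comul (R := R) c) = comul (R := R) (b c)
      apply Module.FaithfullyFlat.tensorProduct_mk_injective (A := R) (B := E) (A ⊗[R] A)
      apply (AlgebraTensorModule.distribBaseChange R E A A).injective
      have e : ∀ (D : Type u) [CommRing D] [HopfAlgebra R D] (y : D ⊗[R] D),
          AlgebraTensorModule.distribBaseChange R E D D (1 ⊗ₜ y) =
          sq E (SemiBialgHom.baseChange R E D).toAlgHom y := by
        intro D _ _ y
        induction y using TensorProduct.induction_on with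
        | zero => simp
        | add x y hx hy => simp only [TensorProduct.tmul_add, map_add, hx, hy]
        | tmul p q => simp [SemiBialgHom.baseChange]
      rw [TensorProduct.mk_apply, TensorProduct.mk_apply, e, e, ← (SemiBialgHom.baseChange R E A).comul_comp]
      show _ = comul (R := E) ((1 : E) ⊗ₜ[R] b c)
      rw [hb', ← CoalgHomClass.map_comp_comul_apply]
      have h2 := (SemiBialgHom.baseChange R E C).comul_comp c
      simp only [SemiBialgHom.baseChange, Algebra.TensorProduct.includeRight_apply] at h2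
      rw [h2]
      generalize comul (R := R) c = y
      induction y using TensorProduct.induction_on with
      | zero => simp
      | add x y hx hy => simp only [map_add, hx, hy]
      | tmul p q => simp [φa, SemiBialgHom.baseChange, hb'])
  refine ⟨φ, fun c => ?_⟩
  have hρinj : Function.Injective (mA A ρ) := by
    have := Q.flat_self
    rw [show ⇑(mA A ρ) = ⇑(LinearMap.rTensor A ρ.toLinearMap) from funext (mA_eq_rTensor ρ)]
    exact Module.Flat.rTensor_preserves_injective_linearMap _ ρ.toRingHom.injective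
  apply hρinj
  rw [← pushHom_one_tmul, Algebra.TensorProduct.map_tmul, map_one, AlgHom.id_apply]
  have h3 := hφE ((1 : E) ⊗ₜ c)
  rw [Algebra.TensorProduct.map_tmul, map_one, AlgHom.id_apply, ← hb', Algebra.TensorProduct.map_tmul, map_one,
    AlgHom.id_apply] at h3
  exact h3.symm

end Henselian

end Groth.Agent.MultTypeLib
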