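import Groth.Agent.MultTypeLib.DiagDeform
import Groth.Agent.MultTypeLib.Rigid
import Groth.Agent.Hensel.LiftEtaleAlg

/-!
# Groups of multiplicative type along nilpotent extensions

A flat group with quasi-isotrivial reduction is of multiplicative type; homomorphisms between groups
of multiplicative type lift uniquely.
-/

universe u

open TensorProduct Coalgebra Bialgebra

noncomputable section

namespace Groth.Agent.MultTypeLib

variable {R : Type u} [CommRing R]

theorem baseChangeTrans_one_tmul (Rf S : Type u) [CommRing Rf] [Algebra R Rf] [CommRing S] [Algebra R S]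
    [Algebra Rf S] [IsScalarTower R Rf S] (A : Type u) [CommRing A] [Bialgebra R A] (a : A) :
    baseChangeTrans (R := R) Rf S A (1 ⊗ₜ a) = 1 ⊗ₜ (1 ⊗ₜ a) := by
  show ((SemiBialgHom.baseChange Rf S (Rf ⊗[R] A)).comp (SemiBialgHom.baseChange R Rf A)).extend (1 ⊗ₜ a) = _
  rw [SemiBialgHom.extend_tmul, one_smul]
  rfl

section Deform

variable {A : Type u} [CommRing A] [HopfAlgebra R A] {I : Ideal R}

set_option maxHeartbeats 2000000 in
/-- A flat group whose reduction modulo a nilpotent ideal is quasi-isotrivial is of multiplicative type. -/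
theorem isMultType_of_flat_nil [Module.Flat R A] (hI : IsNilpotent I)
    (h : SGA3b.IsQuasiIsotrivial (R ⧸ I) ((R ⧸ I) ⊗[R] A)) : SGA3b.IsMultType R A := by
  classical
  obtain ⟨s, hs, hA⟩ := h
  obtain ⟨t, hts, ht⟩ := Submodule.mem_span_finite_of_mem_span
    (hs ▸ Submodule.mem_top : (1 : R ⧸ I) ∈ Ideal.span s)
  let ι : Type u := (t : Finset (R ⧸ I))
  choose C iC1 iC2 het hff hdC using fun f : ι => hA f.1 (hts f.2)
  let _ (i : ι) : Algebra (R ⧸ I) (C i) :=
    ((algebraMap (Localization.Away i.1) (C i)).comp (algebraMap (R ⧸ I) (Localization.Away i.1))).toAlgebra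
  have hTow : ∀ i : ι, IsScalarTower (R ⧸ I) (Localization.Away i.1) (C i) := fun i =>
    IsScalarTower.of_algebraMap_eq fun _ => rfl
  have hEt : ∀ i : ι, Algebra.Etale (R ⧸ I) (C i) := fun i => by
    have : Algebra.Etale (R ⧸ I) (Localization.Away i.1) := Algebra.Etale.of_isLocalizationAway i.1
    exact Algebra.Etale.comp (R ⧸ I) (Localization.Away i.1) (C i)
  choose E iE1 iE2 hE φ using fun i : ι =>
    Hensel.exists_etale_algebra_lift (A := R) (T := R ⧸ I) (C := C i) Ideal.Quotient.mk_surjective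
  have hfl : ∀ i, Module.Flat R (E i) := fun i => inferInstance
  refine isMultType_of_flatCover E (fun p hp => ?_) fun i => ?_
  · have hIp : I ≤ p := fun x hx => by
      obtain ⟨n, hn⟩ := hI
      refine hp.mem_of_pow_mem n ?_
      have h1 := Ideal.pow_mem_pow hx n
      rw [hn, Ideal.zero_eq_bot, Ideal.mem_bot] at h1
      rw [h1]; exact p.zero_mem
    let p' : Ideal (R ⧸ I) := p.map (Ideal.Quotient.mk I)
    have hp' : p'.IsPrime := Ideal.map_isPrime_of_surjective Ideal.Quotient.mk_surjective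
      (by rw [Ideal.mk_ker]; exact hIp)
    obtain ⟨f, hft, hfp⟩ : ∃ f ∈ t, f ∉ p' := by
      by_contra hne
      push Not at hne
      exact hp'.ne_top (p'.eq_top_iff_one.mpr ((Submodule.span_le.mpr fun x hx => hne x hx) ht))
    have hdisj : Disjoint (Submonoid.powers f : Set (R ⧸ I)) p' := Set.disjoint_left.mpr fun x ⟨n, hn⟩ hx =>
      hfp (hp'.mem_of_pow_mem n (by rw [show f ^ n = x from hn]; exact hx))
    let i : ι := ⟨f, hft⟩
    let _ : Algebra (Localization.Away f) (C i) := iC2 i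
    have : Module.FaithfullyFlat (Localization.Away f) (C i) := hff i
    let q₀ := p'.map (algebraMap (R ⧸ I) (Localization.Away f))
    have hq₀ : q₀.IsPrime := IsLocalization.isPrime_of_isPrime_disjoint (Submonoid.powers f) _ p' hp' hdisj
    obtain ⟨⟨q, hq⟩, hqq⟩ := PrimeSpectrum.comap_surjective_of_faithfullyFlat (A := Localization.Away f)
      (B := C i) ⟨q₀, hq₀⟩
    have h1 : q.comap (algebraMap (Localization.Away f) (C i)) = q₀ := congrArg PrimeSpectrum.asIdeal hqq
    have h2 : q.comap (algebraMap (R ⧸ I) (C i)) = p' := by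
      rw [show algebraMap (R ⧸ I) (C i) =
        (algebraMap (Localization.Away f) (C i)).comp (algebraMap (R ⧸ I) (Localization.Away f)) from rfl,
        ← Ideal.comap_comap, h1]
      exact IsLocalization.comap_map_of_isPrime_disjoint (Submonoid.powers f) _ hp' hdisj
    let π : E i →+* C i := ((φ i).some.toAlgHom.toRingHom).comp
      (Algebra.TensorProduct.includeRight : E i →ₐ[R] (R ⧸ I) ⊗[R] E i).toRingHom
    refine ⟨i, q.comap π, Ideal.IsPrime.comap _, ?_⟩
    rw [Ideal.comap_comap]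
    have hπ : π.comp (algebraMap R (E i)) = (algebraMap (R ⧸ I) (C i)).comp (Ideal.Quotient.mk I) := by
      refine RingHom.ext fun r => ?_
      show (φ i).some ((1 : R ⧸ I) ⊗ₜ[R] algebraMap R (E i) r) = algebraMap (R ⧸ I) (C i) (Ideal.Quotient.mk I r)
      rw [← (φ i).some.commutes, Algebra.TensorProduct.algebraMap_apply, Algebra.algebraMap_self, RingHom.id_apply,
        Algebra.algebraMap_eq_smul_one (A := E i), TensorProduct.tmul_smul, TensorProduct.smul_tmul',
        ← Algebra.algebraMap_eq_smul_one]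
      rfl
    rw [hπ, ← Ideal.comap_comap, h2, Ideal.comap_map_of_surjective _ Ideal.Quotient.mk_surjective,
      ← RingHom.ker_eq_comap_bot, Ideal.mk_ker, sup_eq_left]
    exact hIp
  · let J : Ideal (E i) := I.map (algebraMap R (E i))
    obtain ⟨ψ⟩ := φ i
    let _ : Algebra R (C i) := ((algebraMap (R ⧸ I) (C i)).comp (algebraMap R (R ⧸ I))).toAlgebra
    have : IsScalarTower R (R ⧸ I) (C i) := IsScalarTower.of_algebraMap_eq fun _ => rfl
    let κ : C i →ₐ[R] E i ⧸ J :=
      (Algebra.TensorProduct.lift (ofRed I (E i)) (Ideal.Quotient.mkₐ R J) fun _ _ => .all _ _).comp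
        (ψ.symm.toAlgHom.restrictScalars R)
    obtain ⟨M, _, ⟨eC⟩⟩ := hdC i
    let _ : Algebra (C i) (E i ⧸ J) := κ.toRingHom.toAlgebra
    have : IsScalarTower R (C i) (E i ⧸ J) := IsScalarTower.of_algebraMap_eq fun r => (κ.commutes r).symm
    let eC' : C i ⊗[R] A ≃ₐc[C i] MonoidAlgebra (C i) M :=
      (baseChangeTrans (R := R) (R ⧸ I) (C i) A).trans
        ((baseChangeTrans (R := R ⧸ I) (Localization.Away i.1) (C i) ((R ⧸ I) ⊗[R] A)).trans eC)
    let h₁ := (SemiBialgHom.ofBialgHom (eC' : C i ⊗[R] A →ₐc[C i] MonoidAlgebra (C i) M)).comp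
      (SemiBialgHom.baseChange R (C i) A)
    have hb : Function.Bijective h₁.extend := by
      rw [show ⇑h₁.extend = ⇑eC' from funext (extend_eq_of_equiv eC')]
      exact EquivLike.bijective eC'
    let eJ : (E i ⧸ J) ⊗[E i] (E i ⊗[R] A) ≃ₐc[E i ⧸ J] MonoidAlgebra (E i ⧸ J) M :=
      (baseChangeTrans (R := R) (E i) (E i ⧸ J) A).symm.trans
        (((mapCoeff (C i) (E i ⧸ J) M).comp h₁).toBialgEquiv (extend_comp_mapCoeff_bijective h₁ hb))
    have hJ : IsNilpotent J := by
      obtain ⟨n, hn⟩ := hI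
      exact ⟨n, by rw [← Ideal.map_pow, hn, Ideal.zero_eq_bot, Ideal.map_bot, Ideal.zero_eq_bot]⟩
    obtain ⟨g, hg, -, hgb⟩ := exists_deform_diag (R := E i) (A := E i ⊗[R] A) J hJ eJ
    exact isDiag_of_equiv (BialgEquiv.ofBijective (homOfGroupLike g hg) hgb).symm

end Deform

section Hom

variable {B C : Type u} [CommRing B] [HopfAlgebra R B] [CommRing C] [HopfAlgebra R C] {I : Ideal R}

theorem groupLike_ext_nil' (hI : IsNilpotent I) (hB : SGA3b.IsMultType R B) {a b : B}
    (ha : IsGroupLikeElem R a) (hb : IsGroupLikeElem R b) (h : a - b ∈ (I • ⊤ : Submodule R B)) : a = b := by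
  obtain ⟨n, hn⟩ := hI
  obtain ⟨c⟩ := exists_cover hB
  refine c.groupLike_ext I (fun x hx => ⟨n, ?_⟩) ha hb ((one_tmul_eq_iff_mem I a b).mpr h)
  have h1 := Ideal.pow_mem_pow hx n
  rwa [hn, Ideal.zero_eq_bot, Ideal.mem_bot] at h1

/-- Uniqueness for a diagonalisable source. -/
theorem bialgHom_ext_nil_diag (hI : IsNilpotent I) (hC : SGA3b.IsDiag R C) (hB : SGA3b.IsMultType R B)
    (φ ψ : C →ₐc[R] B) (h : ∀ c, φ c - ψ c ∈ (I • ⊤ : Submodule R B)) : φ = ψ := by
  obtain ⟨M, _, ⟨e⟩⟩ := hC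
  have key : ∀ m, φ (e.symm (MonoidAlgebra.single m 1)) = ψ (e.symm (MonoidAlgebra.single m 1)) := fun m =>
    groupLike_ext_nil' hI hB
      (((isGroupLike_single m).map (e.symm : MonoidAlgebra R M →ₐc[R] C)).map φ)
      (((isGroupLike_single m).map (e.symm : MonoidAlgebra R M →ₐc[R] C)).map ψ) (h _)
  ext c
  obtain ⟨y, rfl⟩ : ∃ y, e.symm y = c := ⟨e c, e.symm_apply_apply c⟩
  induction y using MonoidAlgebra.induction_linear with
  | zero => simp
  | add a b ha hb => simp only [map_add, ha, hb]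
  | single m r =>
    rw [show MonoidAlgebra.single m r = r • MonoidAlgebra.single m (1 : R) by simp, map_smul, map_smul, map_smul,
      key m]

theorem map_smul_top_base {S : Type u} [CommRing S] [Algebra R S] {N : Type u} [AddCommGroup N] [Module R N]
    {x : N} (hx : x ∈ (I • ⊤ : Submodule R N)) :
    (1 : S) ⊗ₜ[R] x ∈ ((I.map (algebraMap R S)) • ⊤ : Submodule S (S ⊗[R] N)) := by
  refine Submodule.smul_induction_on hx (fun r hr y _ => ?_) fun a b ha hb => by
    rw [TensorProduct.tmul_add]; exact add_mem ha hb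
  rw [TensorProduct.tmul_smul, ← IsScalarTower.algebraMap_smul S r ((1 : S) ⊗ₜ[R] y)]
  exact Submodule.smul_mem_smul (Ideal.mem_map_of_mem (algebraMap R S) hr) Submodule.mem_top

theorem isNilpotent_map (hI : IsNilpotent I) (S : Type u) [CommRing S] [Algebra R S] :
    IsNilpotent (I.map (algebraMap R S)) := by
  obtain ⟨n, hn⟩ := hI
  exact ⟨n, by rw [← Ideal.map_pow, hn, Ideal.zero_eq_bot, Ideal.map_bot, Ideal.zero_eq_bot]⟩

/-- Homomorphisms between groups of multiplicative type are rigid along nilpotent ideals. -/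
theorem bialgHom_ext_nil (hI : IsNilpotent I) (hC : SGA3b.IsMultType R C) (hB : SGA3b.IsMultType R B)
    (φ ψ : C →ₐc[R] B) (h : ∀ c, φ c - ψ c ∈ (I • ⊤ : Submodule R B)) : φ = ψ := by
  obtain ⟨cv⟩ := exists_cover hC
  ext c
  refine sub_eq_zero.mp (cv.module_ext _ fun i => ?_)
  let S := (cv.split i).S
  have e := bialgHom_ext_nil_diag (isNilpotent_map hI S) (isDiag_of_equiv (cv.split i).bialgEquiv)
    (isMultType_baseChange S hB) (bcHom S φ) (bcHom S ψ) fun z => by
    induction z using TensorProduct.induction_on with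
    | zero => simp
    | add a b ha hb => simp only [map_add]; rw [add_sub_add_comm]; exact add_mem ha hb
    | tmul s a =>
      rw [bcHom_tmul, bcHom_tmul, ← TensorProduct.tmul_sub,
        show (s ⊗ₜ[R] (φ a - ψ a) : S ⊗[R] B) = s • ((1 : S) ⊗ₜ (φ a - ψ a)) by
          rw [TensorProduct.smul_tmul', smul_eq_mul, mul_one]]
      exact Submodule.smul_mem _ _ (map_smul_top_base (h a))
  have e1 := congrArg (fun f : S ⊗[R] C →ₐc[S] S ⊗[R] B => f (1 ⊗ₜ c)) e
  beta_reduce at e1
  rw [bcHom_tmul, bcHom_tmul] at e1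
  rw [TensorProduct.tmul_sub, sub_eq_zero]
  exact e1

set_option maxHeartbeats 2000000 in
/-- Lifting for a diagonalisable source. -/
theorem exists_lift_nil_diag (hI : IsNilpotent I) (hC : SGA3b.IsDiag R C) (hB : SGA3b.IsMultType R B)
    (φ₀ : (R ⧸ I) ⊗[R] C →ₐc[R ⧸ I] (R ⧸ I) ⊗[R] B) :
    ∃ φ : C →ₐc[R] B, ∀ c, φ₀ (1 ⊗ₜ c) = 1 ⊗ₜ φ c := by
  obtain ⟨M, _, ⟨e⟩⟩ := hC
  have hn : ∀ x ∈ I, IsNilpotent x := fun x hx => by
    obtain ⟨n, hn⟩ := hI
    refine ⟨n, ?_⟩
    have h1 := Ideal.pow_mem_pow hx n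
    rwa [hn, Ideal.zero_eq_bot, Ideal.mem_bot] at h1
  obtain ⟨cv⟩ := exists_cover hB
  let x : M → C := fun m => e.symm (MonoidAlgebra.single m 1)
  have hx : ∀ m, IsGroupLikeElem R (x m) := fun m => (isGroupLike_single m).map _
  choose g hg eg using fun m => cv.exists_groupLike_lift I hn
    (((SemiBialgHom.baseChange R (R ⧸ I) C).isGroupLike (hx m)).map φ₀)
  have eg' : ∀ m, (1 : R ⧸ I) ⊗ₜ[R] g m = φ₀ (1 ⊗ₜ x m) := eg
  let gm : M →* B :=
    { toFun := g
      map_one' := cv.groupLike_ext I hn (hg 1) .one (by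
        rw [eg', show x 1 = 1 by simp only [x]; rw [← MonoidAlgebra.one_def, map_one],
          ← Algebra.TensorProduct.one_def, map_one, Algebra.TensorProduct.one_def])
      map_mul' := fun a b => cv.groupLike_ext I hn (hg _) ((hg a).mul (hg b)) (by
        rw [show (1 : R ⧸ I) ⊗ₜ[R] (g a * g b) = ((1 : R ⧸ I) ⊗ₜ[R] g a) * ((1 : R ⧸ I) ⊗ₜ[R] g b) by
            rw [Algebra.TensorProduct.tmul_mul_tmul, one_mul],
          eg', eg', eg', ← map_mul, Algebra.TensorProduct.tmul_mul_tmul, one_mul,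
          show x (a * b) = x a * x b by
            simp only [x]; rw [← map_mul, MonoidAlgebra.single_mul_single, one_mul]]) }
  refine ⟨(homOfGroupLike gm hg).comp (e : C →ₐc[R] MonoidAlgebra R M), fun c => ?_⟩
  obtain ⟨y, rfl⟩ : ∃ y, e.symm y = c := ⟨e c, e.symm_apply_apply c⟩
  show φ₀ ((1 : R ⧸ I) ⊗ₜ[R] e.symm y) = (1 : R ⧸ I) ⊗ₜ[R] homOfGroupLike gm hg (e (e.symm y))
  rw [BialgEquiv.apply_symm_apply]
  induction y using MonoidAlgebra.induction_linear with
  | zero => simp
  | add a b ha hb => simp only [map_add, TensorProduct.tmul_add, ha, hb]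
  | single m r =>
    rw [homOfGroupLike_single, show MonoidAlgebra.single m r = r • MonoidAlgebra.single m (1 : R) by simp, map_smul,
      TensorProduct.tmul_smul, TensorProduct.tmul_smul, ← IsScalarTower.algebraMap_smul (R ⧸ I), map_smul, ← eg' m,
      IsScalarTower.algebraMap_smul]
    rfl

set_option maxHeartbeats 4000000 in
/-- Homomorphisms between groups of multiplicative type lift along nilpotent ideals. -/
theorem exists_bialgHom_lift_nil (hI : IsNilpotent I) (hC : SGA3b.IsMultType R C) (hB : SGA3b.IsMultType R B)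
    (φ₀ : (R ⧸ I) ⊗[R] C →ₐc[R ⧸ I] (R ⧸ I) ⊗[R] B) :
    ∃ φ : C →ₐc[R] B, ∀ c, φ₀ (1 ⊗ₜ c) = 1 ⊗ₜ φ c := by
  classical
  obtain ⟨cv⟩ := exists_cover hC
  choose u hu using fun c : C => TensorProduct.mk_surjective R B (R ⧸ I) Ideal.Quotient.mk_surjective (φ₀ (1 ⊗ₜ c))
  have hu' : ∀ c, φ₀ ((1 : R ⧸ I) ⊗ₜ c) = (1 : R ⧸ I) ⊗ₜ u c := fun c => (hu c).symm
  have hloc : ∀ i, ∃ ψ : (cv.split i).S ⊗[R] C →ₐc[(cv.split i).S] (cv.split i).S ⊗[R] B,
      ∀ c, ψ (1 ⊗ₜ c) - 1 ⊗ₜ u c ∈
        ((I.map (algebraMap R (cv.split i).S)) • ⊤ : Submodule (cv.split i).S ((cv.split i).S ⊗[R] B)) := by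
    intro i
    let S := (cv.split i).S
    let J : Ideal S := I.map (algebraMap R S)
    let φJ : (S ⧸ J) ⊗[S] (S ⊗[R] C) →ₐc[S ⧸ J] (S ⧸ J) ⊗[S] (S ⊗[R] B) :=
      (baseChangeTrans (R := R) S (S ⧸ J) B : (S ⧸ J) ⊗[R] B →ₐc[S ⧸ J] _).comp
        ((pushHom (ofRed I S) φ₀).comp
          ((baseChangeTrans (R := R) S (S ⧸ J) C).symm : (S ⧸ J) ⊗[S] (S ⊗[R] C) →ₐc[S ⧸ J] (S ⧸ J) ⊗[R] C))
    obtain ⟨ψ, hψ⟩ := exists_lift_nil_diag (isNilpotent_map hI S) (isDiag_of_equiv (cv.split i).bialgEquiv)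
      (isMultType_baseChange S hB) φJ
    refine ⟨ψ, fun c => (one_tmul_eq_iff_mem J _ _).mp ?_⟩
    rw [← hψ]
    show baseChangeTrans (R := R) S (S ⧸ J) B (pushHom (ofRed I S) φ₀
      ((baseChangeTrans (R := R) S (S ⧸ J) C).symm ((1 : S ⧸ J) ⊗ₜ[S] ((1 : S) ⊗ₜ[R] c)))) = _
    rw [← baseChangeTrans_one_tmul S (S ⧸ J) C c, BialgEquiv.symm_apply_apply, pushHom_one_tmul, hu',
      Algebra.TensorProduct.map_tmul, map_one, AlgHom.id_apply, baseChangeTrans_one_tmul]
  choose ψ hψ using hloc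
  have hagree : ∀ c i j, LinearMap.rTensor B (Algebra.TensorProduct.includeLeft :
      (cv.split i).S →ₐ[R] (cv.split i).S ⊗[R] (cv.split j).S).toLinearMap (ψ i (1 ⊗ₜ c)) =
    LinearMap.rTensor B (Algebra.TensorProduct.includeRight :
      (cv.split j).S →ₐ[R] (cv.split i).S ⊗[R] (cv.split j).S).toLinearMap (ψ j (1 ⊗ₜ c)) := by
    intro c i j
    let T := (cv.split i).S ⊗[R] (cv.split j).S
    let jL : (cv.split i).S →ₐ[R] T := Algebra.TensorProduct.includeLeft
    let jR : (cv.split j).S →ₐ[R] T := Algebra.TensorProduct.includeRight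
    have hp : ∀ {S' : Type u} [CommRing S'] [Algebra R S'] (k : S' →ₐ[R] T) (y : S' ⊗[R] B),
        y ∈ ((I.map (algebraMap R S')) • ⊤ : Submodule S' (S' ⊗[R] B)) →
        mA B k y ∈ ((I.map (algebraMap R T)) • ⊤ : Submodule T (T ⊗[R] B)) := by
      intro S' _ _ k y hy
      rw [Ideal.smul_top_eq_map, Submodule.restrictScalars_mem, Ideal.map_map] at hy ⊢
      let m : S' ⊗[R] B →ₐ[R] T ⊗[R] B := mA B k
      have h := Ideal.mem_map_of_mem m.toRingHom hy
      rw [Ideal.map_map] at h
      rw [show m.toRingHom.comp ((algebraMap S' (S' ⊗[R] B)).comp (algebraMap R S')) =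
          (algebraMap T (T ⊗[R] B)).comp (algebraMap R T) from
        RingHom.ext fun r => by simp [m, Algebra.TensorProduct.algebraMap_apply]] at h
      exact h
    have e := bialgHom_ext_nil (isNilpotent_map hI T) (isMultType_baseChange T hC) (isMultType_baseChange T hB)
      (pushHom jL (ψ i)) (pushHom jR (ψ j)) fun z => by
      induction z using TensorProduct.induction_on with
      | zero => simp
      | add a b ha hb => simp only [map_add]; rw [add_sub_add_comm]; exact add_mem ha hb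
      | tmul t a =>
        rw [pushHom_tmul, pushHom_tmul, ← smul_sub,
          show mA B jL (ψ i (1 ⊗ₜ a)) - mA B jR (ψ j (1 ⊗ₜ a)) =
            mA B jL (ψ i (1 ⊗ₜ a) - 1 ⊗ₜ u a) - mA B jR (ψ j (1 ⊗ₜ a) - 1 ⊗ₜ u a) by
            rw [map_sub, map_sub, Algebra.TensorProduct.map_tmul, Algebra.TensorProduct.map_tmul, map_one, map_one,
              AlgHom.id_apply, sub_sub_sub_cancel_right]]
        exact Submodule.smul_mem _ _ (sub_mem (hp jL _ (hψ i a)) (hp jR _ (hψ j a)))
    have e1 := congrArg (fun f : T ⊗[R] C →ₐc[T] T ⊗[R] B => f (1 ⊗ₜ c)) e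
    beta_reduce at e1
    rw [pushHom_one_tmul, pushHom_one_tmul, mA_eq_rTensor, mA_eq_rTensor] at e1
    exact e1
  choose f hf using fun c => cv.descend (fun i => ψ i (1 ⊗ₜ c)) (hagree c)
  have ext : ∀ x y : B, (∀ i, (1 : (cv.split i).S) ⊗ₜ[R] x = (1 : (cv.split i).S) ⊗ₜ[R] y) → x = y :=
    fun x y h => sub_eq_zero.mp (cv.module_ext _ fun i => by rw [TensorProduct.tmul_sub, h i, sub_self])
  let φa : C →ₐ[R] B :=
    { toFun := f
      map_one' := ext _ _ fun i => by rw [hf, ← Algebra.TensorProduct.one_def, map_one, Algebra.TensorProduct.one_def]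
      map_mul' := fun a b => ext _ _ fun i => by
        rw [hf, show (1 : (cv.split i).S) ⊗ₜ[R] (a * b) = ((1 : (cv.split i).S) ⊗ₜ[R] a) * (1 ⊗ₜ b) by
          rw [Algebra.TensorProduct.tmul_mul_tmul, one_mul], map_mul, ← hf, ← hf,
          Algebra.TensorProduct.tmul_mul_tmul, one_mul]
      map_zero' := ext _ _ fun i => by rw [hf, TensorProduct.tmul_zero, map_zero, TensorProduct.tmul_zero]
      map_add' := fun a b => ext _ _ fun i => by
        rw [hf, TensorProduct.tmul_add, map_add, ← hf, ← hf, TensorProduct.tmul_add]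
      commutes' := fun r => ext _ _ fun i => by
        rw [hf, Algebra.algebraMap_eq_smul_one, Algebra.algebraMap_eq_smul_one, TensorProduct.tmul_smul,
          ← IsScalarTower.algebraMap_smul (cv.split i).S, map_smul, ← Algebra.TensorProduct.one_def, map_one,
          IsScalarTower.algebraMap_smul, TensorProduct.tmul_smul, Algebra.TensorProduct.one_def] }
  have hfa : ∀ c i, (1 : (cv.split i).S) ⊗ₜ[R] φa c = ψ i (1 ⊗ₜ c) := hf
  have extR : ∀ x y : R, (∀ i, algebraMap R (cv.split i).S x = algebraMap R (cv.split i).S y) → x = y :=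
    fun x y h => sub_eq_zero.mp (cv.module_ext _ fun i => by
      rw [← mul_one (x - y), ← smul_eq_mul, ← TensorProduct.smul_tmul, ← Algebra.algebraMap_eq_smul_one,
        map_sub, h i, sub_self, TensorProduct.zero_tmul])
  refine ⟨BialgHom.ofAlgHom φa (AlgHom.ext fun c => extR _ _ fun i => ?_) (AlgHom.ext fun c => ?_), fun c => ?_⟩
  · have h1 := CoalgHomClass.counit_comp_apply (R := (cv.split i).S) (ψ i) ((1 : (cv.split i).S) ⊗ₜ[R] c)
    rw [← hfa, TensorProduct.counit_tmul, TensorProduct.counit_tmul, Bialgebra.counit_one, Algebra.smul_def,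
      Algebra.smul_def, mul_one, mul_one] at h1
    exact h1
  · refine sub_eq_zero.mp (cv.module_ext _ fun i => ?_)
    let S := (cv.split i).S
    rw [TensorProduct.tmul_sub, sub_eq_zero]
    apply (AlgebraTensorModule.distribBaseChange R S B B).injective
    simp only [AlgHom.comp_apply, Bialgebra.comulAlgHom_apply]
    rw [← sq_baseChange_eq, ← sq_baseChange_eq, ← (SemiBialgHom.baseChange R S B).comul_comp]
    show _ = comul ((1 : S) ⊗ₜ[R] φa c)
    rw [hfa, ← CoalgHomClass.map_comp_comul_apply]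
    show _ = _root_.TensorProduct.map _ _ (comul ((SemiBialgHom.baseChange R S C).toAlgHom c))
    rw [(SemiBialgHom.baseChange R S C).comul_comp]
    generalize comul (R := R) c = z
    induction z using TensorProduct.induction_on with
    | zero => simp
    | add a b ha hb => simp only [map_add, ha, hb]
    | tmul a b => simp [SemiBialgHom.baseChange, hfa]
  · rw [hu', ← sub_eq_zero, ← TensorProduct.tmul_sub]
    refine cv.module_ext _ fun i => ?_
    let S := (cv.split i).S
    have h1 := hψ i c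
    rw [← hfa, ← TensorProduct.tmul_sub] at h1
    let Φ : S ⊗[R] B →ₗ[S] S ⊗[R] ((R ⧸ I) ⊗[R] B) := LinearMap.baseChange S (TensorProduct.mk R (R ⧸ I) B 1)
    have hz : ∀ r ∈ I, ∀ z : (R ⧸ I) ⊗[R] B, r • z = 0 := fun r hr z => by
      rw [← IsScalarTower.algebraMap_smul (R ⧸ I), Ideal.Quotient.algebraMap_eq,
        Ideal.Quotient.eq_zero_iff_mem.mpr hr, zero_smul]
    have hJ : (I.map (algebraMap R S)) • (⊤ : Submodule S (S ⊗[R] B)) ≤ LinearMap.ker Φ := by
      refine Submodule.smul_le.mpr fun j hj y _ => ?_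
      rw [LinearMap.mem_ker, map_smul]
      generalize Φ y = w
      induction hj using Submodule.span_induction with
      | mem _ hx =>
        obtain ⟨r, hr, rfl⟩ := hx
        rw [IsScalarTower.algebraMap_smul]
        induction w using TensorProduct.induction_on with
        | zero => simp
        | add a b ha hb => rw [smul_add, ha, hb, add_zero]
        | tmul s z => rw [← TensorProduct.tmul_smul, hz r hr, TensorProduct.tmul_zero]
      | zero => simp
      | add a b _ _ ha hb => rw [add_smul, ha, hb, add_zero]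
      | smul a b _ hb => rw [smul_eq_mul, mul_smul, hb, smul_zero]
    have h2 := LinearMap.mem_ker.mp (hJ (neg_mem h1))
    rw [← TensorProduct.tmul_neg, neg_sub] at h2
    exact h2

end Hom

end Groth.Agent.MultTypeLib
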