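import Groth.Agent.MultTypeLib.NilDiag
import Groth.Agent.MultTypeLib.HopfKer
import Groth.Agent.Hensel.PairBasic
import Groth.Agent.Hensel.Local
import Mathlib.RingTheory.Nakayama
import Mathlib.RingTheory.Coalgebra.Convolution

/-!
# Lifting group-like elements of finite free Hopf algebras over henselian local rings
-/

universe u

open WithConv TensorProduct Coalgebra Bialgebra Polynomial IsLocalRing

noncomputable section

namespace Groth.Agent.MultTypeLib

variable {R : Type u} [CommRing R] [HenselianLocalRing R]
variable {B : Type u} [CommRing B] [HopfAlgebra R B]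

set_option maxHeartbeats 1000000 in
/-- Idempotent functionals lift. -/
theorem exists_idem_functional [Coalgebra.IsCocomm R B] [Module.Finite R B] [Module.Free R B]
    (π₀ : ResidueField R ⊗[R] B →ₗ[ResidueField R] ResidueField R)
    (hπ : toConv π₀ * toConv π₀ = toConv π₀) :
    ∃ E : WithConv (B →ₗ[R] R), E * E = E ∧ ∀ y, residue R (E.ofConv y) = π₀ (1 ⊗ₜ y) := by
  classical
  let D := WithConv (B →ₗ[R] R)
  let b := Module.Free.chooseBasis R B
  choose v hv using fun i => residue_surjective (π₀ (1 ⊗ₜ b i))
  let E₀ : D := toConv (b.constr R v)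
  have hred : ∀ y, residue R (E₀.ofConv y) = π₀ (1 ⊗ₜ y) := by
    have : ∀ y, (Algebra.linearMap R (ResidueField R) ∘ₗ b.constr R v) y =
        (π₀.restrictScalars R ∘ₗ TensorProduct.mk R (ResidueField R) B 1) y := by
      refine fun y => LinearMap.congr_fun (b.ext fun i => ?_) y
      simp [hv]
    exact this
  have hmul : ∀ y, residue R ((E₀ * E₀).ofConv y) = (toConv π₀ * toConv π₀).ofConv (1 ⊗ₜ y) := by
    intro y
    have e := (SemiBialgHom.baseChange R (ResidueField R) B).comul_comp y
    simp only [SemiBialgHom.baseChange, Algebra.TensorProduct.includeRight_apply] at e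
    rw [LinearMap.convMul_apply, LinearMap.convMul_apply, e]
    generalize comul (R := R) y = z
    induction z using TensorProduct.induction_on with
    | zero => simp
    | add p q hp hq => simp only [map_add, hp, hq]
    | tmul p q => simp [hred]
  have hfin : Module.Finite R D := Module.Finite.equiv (WithConv.linearEquiv R (B →ₗ[R] R)).symm
  have : HenselianRing R (maximalIdeal R) := inferInstance
  have hD : HenselianRing D ((maximalIdeal R).map (algebraMap R D)) := Hensel.henselianRing_of_isIntegral' _ D
  have hmem : ∀ F : D, (∀ y, residue R (F.ofConv y) = 0) → F ∈ (maximalIdeal R).map (algebraMap R D) := by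
    intro F hF
    have e : F = ∑ i, F.ofConv (b i) • toConv (b.coord i) := by
      refine WithConv.ext (b.ext fun j => ?_)
      simp [Finsupp.single_apply]
    rw [e]
    refine sum_mem fun i _ => ?_
    rw [Algebra.smul_def]
    exact Ideal.mul_mem_right _ _ (Ideal.mem_map_of_mem _ ((residue_eq_zero_iff _).mp (hF _)))
  have hsq : E₀ ^ 2 - E₀ ∈ (maximalIdeal R).map (algebraMap R D) := by
    refine hmem _ fun y => ?_
    rw [pow_two]
    show residue R ((E₀ * E₀).ofConv y - E₀.ofConv y) = 0
    rw [map_sub, hmul, hπ, hred]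
    exact sub_self _
  obtain ⟨E, hE, hd⟩ := hD.is_henselian (X ^ 2 - X) (monic_X_pow_sub (degree_X_le.trans_lt (by norm_num))) E₀ (by simpa using hsq) (by
    refine IsUnit.of_mul_eq_one (Ideal.Quotient.mk _ ((X ^ 2 - X : D[X]).derivative.eval E₀)) ?_
    rw [← map_mul, ← map_one (Ideal.Quotient.mk _), Ideal.Quotient.eq]
    have hd' : (X ^ 2 - X : D[X]).derivative.eval E₀ = 2 * E₀ - 1 := by
      simp [derivative_X_pow, one_add_one_eq_two]
    rw [hd']
    convert Ideal.mul_mem_left _ (4 : D) hsq using 1
    ring)
  have hE' : E ^ 2 - E = 0 := by simpa [IsRoot] using hE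
  refine ⟨E, by rw [← pow_two]; exact sub_eq_zero.mp hE', fun y => ?_⟩
  have : ∀ F ∈ (maximalIdeal R).map (algebraMap R D), ∀ y, residue R (F.ofConv y) = 0 := by
    intro F hF
    rw [← Submodule.restrictScalars_mem R, ← Ideal.smul_top_eq_map] at hF
    refine Submodule.smul_induction_on hF (fun r hr G _ y => ?_) (fun G G' hG hG' y => ?_)
    · show residue R (r * G.ofConv y) = 0
      rw [map_mul, (residue_eq_zero_iff r).mpr hr, zero_mul]
    · show residue R (G.ofConv y + G'.ofConv y) = 0
      rw [map_add, hG y, hG' y, add_zero]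
  have h := this _ hd y
  rw [show (E - E₀).ofConv y = E.ofConv y - E₀.ofConv y from rfl, map_sub, hred, sub_eq_zero] at h
  exact h

set_option maxHeartbeats 1000000 in
/-- Group-like elements of finite free Hopf algebras lift to a henselian local ring. -/
theorem exists_groupLike_lift_henselian [Coalgebra.IsCocomm R B] [Module.Finite R B] [Module.Free R B]
    {M : Type u} [CommGroup M] (e₀ : ResidueField R ⊗[R] B ≃ₐc[ResidueField R] MonoidAlgebra (ResidueField R) M)
    (m : M) : ∃ g : B, IsGroupLikeElem R g ∧ (1 : ResidueField R) ⊗ₜ[R] g = e₀.symm (MonoidAlgebra.single m 1) := by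
  classical
  let k := ResidueField R
  let π₀ : k ⊗[R] B →ₗ[k] k := cB m ∘ₗ (e₀ : k ⊗[R] B →ₐ[k] MonoidAlgebra k M).toLinearMap
  let g₀ := e₀.symm (MonoidAlgebra.single m 1)
  have hgl : ∀ n : M, IsGroupLikeElem k (e₀.symm (MonoidAlgebra.single n 1)) := fun n =>
    (isGroupLike_single n).map (e₀.symm : MonoidAlgebra k M →ₐc[k] k ⊗[R] B)
  have hπs : ∀ n, π₀ (e₀.symm (MonoidAlgebra.single n 1)) = if m = n then 1 else 0 := fun n => by
    show cB m (e₀ (e₀.symm _)) = _
    rw [BialgEquiv.apply_symm_apply, cB_single]
    split_ifs with h1 h2 <;> simp_all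
  have hind : ∀ (N : Type u) [AddCommGroup N] [Module k N] (f f' : k ⊗[R] B →ₗ[k] N),
      (∀ n, f (e₀.symm (MonoidAlgebra.single n 1)) = f' (e₀.symm (MonoidAlgebra.single n 1))) → f = f' := by
    intro N _ _ f f' hff
    refine LinearMap.ext fun z => ?_
    rw [← e₀.symm_apply_apply z]
    generalize e₀ z = x
    induction x using MonoidAlgebra.induction_linear with
    | zero => simp
    | add x y hx hy => simp only [map_add, hx, hy]
    | single n r =>
      rw [show MonoidAlgebra.single n r = r • MonoidAlgebra.single n (1 : k) by simp, map_smul, map_smul,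
        map_smul, hff]
  have hπ : toConv π₀ * toConv π₀ = toConv π₀ := by
    refine WithConv.ext (hind k _ _ fun n => ?_)
    rw [LinearMap.convMul_apply, (hgl n).comul_eq_tmul_self]
    simp [hπs]
  have hctr : ∀ z, contr π₀ (comul z) = π₀ z • g₀ := by
    have : contr π₀ ∘ₗ (comul : k ⊗[R] B →ₗ[k] _) = LinearMap.smulRight π₀ g₀ := hind _ _ _ fun n => by
      show contr π₀ (comul _) = π₀ _ • g₀
      rw [(hgl n).comul_eq_tmul_self, contr_tmul, hπs]
      split_ifs with h
      · subst h; rfl
      · simp
    exact fun z => LinearMap.congr_fun this z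
  obtain ⟨E, hE, hEπ⟩ := exists_idem_functional π₀ hπ
  let ψ : B →ₗ[R] B := contr E.ofConv ∘ₗ comul
  have hψred : ∀ y, (1 : k) ⊗ₜ[R] ψ y = π₀ (1 ⊗ₜ y) • g₀ := by
    intro y
    rw [← hctr]
    have e := (SemiBialgHom.baseChange R k B).comul_comp y
    simp only [SemiBialgHom.baseChange, Algebra.TensorProduct.includeRight_apply] at e
    rw [e]
    show (1 : k) ⊗ₜ[R] contr E.ofConv (comul y) = _
    generalize comul (R := R) y = z
    induction z using TensorProduct.induction_on with
    | zero => simp
    | add p q hp hq => simp only [map_add, TensorProduct.tmul_add, hp, hq]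
    | tmul p q =>
      rw [sq_tmul, contr_tmul, contr_tmul, TensorProduct.tmul_smul, ← algebraMap_smul k (E.ofConv q)]
      show residue R (E.ofConv q) • ((1 : k) ⊗ₜ[R] p) = _
      rw [hEπ]
      rfl
  have hEψ : ∀ y, E.ofConv (ψ y) = E.ofConv y := by
    intro y
    conv_rhs => rw [← hE, LinearMap.convMul_apply]
    show E.ofConv (contr E.ofConv (comul y)) = _
    generalize comul (R := R) y = z
    induction z using TensorProduct.induction_on with
    | zero => simp
    | add p q hp hq => simp only [map_add, hp, hq]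
    | tmul p q => simp [mul_comm]
  have hψψ : ∀ y, ψ (ψ y) = ψ y := by
    intro y
    show contr E.ofConv (comul (contr E.ofConv (comul y))) = _
    rw [comul_contr]
    show _ = contr E.ofConv (comul y)
    generalize comul (R := R) y = z
    induction z using TensorProduct.induction_on with
    | zero => simp
    | add p q hp hq => simp only [map_add, hp, hq]
    | tmul p q => rw [LinearMap.lTensor_tmul, contr_tmul, contr_tmul]; exact congrArg (· • p) (hEψ q)
  obtain ⟨y₀, hy₀⟩ := TensorProduct.mk_surjective R B k residue_surjective g₀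
  have hy₀' : (1 : k) ⊗ₜ[R] y₀ = g₀ := hy₀
  let u := ψ y₀
  have hu : (1 : k) ⊗ₜ[R] u = g₀ := by
    rw [hψred, hy₀']
    show π₀ g₀ • g₀ = g₀
    rw [hπs m, if_pos rfl, one_smul]
  have hrange : LinearMap.range ψ ≤ Submodule.span R {u} := by
    refine Submodule.le_of_le_smul_of_le_jacobson_bot (I := maximalIdeal R)
      (Submodule.FG.map ψ Module.Finite.fg_top |> fun h => by rwa [Submodule.map_top] at h)
      (IsLocalRing.jacobson_eq_maximalIdeal ⊥ bot_ne_top).ge ?_
    rintro _ ⟨y, rfl⟩
    have hmem : ψ y - E.ofConv y • u ∈ (maximalIdeal R • ⊤ : Submodule R B) := by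
      refine (tmul_eq_iff (maximalIdeal R) _ _).mp ?_
      show (1 : k) ⊗ₜ[R] ψ y = (1 : k) ⊗ₜ[R] (E.ofConv y • u)
      rw [hψred, TensorProduct.tmul_smul, hu, ← algebraMap_smul k (E.ofConv y)]
      show _ = residue R (E.ofConv y) • g₀
      rw [hEπ]
    have h2 : ψ (ψ y - E.ofConv y • u) ∈ maximalIdeal R • LinearMap.range ψ := by
      rw [← Submodule.map_top, ← Submodule.map_smul'']
      exact Submodule.mem_map_of_mem hmem
    rw [map_sub, map_smul, hψψ, hψψ] at h2
    rw [show ψ y = E.ofConv y • u + (ψ y - E.ofConv y • u) by abel]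
    exact Submodule.add_mem_sup (Submodule.smul_mem _ _ (Submodule.mem_span_singleton_self u)) h2
  have hΔ : comul (R := R) u = LinearMap.lTensor B ψ (comul y₀) := comul_contr E.ofConv y₀
  obtain ⟨w, hw⟩ : ∃ w, comul (R := R) u = w ⊗ₜ u := by
    rw [hΔ]
    generalize comul (R := R) y₀ = z
    induction z using TensorProduct.induction_on with
    | zero => exact ⟨0, by simp⟩
    | add p q hp hq =>
      obtain ⟨a, ha⟩ := hp
      obtain ⟨b, hb⟩ := hq
      exact ⟨a + b, by rw [map_add, ha, hb, TensorProduct.add_tmul]⟩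
    | tmul p q =>
      obtain ⟨r, hr⟩ := Submodule.mem_span_singleton.mp (hrange (LinearMap.mem_range_self ψ q))
      exact ⟨r • p, by rw [LinearMap.lTensor_tmul, ← hr, TensorProduct.smul_tmul]⟩
  have hl : counit (R := R) w • u = u := by
    have := congrArg (TensorProduct.lid R B) (Coalgebra.rTensor_counit_comul (R := R) u)
    rw [hw, LinearMap.rTensor_tmul, TensorProduct.lid_tmul, TensorProduct.lid_tmul, one_smul] at this
    exact this
  have hr : counit (R := R) u • w = u := by
    have := congrArg (TensorProduct.rid R B) (Coalgebra.lTensor_counit_comul (R := R) u)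
    rw [hw, LinearMap.lTensor_tmul, TensorProduct.rid_tmul, TensorProduct.rid_tmul, one_smul] at this
    exact this
  have hεu : residue R (counit (R := R) u) = 1 := by
    have h := congrArg (counit (R := k)) hu
    rw [(hgl m).counit_eq_one, TensorProduct.counit_tmul] at h
    simpa [k, Algebra.smul_def] using h
  have hunit : IsUnit (counit (R := R) u) := by
    refine (residue_ne_zero_iff_isUnit _).mp ?_
    rw [hεu]
    exact one_ne_zero
  refine ⟨w, ⟨?_, ?_⟩, ?_⟩
  · refine hunit.mul_left_cancel ?_
    rw [mul_one]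
    conv_rhs => rw [← hl, map_smul, smul_eq_mul, mul_comm]
  · refine hunit.smul_left_cancel.mp ?_
    rw [← map_smul, hr, hw, ← TensorProduct.tmul_smul, hr]
  · conv_rhs => rw [show e₀.symm (MonoidAlgebra.single m 1) = (1 : k) ⊗ₜ[R] u from hu.symm, ← hr,
      TensorProduct.tmul_smul, ← algebraMap_smul k (counit (R := R) u)]
    show _ = residue R (counit (R := R) u) • _
    rw [hεu, one_smul]

end Groth.Agent.MultTypeLib
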