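import Groth.Agent.MultTypeLib.Coord
import Groth.Agent.MultTypeLib.HenselLift
import Groth.Agent.MultTypeLib.EtaleLift
import Groth.Agent.S5242
import Mathlib.RingTheory.LocalRing.Module
import Mathlib.RingTheory.Ideal.GoingDown
import Mathlib.RingTheory.FiniteType

/-!
# Groups of multiplicative type over henselian local rings

Over a henselian local ring, a group of multiplicative type and of finite type which is
diagonalisable on the closed fibre is diagonalisable.
-/

universe u

open WithConv TensorProduct Coalgebra Bialgebra IsLocalRing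

noncomputable section

namespace Groth.Agent.MultTypeLib

section General

variable {R : Type u} [CommRing R] {A : Type u} [CommRing A] [HopfAlgebra R A]

theorem mA_tpi (n : ℕ) [(SGA3b.torsionIdeal R A n).IsHopfIdeal R] {S T : Type u} [CommRing S] [Algebra R S]
    [CommRing T] [Algebra R T] (f : S →ₐ[R] T) (z : S ⊗[R] A) :
    mA (A ⧸ SGA3b.torsionIdeal R A n) f (tpi n S z) = tpi n T (mA A f z) := by
  induction z using TensorProduct.induction_on with
  | zero => simp
  | add x y hx hy => simp only [map_add, hx, hy]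
  | tmul s a => simp

theorem mapDomain_bijective {K : Type u} [CommRing K] {M N : Type u} [CommGroup M] [CommGroup N] (θ : M →* N)
    (h : Function.Bijective θ) : Function.Bijective (MonoidAlgebra.mapDomainBialgHom K θ) := by
  let e := MulEquiv.ofBijective θ h
  refine Function.bijective_iff_has_inverse.mpr
    ⟨MonoidAlgebra.mapDomainBialgHom K (e.symm : N →* M), fun x => ?_, fun x => ?_⟩
  · induction x using MonoidAlgebra.induction_linear with
    | zero => simp
    | add x y hx hy => simp only [map_add, hx, hy]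
    | single m r =>
      rw [MonoidAlgebra.mapDomainBialgHom_single, MonoidAlgebra.mapDomainBialgHom_single]
      show MonoidAlgebra.single (e.symm (e m)) r = _
      rw [e.symm_apply_apply]
  · induction x using MonoidAlgebra.induction_linear with
    | zero => simp
    | add x y hx hy => simp only [map_add, hx, hy]
    | single m r =>
      rw [MonoidAlgebra.mapDomainBialgHom_single, MonoidAlgebra.mapDomainBialgHom_single]
      show MonoidAlgebra.single (e (e.symm m)) r = _
      rw [e.apply_symm_apply]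

/-- A group-like element with a unit coefficient is a character. -/
theorem eq_single_of_isUnit {S : Type u} [CommRing S] {M : Type u} [CommGroup M] {x : MonoidAlgebra S M}
    (hx : IsGroupLikeElem S x) {m : M} (hm : IsUnit (x.coeff m)) : x = MonoidAlgebra.single m 1 := by
  classical
  ext n
  rw [MonoidAlgebra.coeff_single, Finsupp.single_apply]
  split_ifs with h
  · subst h
    refine hm.mul_left_cancel ?_
    rw [mul_one]
    exact groupLike_idem hx m
  · exact hm.mul_right_eq_zero.mp (groupLike_orth' hx h)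

end General

variable {R : Type u} [CommRing R] [HenselianLocalRing R]
variable {A : Type u} [CommRing A] [HopfAlgebra R A]
variable {M₀ : Type u} [CommGroup M₀]

set_option maxHeartbeats 1000000 in
/-- Group-like elements of a quotient of a split closed fibre lift, in the finite free case. -/
theorem exists_lift_of_surjective {B : Type u} [CommRing B] [HopfAlgebra R B] [Coalgebra.IsCocomm R B]
    [Module.Finite R B] [Module.Free R B]
    (e₀ : ResidueField R ⊗[R] A ≃ₐc[ResidueField R] MonoidAlgebra (ResidueField R) M₀)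
    (π : ResidueField R ⊗[R] A →ₐc[ResidueField R] ResidueField R ⊗[R] B) (hπ : Function.Surjective π)
    {w : ResidueField R ⊗[R] A} (hw : IsGroupLikeElem (ResidueField R) w) :
    ∃ b : B, IsGroupLikeElem R b ∧ (1 : ResidueField R) ⊗ₜ b = π w := by
  let k := ResidueField R
  let Φ := MonoidAlgebra.liftGroupLikeBialgHom (R := k) (A := k ⊗[R] B)
  have hspan : Function.Surjective Φ := by
    intro y
    obtain ⟨z, rfl⟩ := hπ y
    show π z ∈ (Φ : MonoidAlgebra k (GroupLike k (k ⊗[R] B)) →ₐ[k] k ⊗[R] B).range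
    rw [← e₀.symm_apply_apply z]
    generalize e₀ z = x
    induction x using MonoidAlgebra.induction_linear with
    | zero => simp
    | add y z hy hz => rw [map_add, map_add]; exact add_mem hy hz
    | single m r =>
      rw [show MonoidAlgebra.single m r = r • MonoidAlgebra.single m (1 : k) by simp, map_smul, map_smul]
      refine Subalgebra.smul_mem _ ?_ _
      have hg : IsGroupLikeElem k (π (e₀.symm (MonoidAlgebra.single m 1))) :=
        ((isGroupLike_single m).map (e₀.symm : MonoidAlgebra k M₀ →ₐc[k] k ⊗[R] A)).map π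
      exact ⟨MonoidAlgebra.single (⟨_, hg⟩ : GroupLike k (k ⊗[R] B)) 1,
        by simp [Φ, MonoidAlgebra.liftGroupLikeBialgHom]⟩
  have hinj : Function.Injective Φ := by
    have hli : LinearIndependent k (GroupLike.val : GroupLike k (k ⊗[R] B) → k ⊗[R] B) := by
      have h := linearIndepOn_isGroupLikeElem (R := k) (A := k ⊗[R] B)
      exact h.comp (fun g : GroupLike k (k ⊗[R] B) => (⟨g.1, g.2⟩ : {a : k ⊗[R] B // IsGroupLikeElem k a}))
        fun a b hab => GroupLike.val_injective (congrArg Subtype.val hab)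
    rw [injective_iff_map_eq_zero]
    intro x hx
    have e : Φ x = Finsupp.linearCombination k GroupLike.val x.coeff := by
      conv_lhs => rw [← MonoidAlgebra.sum_coeff_single x]
      rw [Finsupp.linearCombination_apply, Finsupp.sum, Finsupp.sum, map_sum]
      refine Finset.sum_congr rfl fun m _ => ?_
      simp [Φ, MonoidAlgebra.liftGroupLikeBialgHom]
    rw [e] at hx
    exact MonoidAlgebra.coeff_injective (linearIndependent_iff.mp hli _ hx)
  let e' : k ⊗[R] B ≃ₐc[k] MonoidAlgebra k (GroupLike k (k ⊗[R] B)) :=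
    (BialgEquiv.ofBijective Φ ⟨hinj, hspan⟩).symm
  obtain ⟨b, hb, eb⟩ := exists_groupLike_lift_henselian (R := R) (B := B) e'
    (⟨π w, hw.map π⟩ : GroupLike k (k ⊗[R] B))
  refine ⟨b, hb, eb.trans ?_⟩
  show Φ (MonoidAlgebra.single (⟨π w, hw.map π⟩ : GroupLike k (k ⊗[R] B)) 1) = _
  simp [Φ, MonoidAlgebra.liftGroupLikeBialgHom]

/-- Group-like elements of the closed fibres of the torsion subgroups lift. -/
theorem exists_lift_torsion (hft : Algebra.FiniteType R A) (hA : SGA3b.IsMultType R A)
    (e₀ : ResidueField R ⊗[R] A ≃ₐc[ResidueField R] MonoidAlgebra (ResidueField R) M₀) (n : ℕ) (hn : 0 < n)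
    [(SGA3b.torsionIdeal R A n).IsHopfIdeal R] {w : ResidueField R ⊗[R] A}
    (hw : IsGroupLikeElem (ResidueField R) w) :
    ∃ b : A ⧸ SGA3b.torsionIdeal R A n, IsGroupLikeElem R b ∧
      (1 : ResidueField R) ⊗ₜ b = tpi n (ResidueField R) w := by
  obtain ⟨hm, hfin⟩ := Groth.Agent.S5242.result R A hft hA n hn (SGA3b.torsionIdeal R A n) rfl
  obtain ⟨P', hP'⟩ := exists_ff_split hm
  have := P'.flat_self
  have : Module.Free R (A ⧸ SGA3b.torsionIdeal R A n) := Module.free_of_flat_of_isLocalRing
  have := isCocomm_of_isMultType hm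
  let π : ResidueField R ⊗[R] A →ₐc[ResidueField R] ResidueField R ⊗[R] (A ⧸ SGA3b.torsionIdeal R A n) :=
    Bialgebra.TensorProduct.map (BialgHom.id _ _) (Bialgebra.Quotient.mkBialgHom (SGA3b.torsionIdeal R A n))
  have hπt : ∀ z, π z = tpi n (ResidueField R) z := by
    intro z
    induction z using TensorProduct.induction_on with
    | zero => simp
    | add x y hx hy => simp only [map_add, hx, hy]
    | tmul s a => rfl
  have hπ : Function.Surjective π := by
    intro y
    induction y using TensorProduct.induction_on with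
    | zero => exact ⟨0, map_zero _⟩
    | add y₁ y₂ h₁ h₂ =>
      obtain ⟨z₁, rfl⟩ := h₁
      obtain ⟨z₂, rfl⟩ := h₂
      exact ⟨z₁ + z₂, map_add _ _ _⟩
    | tmul c b =>
      obtain ⟨a, rfl⟩ := Ideal.Quotient.mk_surjective b
      exact ⟨c ⊗ₜ a, rfl⟩
  obtain ⟨b, hb, eb⟩ := exists_lift_of_surjective e₀ π hπ hw
  exact ⟨b, hb, eb.trans (hπt w)⟩

/-- The residue field maps to the residue fields of primes over the closed point. -/
theorem exists_residue_algHom {S : Type u} [CommRing S] [Algebra R S] (q : Ideal S) [q.IsPrime]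
    (h : q.comap (algebraMap R S) = maximalIdeal R) : Nonempty (ResidueField R →ₐ[R] q.ResidueField) :=
  ⟨Ideal.Quotient.liftₐ (maximalIdeal R) (Algebra.ofId R q.ResidueField) fun r hr => by
    rw [Algebra.ofId_apply, IsScalarTower.algebraMap_apply R S q.ResidueField,
      Ideal.algebraMap_residueField_eq_zero]
    rw [← h] at hr
    exact hr⟩

/-- Every prime of a faithfully flat extension is linked to a prime over the closed point. -/
theorem exists_spread {S : Type u} [CommRing S] [Algebra R S] [Module.FaithfullyFlat R S] (q : Ideal S)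
    [q.IsPrime] : ∃ q₁ q' : Ideal S, q₁.IsPrime ∧ q'.IsPrime ∧ q₁.comap (algebraMap R S) = maximalIdeal R ∧
      q' ≤ q₁ ∧ q'.comap (algebraMap R S) = q.comap (algebraMap R S) := by
  obtain ⟨⟨q₁, hq₁⟩, h₁⟩ := PrimeSpectrum.comap_surjective_of_faithfullyFlat (A := R) (B := S)
    ⟨maximalIdeal R, (maximalIdeal.isMaximal R).isPrime⟩
  have h₁' : q₁.comap (algebraMap R S) = maximalIdeal R := congrArg PrimeSpectrum.asIdeal h₁
  have : q₁.LiesOver (maximalIdeal R) := ⟨h₁'.symm⟩
  obtain ⟨q', hle, hq', hl⟩ := Ideal.exists_ideal_le_liesOver_of_le (p := q.comap (algebraMap R S))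
    (q := maximalIdeal R) q₁ (IsLocalRing.le_maximalIdeal (Ideal.IsPrime.comap (algebraMap R S)).ne_top)
  exact ⟨q₁, q', hq₁, hq', h₁', hle, hl.over.symm⟩

omit [HenselianLocalRing R] in
/-- A morphism to a residue field vanishes exactly on the prime. -/
theorem toAlgHom_residueField_ne_zero {S : Type u} [CommRing S] [Algebra R S] (q : Ideal S) [q.IsPrime]
    (x : S) : IsScalarTower.toAlgHom R S q.ResidueField x ≠ 0 ↔ x ∉ q :=
  not_congr Ideal.algebraMap_residueField_eq_zero

set_option maxHeartbeats 4000000 in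
/-- Group-like elements of the closed fibre lift. -/
theorem Split.exists_groupLike_lift_fibre (P : Split R A) [Module.FaithfullyFlat R P.S] [Group.FG P.M]
    (hft : Algebra.FiniteType R A) (hA : SGA3b.IsMultType R A)
    [∀ n, (SGA3b.torsionIdeal R A n).IsHopfIdeal R]
    (e₀ : ResidueField R ⊗[R] A ≃ₐc[ResidueField R] MonoidAlgebra (ResidueField R) M₀)
    {w : ResidueField R ⊗[R] A} (hw : IsGroupLikeElem (ResidueField R) w) :
    ∃ a : A, IsGroupLikeElem R a ∧ (1 : ResidueField R) ⊗ₜ a = w := by
  classical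
  let k := ResidueField R
  have hflat := P.flat_self
  choose b hb eb using fun n (hn : 0 < n) => exists_lift_torsion hft hA e₀ n hn hw
  let γ := fun n (hn : 0 < n) => (P.torHom n).toAlgHom (b n hn)
  have hγ : ∀ n hn, IsGroupLikeElem P.S (γ n hn) := fun n hn => (P.torHom n).isGroupLike (hb n hn)
  obtain ⟨w', hw'⟩ := TensorProduct.mk_surjective R A k residue_surjective w
  have hw' : (1 : k) ⊗ₜ[R] w' = w := hw'
  let F : Finset P.M := (P.hom.toAlgHom w').coeff.support
  choose Gm hGm using fun θ => P.exists_support_bound (P.char θ)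
  let G : Finset P.M := F.biUnion Gm
  let Val : Ideal P.S → P.M → Prop := fun q m => ∀ n hn, (γ n hn).coeff (prn n m) ∉ q
  have hgood : ∀ (q : Ideal P.S) [q.IsPrime] (ρ : k →ₐ[R] q.ResidueField), ∃ θ ∈ F,
      P.coordAt (IsScalarTower.toAlgHom R P.S q.ResidueField) (mA A ρ w) = MonoidAlgebra.single θ 1 ∧
      Val q θ := by
    intro q _ ρ
    set j := IsScalarTower.toAlgHom R P.S q.ResidueField with hj
    obtain ⟨θ, hθ⟩ := exists_single_of_field ((isGroupLike_mA ρ hw).map (P.coordAt j))
    have hρw : mA A ρ w = (1 : q.ResidueField) ⊗ₜ[R] w' := by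
      rw [← hw', Algebra.TensorProduct.map_tmul, map_one, AlgHom.id_apply]
    refine ⟨θ, ?_, hθ.symm, fun n hn => ?_⟩
    · rw [Finsupp.mem_support_iff]
      intro h0
      have h2 := congrArg (fun y => y.coeff θ) hθ
      rw [hρw, P.coordAt_one_tmul] at h2
      simp only [coeff_evalAt, h0, map_zero, MonoidAlgebra.coeff_single, Finsupp.single_eq_same] at h2
      exact one_ne_zero h2
    · refine (toAlgHom_residueField_ne_zero (R := R) q _).mp ((evalAt_eq_single_iff (j : P.S →+* q.ResidueField) (hγ n hn) (prn n θ)).mp ?_)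
      rw [← P.torCoordAt_one_tmul n j]
      have e1 : (1 : q.ResidueField) ⊗ₜ[R] b n hn = tpi n q.ResidueField (mA A ρ w) := by
        rw [← mA_tpi, ← eb n hn, Algebra.TensorProduct.map_tmul, map_one, AlgHom.id_apply]
      rw [e1, P.torCoordAt_tpi, ← hθ, MonoidAlgebra.mapDomainBialgHom_single]
  have huniq : ∀ (q : Ideal P.S) [q.IsPrime] (m m' : P.M), Val q m → Val q m' → m = m' := by
    intro q hq m m' h h'
    obtain ⟨n, hn, hsep⟩ := exists_separating ({m, m'} : Finset P.M)
    refine hsep m (by simp) m' (by simp) (by_contra fun hne => ?_)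
    have h0 := groupLike_orth' (hγ n hn) hne
    exact (hq.mem_or_mem (h0 ▸ q.zero_mem)).elim (h n hn) (h' n hn)
  have hval : ∀ (q : Ideal P.S) [q.IsPrime], ∃ m ∈ G, Val q m := by
    intro q _
    obtain ⟨q₁, q', hq₁, hq', h₁, hle, hcq⟩ := exists_spread (R := R) q
    obtain ⟨ρ⟩ := exists_residue_algHom q₁ h₁
    obtain ⟨θ, hθF, -, hθ⟩ := hgood q₁ ρ
    obtain ⟨K, _, _, j, j', hj, hj'⟩ := exists_common_field (R := R) q q' hcq.symm
    have hker : ∀ (x : P.S), x ∉ q' → j' x ≠ 0 := fun x hx h0 => hx (hj' ▸ RingHom.mem_ker.mpr h0)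
    let v := mA A j' (P.char θ)
    obtain ⟨m, hm⟩ := exists_single_of_field ((isGroupLike_mA j' (P.isGroupLike_char θ)).map (P.coordAt j))
    refine ⟨m, Finset.mem_biUnion.mpr ⟨θ, hθF, hGm θ K j j' ?_⟩, fun n hn => ?_⟩
    · rw [Finsupp.mem_support_iff, ← hm, MonoidAlgebra.coeff_single, Finsupp.single_eq_same]
      exact one_ne_zero
    · have hv : tpi n K v = (1 : K) ⊗ₜ[R] b n hn := by
        apply P.torCoordAt_injective n j'
        rw [P.torCoordAt_tpi, P.coordAt_char, MonoidAlgebra.mapDomainBialgHom_single, P.torCoordAt_one_tmul]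
        exact ((evalAt_eq_single_iff (j' : P.S →+* K) (hγ n hn) _).mpr
          (hker _ fun hmem => hθ n hn (hle hmem))).symm
      intro hmem
      have hev : evalAt (j : P.S →+* K) (γ n hn) = MonoidAlgebra.single (prn n m) 1 := by
        rw [← P.torCoordAt_one_tmul n j, ← hv, P.torCoordAt_tpi, ← hm, MonoidAlgebra.mapDomainBialgHom_single]
      refine (evalAt_eq_single_iff (j : P.S →+* K) (hγ n hn) _).mp hev ?_
      rw [← hj] at hmem
      exact RingHom.mem_ker.mp hmem
  obtain ⟨n₀, hn₀, hsep⟩ := exists_separating G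
  let c : P.M → P.S := fun m => (γ n₀ hn₀).coeff (prn n₀ m)
  have horth : ∀ m ∈ G, ∀ m' ∈ G, m ≠ m' → c m * c m' = 0 := fun m hm m' hm' hne =>
    groupLike_orth' (hγ n₀ hn₀) fun h => hne (hsep m hm m' hm' h)
  have hidem : ∀ m ∈ G, IsIdempotentElem (c m) := fun m _ => groupLike_idem (hγ n₀ hn₀) _
  have hsum : ∑ m ∈ G, c m = 1 := by
    have hi : IsIdempotentElem (∑ m ∈ G, c m) := by
      show _ * _ = _
      rw [Finset.sum_mul_sum]
      refine Finset.sum_congr rfl fun m hm => ?_
      rw [Finset.sum_eq_single m (fun m' hm' hne => horth m hm m' hm' (Ne.symm hne)) fun h => absurd hm h]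
      exact hidem m hm
    have hu : IsUnit (∑ m ∈ G, c m) := by
      by_contra hu
      obtain ⟨q, hq, hmem⟩ := exists_max_ideal_of_mem_nonunits hu
      obtain ⟨m, hmG, hm⟩ := hval q
      refine hm n₀ hn₀ ?_
      have h2 := q.mul_mem_left (c m) hmem
      rw [Finset.mul_sum, Finset.sum_eq_single m (fun m' hm' hne => horth m hmG m' hm' (Ne.symm hne))
        fun h => absurd hmG h] at h2
      exact (hq.isPrime.mem_or_mem h2).elim id id
    exact hu.mul_left_cancel (hi.trans (mul_one _).symm)
  let z : MonoidAlgebra P.S P.M := ∑ m ∈ G, MonoidAlgebra.single m (c m)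
  have hz : IsGroupLikeElem P.S z := isGroupLike_of_orth G c horth hidem hsum
  have hzval : ∀ (q : Ideal P.S) [q.IsPrime] (m : P.M), Val q m → z.coeff m ∉ q := by
    intro q _ m hm
    obtain ⟨m', hm'G, hm'⟩ := hval q
    obtain rfl := huniq q m m' hm hm'
    have e : z.coeff m = c m := by
      simp only [z, MonoidAlgebra.coeff_sum, Finsupp.finsetSum_apply, MonoidAlgebra.coeff_single,
        Finsupp.single_apply, Finset.sum_ite_eq', if_pos hm'G]
    rw [e]
    exact hm n₀ hn₀
  have hzγ : ∀ n hn, MonoidAlgebra.mapDomainBialgHom P.S (prn n) z = γ n hn := by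
    intro n hn
    refine groupLike_ext_primes (hz.map _) (hγ n hn) fun q _ => ?_
    obtain ⟨m, hmG, hm⟩ := hval q
    rw [mapCoeff_mapDomain, (value_iff hz q m).mpr (hzval q m hm), (value_iff (hγ n hn) q _).mpr (hm n hn),
      MonoidAlgebra.mapDomainBialgHom_single]
  let zA := P.bialgEquiv.symm z
  have hzA : IsGroupLikeElem P.S zA := hz.map (P.bialgEquiv.symm : MonoidAlgebra P.S P.M →ₐc[P.S] P.S ⊗[R] A)
  have hzAeq : P.equiv zA = z := (P.extend_eq _).symm.trans (P.bialgEquiv.apply_symm_apply z)
  have htpi : ∀ n hn, tpi n P.S zA = (1 : P.S) ⊗ₜ[R] b n hn := by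
    intro n hn
    apply P.torCoordAt_injective n (AlgHom.id R P.S)
    rw [P.torCoordAt_tpi, P.coordAt_id, hzAeq, hzγ n hn, P.torCoordAt_one_tmul]
    ext m
    rw [coeff_evalAt]
    rfl
  have agree : mA A (Algebra.TensorProduct.includeLeft : P.S →ₐ[R] P.S ⊗[R] P.S) zA =
      mA A Algebra.TensorProduct.includeRight zA := by
    let T := P.S ⊗[R] P.S
    let j₁ : P.S →ₐ[R] T := Algebra.TensorProduct.includeLeft
    let j₂ : P.S →ₐ[R] T := Algebra.TensorProduct.includeRight
    show mA A j₁ zA = mA A j₂ zA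
    apply (P.coordAt_bijective j₁).1
    set x₁ := P.coordAt j₁ (mA A j₁ zA)
    set x₂ := P.coordAt j₁ (mA A j₂ zA)
    obtain ⟨n, hn, hs⟩ := exists_separating (x₁.coeff.support ∪ x₂.coeff.support)
    refine eq_of_mapDomain_eq (prn n) _ hs Finset.subset_union_left Finset.subset_union_right ?_
    rw [← P.torCoordAt_tpi, ← P.torCoordAt_tpi, ← mA_tpi, ← mA_tpi, htpi n hn, Algebra.TensorProduct.map_tmul,
      Algebra.TensorProduct.map_tmul, map_one, map_one]
  obtain ⟨a, ha, ea⟩ := (Cover.single P).descend_groupLike (fun _ => zA) (fun _ => hzA) fun _ _ => agree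
  have ea' : (1 : P.S) ⊗ₜ[R] a = zA := ea ⟨⟩
  refine ⟨a, ha, ?_⟩
  obtain ⟨⟨q₁, hq₁⟩, h₁⟩ := PrimeSpectrum.comap_surjective_of_faithfullyFlat (A := R) (B := P.S)
    ⟨maximalIdeal R, (maximalIdeal.isMaximal R).isPrime⟩
  obtain ⟨ρ⟩ := exists_residue_algHom q₁ (congrArg PrimeSpectrum.asIdeal h₁)
  obtain ⟨θ, -, hθ, hθV⟩ := hgood q₁ ρ
  have hρinj : Function.Injective (mA A ρ) := by
    rw [show ⇑(mA A ρ) = ⇑(LinearMap.rTensor A ρ.toLinearMap) from funext (mA_eq_rTensor ρ)]
    exact Module.Flat.rTensor_preserves_injective_linearMap _ ρ.toRingHom.injective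
  apply hρinj
  apply (P.coordAt_bijective (IsScalarTower.toAlgHom R P.S q₁.ResidueField)).1
  rw [hθ, Algebra.TensorProduct.map_tmul, map_one, AlgHom.id_apply, P.coordAt_one_tmul, ← P.equiv_tmul, ea',
    hzAeq]
  exact (evalAt_eq_single_iff _ hz θ).mpr ((toAlgHom_residueField_ne_zero (R := R) q₁ _).mpr (hzval q₁ θ hθV))

set_option maxHeartbeats 1000000 in
/-- Group-like elements are determined by the closed fibre. -/
theorem Split.groupLike_ext_fibre (P : Split R A) [Module.FaithfullyFlat R P.S] {a b : A}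
    (ha : IsGroupLikeElem R a) (hb : IsGroupLikeElem R b)
    (h : (1 : ResidueField R) ⊗ₜ[R] a = (1 : ResidueField R) ⊗ₜ[R] b) : a = b := by
  refine P.eq_of_hom a b (groupLike_ext_primes (P.hom.isGroupLike ha) (P.hom.isGroupLike hb) fun q _ => ?_)
  obtain ⟨q₁, q', hq₁, hq', h₁, hle, hcq⟩ := exists_spread (R := R) q
  obtain ⟨ρ⟩ := exists_residue_algHom q₁ h₁
  set x := P.hom.toAlgHom a with hx
  set y := P.hom.toAlgHom b with hy
  have gx : IsGroupLikeElem P.S x := P.hom.isGroupLike ha
  have gy : IsGroupLikeElem P.S y := P.hom.isGroupLike hb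
  obtain ⟨θ, hθ⟩ := exists_value gx q₁
  have hθy : (mapCoeff P.S q₁.ResidueField P.M).toAlgHom y = MonoidAlgebra.single θ 1 := by
    let j := IsScalarTower.toAlgHom R P.S q₁.ResidueField
    have e : evalAt (j : P.S →+* q₁.ResidueField) x = evalAt (j : P.S →+* q₁.ResidueField) y := by
      rw [hx, hy, ← P.coordAt_one_tmul, ← P.coordAt_one_tmul]
      refine congrArg _ ?_
      simpa using congrArg (mA A ρ) h
    rw [← hθ]
    ext m
    have e2 := congrArg (fun z => z.coeff m) e
    simp only [coeff_evalAt] at e2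
    rw [coeff_mapCoeff, coeff_mapCoeff]
    exact e2.symm
  have hxq' := (value_iff gx q' θ).mp (value_generize gx hle hθ)
  have hyq' := (value_iff gy q' θ).mp (value_generize gy hle hθy)
  obtain ⟨K, _, _, j, j', hj, hj'⟩ := exists_common_field (R := R) q q' hcq.symm
  have hne : ∀ s : P.S, s ∉ q' → j' s ≠ 0 := fun s hs h0 => hs (hj' ▸ RingHom.mem_ker.mpr h0)
  have e : (1 : K) ⊗ₜ[R] a = (1 : K) ⊗ₜ[R] b := by
    apply (P.coordAt_bijective j').1
    rw [P.coordAt_one_tmul, P.coordAt_one_tmul, (evalAt_eq_single_iff (j' : P.S →+* K) gx θ).mpr (hne _ hxq'),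
      (evalAt_eq_single_iff (j' : P.S →+* K) gy θ).mpr (hne _ hyq')]
  have e2 := congrArg (P.coordAt j) e
  rw [P.coordAt_one_tmul, P.coordAt_one_tmul] at e2
  obtain ⟨m, hm⟩ := exists_value gx q
  rw [hm]
  refine ((value_iff gy q m).mpr fun hmem => ?_).symm
  have h3 := congrArg (fun z => z.coeff m) e2
  simp only [coeff_evalAt] at h3
  have hmx := (value_iff gx q m).mp hm
  rw [← hj] at hmem hmx
  exact hmx (RingHom.mem_ker.mpr (h3.trans (RingHom.mem_ker.mp hmem)))

set_option maxHeartbeats 4000000 in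
/-- Over a henselian local ring, diagonalisability is detected on the closed fibre. -/
theorem isDiag_of_henselian (hft : Algebra.FiniteType R A) (hA : SGA3b.IsMultType R A)
    (hd : SGA3b.IsDiag (ResidueField R) (ResidueField R ⊗[R] A)) : SGA3b.IsDiag R A := by
  classical
  obtain ⟨M₀, inst, he⟩ := hd
  obtain ⟨e₀⟩ := he
  obtain ⟨P, hP⟩ := exists_ff_split hA
  have := P.flat_self
  have := fun n => isHopfIdeal_torsionIdeal hA n
  let k := ResidueField R
  have : Nontrivial P.S := by
    obtain ⟨⟨q, hq⟩, -⟩ := PrimeSpectrum.comap_surjective_of_faithfullyFlat (A := R) (B := P.S)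
      ⟨maximalIdeal R, (maximalIdeal.isMaximal R).isPrime⟩
    exact nontrivial_of_ne 0 1 fun h => hq.ne_top (q.eq_top_iff_one.mpr (h ▸ q.zero_mem))
  have : Group.FG P.M := by
    have : Algebra.FiniteType P.S (P.S ⊗[R] A) := inferInstance
    exact MonoidAlgebra.finiteType_iff_group_fg.mp (this.equiv P.equiv)
  have : Group.FG M₀ := by
    have : Algebra.FiniteType k (k ⊗[R] A) := inferInstance
    exact MonoidAlgebra.finiteType_iff_group_fg.mp
      (this.equiv (e₀ : k ⊗[R] A ≃ₐ[k] MonoidAlgebra k M₀))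
  choose g0 hg0 eg0 using fun m : M₀ => P.exists_groupLike_lift_fibre hft hA e₀
    ((isGroupLike_single (S := k) m).map (e₀.symm : MonoidAlgebra k M₀ →ₐc[k] k ⊗[R] A))
  let g : M₀ →* A :=
    { toFun := g0
      map_one' := P.groupLike_ext_fibre (hg0 1) .one (by
        rw [eg0, show MonoidAlgebra.single (1 : M₀) (1 : k) = 1 from rfl, map_one]; rfl)
      map_mul' := fun a b => P.groupLike_ext_fibre (hg0 _) ((hg0 a).mul (hg0 b)) (by
        rw [eg0, show (1 : k) ⊗ₜ[R] (g0 a * g0 b) = ((1 : k) ⊗ₜ[R] g0 a) * ((1 : k) ⊗ₜ[R] g0 b) by simp,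
          eg0, eg0]
        show e₀.symm (MonoidAlgebra.single (a * b) 1) = e₀.symm _ * e₀.symm _
        rw [← map_mul, MonoidAlgebra.single_mul_single, one_mul]) }
  have hg : ∀ m, IsGroupLikeElem R (g m) := hg0
  have hvals : ∀ (K : Type u) [Field K] [Algebra R K] (j : P.S →ₐ[R] K), ∃ θ : M₀ →* P.M,
      (∀ m, evalAt (j : P.S →+* K) (P.hom.toAlgHom (g m)) = MonoidAlgebra.single (θ m) 1) ∧
      (Function.Bijective θ ↔ Function.Bijective (homOfGroupLike
        ((SemiBialgHom.baseChange R K A).toAlgHom.toRingHom.toMonoidHom.comp g)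
        fun m => (SemiBialgHom.baseChange R K A).isGroupLike (hg m))) := by
    intro K _ _ j
    choose θ hθ using fun m => exists_single_of_field
      (isGroupLike_evalAt (j : P.S →+* K) (P.hom.isGroupLike (hg m)))
    let θ' : M₀ →* P.M :=
      { toFun := θ
        map_one' := single_inj (K := K) (by rw [hθ, map_one, map_one, map_one]; rfl)
        map_mul' := fun a b => single_inj (K := K) (by
          rw [hθ, map_mul, map_mul, map_mul, ← hθ, ← hθ, MonoidAlgebra.single_mul_single, one_mul]) }
    refine ⟨θ', fun m => (hθ m).symm, ?_⟩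
    set GK := homOfGroupLike ((SemiBialgHom.baseChange R K A).toAlgHom.toRingHom.toMonoidHom.comp g)
      fun m => (SemiBialgHom.baseChange R K A).isGroupLike (hg m) with hGK
    have hcomp : ⇑(MonoidAlgebra.mapDomainBialgHom K θ') = ⇑(P.coordAt j) ∘ ⇑GK := by
      funext x
      induction x using MonoidAlgebra.induction_linear with
      | zero => simp
      | add x y hx hy => simp only [map_add, Function.comp_apply] at hx hy ⊢; rw [hx, hy]
      | single m r =>
        rw [Function.comp_apply, hGK, homOfGroupLike_single, map_smul, MonoidAlgebra.mapDomainBialgHom_single]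
        show _ = r • P.coordAt j ((1 : K) ⊗ₜ g m)
        rw [P.coordAt_one_tmul, ← hθ m, MonoidAlgebra.smul_single, smul_eq_mul, mul_one]
        rfl
    refine ⟨fun h => ?_, fun h => bijective_of_mapDomain_bijective (K := K) θ' ?_⟩
    · have h2 := mapDomain_bijective (K := K) θ' h
      rw [hcomp] at h2
      exact (Function.Bijective.of_comp_iff' (P.coordAt_bijective j) _).mp h2
    · rw [hcomp]
      exact (P.coordAt_bijective j).comp h
  have hloc : ∀ (q : Ideal P.S) [q.IsPrime], ∃ θ : M₀ →* P.M, Function.Bijective θ ∧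
      ∀ m, (P.hom.toAlgHom (g m)).coeff (θ m) ∉ q := by
    intro q _
    obtain ⟨q₁, q', hq₁, hq', h₁, hle, hcq⟩ := exists_spread (R := R) q
    obtain ⟨ρ⟩ := exists_residue_algHom q₁ h₁
    obtain ⟨θ₁, hθ₁, hb₁⟩ := hvals q₁.ResidueField (IsScalarTower.toAlgHom R P.S q₁.ResidueField)
    have hbij₁ : Function.Bijective θ₁ := by
      refine hb₁.mpr ?_
      let _ : Algebra k q₁.ResidueField := ρ.toRingHom.toAlgebra
      have : IsScalarTower R k q₁.ResidueField := IsScalarTower.of_algebraMap_eq fun r => (ρ.commutes r).symm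
      let h₀ : SemiBialgHom R k A (MonoidAlgebra k M₀) :=
        (SemiBialgHom.ofBialgHom (e₀ : k ⊗[R] A →ₐc[k] MonoidAlgebra k M₀)).comp (SemiBialgHom.baseChange R k A)
      have hb₀ : Function.Bijective h₀.extend := by
        rw [show ⇑h₀.extend = ⇑e₀ from funext (extend_eq_of_equiv e₀)]
        exact e₀.bijective
      have hE := extend_comp_mapCoeff_bijective (T := q₁.ResidueField) h₀ hb₀
      set E := ((mapCoeff k q₁.ResidueField M₀).comp h₀).extend with hEdef
      set GK := homOfGroupLike
        ((SemiBialgHom.baseChange R q₁.ResidueField A).toAlgHom.toRingHom.toMonoidHom.comp g)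
        fun m => (SemiBialgHom.baseChange R q₁.ResidueField A).isGroupLike (hg m) with hGK
      have hEG : ⇑E ∘ ⇑GK = id := by
        funext x
        induction x using MonoidAlgebra.induction_linear with
        | zero => simp
        | add x y hx hy => simp only [map_add, Function.comp_apply, id_eq] at hx hy ⊢; rw [hx, hy]
        | single m r =>
          rw [Function.comp_apply, hGK, homOfGroupLike_single, map_smul]
          show r • E ((1 : q₁.ResidueField) ⊗ₜ g0 m) = _
          rw [hEdef, SemiBialgHom.extend_tmul, one_smul]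
          show r • (mapCoeff k q₁.ResidueField M₀).toAlgHom (e₀ ((1 : k) ⊗ₜ g0 m)) = _
          rw [eg0]
          show r • (mapCoeff k q₁.ResidueField M₀).toAlgHom (e₀ (e₀.symm _)) = _
          rw [BialgEquiv.apply_symm_apply, mapCoeff_single, map_one, MonoidAlgebra.smul_single, smul_eq_mul,
            mul_one]
          rfl
      exact (Function.Bijective.of_comp_iff' hE _).mp (hEG ▸ Function.bijective_id)
    have hne₁ : ∀ m, (P.hom.toAlgHom (g m)).coeff (θ₁ m) ∉ q' := fun m hmem =>
      (toAlgHom_residueField_ne_zero (R := R) q₁ _).mp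
        ((evalAt_eq_single_iff _ (P.hom.isGroupLike (hg m)) _).mp (hθ₁ m)) (hle hmem)
    obtain ⟨K, _, _, j, j', hj, hj'⟩ := exists_common_field (R := R) q q' hcq.symm
    obtain ⟨θ', hθ', hb'⟩ := hvals K j'
    obtain ⟨θ, hθ, hb⟩ := hvals K j
    have heq : θ' = θ₁ := MonoidHom.ext fun m => by
      refine single_inj (K := K) ((hθ' m).symm.trans
        ((evalAt_eq_single_iff _ (P.hom.isGroupLike (hg m)) _).mpr fun h0 => hne₁ m ?_))
      rw [← hj']
      exact RingHom.mem_ker.mpr h0
    refine ⟨θ, hb.mpr (hb'.mp (heq ▸ hbij₁)), fun m hmem => ?_⟩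
    refine (evalAt_eq_single_iff _ (P.hom.isGroupLike (hg m)) _).mp (hθ m) ?_
    rw [← hj] at hmem
    exact RingHom.mem_ker.mp hmem
  obtain ⟨s, hs⟩ := Group.FG.out (G := M₀)
  choose θ hθb hθ using fun q : PrimeSpectrum P.S => hloc q.asIdeal
  let f : PrimeSpectrum P.S → P.S := fun q => ∏ x ∈ s, (P.hom.toAlgHom (g x)).coeff (θ q x)
  have hf : ∀ q : PrimeSpectrum P.S, f q ∉ q.asIdeal := fun q hmem => by
    obtain ⟨x, -, hx⟩ := q.isPrime.prod_mem_iff.mp hmem
    exact hθ q x hx
  have hspan : Ideal.span (Set.range f) = ⊤ := by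
    by_contra hne
    obtain ⟨m, hm, hle⟩ := Ideal.exists_le_maximal _ hne
    exact hf ⟨m, hm.isPrime⟩ (hle (Ideal.subset_span ⟨_, rfl⟩))
  obtain ⟨t, htr, ht⟩ := Submodule.mem_span_finite_of_mem_span
    (hspan ▸ Submodule.mem_top : (1 : P.S) ∈ Ideal.span (Set.range f))
  choose pt hpt using fun x : ↥t => htr x.2
  let Sf : ↥t → Type u := fun x => Localization.Away (x : P.S)
  let Q : ↥t → Split R A := fun x =>
    have : Module.Flat P.S (Sf x) := IsLocalization.flat (Sf x) (Submonoid.powers (x : P.S))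
    have : Module.Flat R (Sf x) := Module.Flat.trans R P.S (Sf x)
    { S := Sf x
      M := P.M
      hom := P.homOver (Sf x)
      equiv := AlgEquiv.ofBijective (P.homOver (Sf x)).extend (P.extend_homOver_bijective (Sf x))
      equiv_tmul := fun a => ((P.homOver (Sf x)).extend_tmul 1 a).trans (one_smul _ _) }
  let c : Cover R A :=
    { ι := ↥t
      split := Q
      surj := fun p hp => by
        obtain ⟨⟨q, hq⟩, hqp⟩ := PrimeSpectrum.comap_surjective_of_faithfullyFlat (A := R) (B := P.S) ⟨p, hp⟩
        obtain ⟨x, hxt, hxq⟩ : ∃ x ∈ t, x ∉ q := by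
          by_contra hne
          push Not at hne
          exact hq.ne_top (q.eq_top_iff_one.mpr (Submodule.span_le.mpr hne ht))
        have hdis : Disjoint (Submonoid.powers x : Set P.S) (q : Set P.S) := by
          rw [Set.disjoint_left]
          rintro y ⟨n, rfl⟩ hy
          exact hxq (hq.mem_of_pow_mem n hy)
        refine ⟨⟨x, hxt⟩, _, IsLocalization.isPrime_of_isPrime_disjoint _ (Localization.Away x) q hq hdis, ?_⟩
        show Ideal.comap (algebraMap R (Localization.Away x)) _ = p
        rw [IsScalarTower.algebraMap_eq R P.S (Localization.Away x), ← Ideal.comap_comap]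
        have h2 : (q.map (algebraMap P.S (Localization.Away x))).comap (algebraMap P.S (Localization.Away x)) = q :=
          IsLocalization.under_map_of_isPrime_disjoint _ _ hq hdis
        rw [h2]
        exact congrArg PrimeSpectrum.asIdeal hqp }
  have hb := c.bijective_of_bijective g hg fun x => by
    let φ : M₀ →* MonoidAlgebra (Sf x) P.M :=
      (P.homOver (Sf x)).toAlgHom.toRingHom.toMonoidHom.comp g
    have hφ : φ = (MonoidAlgebra.of (Sf x) P.M).comp (θ (pt x)) := by
      refine MonoidHom.eq_of_eqOn_dense hs fun y hy => ?_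
      refine eq_single_of_isUnit ((P.homOver (Sf x)).isGroupLike (hg y)) ?_
      show IsUnit (((mapCoeff P.S (Sf x) P.M).toAlgHom (P.hom.toAlgHom (g y))).coeff (θ (pt x) y))
      rw [coeff_mapCoeff]
      have hu : IsUnit (algebraMap P.S (Sf x) (f (pt x))) := by
        rw [hpt x]
        exact IsLocalization.Away.algebraMap_isUnit (x : P.S)
      exact isUnit_of_dvd_unit (map_dvd _ (Finset.dvd_prod_of_mem
        (fun z => (P.hom.toAlgHom (g z)).coeff (θ (pt x) z)) hy)) hu
    show Function.Bijective (homOfGroupLike φ fun m => (P.homOver (Sf x)).isGroupLike (hg m))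
    have e : ⇑(homOfGroupLike φ fun m => (P.homOver (Sf x)).isGroupLike (hg m)) =
        ⇑(MonoidAlgebra.mapDomainBialgHom (Sf x) (θ (pt x))) := by
      funext y
      induction y using MonoidAlgebra.induction_linear with
      | zero => simp
      | add x y hx hy => simp only [map_add, hx, hy]
      | single m r =>
        rw [homOfGroupLike_single, hφ, MonoidAlgebra.mapDomainBialgHom_single]
        show r • MonoidAlgebra.single (θ (pt x) m) (1 : Sf x) = _
        rw [MonoidAlgebra.smul_single, smul_eq_mul, mul_one]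
    rw [e]
    exact mapDomain_bijective _ (hθb _)
  exact isDiag_of_equiv (BialgEquiv.ofBijective (homOfGroupLike g hg) hb).symm

end Groth.Agent.MultTypeLib
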