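import Groth.Agent.MultTypeLib.Change
import Mathlib.RingTheory.TensorProduct.Quotient
import Mathlib.RingTheory.Bialgebra.GroupLike

/-!
# Lifting group-like elements and diagonalisations along nil extensions
-/

universe u

open WithConv TensorProduct Coalgebra Bialgebra

noncomputable section

namespace Groth.Agent.MultTypeLib

section Hom

variable {S : Type u} [CommRing S] {M : Type u} [CommGroup M]
variable {B : Type u} [CommRing B] [Bialgebra S B]

/-- The morphism out of a group algebra given by group-like elements. -/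
def homOfGroupLike (g : M →* B) (hg : ∀ m, IsGroupLikeElem S (g m)) : MonoidAlgebra S M →ₐc[S] B :=
  BialgHom.ofAlgHom (MonoidAlgebra.lift S B M g)
    (MonoidAlgebra.algHom_ext (fun m => by simp [(hg m).counit_eq_one]) (Subsingleton.elim _ _))
    (MonoidAlgebra.algHom_ext
      (fun m => by simp [(hg m).comul_eq_tmul_self, comul_single_one])
      (Subsingleton.elim _ _))

theorem homOfGroupLike_single (g : M →* B) (hg : ∀ m, IsGroupLikeElem S (g m)) (m : M) (r : S) :
    homOfGroupLike g hg (MonoidAlgebra.single m r) = r • g m :=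
  MonoidAlgebra.lift_single g m r

end Hom

section NilIso

variable {S : Type u} [CommRing S] {T : Type u} [CommRing T] [Algebra S T]
variable {M M' : Type u} [CommGroup M] [CommGroup M']

theorem groupLike_ext_mapCoeff (hker : ∀ s : S, algebraMap S T s = 0 → IsNilpotent s)
    {x y : MonoidAlgebra S M} (hx : IsGroupLikeElem S x) (hy : IsGroupLikeElem S y)
    (h : (mapCoeff S T M).toAlgHom x = (mapCoeff S T M).toAlgHom y) : x = y := by
  refine groupLike_ext_nil hx hy fun m => hker _ ?_
  rw [map_sub, ← coeff_mapCoeff, ← coeff_mapCoeff, h, sub_self]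

theorem mapCoeff_homOfGroupLike (g : M' →* MonoidAlgebra S M) (hg : ∀ m, IsGroupLikeElem S (g m))
    (f : MonoidAlgebra T M' →ₐ[T] MonoidAlgebra T M)
    (hf : ∀ m, f (MonoidAlgebra.single m 1) = (mapCoeff S T M).toAlgHom (g m)) (x : MonoidAlgebra S M') :
    (mapCoeff S T M).toAlgHom (homOfGroupLike g hg x) = f ((mapCoeff S T M').toAlgHom x) := by
  induction x using MonoidAlgebra.induction_linear with
  | zero => simp
  | add x y hx hy => simp only [map_add, hx, hy]
  | single m r =>
    rw [homOfGroupLike_single, map_smul, mapCoeff_single, ← hf, ← algebraMap_smul T r, ← map_smul]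
    simp [MonoidAlgebra.smul_single, Algebra.smul_def]

/-- A morphism of group algebras which is bijective modulo a nil ideal is bijective. -/
theorem bijective_of_nil (hπ : Function.Surjective (algebraMap S T))
    (hker : ∀ s : S, algebraMap S T s = 0 → IsNilpotent s)
    (g : M' →* MonoidAlgebra S M) (hg : ∀ m, IsGroupLikeElem S (g m))
    (f : MonoidAlgebra T M' ≃ₐc[T] MonoidAlgebra T M)
    (hf : ∀ m, f (MonoidAlgebra.single m 1) = (mapCoeff S T M).toAlgHom (g m)) :
    Function.Bijective (homOfGroupLike g hg) := by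
  have hex : ∀ n : M, ∃ y : MonoidAlgebra S M', IsGroupLikeElem S y ∧
      (mapCoeff S T M').toAlgHom y = f.symm (MonoidAlgebra.single n 1) := by
    intro n
    obtain ⟨y, hy, e⟩ := exists_groupLike_lift (algebraMap S T) hπ
      (fun s hs => hker s (RingHom.mem_ker.mp hs))
      ((isGroupLike_single (S := T) n).map (f.symm : MonoidAlgebra T M →ₐc[T] MonoidAlgebra T M'))
    refine ⟨y, hy, ?_⟩
    ext m
    rw [coeff_mapCoeff, e m]
    rfl
  choose ψ hψ heψ using hex
  let ψ' : M →* MonoidAlgebra S M' :=
    { toFun := ψ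
      map_one' := groupLike_ext_mapCoeff hker (hψ 1) .one (by
        rw [heψ, map_one, show MonoidAlgebra.single (1 : M) (1 : T) = 1 from rfl, map_one])
      map_mul' := fun a b => groupLike_ext_mapCoeff hker (hψ _) ((hψ a).mul (hψ b)) (by
        rw [heψ, map_mul, heψ, heψ, ← map_mul, MonoidAlgebra.single_mul_single, one_mul]) }
  have hΦ := fun x => mapCoeff_homOfGroupLike g hg (f : MonoidAlgebra T M' →ₐ[T] MonoidAlgebra T M) hf x
  have hΨ := fun x => mapCoeff_homOfGroupLike ψ' hψ (f.symm : MonoidAlgebra T M →ₐ[T] MonoidAlgebra T M')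
    (fun n => (heψ n).symm) x
  have h1 : (homOfGroupLike g hg : MonoidAlgebra S M' →ₐ[S] MonoidAlgebra S M).comp
      (homOfGroupLike ψ' hψ : MonoidAlgebra S M →ₐ[S] MonoidAlgebra S M') = AlgHom.id S _ := by
    refine MonoidAlgebra.algHom_ext (fun n => ?_) (Subsingleton.elim _ _)
    refine groupLike_ext_mapCoeff hker ?_ (isGroupLike_single n) ?_
    · exact ((isGroupLike_single (S := S) n).map (homOfGroupLike ψ' hψ)).map (homOfGroupLike g hg)
    refine (hΦ _).trans ?_
    refine (congrArg _ (hΨ _)).trans ?_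
    exact f.apply_symm_apply _
  have h2 : (homOfGroupLike ψ' hψ : MonoidAlgebra S M →ₐ[S] MonoidAlgebra S M').comp
      (homOfGroupLike g hg : MonoidAlgebra S M' →ₐ[S] MonoidAlgebra S M) = AlgHom.id S _ := by
    refine MonoidAlgebra.algHom_ext (fun n => ?_) (Subsingleton.elim _ _)
    refine groupLike_ext_mapCoeff hker ?_ (isGroupLike_single n) ?_
    · exact ((isGroupLike_single (S := S) n).map (homOfGroupLike g hg)).map (homOfGroupLike ψ' hψ)
    refine (hΨ _).trans ?_
    refine (congrArg _ (hΦ _)).trans ?_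
    exact f.symm_apply_apply _
  exact Function.bijective_iff_has_inverse.mpr
    ⟨homOfGroupLike ψ' hψ, fun x => AlgHom.congr_fun h2 x, fun x => AlgHom.congr_fun h1 x⟩

end NilIso

section Trans

variable {R : Type u} [CommRing R] {S : Type u} [CommRing S] [Algebra R S] {T : Type u} [CommRing T]
  [Algebra R T] [Algebra S T] [IsScalarTower R S T]
variable {A : Type u} [CommRing A] [Bialgebra R A] {M : Type u} [CommGroup M]

theorem extend_comp_mapCoeff (h : SemiBialgHom R S A (MonoidAlgebra S M)) (z : S ⊗[R] A) :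
    ((mapCoeff S T M).comp h).extend (mA A (IsScalarTower.toAlgHom R S T) z) =
      (mapCoeff S T M).toAlgHom (h.extend z) := by
  induction z using TensorProduct.induction_on with
  | zero => simp
  | add x y hx hy => simp only [map_add, hx, hy]
  | tmul s a =>
    rw [Algebra.TensorProduct.map_tmul, AlgHom.id_apply, SemiBialgHom.extend_tmul, SemiBialgHom.extend_tmul,
      map_smul]
    simp [SemiBialgHom.comp, Algebra.smul_def, IsScalarTower.algebraMap_apply S T (MonoidAlgebra T M)]

theorem extend_comp_mapCoeff_bijective (h : SemiBialgHom R S A (MonoidAlgebra S M))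
    (hb : Function.Bijective h.extend) : Function.Bijective ((mapCoeff S T M).comp h).extend := by
  let e := AlgEquiv.ofBijective h.extend hb
  let ι := IsScalarTower.toAlgHom R S T
  let F := ((mapCoeff S T M).comp h).extend
  let inv : MonoidAlgebra T M →ₐ[T] T ⊗[R] A :=
    MonoidAlgebra.lift T (T ⊗[R] A) M (((mA A ι).toRingHom.toMonoidHom : S ⊗[R] A →* T ⊗[R] A).comp
      ((e.symm.toAlgHom.toRingHom.toMonoidHom : MonoidAlgebra S M →* S ⊗[R] A).comp (MonoidAlgebra.of S M)))
  have h1 : F.comp inv = AlgHom.id T _ := by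
    refine MonoidAlgebra.algHom_ext (fun n => ?_) (Subsingleton.elim _ _)
    show F (inv (MonoidAlgebra.single n 1)) = _
    rw [MonoidAlgebra.lift_single, one_smul]
    show ((mapCoeff S T M).comp h).extend (mA A ι (e.symm (MonoidAlgebra.single n 1))) = _
    rw [extend_comp_mapCoeff]
    show (mapCoeff S T M).toAlgHom (e (e.symm _)) = _
    rw [e.apply_symm_apply, mapCoeff_single, map_one]
    rfl
  have key : ∀ x : MonoidAlgebra S M, inv ((mapCoeff S T M).toAlgHom x) = mA A ι (e.symm x) := by
    intro x
    induction x using MonoidAlgebra.induction_linear with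
    | zero => simp
    | add x y hx hy => simp only [map_add, hx, hy]
    | single n r =>
      rw [mapCoeff_single, MonoidAlgebra.lift_single,
        show MonoidAlgebra.single n r = r • MonoidAlgebra.single n (1 : S) by simp [MonoidAlgebra.smul_single],
        map_smul]
      show algebraMap S T r • mA A ι (e.symm (MonoidAlgebra.single n 1)) =
        mA A ι (r • e.symm (MonoidAlgebra.single n 1))
      generalize e.symm (MonoidAlgebra.single n (1 : S)) = z
      induction z using TensorProduct.induction_on with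
      | zero => simp
      | add x y hx hy => simp only [smul_add, map_add, hx, hy]
      | tmul s a => simp [TensorProduct.smul_tmul', ι, Algebra.smul_def]
  have h2 : inv.comp F = AlgHom.id T _ := by
    refine Algebra.TensorProduct.ext (Subsingleton.elim _ _) (AlgHom.ext fun a => ?_)
    show inv (((mapCoeff S T M).comp h).extend (1 ⊗ₜ a)) = 1 ⊗ₜ a
    rw [SemiBialgHom.extend_tmul, one_smul]
    show inv ((mapCoeff S T M).toAlgHom (h.toAlgHom a)) = _
    rw [key, show h.toAlgHom a = e (1 ⊗ₜ a) from ((h.extend_tmul 1 a).trans (one_smul _ _)).symm,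
      e.symm_apply_apply]
    simp [ι]
  exact Function.bijective_iff_has_inverse.mpr
    ⟨inv, fun z => AlgHom.congr_fun h2 z, fun z => AlgHom.congr_fun h1 z⟩

end Trans

section CoverLift

variable {R : Type u} [CommRing R] {A : Type u} [CommRing A] [HopfAlgebra R A] (c : Cover R A)
variable (I : Ideal R) (hI : ∀ x ∈ I, IsNilpotent x)

/-- The reduction map of an algebra. -/
def red (S : Type u) [CommRing S] [Algebra R S] : S →ₐ[R] S ⧸ I.map (algebraMap R S) :=
  Ideal.Quotient.mkₐ R _

/-- The map from the reduction of the base. -/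
def ofRed (S : Type u) [CommRing S] [Algebra R S] : (R ⧸ I) →ₐ[R] S ⧸ I.map (algebraMap R S) :=
  Ideal.Quotient.liftₐ I (Algebra.ofId R _) fun r hr => by
    rw [Algebra.ofId_apply, IsScalarTower.algebraMap_apply R S (S ⧸ I.map (algebraMap R S))]
    exact Ideal.Quotient.eq_zero_iff_mem.mpr (Ideal.mem_map_of_mem _ hr)

theorem red_ker (hI : ∀ x ∈ I, IsNilpotent x) (S : Type u) [CommRing S] [Algebra R S] (x : S)
    (hx : red I S x = 0) : IsNilpotent x := by
  have h : I.map (algebraMap R S) ≤ nilradical S :=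
    Ideal.map_le_iff_le_comap.mpr fun r hr => mem_nilradical.mpr ((hI r hr).map _)
  exact mem_nilradical.mp (h (Ideal.Quotient.eq_zero_iff_mem.mp hx))

theorem algHom_quot_ext {U : Type u} [CommRing U] [Algebra R U] (f g : (R ⧸ I) →ₐ[R] U) : f = g :=
  AlgHom.ext fun x => by
    obtain ⟨r, rfl⟩ := Ideal.Quotient.mk_surjective x
    exact (f.commutes r).trans (g.commutes r).symm

include hI in
/-- Group-like elements which agree modulo a nil ideal are equal. -/
theorem Cover.groupLike_ext (c : Cover R A) {a b : A} (ha : IsGroupLikeElem R a) (hb : IsGroupLikeElem R b)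
    (h : (1 : R ⧸ I) ⊗ₜ[R] a = (1 : R ⧸ I) ⊗ₜ[R] b) : a = b := by
  refine sub_eq_zero.mp (c.module_ext _ fun i => ?_)
  let S := (c.split i).S
  rw [TensorProduct.tmul_sub, sub_eq_zero]
  refine (c.split i).groupLike_ext_nil S (red I S) (red_ker I hI S)
    ((SemiBialgHom.baseChange R S A).isGroupLike ha) ((SemiBialgHom.baseChange R S A).isGroupLike hb) ?_
  simpa using congrArg (mA A (ofRed I S)) h

include hI in
/-- A group-like element over a splitting ring lifting a given one modulo a nil ideal. -/
theorem Split.exists_lift (P : Split R A) {g : (R ⧸ I) ⊗[R] A} (hg : IsGroupLikeElem (R ⧸ I) g) :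
    ∃ z : P.S ⊗[R] A, IsGroupLikeElem P.S z ∧ mA A (red I P.S) z = mA A (ofRed I P.S) g := by
  obtain ⟨x, hx, ex⟩ := exists_groupLike_lift (algebraMap P.S (P.S ⧸ I.map (algebraMap R P.S)))
    Ideal.Quotient.mk_surjective (fun s hs => red_ker I hI P.S s (RingHom.mem_ker.mp hs))
    ((SemiBialgHom.ofBialgHom (P.homOver (P.S ⧸ I.map (algebraMap R P.S))).extendBialg).isGroupLike
      (isGroupLike_mA (ofRed I P.S) hg))
  refine ⟨P.bialgEquiv.symm x, hx.map (P.bialgEquiv.symm : MonoidAlgebra P.S P.M →ₐc[P.S] P.S ⊗[R] A), ?_⟩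
  apply (P.extend_homOver_bijective (P.S ⧸ I.map (algebraMap R P.S))).1
  refine (P.extend_homOver _ _).trans ?_
  have e : P.equiv (P.bialgEquiv.symm x) = x :=
    (P.extend_eq _).symm.trans (P.bialgEquiv.apply_symm_apply x)
  rw [e]
  ext m
  rw [coeff_mapCoeff, ex m]
  rfl

include hI in
set_option maxHeartbeats 1000000 in
/-- Group-like elements lift along a nil extension. -/
theorem Cover.exists_groupLike_lift (c : Cover R A) {g : (R ⧸ I) ⊗[R] A}
    (hg : IsGroupLikeElem (R ⧸ I) g) : ∃ a : A, IsGroupLikeElem R a ∧ (1 : R ⧸ I) ⊗ₜ[R] a = g := by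
  classical
  let _ := Fintype.ofFinite c.ι
  choose z hz hzg using fun i => (c.split i).exists_lift I hI hg
  have agree : ∀ i j, mA A (Algebra.TensorProduct.includeLeft :
      (c.split i).S →ₐ[R] (c.split i).S ⊗[R] (c.split j).S) (z i) =
      mA A Algebra.TensorProduct.includeRight (z j) := by
    intro i j
    let T := (c.split i).S ⊗[R] (c.split j).S
    let j₁ : (c.split i).S →ₐ[R] T := Algebra.TensorProduct.includeLeft
    let j₂ : (c.split j).S →ₐ[R] T := Algebra.TensorProduct.includeRight
    refine (c.split i).groupLike_ext_nil T (red I T) (red_ker I hI T)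
      (isGroupLike_mA j₁ (hz i)) (isGroupLike_mA j₂ (hz j)) ?_
    have key : ∀ (k : c.ι) (f : (c.split k).S →ₐ[R] T),
        mA A (red I T) (mA A f (z k)) = mA A (ofRed I T) g := by
      intro k f
      have hle : I.map (algebraMap R (c.split k).S) ≤ (I.map (algebraMap R T)).comap f := by
        refine Ideal.map_le_iff_le_comap.mpr fun r hr => ?_
        simp only [Ideal.mem_comap, f.commutes]
        exact Ideal.mem_map_of_mem _ hr
      rw [mA_comp, show (red I T).comp f = (Ideal.quotientMapₐ _ f hle).comp (red I _) from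
        (Ideal.quotient_map_comp_mkₐ _ f hle).symm, ← mA_comp]
      show mA A _ (mA A (red I (c.split k).S) (z k)) = _
      rw [hzg, mA_comp]
      congr 2
      exact algHom_quot_ext I _ _
    exact (key i j₁).trans (key j j₂).symm
  let Φ : A →ₗ[R] (∀ i, (c.split i).S ⊗[R] A) :=
    LinearMap.pi fun i => TensorProduct.mk R (c.split i).S A 1
  obtain ⟨a, ha⟩ : z ∈ LinearMap.range Φ := by
    refine c.mem_of_forall _ _ fun j => ?_
    refine ⟨LinearMap.lTensor _ Φ.rangeRestrict (z j), ?_⟩
    rw [← LinearMap.comp_apply, ← LinearMap.lTensor_comp,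
      show (LinearMap.range Φ).subtype ∘ₗ Φ.rangeRestrict = Φ from LinearMap.ext fun _ => rfl]
    apply (TensorProduct.piRight R R (c.split j).S (fun i => (c.split i).S ⊗[R] A)).injective
    funext i
    apply (TensorProduct.assoc R (c.split j).S (c.split i).S A).symm.injective
    have e1 : ∀ y : (c.split j).S ⊗[R] A, (TensorProduct.assoc R (c.split j).S (c.split i).S A).symm
        (TensorProduct.piRight R R (c.split j).S (fun i => (c.split i).S ⊗[R] A)
          (LinearMap.lTensor _ Φ y) i) = mA A Algebra.TensorProduct.includeLeft y := by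
      intro y
      induction y using TensorProduct.induction_on with
      | zero => simp
      | add x y hx hy => simp only [map_add, Pi.add_apply, hx, hy]
      | tmul s a => simp [Φ]
    have e2 : ∀ y : (c.split i).S ⊗[R] A, (TensorProduct.assoc R (c.split j).S (c.split i).S A).symm
        ((1 : (c.split j).S) ⊗ₜ y) = mA A Algebra.TensorProduct.includeRight y := by
      intro y
      induction y using TensorProduct.induction_on with
      | zero => simp
      | add x y hx hy => simp only [TensorProduct.tmul_add, map_add, hx, hy]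
      | tmul s a => simp
    rw [e1, agree j i, TensorProduct.piRight_apply, TensorProduct.piRightHom_tmul, e2]
  have ha' : ∀ i, (1 : (c.split i).S) ⊗ₜ[R] a = z i := fun i => congrFun ha i
  refine ⟨a, ⟨?_, ?_⟩, ?_⟩
  · refine sub_eq_zero.mp (c.module_ext _ fun i => ?_)
    apply (TensorProduct.rid R (c.split i).S).injective
    rw [map_zero, TensorProduct.rid_tmul, sub_smul, one_smul, sub_eq_zero]
    have h := (hz i).counit_eq_one
    rw [← ha' i, TensorProduct.counit_tmul] at h
    simpa using h
  · refine sub_eq_zero.mp (c.module_ext _ fun i => ?_)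
    apply (AlgebraTensorModule.distribBaseChange R (c.split i).S A A).injective
    rw [map_zero, TensorProduct.tmul_sub, map_sub, sub_eq_zero, AlgebraTensorModule.distribBaseChange_tmul]
    have e : ∀ y : A ⊗[R] A, AlgebraTensorModule.distribBaseChange R (c.split i).S A A (1 ⊗ₜ y) =
        sq (c.split i).S (SemiBialgHom.baseChange R (c.split i).S A).toAlgHom y := by
      intro y
      induction y using TensorProduct.induction_on with
      | zero => simp
      | add x y hx hy => simp only [TensorProduct.tmul_add, map_add, hx, hy]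
      | tmul p q => simp [SemiBialgHom.baseChange]
    rw [e, ← (SemiBialgHom.baseChange R (c.split i).S A).comul_comp]
    show comul ((1 : (c.split i).S) ⊗ₜ[R] a) = _
    rw [ha' i, (hz i).comul_eq_tmul_self, ← ha' i]
  · refine sub_eq_zero.mp (c.module_ext _ fun i => ?_)
    rw [TensorProduct.tmul_sub, sub_eq_zero]
    apply (TensorProduct.assoc R (c.split i).S (R ⧸ I) A).symm.injective
    apply (TensorProduct.congr ((Algebra.TensorProduct.quotIdealMapEquivTensorQuot (c.split i).S I).symm.toLinearEquiv.restrictScalars R)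
      (LinearEquiv.refl R A)).injective
    have e : ∀ y : (R ⧸ I) ⊗[R] A,
        TensorProduct.congr ((Algebra.TensorProduct.quotIdealMapEquivTensorQuot (c.split i).S I).symm.toLinearEquiv.restrictScalars R)
          (LinearEquiv.refl R A) ((TensorProduct.assoc R (c.split i).S (R ⧸ I) A).symm ((1 : (c.split i).S) ⊗ₜ y)) =
        mA A (ofRed I (c.split i).S) y := by
      intro y
      induction y using TensorProduct.induction_on with
      | zero => simp
      | add x y hx hy => simp only [TensorProduct.tmul_add, map_add, hx, hy]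
      | tmul r a =>
        obtain ⟨r, rfl⟩ := Ideal.Quotient.mk_surjective r
        simp [ofRed, Algebra.smul_def]
    rw [e, e, ← hzg i, ← ha' i]
    simp [red]

theorem extend_eq_of_equiv {U : Type u} [CommRing U] [Algebra R U] {M₀ : Type u} [CommGroup M₀]
    (e₀ : U ⊗[R] A ≃ₐc[U] MonoidAlgebra U M₀) (z : U ⊗[R] A) :
    ((SemiBialgHom.ofBialgHom (e₀ : U ⊗[R] A →ₐc[U] MonoidAlgebra U M₀)).comp
      (SemiBialgHom.baseChange R U A)).extend z = e₀ z := by
  induction z using TensorProduct.induction_on with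
  | zero => simp
  | add x y hx hy => simp only [map_add, hx, hy]
  | tmul s a =>
    rw [SemiBialgHom.extend_tmul]
    show s • e₀ ((1 : U) ⊗ₜ a) = _
    rw [← map_smul, TensorProduct.smul_tmul', smul_eq_mul, mul_one]

include hI in
/-- Over a splitting ring, lifted group-like elements give a bijection. -/
theorem Split.bijective_of_lift (P : Split R A) {M₀ : Type u} [CommGroup M₀]
    (e₀ : (R ⧸ I) ⊗[R] A ≃ₐc[R ⧸ I] MonoidAlgebra (R ⧸ I) M₀) (g : M₀ →* A)
    (hg : ∀ m, IsGroupLikeElem R (g m))
    (eg : ∀ m, (1 : R ⧸ I) ⊗ₜ[R] g m = e₀.symm (MonoidAlgebra.single m 1)) :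
    Function.Bijective (homOfGroupLike (P.hom.toAlgHom.toRingHom.toMonoidHom.comp g)
      fun m => P.hom.isGroupLike (hg m)) := by
  let T := P.S ⧸ I.map (algebraMap R P.S)
  let _ : Algebra (R ⧸ I) T := (ofRed I P.S).toRingHom.toAlgebra
  have : IsScalarTower R (R ⧸ I) T := IsScalarTower.of_algebraMap_eq fun r => ((ofRed I P.S).commutes r).symm
  let h₀ : SemiBialgHom R (R ⧸ I) A (MonoidAlgebra (R ⧸ I) M₀) :=
    (SemiBialgHom.ofBialgHom (e₀ : (R ⧸ I) ⊗[R] A →ₐc[R ⧸ I] MonoidAlgebra (R ⧸ I) M₀)).comp
      (SemiBialgHom.baseChange R (R ⧸ I) A)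
  have hb₀ : Function.Bijective h₀.extend := by
    rw [show ⇑h₀.extend = ⇑e₀ from funext (extend_eq_of_equiv e₀)]
    exact e₀.bijective
  have hE := extend_comp_mapCoeff_bijective (T := T) h₀ hb₀
  let E : T ⊗[R] A ≃ₐc[T] MonoidAlgebra T M₀ := ((mapCoeff (R ⧸ I) T M₀).comp h₀).toBialgEquiv hE
  let E' : T ⊗[R] A ≃ₐc[T] MonoidAlgebra T P.M := (P.homOver T).toBialgEquiv (P.extend_homOver_bijective T)
  refine bijective_of_nil (T := T) Ideal.Quotient.mk_surjective (red_ker I hI P.S) _ _
    (E.symm.trans E') fun m => ?_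
  have e1 : E ((1 : T) ⊗ₜ g m) = MonoidAlgebra.single m 1 := by
    show ((mapCoeff (R ⧸ I) T M₀).comp h₀).extend (1 ⊗ₜ g m) = _
    rw [SemiBialgHom.extend_tmul, one_smul]
    show (mapCoeff (R ⧸ I) T M₀).toAlgHom (e₀ ((1 : R ⧸ I) ⊗ₜ g m)) = _
    rw [eg, BialgEquiv.apply_symm_apply, mapCoeff_single, map_one]
  show E' (E.symm (MonoidAlgebra.single m 1)) = _
  rw [← e1, BialgEquiv.symm_apply_apply]
  show (P.homOver T).extend (1 ⊗ₜ g m) = _
  rw [SemiBialgHom.extend_tmul, one_smul]
  rfl

/-- A morphism out of a group algebra which is bijective over a cover is bijective. -/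
theorem Cover.bijective_of_bijective (c : Cover R A) {M₀ : Type u} [CommGroup M₀] (g : M₀ →* A)
    (hg : ∀ m, IsGroupLikeElem R (g m))
    (hΦ : ∀ i, Function.Bijective (homOfGroupLike ((c.split i).hom.toAlgHom.toRingHom.toMonoidHom.comp g)
      fun m => (c.split i).hom.isGroupLike (hg m))) :
    Function.Bijective (homOfGroupLike g hg) := by
  have hcomm : ∀ i x, (c.split i).hom.toAlgHom (homOfGroupLike g hg x) =
      homOfGroupLike ((c.split i).hom.toAlgHom.toRingHom.toMonoidHom.comp g)
        (fun m => (c.split i).hom.isGroupLike (hg m)) ((mapCoeff R (c.split i).S M₀).toAlgHom x) := by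
    intro i x
    induction x using MonoidAlgebra.induction_linear with
    | zero => simp
    | add x y hx hy => simp only [map_add, hx, hy]
    | single m r =>
      rw [homOfGroupLike_single, mapCoeff_single, homOfGroupLike_single, map_smul, algebraMap_smul]
      rfl
  constructor
  · refine (injective_iff_map_eq_zero _).mpr fun x hx => ?_
    ext m
    refine c.module_ext _ fun i => ?_
    have h1 : (mapCoeff R (c.split i).S M₀).toAlgHom x = 0 :=
      (hΦ i).1 (by rw [← hcomm, hx, map_zero, map_zero])
    have h2 : algebraMap R (c.split i).S (x.coeff m) = 0 := by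
      rw [← coeff_mapCoeff, h1]; rfl
    rw [← mul_one (x.coeff m), ← smul_eq_mul, ← TensorProduct.smul_tmul, Algebra.smul_def, h2, zero_mul,
      TensorProduct.zero_tmul]
  · intro a
    let φ : MonoidAlgebra R M₀ →ₗ[R] A := (homOfGroupLike g hg : MonoidAlgebra R M₀ →ₗ[R] A)
    have : a ∈ LinearMap.range φ := by
      refine c.mem_of_forall _ _ fun i => ?_
      obtain ⟨y, hy⟩ := (hΦ i).2 ((c.split i).hom.toAlgHom a)
      have key : ∀ y : MonoidAlgebra (c.split i).S M₀, (c.split i).equiv.symm
          (homOfGroupLike ((c.split i).hom.toAlgHom.toRingHom.toMonoidHom.comp g)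
            (fun m => (c.split i).hom.isGroupLike (hg m)) y) ∈
          LinearMap.range (LinearMap.lTensor (c.split i).S (LinearMap.range φ).subtype) := by
        intro y
        induction y using MonoidAlgebra.induction_linear with
        | zero => simp
        | add x y hx hy => simp only [map_add]; exact Submodule.add_mem _ hx hy
        | single m r =>
          refine ⟨r ⊗ₜ ⟨φ (MonoidAlgebra.single m 1), LinearMap.mem_range_self _ _⟩, ?_⟩
          rw [LinearMap.lTensor_tmul]
          show r ⊗ₜ[R] φ (MonoidAlgebra.single m 1) = _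
          rw [show φ (MonoidAlgebra.single m 1) = g m from (homOfGroupLike_single g hg m 1).trans (one_smul _ _),
            homOfGroupLike_single, map_smul,
            show ((c.split i).hom.toAlgHom.toRingHom.toMonoidHom.comp g) m =
              (c.split i).equiv (1 ⊗ₜ g m) from ((c.split i).equiv_tmul (g m)).symm,
            AlgEquiv.symm_apply_apply, TensorProduct.smul_tmul', smul_eq_mul, mul_one]
      have hk := key y
      rwa [hy, ← (c.split i).equiv_tmul, AlgEquiv.symm_apply_apply] at hk
    exact this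

/-- An equivalence with a group algebra gives diagonalisability. -/
theorem isDiag_of_equiv {R : Type u} [CommRing R] {A : Type u} [CommRing A] [HopfAlgebra R A] {M : Type u}
    [CommGroup M] (e : A ≃ₐc[R] MonoidAlgebra R M) : SGA3b.IsDiag R A := ⟨M, inferInstance, ⟨e⟩⟩

include hI in
/-- Diagonalisable modulo a nil ideal implies diagonalisable. -/
theorem isDiag_of_nil (h : SGA3b.IsMultType R A) (h0 : SGA3b.IsDiag (R ⧸ I) ((R ⧸ I) ⊗[R] A)) :
    SGA3b.IsDiag R A := by
  obtain ⟨c⟩ := exists_cover h
  obtain ⟨M₀, _, ⟨e₀⟩⟩ := h0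
  have hg₀ : ∀ m, IsGroupLikeElem (R ⧸ I) (e₀.symm (MonoidAlgebra.single m 1)) := fun m =>
    (isGroupLike_single m).map (e₀.symm : MonoidAlgebra (R ⧸ I) M₀ →ₐc[R ⧸ I] (R ⧸ I) ⊗[R] A)
  choose g hg eg using fun m => c.exists_groupLike_lift I hI (hg₀ m)
  have e1 : (1 : R ⧸ I) ⊗ₜ[R] g 1 = (1 : R ⧸ I) ⊗ₜ[R] (1 : A) :=
    (eg 1).trans (map_one (e₀.symm : MonoidAlgebra (R ⧸ I) M₀ →ₐc[R ⧸ I] (R ⧸ I) ⊗[R] A))
  have h1 : g 1 = 1 := c.groupLike_ext I hI (hg 1) .one e1
  have e2 : ∀ a b, (1 : R ⧸ I) ⊗ₜ[R] g (a * b) = (1 : R ⧸ I) ⊗ₜ[R] (g a * g b) := fun a b => by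
    have h2 := map_mul (e₀.symm : MonoidAlgebra (R ⧸ I) M₀ →ₐc[R ⧸ I] (R ⧸ I) ⊗[R] A)
      (MonoidAlgebra.single a 1) (MonoidAlgebra.single b 1)
    rw [MonoidAlgebra.single_mul_single, one_mul] at h2
    calc (1 : R ⧸ I) ⊗ₜ[R] g (a * b) = e₀.symm (MonoidAlgebra.single (a * b) 1) := eg _
      _ = e₀.symm (MonoidAlgebra.single a 1) * e₀.symm (MonoidAlgebra.single b 1) := h2
      _ = ((1 : R ⧸ I) ⊗ₜ[R] g a) * ((1 : R ⧸ I) ⊗ₜ[R] g b) := by rw [eg, eg]
      _ = _ := by rw [Algebra.TensorProduct.tmul_mul_tmul, one_mul]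
  have hmul : ∀ a b, g (a * b) = g a * g b := fun a b =>
    c.groupLike_ext I hI (hg _) ((hg a).mul (hg b)) (e2 a b)
  let g' : M₀ →* A := { toFun := g, map_one' := h1, map_mul' := hmul }
  have hb := c.bijective_of_bijective g' hg fun i => (c.split i).bijective_of_lift I hI e₀ g' hg eg
  let φ : MonoidAlgebra R M₀ →ₐc[R] A := homOfGroupLike g' hg
  have hbφ : Function.Bijective φ := hb
  let e : MonoidAlgebra R M₀ ≃ₐc[R] A := BialgEquiv.ofBijective φ hbφ
  exact isDiag_of_equiv e.symm

end CoverLift

end Groth.Agent.MultTypeLib
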