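import Groth.Agent.MultTypeLib.SmoothComplete
import Groth.Agent.MultTypeLib.Decomp
import Groth.Agent.MultTypeLib.Lift
import Groth.Agent.DirColim.Descend
import Mathlib.RingTheory.Finiteness.Finsupp
import Mathlib.RingTheory.HopfAlgebra.GroupLike

/-!
# Diagonalisability spreads from a colimit to a stage
-/

universe u

open TensorProduct Coalgebra Bialgebra

noncomputable section

namespace Groth.Agent.MultTypeLib

open DirColim (IsColim Trans)

variable {R : Type u} [CommRing R] {A : Type u} [CommRing A] [HopfAlgebra R A]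
variable {G : Type u} [CommRing G] [Algebra R G] {G' : Type u} [CommRing G'] [Algebra R G']

theorem comul_eq_distrib (x : G ⊗[R] A) :
    comul (R := G) x = AlgebraTensorModule.distribBaseChange R G A A (LinearMap.lTensor G (comul (R := R)) x) := by
  induction x using TensorProduct.induction_on with
  | zero => simp
  | add a b ha hb => simp only [map_add, ha, hb]
  | tmul s a =>
    rw [show (s ⊗ₜ[R] a : G ⊗[R] A) = s • (SemiBialgHom.baseChange R G A).toAlgHom a by
      simp [SemiBialgHom.baseChange, TensorProduct.smul_tmul'], map_smul, (SemiBialgHom.baseChange R G A).comul_comp,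
      sq_baseChange_eq, ← map_smul, ← LinearMap.lTensor_tmul]
    simp [SemiBialgHom.baseChange, TensorProduct.smul_tmul']

theorem counit_mA_colim (p : G →ₐ[R] G') (x : G ⊗[R] A) : counit (R := G') (mA A p x) = p (counit (R := G) x) := by
  induction x using TensorProduct.induction_on with
  | zero => simp
  | add a b ha hb => simp only [map_add, ha, hb]
  | tmul s a => simp [Algebra.smul_def]

/-- The defect of being group-like. -/
def glDef (x : G ⊗[R] A) : G ⊗[R] (A ⊗[R] A) :=
  LinearMap.lTensor G (comul (R := R)) x - (AlgebraTensorModule.distribBaseChange R G A A).symm (x ⊗ₜ[G] x)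

theorem isGroupLike_iff_glDef (x : G ⊗[R] A) :
    IsGroupLikeElem G x ↔ glDef x = 0 ∧ counit (R := G) x - 1 = 0 := by
  rw [isGroupLikeElem_iff, sub_eq_zero, comul_eq_distrib, ← LinearEquiv.eq_symm_apply, glDef, sub_eq_zero]
  exact ⟨fun h => ⟨h.2, h.1⟩, fun h => ⟨h.2, h.1⟩⟩

theorem glDef_mA (p : G →ₐ[R] G') (x : G ⊗[R] A) :
    glDef (mA A p x) = LinearMap.rTensor (A ⊗[R] A) p.toLinearMap (glDef x) := by
  rw [glDef, glDef, map_sub, mA_eq_rTensor, ← LinearMap.comp_apply (f := LinearMap.rTensor _ _),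
    LinearMap.rTensor_comp_lTensor, ← LinearMap.lTensor_comp_rTensor, LinearMap.comp_apply]
  congr 1
  rw [LinearEquiv.symm_apply_eq, distrib_map_tmul, mA_eq_rTensor]

variable {ι : Type u} {Gs : ι → Type u} [∀ i, CommRing (Gs i)] [∀ i, Algebra R (Gs i)]
  {R' : Type u} [CommRing R'] [Algebra R R'] {g : ∀ i, Gs i →ₐ[R] R'}

theorem isColim_monoidAlgebra (hG : IsColim g) (M : Type u) [CommGroup M] :
    IsColim (R := R) (G := fun i => MonoidAlgebra (Gs i) M) (A := MonoidAlgebra R' M)
      (fun i => evalAlg (M := M) (g i)) := by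
  classical
  have hcomp : ∀ {i j : ι} (φ : Trans g i j),
      (evalAlg (M := M) (g j)).comp (evalAlg φ.1) = evalAlg (g i) := fun φ => AlgHom.ext fun x => by
    rw [AlgHom.comp_apply, evalAlg_apply, evalAlg_apply, evalAlg_apply, evalAt_evalAt]
    exact congrArg (fun f : Gs _ →+* R' => evalAt f x) (RingHom.ext fun y => φ.apply y)
  refine ⟨fun z => ?_, fun i j => ?_, fun i x hx => ?_⟩
  · induction z using MonoidAlgebra.induction_linear with
    | zero => obtain ⟨i, _⟩ := hG.surj 0; exact ⟨i, 0, map_zero _⟩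
    | add a b ha hb =>
      obtain ⟨i, x, rfl⟩ := ha
      obtain ⟨j, y, rfl⟩ := hb
      obtain ⟨k, ⟨φ⟩, ⟨ψ⟩⟩ := hG.directed i j
      exact ⟨k, evalAlg φ.1 x + evalAlg ψ.1 y, by
        rw [map_add, ← AlgHom.comp_apply, ← AlgHom.comp_apply, hcomp, hcomp]⟩
    | single m r =>
      obtain ⟨i, x, rfl⟩ := hG.surj r
      exact ⟨i, MonoidAlgebra.single m x, by rw [evalAlg_apply, evalAt_single]; rfl⟩
  · obtain ⟨k, ⟨φ⟩, ⟨ψ⟩⟩ := hG.directed i j
    exact ⟨k, ⟨⟨evalAlg φ.1, hcomp φ⟩⟩, ⟨⟨evalAlg ψ.1, hcomp ψ⟩⟩⟩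
  · obtain ⟨j, φ, hφ⟩ := hG.ker_finset x.coeff.support i (fun m => x.coeff m) fun m _ => by
      have h := congrArg (fun z : MonoidAlgebra R' M => z.coeff m) hx
      rw [evalAlg_apply] at h
      simpa [coeff_evalAt] using h
    refine ⟨j, ⟨evalAlg φ.1, hcomp φ⟩, ?_⟩
    ext m
    rw [evalAlg_apply, coeff_evalAt]
    by_cases h : m ∈ x.coeff.support
    · simpa using hφ m h
    · simp [Finsupp.notMem_support_iff.mp h]

theorem isDiag_of_subsingleton (G : Type u) [CommRing G] [Subsingleton G] (X : Type u) [CommRing X]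
    [HopfAlgebra G X] : SGA3b.IsDiag G X := by
  have : Subsingleton X := Module.subsingleton G X
  let f := homOfGroupLike (S := G) (1 : PUnit.{u+1} →* X) fun _ => .one
  exact isDiag_of_equiv (BialgEquiv.ofBijective f
    ⟨fun a b _ => @Subsingleton.elim _ (Module.subsingleton G _) a b, fun y => ⟨0, Subsingleton.elim _ _⟩⟩).symm

set_option maxHeartbeats 4000000 in
/-- A group diagonalisable over a colimit is diagonalisable over a stage. -/
theorem exists_diag_stage [Algebra.FinitePresentation R A] (hG : IsColim g)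
    (hd : SGA3b.IsDiag R' (R' ⊗[R] A)) : ∃ i, SGA3b.IsDiag (Gs i) (Gs i ⊗[R] A) := by
  classical
  obtain ⟨i₀, -⟩ := hG.surj 0
  cases subsingleton_or_nontrivial R' with
  | inl h =>
    obtain ⟨j, φ, hj⟩ := hG.ker i₀ 1 (Subsingleton.elim _ _)
    rw [map_one] at hj
    have : Subsingleton (Gs j) := subsingleton_of_zero_eq_one hj.symm
    exact ⟨j, isDiag_of_subsingleton _ _⟩
  | inr h =>
  obtain ⟨M, _, ⟨e⟩⟩ := hd
  have hM : Algebra.FiniteType R' (MonoidAlgebra R' M) :=
    Algebra.FiniteType.equiv inferInstance (e : R' ⊗[R] A ≃ₐ[R'] MonoidAlgebra R' M)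
  have : Group.FG M := (MonoidAlgebra.finiteType_iff_group_fg (R := R')).mp hM
  let Md := Additive M
  have : AddGroup.FG Md := inferInstance
  have : Module.Finite ℤ Md := Module.Finite.iff_addGroup_fg.mpr inferInstance
  obtain ⟨n, π, hπ⟩ := Module.Finite.exists_fin' ℤ Md
  obtain ⟨K, hK⟩ : (LinearMap.ker π).FG := IsNoetherian.noetherian _
  let z : Fin n → R' ⊗[R] A := fun k => e.symm (MonoidAlgebra.single (Additive.toMul (π (Pi.single k 1))) 1)
  have hz : ∀ k, IsGroupLikeElem R' (z k) := fun k =>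
    (isGroupLike_single _).map (e.symm : MonoidAlgebra R' M →ₐc[R'] R' ⊗[R] A)
  have hGA : IsColim (R := R) (G := fun i => Gs i ⊗[R] A) (A := R' ⊗[R] A) (fun i => mA A (g i)) :=
    hG.tensorRight A
  -- group-like lifts
  obtain ⟨i₁, x, hx⟩ := hGA.surj_fintype z
  have hcomm : ∀ {i j : ι} (φ : Trans g i j) (w : Gs i ⊗[R] A), mA A (g j) (mA A φ.1 w) = mA A (g i) w :=
    fun φ w => DirColim.map_push φ A w
  obtain ⟨i₂, φ₁₂, hgl⟩ : ∃ i₂, ∃ φ : Trans g i₁ i₂, ∀ k, IsGroupLikeElem (Gs i₂) (mA A φ.1 (x k)) := by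
    have h1 : ∀ k, LinearMap.rTensor (A ⊗[R] A) (g i₁).toLinearMap (glDef (x k)) = 0 ∧
        g i₁ (counit (R := Gs i₁) (x k) - 1) = 0 := fun k => by
      have h := (isGroupLike_iff_glDef (z k)).mp (hz k)
      rwa [← hx k, glDef_mA, counit_mA_colim, ← map_one (g i₁), ← map_sub] at h
    obtain ⟨j, φ, hφ⟩ := DirColim.exists_push_eq_zero_finset hG (A ⊗[R] A) Finset.univ
      (fun k => glDef (x k)) fun k _ => by rw [← DirColim.rTensor_eq]; exact (h1 k).1
    obtain ⟨l, ψ, hψ⟩ := hG.ker_finset Finset.univ j (fun k => φ.1 (counit (R := Gs i₁) (x k) - 1))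
      fun k _ => by rw [φ.apply]; exact (h1 k).2
    refine ⟨l, ψ.comp φ, fun k => (isGroupLike_iff_glDef _).mpr ⟨?_, ?_⟩⟩
    · rw [glDef_mA, DirColim.rTensor_eq]
      exact (DirColim.push_comp ψ φ (A ⊗[R] A) _).trans
        ((congrArg _ (hφ k (Finset.mem_univ k))).trans (map_zero _))
    · rw [counit_mA_colim, ← map_one (ψ.comp φ).1, ← map_sub]
      exact hψ k (Finset.mem_univ k)
  let θ : ∀ {j : ι}, Trans g i₂ j → (Fin n → ℤ) →ₗ[ℤ] Additive (GroupLike (Gs j) (Gs j ⊗[R] A)) := fun {j} ψ =>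
    (Pi.basisFun ℤ (Fin n)).constr ℤ fun k =>
      Additive.ofMul (⟨mA A ψ.1 (mA A φ₁₂.1 (x k)), isGroupLike_mA ψ.1 (hgl k)⟩ : GroupLike (Gs j) (Gs j ⊗[R] A))
  let gl' : (Fin n → ℤ) →ₗ[ℤ] Additive (GroupLike R' (R' ⊗[R] A)) := (Pi.basisFun ℤ (Fin n)).constr ℤ fun k =>
      Additive.ofMul (⟨z k, hz k⟩ : GroupLike R' (R' ⊗[R] A))
  let toG : ∀ {S S' : Type u} [CommRing S] [Algebra R S] [CommRing S'] [Algebra R S'] (f : S →ₐ[R] S'),
      GroupLike S (S ⊗[R] A) →* GroupLike S' (S' ⊗[R] A) := fun f =>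
    { toFun := fun a => ⟨mA A f a.val, isGroupLike_mA f a.2⟩
      map_one' := GroupLike.val_injective (map_one (mA A f))
      map_mul' := fun a b => GroupLike.val_injective (map_mul (mA A f) a.val b.val) }
  have hθg : ∀ {j : ι} (ψ : Trans g i₂ j) (v : Fin n → ℤ),
      mA A (g j) (Additive.toMul (θ ψ v)).val = (Additive.toMul (gl' v)).val := by
    intro j ψ v
    have : ((MonoidHom.toAdditive (toG (g j))).toIntLinearMap).comp (θ ψ) = gl' :=
      (Pi.basisFun ℤ (Fin n)).ext fun k => by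
        simp only [LinearMap.comp_apply, θ, gl', Module.Basis.constr_basis]
        refine congrArg Additive.ofMul (GroupLike.val_injective ?_)
        show mA A (g j) (mA A ψ.1 (mA A φ₁₂.1 (x k))) = z k
        rw [hcomm, hcomm, hx]
    exact congrArg (fun l : (Fin n → ℤ) →ₗ[ℤ] Additive (GroupLike R' (R' ⊗[R] A)) => (Additive.toMul (l v)).val) this
  let eh : M →* GroupLike R' (R' ⊗[R] A) :=
    { toFun := fun m => ⟨e.symm (MonoidAlgebra.single m 1),
        (isGroupLike_single m).map (e.symm : MonoidAlgebra R' M →ₐc[R'] R' ⊗[R] A)⟩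
      map_one' := GroupLike.val_injective (by
        show e.symm (MonoidAlgebra.single 1 1) = 1
        rw [← MonoidAlgebra.one_def, map_one])
      map_mul' := fun a b => GroupLike.val_injective (by
        show e.symm (MonoidAlgebra.single (a * b) 1) = e.symm (MonoidAlgebra.single a 1) * e.symm (MonoidAlgebra.single b 1)
        rw [← map_mul, MonoidAlgebra.single_mul_single, one_mul]) }
  have hgl' : gl' = (MonoidHom.toAdditive eh).toIntLinearMap.comp π := (Pi.basisFun ℤ (Fin n)).ext fun k => by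
    simp only [gl', Module.Basis.constr_basis]
    rw [LinearMap.comp_apply, Pi.basisFun_apply]
    rfl
  -- killing the relations
  obtain ⟨i₃, φ₂₃, hrel⟩ : ∃ i₃, ∃ ψ : Trans g i₂ i₃, ∀ v ∈ K, θ ψ v = 0 := by
    obtain ⟨j, φ, hφ⟩ := hGA.ker_finset K i₂
      (fun v => (Additive.toMul (θ ⟨AlgHom.id R (Gs i₂), AlgHom.comp_id _⟩ v)).val - 1) fun v hv => by
      rw [map_sub, map_one, hθg, hgl', LinearMap.comp_apply,
        LinearMap.mem_ker.mp (hK ▸ Submodule.subset_span hv : v ∈ LinearMap.ker π), map_zero]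
      exact sub_self _
    -- move along a transition of the base
    obtain ⟨l, ψ, hl⟩ := DirColim.exists_push_eq_zero_finset hG A K
      (fun v => (Additive.toMul (θ ⟨AlgHom.id R (Gs i₂), AlgHom.comp_id _⟩ v)).val - 1) fun v hv => by
        show mA A (g i₂) _ = 0
        rw [← (show mA A (g j) (φ.1 _) = mA A (g i₂) _ from φ.apply _), hφ v hv, map_zero]
    refine ⟨l, ψ, fun v hv => ?_⟩
    have hnat : ((MonoidHom.toAdditive (toG ψ.1)).toIntLinearMap).comp
        (θ ⟨AlgHom.id R (Gs i₂), AlgHom.comp_id _⟩) = θ ψ := (Pi.basisFun ℤ (Fin n)).ext fun k => by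
      simp only [LinearMap.comp_apply, θ, Module.Basis.constr_basis]
      refine congrArg Additive.ofMul (GroupLike.val_injective ?_)
      show mA A ψ.1 (mA A (AlgHom.id R (Gs i₂)) (mA A φ₁₂.1 (x k))) = _
      rw [show mA A (AlgHom.id R (Gs i₂)) = AlgHom.id R _ from Algebra.TensorProduct.map_id]
      rfl
    rw [← hnat]
    refine congrArg Additive.ofMul (GroupLike.val_injective (?_ : mA A ψ.1 _ = 1))
    have := hl v hv
    rwa [map_sub, map_one, sub_eq_zero] at this
  let θ₃ : Md →ₗ[ℤ] Additive (GroupLike (Gs i₃) (Gs i₃ ⊗[R] A)) :=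
    ((LinearMap.ker π).liftQ (θ φ₂₃) (by
      rw [← hK, Submodule.span_le]
      exact fun v hv => LinearMap.mem_ker.mpr (hrel v hv))).comp
      (LinearMap.quotKerEquivOfSurjective π hπ).symm.toLinearMap
  have hθ₃ : ∀ v, θ₃ (π v) = θ φ₂₃ v := fun v => by
    simp only [θ₃, LinearMap.comp_apply, LinearEquiv.coe_coe]
    rw [show (LinearMap.quotKerEquivOfSurjective π hπ).symm (π v) = Submodule.Quotient.mk v from
      (LinearEquiv.symm_apply_eq _).mpr rfl, Submodule.liftQ_apply]
  let gm₀ : M →* GroupLike (Gs i₃) (Gs i₃ ⊗[R] A) := MonoidHom.toAdditive.symm θ₃.toAddMonoidHom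
  have hgm₀ : ∀ m, mA A (g i₃) (gm₀ m).val = e.symm (MonoidAlgebra.single m 1) := fun m => by
    obtain ⟨v, hv⟩ := hπ (Additive.ofMul m)
    show mA A (g i₃) (Additive.toMul (θ₃ (Additive.ofMul m))).val = _
    rw [← hv, hθ₃, hθg, hgl', LinearMap.comp_apply, hv]
    rfl
  let hom : ∀ {j : ι}, Trans g i₃ j → MonoidAlgebra (Gs j) M →ₐc[Gs j] Gs j ⊗[R] A := fun {j} ψ =>
    homOfGroupLike
      { toFun := fun m => mA A ψ.1 (gm₀ m).val
        map_one' := by rw [map_one]; exact map_one _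
        map_mul' := fun a b => by rw [map_mul]; exact map_mul _ _ _ }
      fun m => isGroupLike_mA ψ.1 (gm₀ m).2
  have hhom : ∀ {j : ι} (ψ : Trans g i₃ j) (y : MonoidAlgebra (Gs j) M),
      e (mA A (g j) (hom ψ y)) = evalAlg (g j) y := by
    intro j ψ y
    induction y using MonoidAlgebra.induction_linear with
    | zero => simp
    | add a b ha hb => simp only [map_add, ha, hb]
    | single m r =>
      show e (mA A (g j) (homOfGroupLike _ _ (MonoidAlgebra.single m r))) = _
      rw [homOfGroupLike_single, evalAlg_apply, evalAt_single]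
      have h1 : mA A (g j) (r • mA A ψ.1 (gm₀ m).val) = g j r • mA A (g j) (mA A ψ.1 (gm₀ m).val) := by
        rw [Algebra.smul_def, map_mul, Algebra.smul_def]
        congr 1
      simp only [MonoidHom.coe_mk, OneHom.coe_mk]
      rw [h1, hcomm, hgm₀, map_smul, BialgEquiv.apply_symm_apply]
      simp
  -- the inverse
  obtain ⟨i₄, χ, hχ⟩ := (isColim_monoidAlgebra hG M).exists_lift
    (((e : R' ⊗[R] A ≃ₐ[R'] MonoidAlgebra R' M).toAlgHom.restrictScalars R).comp
      (Algebra.TensorProduct.includeRight : A →ₐ[R] R' ⊗[R] A))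
  obtain ⟨i₅, ⟨φ₃₅⟩, ⟨φ₄₅⟩⟩ := hG.directed i₃ i₄
  let χ' : ∀ {j : ι}, Trans g i₄ j → Gs j ⊗[R] A →ₐ[Gs j] MonoidAlgebra (Gs j) M := fun {j} ψ =>
    Algebra.TensorProduct.lift (Algebra.ofId (Gs j) (MonoidAlgebra (Gs j) M))
      ((evalAlg ψ.1).comp χ) fun _ _ => .all _ _
  have hχ' : ∀ {j : ι} (ψ : Trans g i₄ j) (w : Gs j ⊗[R] A),
      evalAlg (g j) (χ' ψ w) = e (mA A (g j) w) := by
    intro j ψ w
    induction w using TensorProduct.induction_on with
    | zero => simp
    | add a b ha hb => simp only [map_add, ha, hb]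
    | tmul s a =>
      have h1 : evalAlg (g j) ((evalAlg ψ.1) (χ a)) = e ((1 : R') ⊗ₜ[R] a) := by
        rw [evalAlg_apply, evalAlg_apply, evalAt_evalAt]
        refine Eq.trans ?_ (AlgHom.congr_fun hχ a)
        rw [AlgHom.comp_apply, evalAlg_apply]
        exact congrArg (fun f : Gs i₄ →+* R' => evalAt f (χ a)) (RingHom.ext fun y => ψ.apply y)
      show evalAlg (g j) (algebraMap (Gs j) (MonoidAlgebra (Gs j) M) s * (evalAlg ψ.1) (χ a)) = _
      rw [map_mul, h1, Algebra.TensorProduct.map_tmul, AlgHom.id_apply,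
        show (g j s ⊗ₜ[R] a : R' ⊗[R] A) = g j s • ((1 : R') ⊗ₜ[R] a) by
          rw [TensorProduct.smul_tmul', smul_eq_mul, mul_one],
        map_smul, Algebra.smul_def]
      congr 1
      simp [evalAlg_apply, MonoidAlgebra.coe_algebraMap, evalAt_single]
  -- generators
  obtain ⟨sA, hsA⟩ := Algebra.FiniteType.out (R := R) (A := A)
  obtain ⟨sM, hsM⟩ : ∃ s : Finset M, Submonoid.closure (s : Set M) = ⊤ :=
    (Monoid.fg_def.mp (Group.fg_iff_monoid_fg.mp inferInstance))
  obtain ⟨i₆, ψ₆, h₆⟩ := DirColim.exists_push_eq_zero_finset hG A sA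
    (fun a => hom φ₃₅ (χ' φ₄₅ ((1 : Gs i₅) ⊗ₜ a)) - (1 : Gs i₅) ⊗ₜ a) fun a _ => by
      show mA A (g i₅) _ = 0
      rw [map_sub, sub_eq_zero]
      refine (e : R' ⊗[R] A ≃ₐ[R'] MonoidAlgebra R' M).injective (?_ : e _ = e _)
      rw [hhom, hχ']
  obtain ⟨i₇, ψ₇, h₇⟩ := (isColim_monoidAlgebra hG M).ker_finset sM i₆
    (fun m => χ' (ψ₆.comp φ₄₅) (hom (ψ₆.comp φ₃₅) (MonoidAlgebra.single m 1)) - MonoidAlgebra.single m 1)
    fun m _ => by rw [map_sub, hχ', hhom, sub_self]
  -- the transition of the base underneath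
  obtain ⟨i₈, ψ₈, h₈⟩ : ∃ j, ∃ φ : Trans g i₆ j, ∀ m ∈ sM,
      evalAlg φ.1 (χ' (ψ₆.comp φ₄₅) (hom (ψ₆.comp φ₃₅) (MonoidAlgebra.single m 1)) - MonoidAlgebra.single m 1) = 0 := by
    let d := fun m : M => χ' (ψ₆.comp φ₄₅) (hom (ψ₆.comp φ₃₅) (MonoidAlgebra.single m 1)) - MonoidAlgebra.single m 1
    obtain ⟨j, φ, hj⟩ := hG.ker_finset (sM.biUnion fun m => ((d m).coeff.support.image fun p => (m, p))) i₆
      (fun mp => (d mp.1).coeff mp.2) fun mp hmp => by
      obtain ⟨m, hm, hmp⟩ := Finset.mem_biUnion.mp hmp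
      obtain ⟨p, -, rfl⟩ := Finset.mem_image.mp hmp
      have h := congrArg (fun z : MonoidAlgebra R' M => z.coeff p) (show evalAlg (g i₆) (d m) = 0 by
        simp only [d]; rw [map_sub, hχ', hhom, sub_self])
      rw [evalAlg_apply] at h
      simpa [coeff_evalAt] using h
    refine ⟨j, φ, fun m hm => ?_⟩
    ext p
    rw [evalAlg_apply, coeff_evalAt]
    by_cases h : p ∈ (d m).coeff.support
    · exact (hj (m, p) (Finset.mem_biUnion.mpr ⟨m, hm, Finset.mem_image_of_mem _ h⟩)).trans (by simp)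
    · show φ.1 ((d m).coeff p) = _
      rw [Finsupp.notMem_support_iff.mp h, map_zero]
      simp
  let Φ := hom ((ψ₈.comp ψ₆).comp φ₃₅)
  let X := χ' ((ψ₈.comp ψ₆).comp φ₄₅)
  -- naturality
  have natH : ∀ {j l : ι} (ψ : Trans g i₃ j) (τ : Trans g j l) (y : MonoidAlgebra (Gs j) M),
      mA A τ.1 (hom ψ y) = hom (τ.comp ψ) (evalAlg τ.1 y) := by
    intro j l ψ τ y
    induction y using MonoidAlgebra.induction_linear with
    | zero => simp
    | add a b ha hb => simp only [map_add, ha, hb]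
    | single m r =>
      show mA A τ.1 (homOfGroupLike _ _ (MonoidAlgebra.single m r)) = homOfGroupLike _ _ _
      rw [evalAlg_apply, evalAt_single, homOfGroupLike_single, homOfGroupLike_single, Algebra.smul_def, map_mul,
        Algebra.smul_def]
      congr 1
      exact (DirColim.push_comp τ ψ A _).symm
  have natX : ∀ {j l : ι} (ψ : Trans g i₄ j) (τ : Trans g j l) (w : Gs j ⊗[R] A),
      evalAlg τ.1 (χ' ψ w) = χ' (τ.comp ψ) (mA A τ.1 w) := by
    intro j l ψ τ w
    induction w using TensorProduct.induction_on with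
    | zero => simp
    | add a b ha hb => simp only [map_add, ha, hb]
    | tmul s a =>
      show evalAlg τ.1 (algebraMap (Gs j) (MonoidAlgebra (Gs j) M) s * (evalAlg ψ.1) (χ a)) =
        algebraMap (Gs l) (MonoidAlgebra (Gs l) M) (τ.1 s) * (evalAlg (τ.comp ψ).1) (χ a)
      rw [map_mul]
      congr 1
      · simp [evalAlg_apply, MonoidAlgebra.coe_algebraMap, evalAt_single]
      · rw [evalAlg_apply, evalAlg_apply, evalAlg_apply, evalAt_evalAt]; rfl
  have hΦX : ∀ w, Φ (X w) = w := by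
    intro w
    induction w using TensorProduct.induction_on with
    | zero => simp
    | add a b ha hb => simp only [map_add, ha, hb]
    | tmul s a =>
      have : (((Φ : MonoidAlgebra (Gs i₈) M →ₐ[Gs i₈] Gs i₈ ⊗[R] A).comp X).restrictScalars R).comp
          (Algebra.TensorProduct.includeRight : A →ₐ[R] Gs i₈ ⊗[R] A) = Algebra.TensorProduct.includeRight := by
        refine AlgHom.ext_of_adjoin_eq_top hsA fun c hc => ?_
        show Φ (X ((1 : Gs i₈) ⊗ₜ[R] c)) = (1 : Gs i₈) ⊗ₜ[R] c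
        have h := congrArg (mA A ψ₈.1) (h₆ c hc)
        rw [map_zero] at h
        change mA A ψ₈.1 (mA A ψ₆.1 _) = 0 at h
        rw [← DirColim.push_comp ψ₈ ψ₆ A] at h
        change mA A (ψ₈.comp ψ₆).1 _ = 0 at h
        rw [map_sub, sub_eq_zero, natH, natX, Algebra.TensorProduct.map_tmul, map_one, AlgHom.id_apply] at h
        exact h
      rw [show (s ⊗ₜ[R] a : Gs i₈ ⊗[R] A) = s • ((1 : Gs i₈) ⊗ₜ[R] a) by
        rw [TensorProduct.smul_tmul', smul_eq_mul, mul_one], map_smul, map_smul]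
      exact congrArg (s • ·) (AlgHom.congr_fun this a)
  have hXΦ : ∀ y, X (Φ y) = y := by
    intro y
    induction y using MonoidAlgebra.induction_linear with
    | zero => simp
    | add a b ha hb => simp only [map_add, ha, hb]
    | single m r =>
      have hm : m ∈ Submonoid.closure (sM : Set M) := hsM ▸ Submonoid.mem_top m
      have key : X (Φ (MonoidAlgebra.single m 1)) = MonoidAlgebra.single m 1 := by
        induction hm using Submonoid.closure_induction with
        | mem c hc =>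
          have h := h₈ c hc
          rw [map_sub, sub_eq_zero, natX, natH] at h
          rw [evalAlg_apply, evalAt_single, map_one] at h
          exact h
        | one => rw [← MonoidAlgebra.one_def, map_one, map_one]
        | mul a b _ _ ha hb =>
          rw [show MonoidAlgebra.single (a * b) (1 : Gs i₈) = MonoidAlgebra.single a 1 * MonoidAlgebra.single b 1 by
            rw [MonoidAlgebra.single_mul_single, one_mul], map_mul, map_mul, ha, hb]
      rw [show MonoidAlgebra.single m r = r • MonoidAlgebra.single m (1 : Gs i₈) by simp, map_smul, map_smul, key]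
  exact ⟨i₈, isDiag_of_equiv (BialgEquiv.ofBijective Φ
    ⟨Function.LeftInverse.injective hXΦ, Function.RightInverse.surjective hΦX⟩).symm⟩

end Groth.Agent.MultTypeLib
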