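import Groth.Agent.MultTypeLib.Point
import Mathlib.RingTheory.Jacobson.Semiprimary
import Mathlib.RepresentationTheory.Maschke
import Mathlib.Algebra.CharP.Frobenius
import Mathlib.RingTheory.FiniteType
import Mathlib.Algebra.CharP.Algebra
import Mathlib.RingTheory.Artinian.Algebra

/-!
# The torsion subgroups of a group of multiplicative type are schematically dense

In a group algebra over a field the image of a `p ^ e`-th power in the algebra of `M / n M` lies in a reduced
subalgebra, `n` being `p ^ e` times an integer prime to `p`; Noetherian induction on the base does the rest.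
-/

universe u

open scoped TensorProduct

namespace Groth.Agent.MultTypeLib.TorsionDense

variable {M : Type u} [CommGroup M]

/-- Separation by exponents whose `p`-part is bounded. -/
theorem exists_bound [Group.FG M] (K : Type u) [Field K] (p : ℕ) [ExpChar K p] :
    ∃ E : ℕ, ∀ z : M, z ≠ 1 → ∃ n : ℕ, (n : K) ≠ 0 ∧ z ∉ (powMonoidHom (p ^ E * n) : M →* M).range := by
  obtain ⟨ι, j, _, _, q, hq, e, ⟨f⟩⟩ := CommGroup.equiv_free_prod_prod_multiplicative_zmod M
  refine ⟨∑ i, e i, fun z hz => ?_⟩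
  have hfx : f z ≠ 1 := fun h => hz (f.injective (h.trans (map_one f).symm))
  by_cases h1 : (f z).1 = 1
  · have h2 : (f z).2 ≠ 1 := fun h => hfx (Prod.ext h1 h)
    obtain ⟨i, hi⟩ := Function.ne_iff.mp h2
    have key : ∀ n : ℕ, q i ^ e i ∣ n → z ∉ (powMonoidHom n : M →* M).range := by
      rintro n hn ⟨y, hy⟩
      apply hi
      rw [← hy, powMonoidHom_apply, map_pow]
      show ((f y).2 i) ^ n = 1
      apply Multiplicative.toAdd.injective
      rw [toAdd_pow, toAdd_one, nsmul_eq_mul, (ZMod.natCast_eq_zero_iff _ _).mpr hn, zero_mul]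
    by_cases hqK : (q i : K) = 0
    · have hqp : q i = p := by
        cases ‹ExpChar K p› with
        | zero => exact absurd (Nat.cast_eq_zero.mp hqK) (hq i).ne_zero
        | prime hp =>
          haveI : CharP K p := ‹_›
          exact ((Nat.prime_dvd_prime_iff_eq hp (hq i)).mp ((CharP.cast_eq_zero_iff K p _).mp hqK)).symm
      refine ⟨1, by rw [Nat.cast_one]; exact one_ne_zero, key _ (Dvd.dvd.mul_right ?_ _)⟩
      rw [hqp]
      exact Nat.pow_dvd_pow p (Finset.single_le_sum (fun i _ => Nat.zero_le (e i)) (Finset.mem_univ i))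
    · exact ⟨q i ^ e i, by rw [Nat.cast_pow]; exact pow_ne_zero _ hqK, key _ (Dvd.intro_left _ rfl)⟩
  · obtain ⟨i, hi⟩ := Function.ne_iff.mp h1
    obtain ⟨ℓ, hℓ, hℓK⟩ : ∃ ℓ : ℕ, 1 < ℓ ∧ (ℓ : K) ≠ 0 := by
      by_cases h2 : (2 : K) = 0
      · refine ⟨3, by norm_num, fun h3 => one_ne_zero (α := K) ?_⟩
        have h3' : (3 : K) = 0 := by exact_mod_cast h3
        linear_combination h3' - h2
      · exact ⟨2, by norm_num, by exact_mod_cast h2⟩
    refine ⟨ℓ ^ (((f z).1 i).toAdd.natAbs + 1), by rw [Nat.cast_pow]; exact pow_ne_zero _ hℓK, ?_⟩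
    rintro ⟨y, hy⟩
    have e1 : ((f z).1 i).toAdd =
        (p ^ (∑ i, e i) * ℓ ^ (((f z).1 i).toAdd.natAbs + 1) : ℕ) * ((f y).1 i).toAdd := by
      conv_lhs => rw [← hy, powMonoidHom_apply, map_pow]
      show Multiplicative.toAdd ((f y).1 i ^ _) = _
      rw [toAdd_pow, nsmul_eq_mul]
    have e2 := congrArg Int.natAbs e1
    rw [Int.natAbs_mul, Int.natAbs_natCast] at e2
    have hne : ((f z).1 i).toAdd.natAbs ≠ 0 := fun h0 =>
      hi (Multiplicative.toAdd.injective (Int.natAbs_eq_zero.mp h0))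
    have hlt : ((f z).1 i).toAdd.natAbs + 1 < ℓ ^ (((f z).1 i).toAdd.natAbs + 1) := Nat.lt_pow_self hℓ
    have hle := Nat.le_of_dvd (Nat.pos_of_ne_zero hne) (Dvd.intro _ e2.symm)
    have hp0 : 0 < p ^ (∑ i, e i) := pow_pos (expChar_pos K p) _
    have := Nat.le_mul_of_pos_left (ℓ ^ (((f z).1 i).toAdd.natAbs + 1)) hp0
    omega

/-- A finite set is separated with bounded `p`-part. -/
theorem exists_separating' (K : Type u) [Field K] {q : ℕ}
    (h : ∀ z : M, z ≠ 1 → ∃ n : ℕ, (n : K) ≠ 0 ∧ z ∉ (powMonoidHom (q * n) : M →* M).range) (s : Finset M) :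
    ∃ n : ℕ, (n : K) ≠ 0 ∧ ∀ x ∈ s, ∀ y ∈ s, prn (q * n) x = prn (q * n) y → x = y := by
  classical
  choose! N hN hsep using h
  refine ⟨∏ z ∈ ((s ×ˢ s).image fun p => p.1⁻¹ * p.2).erase 1, N z, ?_, fun x hx y hy hxy => ?_⟩
  · rw [Nat.cast_prod, Finset.prod_ne_zero_iff]
    exact fun z hz => hN z (Finset.ne_of_mem_erase hz)
  · by_contra hne
    have hz : x⁻¹ * y ≠ 1 := fun h => hne (inv_mul_eq_one.mp h)
    have hmem : x⁻¹ * y ∈ ((s ×ˢ s).image fun p => p.1⁻¹ * p.2).erase 1 := Finset.mem_erase.mpr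
      ⟨hz, Finset.mem_image.mpr ⟨(x, y), Finset.mem_product.mpr ⟨hx, hy⟩, rfl⟩⟩
    obtain ⟨w, hw⟩ := Finset.dvd_prod_of_mem N hmem
    obtain ⟨v, hv⟩ : x⁻¹ * y ∈ (powMonoidHom (q * _) : M →* M).range := (QuotientGroup.eq).mp hxy
    refine hsep _ hz ⟨v ^ w, ?_⟩
    refine Eq.trans ?_ hv
    rw [powMonoidHom_apply, powMonoidHom_apply, ← pow_mul, hw]
    congr 1
    ring

theorem finite_quot [Group.FG M] {n : ℕ} (hn : 0 < n) : Finite (M ⧸ (powMonoidHom n : M →* M).range) := by
  refine CommGroup.finite_of_fg_isMulTorsion _ fun x => ?_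
  obtain ⟨x, rfl⟩ := QuotientGroup.mk_surjective x
  exact isOfFinOrder_iff_pow_eq_one.mpr ⟨n, hn, (QuotientGroup.eq_one_iff (x ^ n)).mpr ⟨x, rfl⟩⟩

/-- In a reduced Artinian ring an element killed by a power kills. -/
theorem mul_eq_zero_of_pow {B C : Type u} [CommRing B] [CommRing C] [IsArtinianRing B] [IsReduced B] (φ : B →+* C)
    (b : B) (y : C) (m : ℕ) (h : φ b ^ m * y = 0) : φ b * y = 0 := by
  obtain ⟨k, u, hu⟩ : ∃ k u, b ^ k = b ^ (k + 1) * u := by
    obtain ⟨k, u, hu⟩ := IsArtinian.exists_pow_succ_smul_dvd b (1 : B)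
    exact ⟨k, u, by simpa [smul_eq_mul] using hu.symm⟩
  have hb : b * (1 - b * u) = 0 := (IsNilpotent.eq_zero ⟨k + 1, by
    rw [mul_pow, pow_succ' (1 - b * u), ← mul_assoc,
      show b ^ (k + 1) * (1 - b * u) = b * (b ^ k - b ^ (k + 1) * u) by ring, ← hu, sub_self, mul_zero, zero_mul]⟩)
  have hk : ∀ m, b = b ^ (m + 1) * u ^ m := fun m => by
    induction m with
    | zero => simp
    | succ m ih =>
      calc b = b ^ (m + 1) * u ^ m := ih
        _ = b ^ (m + 2) * u ^ (m + 1) + b * (1 - b * u) * (b ^ m * u ^ m) := by ring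
        _ = b ^ (m + 2) * u ^ (m + 1) := by rw [hb, zero_mul, add_zero]
  calc φ b * y = φ (b ^ (m + 1) * u ^ m) * y := by rw [← hk]
    _ = φ b * φ u ^ m * (φ b ^ m * y) := by rw [map_mul, map_pow, map_pow]; ring
    _ = 0 := by rw [h, mul_zero]

/-- The hypothesis: `y` restricted to every torsion subgroup is killed by a power of `f`. -/
def Tor {S : Type u} [CommRing S] (f y : MonoidAlgebra S M) : Prop :=
  ∀ n : ℕ, 0 < n → ∃ m : ℕ, MonoidAlgebra.mapDomainRingHom S (prn n) (f ^ m * y) = 0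

theorem Tor.map {S T : Type u} [CommRing S] [CommRing T] (ψ : S →+* T) {f y : MonoidAlgebra S M} (h : Tor f y) :
    Tor (MonoidAlgebra.mapRingHom M ψ f) (MonoidAlgebra.mapRingHom M ψ y) := fun n hn => by
  obtain ⟨m, hm⟩ := h n hn
  refine ⟨m, ?_⟩
  rw [← map_pow, ← map_mul]
  refine (RingHom.congr_fun (MonoidAlgebra.mapRingHom_comp_mapDomainRingHom ψ (prn n)) _).symm.trans ?_
  rw [RingHom.comp_apply, hm, map_zero]

theorem field_case [Group.FG M] (K : Type u) [Field K] :
    ∃ q : ℕ, ∀ f y : MonoidAlgebra K M, Tor f y → f ^ q * y = 0 := by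
  classical
  obtain ⟨p, hp⟩ := ExpChar.exists K
  obtain ⟨E, hE⟩ := exists_bound (M := M) K p
  refine ⟨p ^ E, fun f y h => ?_⟩
  set g := f ^ p ^ E * y with hg
  obtain ⟨n, hnK, hsep⟩ := exists_separating' K hE g.coeff.support
  have hn0 : 0 < n := Nat.pos_of_ne_zero fun h => hnK (by rw [h, Nat.cast_zero])
  have hN : 0 < p ^ E * n := Nat.mul_pos (pow_pos (expChar_pos K p) _) hn0
  let Q := M ⧸ (powMonoidHom (p ^ E * n) : M →* M).range
  let π := MonoidAlgebra.mapDomainRingHom K (prn (M := M) (p ^ E * n))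
  obtain ⟨m, hm⟩ := h _ hN
  haveI : Finite Q := finite_quot hN
  let P := (powMonoidHom (p ^ E) : Q →* Q).range
  have hcard : (Nat.card P : K) ≠ 0 := by
    intro h0
    cases hp with
    | zero => exact Nat.card_pos.ne' (Nat.cast_eq_zero.mp h0)
    | prime hp' =>
      haveI : CharP K p := ‹_›
      haveI := Fact.mk hp'
      obtain ⟨⟨_, x, rfl⟩, hx⟩ := exists_prime_orderOf_dvd_card' p ((CharP.cast_eq_zero_iff K p _).mp h0)
      refine hnK ((CharP.cast_eq_zero_iff K p n).mpr (hx ▸ orderOf_dvd_of_pow_eq_one (Subtype.ext ?_)))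
      show (x ^ p ^ E) ^ n = 1
      rw [← pow_mul]
      obtain ⟨x, rfl⟩ := QuotientGroup.mk_surjective x
      exact (QuotientGroup.eq_one_iff (x ^ (p ^ E * n))).mpr ⟨x, rfl⟩
  haveI : NeZero (Nat.card P : K) := ⟨hcard⟩
  let B := MonoidAlgebra K P
  haveI : Finite P := inferInstance
  haveI : IsArtinianRing B := isArtinian_of_tower K inferInstance
  haveI : IsSemisimpleRing B := inferInstance
  haveI : IsReduced B := inferInstance
  let φ : B →+* MonoidAlgebra K Q := MonoidAlgebra.mapDomainRingHom K P.subtype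
  have himage : ∀ z : MonoidAlgebra K Q, ∃ b, φ b = z ^ p ^ E := by
    intro z
    haveI : ExpChar (MonoidAlgebra K Q) p :=
      expChar_of_injective_algebraMap (FaithfulSMul.algebraMap_injective K (MonoidAlgebra K Q)) p
    induction z using MonoidAlgebra.induction_linear with
    | zero => exact ⟨0, by rw [map_zero, zero_pow (pow_pos (expChar_pos K p) _).ne']⟩
    | add a b ha hb =>
      obtain ⟨u, hu⟩ := ha
      obtain ⟨v, hv⟩ := hb
      exact ⟨u + v, by rw [map_add, hu, hv, add_pow_expChar_pow]⟩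
    | single x r =>
      refine ⟨MonoidAlgebra.single ⟨x ^ p ^ E, x, rfl⟩ (r ^ p ^ E), ?_⟩
      rw [MonoidAlgebra.single_pow]
      exact MonoidAlgebra.mapDomain_single
  obtain ⟨b, hb⟩ := himage (π f)
  have hzero : π g = 0 := by
    rw [hg, map_mul, map_pow, ← hb]
    refine mul_eq_zero_of_pow φ b (π y) m ?_
    rw [hb, ← pow_mul, mul_comm (p ^ E) m, pow_mul]
    rw [show π (f ^ m * y) = π f ^ m * π y by rw [map_mul, map_pow]] at hm
    have hpos : 0 < p ^ E := pow_pos (expChar_pos K p) _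
    obtain ⟨d, hd⟩ := Nat.exists_eq_add_of_le (Nat.le_mul_of_pos_left m hpos)
    rw [← pow_mul, mul_comm m (p ^ E), hd, pow_add, mul_comm (π f ^ m), mul_assoc, hm, mul_zero]
  ext x
  by_cases hx : x ∈ g.coeff.support
  · have h2 := congrArg (fun z => z.coeff (prn (M := M) (p ^ E * n) x)) hzero
    change (MonoidAlgebra.mapDomain _ g).coeff _ = 0 at h2
    rw [MonoidAlgebra.coeff_mapDomain, Finsupp.mapDomain_apply_eq_sum, Finset.sum_eq_single x] at h2
    · simpa using h2
    · exact fun z hz hne => absurd (hsep z (Finset.mem_filter.mp hz).1 x hx (Finset.mem_filter.mp hz).2) hne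
    · exact fun hx' => by simp [hx] at hx'
  · simpa using hx

theorem domain_case [Group.FG M] (D : Type u) [CommRing D] [IsDomain D] :
    ∃ q : ℕ, ∀ f y : MonoidAlgebra D M, Tor f y → f ^ q * y = 0 := by
  obtain ⟨q, hq⟩ := field_case (M := M) (FractionRing D)
  refine ⟨q, fun f y h => ?_⟩
  have h1 := hq _ _ (h.map (algebraMap D (FractionRing D)))
  rw [← map_pow, ← map_mul] at h1
  ext x
  have h2 := congrArg (fun z => z.coeff x) h1
  simp only [MonoidAlgebra.coeff_mapRingHom, MonoidAlgebra.coeff_zero, Finsupp.zero_apply] at h2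
  exact (IsFractionRing.injective D (FractionRing D)) (h2.trans (map_zero _).symm)

/-- Lifting with a scalar. -/
theorem exists_smul_lift {S : Type u} [CommRing S] {G : Type u} {I : Ideal S} {c : S} (z : MonoidAlgebra S G)
    (h : ∀ x, z.coeff x ∈ I ⊔ Ideal.span {c}) : ∃ w : MonoidAlgebra S G, ∀ x, z.coeff x - c * w.coeff x ∈ I := by
  classical
  have hex : ∀ x, ∃ a, z.coeff x - c * a ∈ I ∧ (z.coeff x = 0 → a = 0) := fun x => by
    by_cases h0 : z.coeff x = 0
    · exact ⟨0, by simp [h0], fun _ => rfl⟩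
    · obtain ⟨i, hi, j, hj, hij⟩ := Submodule.mem_sup.mp (h x)
      obtain ⟨a, rfl⟩ := Ideal.mem_span_singleton'.mp hj
      exact ⟨a, by rw [← hij, mul_comm c a, add_sub_cancel_right]; exact hi, fun h' => absurd h' h0⟩
  choose a ha ha0 using hex
  refine ⟨.ofCoeff (Finsupp.onFinset z.coeff.support a fun x hx => Finsupp.mem_support_iff.mpr fun h0 => hx (ha0 x h0)),
    fun x => ?_⟩
  simpa using ha x

theorem noetherian_case [Group.FG M] {S : Type u} [CommRing S] [IsNoetherianRing S] (f y : MonoidAlgebra S M)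
    (h : Tor f y) : ∃ N, f ^ N * y = 0 := by
  let Q : Ideal S → Prop := fun I => ∀ y : MonoidAlgebra S M,
    Tor (MonoidAlgebra.mapRingHom M (Ideal.Quotient.mk I) f) (MonoidAlgebra.mapRingHom M (Ideal.Quotient.mk I) y) →
      ∃ N, ∀ x, (f ^ N * y).coeff x ∈ I
  suffices hQ : ∀ I, Q I by
    obtain ⟨N, hN⟩ := hQ ⊥ y (h.map _)
    exact ⟨N, by ext x; simpa using hN x⟩
  intro I
  induction I using WellFoundedGT.induction with
  | ind I ih =>
    intro y hy
    by_cases htop : I = ⊤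
    · exact ⟨0, fun x => htop ▸ trivial⟩
    obtain ⟨J, ⟨c, hc, rfl⟩, hmax⟩ := (set_has_maximal_iff_noetherian.mpr ‹IsNoetherianRing S›)
      {J | ∃ c ∉ I, J = I.colon ({c} : Set S)} ⟨_, 1, fun h => htop ((Ideal.eq_top_iff_one I).mpr h), rfl⟩
    let J := I.colon ({c} : Set S)
    have hJ : ∀ a, a ∈ J ↔ a * c ∈ I := fun a => Submodule.mem_colon_singleton
    haveI : J.IsPrime := ⟨fun h => hc (by simpa using (hJ 1).mp (h ▸ trivial)), fun {a b} hab => by
      by_contra! hne
      have hle : J ≤ I.colon ({b * c} : Set S) := fun t ht => Submodule.mem_colon_singleton.mpr (by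
        rw [smul_eq_mul, mul_left_comm]; exact Ideal.mul_mem_left _ _ ((hJ t).mp ht))
      have ha : a ∈ I.colon ({b * c} : Set S) := Submodule.mem_colon_singleton.mpr (by
        rw [smul_eq_mul, ← mul_assoc]; exact (hJ _).mp hab)
      exact hmax _ ⟨b * c, fun h => hne.2 ((hJ b).mpr h), rfl⟩
        (lt_of_le_not_ge hle fun h' => hne.1 (h' ha))⟩
    obtain ⟨N, hN⟩ := ih (I ⊔ Ideal.span {c}) (lt_of_le_not_ge le_sup_left fun h =>
      hc (h (Ideal.mem_sup_right (Ideal.mem_span_singleton_self c)))) y (by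
        have h1 := hy.map (Ideal.Quotient.factor (le_sup_left : I ≤ I ⊔ Ideal.span {c}))
        rwa [← RingHom.comp_apply, ← RingHom.comp_apply, ← MonoidAlgebra.mapRingHom_comp,
          Ideal.Quotient.factor_comp_mk] at h1)
    obtain ⟨w, hw⟩ := exists_smul_lift _ hN
    let πI := MonoidAlgebra.mapRingHom M (Ideal.Quotient.mk I)
    let πJ := MonoidAlgebra.mapRingHom M (Ideal.Quotient.mk J)
    have hzw : πI (f ^ N * y) = πI (MonoidAlgebra.single 1 c * w) := by
      ext x
      simp only [πI, MonoidAlgebra.coeff_mapRingHom]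
      rw [Ideal.Quotient.mk_eq_mk_iff_sub_mem]
      simpa using hw x
    obtain ⟨q, hq⟩ := domain_case (M := M) (S ⧸ J)
    have hTor : Tor (πJ f) (πJ w) := by
      intro n hn
      obtain ⟨m, hm⟩ := hy n hn
      refine ⟨m, ?_⟩
      let pn := MonoidAlgebra.mapDomainRingHom S (prn (M := M) n)
      have hcomm : ∀ (K : Ideal S) (v : MonoidAlgebra S M),
          MonoidAlgebra.mapDomainRingHom (S ⧸ K) (prn n) (MonoidAlgebra.mapRingHom M (Ideal.Quotient.mk K) v) =
            MonoidAlgebra.mapRingHom _ (Ideal.Quotient.mk K) (pn v) := fun K v =>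
        (RingHom.congr_fun (MonoidAlgebra.mapRingHom_comp_mapDomainRingHom (Ideal.Quotient.mk K) (prn n)) v).symm
      have h1 : MonoidAlgebra.mapDomainRingHom (S ⧸ I) (prn n) (πI (MonoidAlgebra.single 1 c * (f ^ m * w))) = 0 := by
        rw [show MonoidAlgebra.single 1 c * (f ^ m * w) = f ^ m * (MonoidAlgebra.single 1 c * w) by ring, map_mul πI,
          ← hzw, ← map_mul πI, show f ^ m * (f ^ N * y) = f ^ N * (f ^ m * y) by ring, map_mul πI, map_mul,
          map_mul πI (f ^ m), map_pow πI f m, hm, mul_zero]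
      rw [hcomm] at h1
      rw [← map_pow, ← map_mul]
      refine (hcomm J _).trans ?_
      ext x
      have h2 := congrArg (fun z => z.coeff x) h1
      simp only [MonoidAlgebra.coeff_mapRingHom, MonoidAlgebra.coeff_zero, Finsupp.zero_apply,
        Ideal.Quotient.eq_zero_iff_mem] at h2 ⊢
      rw [map_mul, show pn (MonoidAlgebra.single 1 c) = MonoidAlgebra.single 1 c by simp [pn],
        MonoidAlgebra.coeff_single_one_mul, mul_comm] at h2
      exact (hJ _).mpr h2
    refine ⟨q + N, fun x => ?_⟩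
    have h3 := congrArg (fun z => z.coeff x) (hq _ _ hTor)
    simp only [πJ, ← map_pow, ← map_mul, MonoidAlgebra.coeff_mapRingHom, MonoidAlgebra.coeff_zero,
      Finsupp.zero_apply, Ideal.Quotient.eq_zero_iff_mem] at h3
    have h4 : πI (f ^ (q + N) * y) = πI (MonoidAlgebra.single 1 c * (f ^ q * w)) := by
      rw [pow_add, mul_assoc, map_mul, hzw, ← map_mul]
      congr 1
      ring
    have h5 := congrArg (fun z => z.coeff x) h4
    simp only [πI, MonoidAlgebra.coeff_mapRingHom, Ideal.Quotient.mk_eq_mk_iff_sub_mem,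
      MonoidAlgebra.coeff_single_one_mul] at h5
    have h6 := add_mem h5 ((hJ _).mp h3)
    rwa [mul_comm _ c, sub_add_cancel] at h6

theorem exists_lift {S₀ S : Type u} [CommRing S₀] [CommRing S] (ψ : S₀ →+* S) (z : MonoidAlgebra S M)
    (h : ∀ x ∈ z.coeff.support, z.coeff x ∈ ψ.range) : ∃ z₀, MonoidAlgebra.mapRingHom M ψ z₀ = z := by
  classical
  refine ⟨∑ x ∈ z.coeff.support.attach, MonoidAlgebra.single x.1 (h x.1 x.2).choose, ?_⟩
  rw [map_sum]
  rw [Finset.sum_congr rfl fun x _ => (MonoidAlgebra.mapRingHom_single ψ x.1 _).trans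
    (congrArg (MonoidAlgebra.single x.1) (h x.1 x.2).choose_spec)]
  refine (Finset.sum_attach z.coeff.support fun x => MonoidAlgebra.single x (z.coeff x)).trans ?_
  exact MonoidAlgebra.sum_coeff_single z

/-- Over any ring: `y` vanishes in the localisation at `f` if it does on every torsion subgroup. -/
theorem main [Group.FG M] {S : Type u} [CommRing S] (f y : MonoidAlgebra S M) (h : Tor f y) :
    ∃ N, f ^ N * y = 0 := by
  classical
  let S₀ := Algebra.adjoin ℤ
    ((f.coeff.support.image f.coeff ∪ y.coeff.support.image y.coeff : Finset S) : Set S)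
  haveI : Algebra.FiniteType ℤ S₀ := S₀.fg_iff_finiteType.mp (Subalgebra.fg_adjoin_finset _)
  haveI : IsNoetherianRing S₀ := Algebra.FiniteType.isNoetherianRing ℤ S₀
  let ψ : S₀ →+* S := S₀.val.toRingHom
  obtain ⟨f₀, hf₀⟩ := exists_lift ψ f fun x hx =>
    ⟨⟨_, Algebra.subset_adjoin (Finset.mem_union_left _ (Finset.mem_image_of_mem _ hx))⟩, rfl⟩
  obtain ⟨y₀, hy₀⟩ := exists_lift ψ y fun x hx =>
    ⟨⟨_, Algebra.subset_adjoin (Finset.mem_union_right _ (Finset.mem_image_of_mem _ hx))⟩, rfl⟩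
  obtain ⟨N, hN⟩ := noetherian_case f₀ y₀ fun n hn => by
    obtain ⟨m, hm⟩ := h n hn
    refine ⟨m, ?_⟩
    rw [← hf₀, ← hy₀, ← map_pow, ← map_mul] at hm
    have hm' := (RingHom.congr_fun (MonoidAlgebra.mapRingHom_comp_mapDomainRingHom ψ (prn n)) _).trans hm
    ext x
    have h2 := congrArg (fun z => z.coeff x) hm'
    simp only [RingHom.comp_apply, MonoidAlgebra.coeff_mapRingHom, MonoidAlgebra.coeff_zero, Finsupp.zero_apply] at h2
    rw [(map_eq_zero_iff ψ Subtype.val_injective).mp h2]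
    rfl
  exact ⟨N, by rw [← hf₀, ← hy₀, ← map_pow, ← map_mul, hN, map_zero]⟩

/-- The torsion subgroups are schematically dense. -/
theorem iInf_torsionIdeal {R : Type u} [CommRing R] {A : Type u} [CommRing A] [HopfAlgebra R A]
    (hft : Algebra.FiniteType R A) (hA : SGA3b.IsMultType R A) (a : A) :
    ⨅ n : {n : ℕ // 0 < n}, Ideal.map (algebraMap A (Localization.Away a)) (SGA3b.torsionIdeal R A n.1) = ⊥ := by
  obtain ⟨c⟩ := exists_cover hA
  rw [eq_bot_iff]
  intro z hz
  obtain ⟨y, ⟨_, k, rfl⟩, rfl⟩ := IsLocalization.exists_mk'_eq (Submonoid.powers a) z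
  have hy : ∀ n : ℕ, 0 < n → ∃ m, a ^ m * y ∈ SGA3b.torsionIdeal R A n := fun n hn => by
    have h1 := (Submodule.mem_iInf _).mp hz ⟨n, hn⟩
    rw [IsLocalization.mk'_mem_map_algebraMap_iff (Submonoid.powers a)] at h1
    obtain ⟨_, ⟨m, rfl⟩, hm⟩ := h1
    exact ⟨m, hm⟩
  have hex : ∀ i, ∃ N, (c.split i).hom.toAlgHom (a ^ N * y) = 0 := fun i => by
    rcases subsingleton_or_nontrivial (c.split i).S with h | h
    · haveI := h
      exact ⟨0, by ext x; exact Subsingleton.elim _ _⟩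
    haveI : Group.FG (c.split i).M := MonoidAlgebra.finiteType_iff_group_fg.mp
      ((inferInstance : Algebra.FiniteType (c.split i).S ((c.split i).S ⊗[R] A)).equiv (c.split i).equiv)
    obtain ⟨N, hN⟩ := main ((c.split i).hom.toAlgHom a) ((c.split i).hom.toAlgHom y) fun n hn => by
      obtain ⟨m, hm⟩ := hy n hn
      refine ⟨m, ?_⟩
      rw [← map_pow, ← map_mul]
      exact (c.split i).pr_torsion n _ hm
    exact ⟨N, by rw [map_mul, map_pow, hN]⟩
  choose N hN using hex
  haveI := Fintype.ofFinite c.ι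
  rw [Submodule.mem_bot, IsLocalization.mk'_eq_zero_iff]
  refine ⟨⟨a ^ ∑ i, N i, _, rfl⟩, c.eq_zero_of_hom _ fun i => ?_⟩
  obtain ⟨d, hd⟩ := Nat.exists_eq_add_of_le (Finset.single_le_sum (fun i _ => Nat.zero_le (N i)) (Finset.mem_univ i))
  rw [show ((⟨a ^ ∑ i, N i, _, rfl⟩ : Submonoid.powers a) : A) = a ^ ∑ i, N i from rfl, hd, pow_add,
    mul_comm (a ^ N i), mul_assoc, map_mul, hN, mul_zero]

end Groth.Agent.MultTypeLib.TorsionDense
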