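import Groth.Agent.MultTypeLib.PointAverage
import Groth.Agent.MultTypeLib.EtaleLift

/-!
# Homomorphisms from groups of multiplicative type to smooth groups lift along nilpotent ideals
-/

set_option autoImplicit false
set_option linter.style.haveILetI false

universe u

open CategoryTheory CategoryTheory.Limits MonoidalCategory CartesianMonoidalCategory MonObj AlgebraicGeometry
open TensorProduct WithConv

noncomputable section

namespace Groth.Agent.MultTypeLib.PointLift

open GrpSchLib.AffineHopf FixedLift PointAverage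

variable {S : Scheme.{u}} {G : Over S} [GrpObj G]

section Change

variable {B : Type u} [CommRing B] (t : Spec (CommRingCat.of B) ⟶ S) (N : Ideal B)

/-- The structure map of the smaller base. -/
abbrev t' : Spec (CommRingCat.of (B ⧸ N)) ⟶ S := Spec.map (CommRingCat.ofHom (Ideal.Quotient.mk N)) ≫ t

theorem hom_eq (P : Type u) [CommRing P] [Algebra B P] [Algebra (B ⧸ N) P] [IsScalarTower B (B ⧸ N) P] :
    (OT (t' t N) P).hom = (OT t P).hom := by
  show Spec.map (CommRingCat.ofHom (algebraMap (B ⧸ N) P)) ≫ Spec.map (CommRingCat.ofHom (Ideal.Quotient.mk N)) ≫ t =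
    Spec.map (CommRingCat.ofHom (algebraMap B P)) ≫ t
  rw [← Spec.map_comp_assoc, ← CommRingCat.ofHom_comp, IsScalarTower.algebraMap_eq B (B ⧸ N) P]

/-- The two readings of the spectrum of an algebra over the smaller base. -/
def om (P : Type u) [CommRing P] [Algebra B P] [Algebra (B ⧸ N) P] [IsScalarTower B (B ⧸ N) P] :
    OT (t' t N) P ⟶ OT t P :=
  Over.homMk (𝟙 _) ((Category.id_comp _).trans (hom_eq t N P).symm)

/-- The inverse of `om`. -/
def om' (P : Type u) [CommRing P] [Algebra B P] [Algebra (B ⧸ N) P] [IsScalarTower B (B ⧸ N) P] :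
    OT t P ⟶ OT (t' t N) P :=
  Over.homMk (𝟙 _) ((Category.id_comp _).trans (hom_eq t N P))

theorem om'_om (P : Type u) [CommRing P] [Algebra B P] [Algebra (B ⧸ N) P] [IsScalarTower B (B ⧸ N) P] :
    om' t N P ≫ om t N P = 𝟙 _ := Over.OverMorphism.ext (Category.id_comp _)

theorem om_om' (P : Type u) [CommRing P] [Algebra B P] [Algebra (B ⧸ N) P] [IsScalarTower B (B ⧸ N) P] :
    om t N P ≫ om' t N P = 𝟙 _ := Over.OverMorphism.ext (Category.id_comp _)

theorem om_natural {P P' : Type u} [CommRing P] [Algebra B P] [Algebra (B ⧸ N) P] [IsScalarTower B (B ⧸ N) P]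
    [CommRing P'] [Algebra B P'] [Algebra (B ⧸ N) P'] [IsScalarTower B (B ⧸ N) P'] (f : P →ₐ[B ⧸ N] P') :
    OTm (t' t N) f ≫ om t N P = om t N P' ≫ OTm t (f.restrictScalars B) :=
  Over.OverMorphism.ext ((Category.comp_id _).trans (Category.id_comp _).symm)

theorem om'_natural {P P' : Type u} [CommRing P] [Algebra B P] [Algebra (B ⧸ N) P] [IsScalarTower B (B ⧸ N) P]
    [CommRing P'] [Algebra B P'] [Algebra (B ⧸ N) P'] [IsScalarTower B (B ⧸ N) P'] (f : P →ₐ[B ⧸ N] P') :
    OTm t (f.restrictScalars B) ≫ om' t N P = om' t N P' ≫ OTm (t' t N) f :=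
  Over.OverMorphism.ext ((Category.comp_id _).trans (Category.id_comp _).symm)

variable {A : Type u} [CommRing A] [HopfAlgebra B A]

set_option synthInstance.maxHeartbeats 200000 in
theorem star_baseChange {P : Type u} [CommRing P] [Algebra B P] [Algebra (B ⧸ N) P] [IsScalarTower B (B ⧸ N) P]
    (f g : (B ⧸ N) ⊗[B] A →ₐ[B ⧸ N] P) :
    ((star f g).restrictScalars B).comp Algebra.TensorProduct.includeRight =
      star ((f.restrictScalars B).comp Algebra.TensorProduct.includeRight)
        ((g.restrictScalars B).comp Algebra.TensorProduct.includeRight) := by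
  refine AlgHom.ext fun a => ?_
  show Algebra.TensorProduct.lift f g (fun _ _ => Commute.all _ _)
      (Coalgebra.comul (R := B ⧸ N) ((1 : B ⧸ N) ⊗ₜ[B] a)) =
    Algebra.TensorProduct.lift ((f.restrictScalars B).comp Algebra.TensorProduct.includeRight)
      ((g.restrictScalars B).comp Algebra.TensorProduct.includeRight) (fun _ _ => Commute.all _ _)
      (Coalgebra.comul (R := B) a)
  rw [TensorProduct.comul_tmul]
  generalize Coalgebra.comul (R := B) a = z
  induction z using TensorProduct.induction_on with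
  | zero => simp
  | add z z' hz hz' => simp only [map_add, TensorProduct.tmul_add, hz, hz']
  | tmul p q => simp

end Change

theorem exists_lift_point [Smooth G.hom] {B : Type u} [CommRing B] (t : Spec (CommRingCat.of B) ⟶ S) (J : Ideal B)
    (hJ : J * J = ⊥) (A : Type u) [CommRing A] [Algebra B A] (φ₀ : OT t (A ⧸ JT J A) ⟶ G) :
    ∃ f : OT t A ⟶ G, OTm t (qT J A) ≫ f = φ₀ := by
  obtain ⟨-, hfs⟩ := (Groth.Agent.S1488.result G.hom).mp inferInstance
  have h2 : JT J A ^ 2 = ⊥ := by rw [pow_two, JT_mul_self J hJ A]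
  obtain ⟨l, hl1, hl2⟩ := hfs A (JT J A) h2 φ₀.left (OT t A).hom
    ((Over.w (OTm t (qT J A))).trans (Over.w φ₀).symm)
  exact ⟨Over.homMk l hl2, Over.OverMorphism.ext hl1⟩

set_option maxHeartbeats 1600000 in
/-- Homomorphisms lift along nilpotent ideals. -/
theorem exists_hom_lift [Smooth G.hom] {B : Type u} [CommRing B] (t : Spec (CommRingCat.of B) ⟶ S)
    (J : Ideal B) (hJ : IsNilpotent J) (A : Type u) [CommRing A] [HopfAlgebra B A]
    (hA : SGA3b.IsMultType B A) (φ₀ : OT t (A ⧸ JT J A) ⟶ G) (h0 : HomMod t J φ₀) :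
    ∃ φ : OT t A ⟶ G, OTm t (qT J A) ≫ φ = φ₀ ∧ HomPt t φ := by
  suffices H : ∀ (k : ℕ) (B : Type u) [CommRing B] (t : Spec (CommRingCat.of B) ⟶ S) (J : Ideal B)
      (_ : J ^ 2 ^ k = ⊥) (A : Type u) [CommRing A] [HopfAlgebra B A]
      (_ : SGA3b.IsMultType B A) (φ₀ : OT t (A ⧸ JT J A) ⟶ G) (_ : HomMod t J φ₀),
      ∃ φ : OT t A ⟶ G, OTm t (qT J A) ≫ φ = φ₀ ∧ HomPt t φ by
    obtain ⟨n, hn⟩ := hJ
    exact H n B t J (pow_eq_zero_of_le Nat.lt_two_pow_self.le hn) A hA φ₀ h0
  intro k
  induction k with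
  | zero =>
    intro B _ t J hJ A _ _ hA φ₀ h0
    rw [pow_zero, pow_one] at hJ
    obtain ⟨f, hf⟩ := exists_lift_point (G := G) t J (by rw [hJ, Ideal.mul_bot]) A φ₀
    obtain ⟨mn⟩ := exists_mean hA
    exact exists_homPt t J (by rw [hJ, Ideal.mul_bot]) mn φ₀ h0 f hf
  | succ k ih =>
    intro B _ t J hJ A _ _ hA φ₀ h0
    let N : Ideal B := J ^ 2 ^ k
    have hNJ : N ≤ J := Ideal.pow_le_self (Nat.two_pow_pos k).ne'
    have hN2 : N * N = ⊥ := by rw [← pow_add, ← two_mul, ← pow_succ']; exact hJ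
    let J₁ : Ideal (B ⧸ N) := J.map (Ideal.Quotient.mk N)
    have hJ₁ : J₁ ^ 2 ^ k = ⊥ := by
      rw [← Ideal.map_pow, Ideal.map_eq_bot_iff_le_ker, Ideal.mk_ker]
    let A' := (B ⧸ N) ⊗[B] A
    let iR : A →ₐ[B] A' := Algebra.TensorProduct.includeRight
    -- the reduction over the smaller base
    let θ : A ⧸ JT J A →ₐ[B] A' ⧸ JT J₁ A' :=
      Ideal.Quotient.liftₐ (JT J A) (((qT J₁ A').restrictScalars B).comp iR) fun a ha => by
        have h1 : iR a ∈ JT J₁ A' := by
          have h2 : JT J A ≤ (JT J₁ A').comap iR.toRingHom := Ideal.map_le_iff_le_comap.2 fun b hb => by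
            show iR (algebraMap B A b) ∈ JT J₁ A'
            rw [AlgHom.commutes, IsScalarTower.algebraMap_apply B (B ⧸ N) A']
            exact Ideal.mem_map_of_mem _ (Ideal.mem_map_of_mem _ hb)
          exact h2 ha
        exact Ideal.Quotient.eq_zero_iff_mem.2 h1
    let φ₁₀ : OT (t' t N) (A' ⧸ JT J₁ A') ⟶ G := om t N _ ≫ OTm t θ ≫ φ₀
    have h₁₀ : HomMod (t' t N) J₁ φ₁₀ := by
      intro T _ _ f g h hh
      letI : Algebra B T := Algebra.compHom T (Ideal.Quotient.mk N)
      haveI : IsScalarTower B (B ⧸ N) T := IsScalarTower.of_algebraMap_eq fun _ => rfl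
      have e : ∀ u : A' ⧸ JT J₁ A' →ₐ[B ⧸ N] T, OTm (t' t N) u ≫ φ₁₀ =
          om t N T ≫ OTm t ((u.restrictScalars B).comp θ) ≫ φ₀ := fun u => by
        simp only [φ₁₀, ← Category.assoc, om_natural]
        rw [Category.assoc (om t N T), OTm_comp]
      rw [e, e, e, ← MonObj.comp_mul, h0 T _ _ ((h.restrictScalars B).comp θ)]
      have hθ : ∀ u : A' ⧸ JT J₁ A' →ₐ[B ⧸ N] T, ((u.restrictScalars B).comp θ).comp (qT J A) =
          ((u.comp (qT J₁ A')).restrictScalars B).comp iR := fun u => AlgHom.ext fun a => rfl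
      rw [hθ, hθ, hθ, hh, star_baseChange]
    obtain ⟨φ₁, hφ₁, hh₁⟩ := ih (B ⧸ N) (t' t N) J₁ hJ₁ A' (isMultType_baseChange (B ⧸ N) hA) φ₁₀ h₁₀
    -- the point modulo `N`
    let A'' := A ⧸ JT N A
    let β : A' →ₐ[B] A'' := Algebra.TensorProduct.lift
      (Ideal.Quotient.liftₐ N (Algebra.ofId B A'') fun b hb => by
        show algebraMap B A'' b = 0
        rw [IsScalarTower.algebraMap_apply B A A'', Ideal.Quotient.algebraMap_eq]
        exact Ideal.Quotient.eq_zero_iff_mem.2 (Ideal.mem_map_of_mem _ hb))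
      (qT N A) fun _ _ => Commute.all _ _
    have hβ : β.comp iR = qT N A := AlgHom.ext fun a => by
      show β ((1 : B ⧸ N) ⊗ₜ[B] a) = qT N A a
      rw [Algebra.TensorProduct.lift_tmul, map_one, _root_.one_mul]
    let ψ : OT t A'' ⟶ G := OTm t β ≫ om' t N A' ≫ φ₁
    have hψ : HomMod t N ψ := by
      intro T _ _ f g h hh
      have hT : ∀ b ∈ N, algebraMap B T b = 0 := fun b hb => by
        rw [← f.commutes, IsScalarTower.algebraMap_apply B A A'', Ideal.Quotient.algebraMap_eq,
          Ideal.Quotient.eq_zero_iff_mem.2 (Ideal.mem_map_of_mem _ hb), map_zero]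
      letI : Algebra (B ⧸ N) T := (Ideal.Quotient.lift N (algebraMap B T) hT).toAlgebra
      haveI : IsScalarTower B (B ⧸ N) T := IsScalarTower.of_algebraMap_eq fun _ => rfl
      let up : (A'' →ₐ[B] T) → (A' →ₐ[B ⧸ N] T) := fun u =>
        { u.comp β with
          commutes' := fun q => by
            obtain ⟨b, rfl⟩ := Ideal.Quotient.mk_surjective q
            show u (β (algebraMap (B ⧸ N) A' (algebraMap B (B ⧸ N) b))) = _
            rw [← IsScalarTower.algebraMap_apply, AlgHom.commutes, AlgHom.commutes]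
            rfl }
      have e : ∀ u : A'' →ₐ[B] T, OTm t u ≫ ψ = om' t N T ≫ OTm (t' t N) (up u) ≫ φ₁ := fun u => by
        simp only [ψ, ← Category.assoc, OTm_comp]
        congr 1
      rw [e, e, e, ← MonObj.comp_mul, hh₁ T (up f) (up g)]
      congr 3
      refine Algebra.TensorProduct.ext' fun q a => ?_
      have h2 : (star (up f) (up g)) (1 ⊗ₜ[B] a) = up h (1 ⊗ₜ[B] a) := by
        have h3 := AlgHom.congr_fun (star_baseChange N (up f) (up g)) a
        refine h3.trans ?_
        have hu : ∀ u : A'' →ₐ[B] T, ((up u).restrictScalars B).comp Algebra.TensorProduct.includeRight =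
            u.comp (qT N A) := fun u => AlgHom.ext fun x => congrArg u (AlgHom.congr_fun hβ x)
        rw [hu, hu, ← hh]
        exact (AlgHom.congr_fun (hu h) a).symm
      rw [show q ⊗ₜ[B] a = q • ((1 : B ⧸ N) ⊗ₜ[B] a) by rw [TensorProduct.smul_tmul', smul_eq_mul, _root_.mul_one],
        map_smul, map_smul, h2]
    obtain ⟨f, hf⟩ := exists_lift_point (G := G) t N hN2 A ψ
    obtain ⟨mn⟩ := exists_mean hA
    obtain ⟨φ, hφ, hhom⟩ := exists_homPt t N hN2 mn ψ hψ f hf
    refine ⟨φ, ?_, hhom⟩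
    let gam : A'' →ₐ[B] A ⧸ JT J A := Ideal.Quotient.liftₐ (JT N A) (qT J A) fun a ha =>
      Ideal.Quotient.eq_zero_iff_mem.2 (Ideal.map_mono hNJ ha)
    have hgam : gam.comp (qT N A) = qT J A := AlgHom.ext fun _ => rfl
    let ρ : A' ⧸ JT J₁ A' →ₐ[B] A ⧸ JT J A :=
      Ideal.Quotient.liftₐ (((JT J₁ A'))) (gam.comp β) fun x hx => by
        have h2 : JT J₁ A' ≤ RingHom.ker (gam.comp β).toRingHom := by
          rw [Ideal.map_le_iff_le_comap, Ideal.map_le_iff_le_comap]
          intro b hb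
          show gam (β (algebraMap (B ⧸ N) A' (algebraMap B (B ⧸ N) b))) = 0
          rw [← IsScalarTower.algebraMap_apply, AlgHom.commutes, AlgHom.commutes,
            IsScalarTower.algebraMap_apply B A, Ideal.Quotient.algebraMap_eq]
          exact Ideal.Quotient.eq_zero_iff_mem.2 (Ideal.mem_map_of_mem _ hb)
        exact h2 hx
    have hρθ : ρ.comp θ = AlgHom.id B (A ⧸ JT J A) := AlgHom.ext fun x => by
      obtain ⟨a, rfl⟩ := Ideal.Quotient.mk_surjective x
      show gam (β (iR a)) = _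
      exact congrArg gam (AlgHom.congr_fun hβ a)
    have hρ : gam.comp β = ρ.comp ((qT J₁ A').restrictScalars B) := AlgHom.ext fun _ => rfl
    rw [← hgam, ← OTm_comp, Category.assoc, hφ]
    simp only [ψ, ← Category.assoc, OTm_comp]
    rw [hρ, ← OTm_comp, Category.assoc (OTm t ρ), om'_natural, Category.assoc, Category.assoc, hφ₁]
    simp only [φ₁₀, ← Category.assoc]
    rw [Category.assoc (OTm t ρ), om'_om, Category.comp_id, OTm_comp, hρθ]
    rw [OTm, spMap_id, CategoryTheory.Functor.map_id, Category.id_comp]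

end Groth.Agent.MultTypeLib.PointLift
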