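import Groth.Agent.MultTypeLib.SubgroupLiftHopf
import Groth.Agent.MultTypeLib.TransporterLift
import Groth.Agent.MultTypeLib.Mono

/-!
# Lifting points of transporters of subgroups of multiplicative type
-/

universe u

open CategoryTheory CategoryTheory.Limits MonoidalCategory CartesianMonoidalCategory MonObj AlgebraicGeometry
open TensorProduct WithConv

namespace Groth.Agent.MultTypeLib.SubgroupLift

open GrpSchLib.AffineHopf TransporterLift

/-- A point of the transporter of two subgroups. -/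
def STransp {S : Scheme.{u}} {H₁ H₂ G : Over S} [GrpObj G] (i₁ : H₁ ⟶ G) (i₂ : H₂ ⟶ G) {X : Over S} (g : X ⟶ G) :
    Prop :=
  ∀ (X' : Over S) (x : X' ⟶ X),
    (∀ h₁ : X' ⟶ H₁, ∃ h₂ : X' ⟶ H₂, (x ≫ g) * (h₁ ≫ i₁) * (x ≫ g)⁻¹ = h₂ ≫ i₂) ∧
    (∀ h₂ : X' ⟶ H₂, ∃ h₁ : X' ⟶ H₁, (x ≫ g)⁻¹ * (h₂ ≫ i₂) * (x ≫ g) = h₁ ≫ i₁)

attribute [local instance 2000] MultTypeLib.algConvGroup

variable {B : Type u} [CommRing B]

/-- A homomorphism of bialgebras giving a monomorphism of groups is surjective if the source is of multiplicative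
type. -/
theorem surjective_of_mono_spMap {A C : Type u} [CommRing A] [HopfAlgebra B A] [CommRing C] [HopfAlgebra B C]
    (hA : SGA3b.IsMultType B A) (cm : C →ₐc[B] A) [Mono (spMap (cm : C →ₐ[B] A))] : Function.Surjective cm :=
  surjective_of_mono hA cm fun T _ _ a b h => spMap_injective <| by
    rw [← cancel_mono (spMap (cm : C →ₐ[B] A)), spMap_comp, spMap_comp]
    exact congrArg spMap h

theorem exists_hopf_subgroup {H G : Over (Spec (CommRingCat.of B))} [GrpObj H] [GrpObj G]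
    (hH : SGA3x.IsMultTypeFT H) {C : Type u} [CommRing C] [HopfAlgebra B C] (θ' : G ⟶ sp B C) [IsMonHom θ'] [Mono θ']
    (i : H ⟶ G) [IsMonHom i] [Mono i] :
    ∃ (A : Type u) (_ : CommRing A) (_ : HopfAlgebra B A) (eh : sp B A ⟶ H) (eh' : H ⟶ sp B A) (cm : C →ₐc[B] A),
      SGA3b.IsMultType B A ∧ eh ≫ eh' = 𝟙 _ ∧ eh' ≫ eh = 𝟙 _ ∧ Function.Surjective cm ∧
      eh ≫ i ≫ θ' = spMap (cm : C →ₐ[B] A) := by
  obtain ⟨A, _, _, hA, ⟨e⟩⟩ := SchemeBridge.exists_hopf_multType H hH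
  let eh : sp B A ⟶ H := e.hom.hom.hom
  let eh' : H ⟶ sp B A := e.inv.hom.hom
  have heh : eh' ≫ eh = 𝟙 H := congrArg (fun h => h.hom.hom) e.inv_hom_id
  have heh' : eh ≫ eh' = 𝟙 (sp B A) := congrArg (fun h => h.hom.hom) e.hom_inv_id
  haveI : IsMonHom eh := e.hom.hom.isMonHom_hom
  haveI : IsIso eh := ⟨eh', heh', heh⟩
  obtain ⟨cm, hcm⟩ := exists_bialgHom (eh ≫ i ≫ θ')
  haveI : Mono (spMap (cm : C →ₐ[B] A)) := by rw [← hcm]; infer_instance
  exact ⟨A, inferInstance, inferInstance, eh, eh', cm, hA, heh', heh, surjective_of_mono_spMap hA cm, hcm⟩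

theorem coe_comp_toConv {A A' C : Type u} [CommRing A] [HopfAlgebra B A] [CommRing A'] [HopfAlgebra B A']
    [CommRing C] [HopfAlgebra B C] (φ : A →ₐc[B] A') (cm : C →ₐc[B] A) :
    spMap (φ : A →ₐ[B] A') ≫ spMap (cm : C →ₐ[B] A) =
      Spec.mapMulEquiv (convMap (φ : A →ₐ[B] A') (toConv (cm : C →ₐ[B] A))) := by
  rw [spMap_comp]
  rfl

set_option maxHeartbeats 800000 in
/-- Points of transporters of subgroups lift along nilpotent ideals, over an affine base. -/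
theorem exists_lift_affine (H₁ H₂ G : Over (Spec (CommRingCat.of B))) [GrpObj H₁] [GrpObj H₂] [GrpObj G]
    (hH₁ : SGA3x.IsMultTypeFT H₁) (hH₂ : SGA3x.IsMultTypeFT H₂) [IsAffine G.left] [Smooth G.hom]
    (i₁ : H₁ ⟶ G) [IsMonHom i₁] [Mono i₁] (i₂ : H₂ ⟶ G) [IsMonHom i₂] [Mono i₂]
    (J : Ideal B) (hJ : IsNilpotent J) (g₀ : sp B (B ⧸ J) ⟶ G) (h0 : STransp i₁ i₂ g₀) :
    ∃ g : sp B B ⟶ G, spMap (Ideal.Quotient.mkₐ B J) ≫ g = g₀ ∧ STransp i₁ i₂ g := by
  obtain ⟨C, _, _, ⟨eG⟩⟩ := exists_hopf G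
  let θ : sp B C ⟶ G := eG.hom.hom.hom
  let θ' : G ⟶ sp B C := eG.inv.hom.hom
  have hθ : θ' ≫ θ = 𝟙 G := congrArg (fun h => h.hom.hom) eG.inv_hom_id
  have hθ' : θ ≫ θ' = 𝟙 (sp B C) := congrArg (fun h => h.hom.hom) eG.hom_inv_id
  haveI : IsMonHom θ := eG.hom.hom.isMonHom_hom
  haveI : IsMonHom θ' := eG.inv.hom.isMonHom_hom
  haveI : IsIso θ := ⟨θ', hθ', hθ⟩
  haveI : IsIso θ' := ⟨θ, hθ, hθ'⟩
  haveI : Algebra.FormallySmooth B C := by
    haveI : IsIso θ.left := inferInstanceAs (IsIso ((Over.forget _).map θ))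
    have h : Smooth (sp B C).hom := by
      rw [← Over.w θ]
      infer_instance
    have h' := RingHom.smooth_algebraMap.mp ((HasRingHomProperty.Spec_iff (P := @Smooth)
      (φ := CommRingCat.ofHom (algebraMap B C))).mp h)
    exact h'.formallySmooth
  obtain ⟨A₁, _, _, eh₁, eh₁', cm₁, hA₁, hiso₁, hiso₁', hcm₁, hi₁⟩ := exists_hopf_subgroup hH₁ θ' i₁
  obtain ⟨A₂, _, _, eh₂, eh₂', cm₂, hA₂, hiso₂, hiso₂', hcm₂, hi₂⟩ := exists_hopf_subgroup hH₂ θ' i₂
  obtain ⟨x₀', hx₀'⟩ := exists_eq_spMap (g₀ ≫ θ')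
  let x₀ : C →ₐ[B] B := Algebra.FormallySmooth.lift J hJ x₀'
  have hx₀ : (Ideal.Quotient.mkₐ B J).comp x₀ = x₀' := Algebra.FormallySmooth.comp_lift J hJ x₀'
  let P : ∀ (T : Type u) [CommRing T] [Algebra B T], WithConv (C →ₐ[B] T) ≃* (sp B T ⟶ sp B C) := fun T _ _ =>
    Spec.mapMulEquiv
  have hP : ∀ (T : Type u) [CommRing T] [Algebra B T] (f : C →ₐ[B] T), P T (toConv f) = spMap f := fun T _ _ f => rfl
  have hι : ∀ (A : Type u) [CommRing A] [HopfAlgebra B A],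
      (Algebra.TensorProduct.includeLeft : B ⧸ J →ₐ[B] (B ⧸ J) ⊗[B] A).comp x₀' =
        (Algebra.ofId B ((B ⧸ J) ⊗[B] A)).comp x₀ := fun A _ _ => by
    rw [← hx₀, ← AlgHom.comp_assoc]
    congr 1
  let ι₁ : B ⧸ J →ₐ[B] (B ⧸ J) ⊗[B] A₁ := Algebra.TensorProduct.includeLeft
  let ι₂ : B ⧸ J →ₐ[B] (B ⧸ J) ⊗[B] A₂ := Algebra.TensorProduct.includeLeft
  let π₁ : A₁ →ₐ[B] (B ⧸ J) ⊗[B] A₁ := Algebra.TensorProduct.includeRight
  let π₂ : A₂ →ₐ[B] (B ⧸ J) ⊗[B] A₂ := Algebra.TensorProduct.includeRight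
  obtain ⟨h₂, hh₂⟩ := (h0 (sp B ((B ⧸ J) ⊗[B] A₁)) (spMap ι₁)).1 (spMap π₁ ≫ eh₁)
  obtain ⟨h₁, hh₁⟩ := (h0 (sp B ((B ⧸ J) ⊗[B] A₂)) (spMap ι₂)).2 (spMap π₂ ≫ eh₂)
  obtain ⟨q₁, hq₁⟩ := exists_eq_spMap (h₂ ≫ eh₂')
  obtain ⟨q₂, hq₂⟩ := exists_eq_spMap (h₁ ≫ eh₁')
  have k₁ : ∀ c, (1 : B ⧸ J) ⊗ₜ[B] (conjPt (toConv x₀) (toConv (cm₁ : C →ₐ[B] A₁))).ofConv c = q₁ (cm₂ c) := by
    have key : convMap π₁ (conjPt (toConv x₀) (toConv (cm₁ : C →ₐ[B] A₁))) = toConv (q₁.comp (cm₂ : C →ₐ[B] A₂)) := by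
      apply (P _).injective
      have h := congrArg (· ≫ θ') hh₂
      simp only [MonObj.mul_comp, GrpObj.inv_comp, Category.assoc] at h
      rw [hi₁, show h₂ ≫ i₂ ≫ θ' = spMap q₁ ≫ eh₂ ≫ i₂ ≫ θ' by
        rw [← hq₁, Category.assoc, reassoc_of% hiso₂'], hi₂, hx₀'] at h
      simp only [spMap_comp] at h
      rw [hι A₁] at h
      simp only [conjPt, map_mul, map_inv, convMap_ofId]
      exact h
    exact fun c => congrArg (fun f => f.ofConv c) key
  have k₂ : ∀ c, (1 : B ⧸ J) ⊗ₜ[B] (conjPt (toConv x₀)⁻¹ (toConv (cm₂ : C →ₐ[B] A₂))).ofConv c = q₂ (cm₁ c) := by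
    have key : convMap π₂ (conjPt (toConv x₀)⁻¹ (toConv (cm₂ : C →ₐ[B] A₂))) = toConv (q₂.comp (cm₁ : C →ₐ[B] A₁)) := by
      apply (P _).injective
      have h := congrArg (· ≫ θ') hh₁
      simp only [MonObj.mul_comp, GrpObj.inv_comp, Category.assoc] at h
      rw [hi₂, show h₁ ≫ i₁ ≫ θ' = spMap q₂ ≫ eh₁ ≫ i₁ ≫ θ' by
        rw [← hq₂, Category.assoc, reassoc_of% hiso₁'], hi₁, hx₀'] at h
      simp only [spMap_comp] at h
      rw [hι A₂] at h
      simp only [conjPt, map_mul, map_inv, convMap_ofId, inv_inv]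
      exact h
    exact fun c => congrArg (fun f => f.ofConv c) key
  obtain ⟨x, φ, ψ, hx, hxφ, hxψ⟩ := exists_conjSub hJ hA₁ hA₂ cm₁ hcm₁ cm₂ hcm₂ (toConv x₀) q₁ k₁ q₂ k₂
  refine ⟨spMap x.ofConv ≫ θ, ?_, fun X' t => ⟨fun a => ⟨a ≫ eh₁' ≫ spMap (φ : A₂ →ₐ[B] A₁) ≫ eh₂, ?_⟩,
    fun a => ⟨a ≫ eh₂' ≫ spMap (ψ : A₁ →ₐ[B] A₂) ≫ eh₁, ?_⟩⟩⟩
  · rw [← Category.assoc, spMap_comp]
    have e : (Ideal.Quotient.mkₐ B J).comp x.ofConv = x₀' := by
      rw [← hx₀]
      refine AlgHom.ext fun c => Ideal.Quotient.eq.mpr ?_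
      have h := hx c
      rwa [Ideal.smul_top_eq_map, Algebra.algebraMap_self, Ideal.map_id] at h
    rw [e, ← hx₀', Category.assoc, hθ, Category.comp_id]
  · have huniv : (spMap (Algebra.ofId B A₁) ≫ spMap x.ofConv ≫ θ) * (eh₁ ≫ i₁) *
        (spMap (Algebra.ofId B A₁) ≫ spMap x.ofConv ≫ θ)⁻¹ = spMap (φ : A₂ →ₐ[B] A₁) ≫ eh₂ ≫ i₂ := by
      rw [← cancel_mono θ']
      simp only [MonObj.mul_comp, GrpObj.inv_comp, Category.assoc, hθ', Category.comp_id, hi₁, hi₂, coe_comp_toConv,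
        spMap_comp]
      have h := congrArg (P A₁) hxφ
      simp only [conjPt, map_mul, map_inv] at h
      exact h
    have := congrArg (fun f => (a ≫ eh₁') ≫ f) huniv
    simp only [MonObj.comp_mul, GrpObj.comp_inv, ← Category.assoc] at this
    rw [show ((a ≫ eh₁') ≫ eh₁) = a by rw [Category.assoc, hiso₁', Category.comp_id],
      over_subsingleton ((a ≫ eh₁') ≫ spMap (Algebra.ofId B A₁)) t] at this
    simpa only [Category.assoc] using this
  · have huniv : (spMap (Algebra.ofId B A₂) ≫ spMap x.ofConv ≫ θ)⁻¹ * (eh₂ ≫ i₂) *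
        (spMap (Algebra.ofId B A₂) ≫ spMap x.ofConv ≫ θ) = spMap (ψ : A₁ →ₐ[B] A₂) ≫ eh₁ ≫ i₁ := by
      rw [← cancel_mono θ']
      simp only [MonObj.mul_comp, GrpObj.inv_comp, Category.assoc, hθ', Category.comp_id, hi₁, hi₂, coe_comp_toConv,
        spMap_comp]
      have h := congrArg (P A₂) hxψ
      simp only [conjPt, map_mul, map_inv, inv_inv] at h
      exact h
    have := congrArg (fun f => (a ≫ eh₂') ≫ f) huniv
    simp only [MonObj.comp_mul, GrpObj.comp_inv, ← Category.assoc] at this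
    rw [show ((a ≫ eh₂') ≫ eh₂) = a by rw [Category.assoc, hiso₂', Category.comp_id],
      over_subsingleton ((a ≫ eh₂') ≫ spMap (Algebra.ofId B A₂)) t] at this
    simpa only [Category.assoc] using this

set_option maxHeartbeats 800000 in
/-- Points of transporters of subgroups lift along nilpotent thickenings of affine schemes over the base. -/
theorem exists_lift {S : Scheme.{u}} (H₁ H₂ G : Over S) [GrpObj H₁] [GrpObj H₂] [GrpObj G]
    (hH₁ : SGA3x.IsMultTypeFT H₁) (hH₂ : SGA3x.IsMultTypeFT H₂) [IsAffineHom G.hom] [Smooth G.hom]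
    (i₁ : H₁ ⟶ G) [IsMonHom i₁] [Mono i₁] (i₂ : H₂ ⟶ G) [IsMonHom i₂] [Mono i₂]
    (t : Spec (CommRingCat.of B) ⟶ S) (J : Ideal B) (hJ : IsNilpotent J)
    (g₀ : (Over.map t).obj (sp B (B ⧸ J)) ⟶ G) (h0 : STransp i₁ i₂ g₀) :
    ∃ g : (Over.map t).obj (sp B B) ⟶ G,
      (Over.map t).map (spMap (Ideal.Quotient.mkₐ B J)) ≫ g = g₀ ∧ STransp i₁ i₂ g := by
  let F := Over.pullback t
  let adj := Over.mapPullbackAdj t
  have hmul : ∀ {X : Over (Spec (CommRingCat.of B))} (a b : (Over.map t).obj X ⟶ G),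
      adj.homEquiv X G (a * b) = adj.homEquiv X G a * adj.homEquiv X G b := by
    intro X a b
    rw [Adjunction.homEquiv_unit, Adjunction.homEquiv_unit, Adjunction.homEquiv_unit, Functor.map_mul,
      MonObj.comp_mul]
  let Φ : ∀ X, (((Over.map t).obj X ⟶ G) →* (X ⟶ F.obj G)) := fun X => MonoidHom.mk' (adj.homEquiv X G) hmul
  have hΦ : ∀ X, Function.Injective (Φ X) := fun X => (adj.homEquiv X G).injective
  haveI : IsAffine (F.obj G).left := by
    haveI : IsAffineHom (F.obj G).hom := inferInstanceAs (IsAffineHom (pullback.snd G.hom t))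
    exact isAffine_of_isAffineHom (F.obj G).hom
  haveI : Smooth (F.obj G).hom := inferInstanceAs (Smooth (pullback.snd G.hom t))
  haveI : IsMonHom (F.map i₁) := inferInstance
  haveI : IsMonHom (F.map i₂) := inferInstance
  have hbwd : STransp (F.map i₁) (F.map i₂) (Φ _ g₀) := by
    intro X x
    refine ⟨fun h => ?_, fun h => ?_⟩
    · obtain ⟨h', rfl⟩ := (adj.homEquiv X H₁).surjective h
      obtain ⟨k, hk⟩ := (h0 ((Over.map t).obj X) ((Over.map t).map x)).1 h'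
      refine ⟨adj.homEquiv X H₂ k, ?_⟩
      have e := congrArg (Φ X) hk
      rw [map_mul, map_mul, map_inv] at e
      simp only [Φ, MonoidHom.mk'_apply, Adjunction.homEquiv_naturality_left] at e
      simp only [Adjunction.homEquiv_naturality_right] at e
      exact e
    · obtain ⟨h', rfl⟩ := (adj.homEquiv X H₂).surjective h
      obtain ⟨k, hk⟩ := (h0 ((Over.map t).obj X) ((Over.map t).map x)).2 h'
      refine ⟨adj.homEquiv X H₁ k, ?_⟩
      have e := congrArg (Φ X) hk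
      rw [map_mul, map_mul, map_inv] at e
      simp only [Φ, MonoidHom.mk'_apply, Adjunction.homEquiv_naturality_left] at e
      simp only [Adjunction.homEquiv_naturality_right] at e
      exact e
  obtain ⟨g', hg', hg'T⟩ := exists_lift_affine (F.obj H₁) (F.obj H₂) (F.obj G)
    (GrpSchLib.MultTypeBC.isMultTypeFT_bc t hH₁) (GrpSchLib.MultTypeBC.isMultTypeFT_bc t hH₂)
    (F.map i₁) (F.map i₂) J hJ _ hbwd
  obtain ⟨g, rfl⟩ := (adj.homEquiv _ G).surjective g'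
  refine ⟨g, (adj.homEquiv _ G).injective ?_, fun X' x => ?_⟩
  · rw [Adjunction.homEquiv_naturality_left]
    exact hg'
  · let X : Over (Spec (CommRingCat.of B)) := Over.mk (x.left ≫ (sp B B).hom)
    let x₁ : X ⟶ sp B B := Over.homMk x.left rfl
    let e : X' ≅ (Over.map t).obj X := Over.isoMk (Iso.refl _) (by
      show 𝟙 _ ≫ (x.left ≫ (sp B B).hom) ≫ t = X'.hom
      rw [Category.id_comp, Category.assoc]
      exact Over.w x)
    have hx : e.inv ≫ x = (Over.map t).map x₁ := Over.OverMorphism.ext (Category.id_comp _)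
    refine ⟨fun h => ?_, fun h => ?_⟩
    · obtain ⟨k, hk⟩ := (hg'T X x₁).1 (adj.homEquiv X H₁ (e.inv ≫ h))
      obtain ⟨k', rfl⟩ := (adj.homEquiv X H₂).surjective k
      refine ⟨e.hom ≫ k', ?_⟩
      rw [← cancel_epi e.inv]
      apply hΦ X
      simp only [MonObj.comp_mul, GrpObj.comp_inv, ← Category.assoc, hx, map_mul, map_inv, e.inv_hom_id,
        Category.id_comp]
      simp only [Φ, MonoidHom.mk'_apply, Adjunction.homEquiv_naturality_left]
      simp only [Adjunction.homEquiv_naturality_right] at hk ⊢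
      exact hk
    · obtain ⟨k, hk⟩ := (hg'T X x₁).2 (adj.homEquiv X H₂ (e.inv ≫ h))
      obtain ⟨k', rfl⟩ := (adj.homEquiv X H₁).surjective k
      refine ⟨e.hom ≫ k', ?_⟩
      rw [← cancel_epi e.inv]
      apply hΦ X
      simp only [MonObj.comp_mul, GrpObj.comp_inv, ← Category.assoc, hx, map_mul, map_inv, e.inv_hom_id,
        Category.id_comp]
      simp only [Φ, MonoidHom.mk'_apply, Adjunction.homEquiv_naturality_left]
      simp only [Adjunction.homEquiv_naturality_right] at hk ⊢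
      exact hk

end Groth.Agent.MultTypeLib.SubgroupLift
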