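import Groth.Prelude.Def_SGA3b
import Mathlib.RingTheory.HopfAlgebra.Convolution
import Mathlib.RingTheory.Bialgebra.MonoidAlgebra
import Mathlib.RingTheory.Flat.Basic
import Mathlib.RingTheory.Flat.Stability
import Mathlib.RingTheory.Flat.FaithfullyFlat.Algebra
import Mathlib.RingTheory.Spectrum.Prime.Basic

/-!
# Groups of multiplicative type through coordinates

A group of multiplicative type `Spec A` becomes, after flat extensions `R → S` covering `Spec R`,
of the form `S[M]`; the composite `A → S[M]` is a semilinear morphism of bialgebras, and the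
coefficient functionals `A → S` are orthogonal idempotents of the convolution algebra.
-/

universe u v w

open WithConv TensorProduct Coalgebra Bialgebra

noncomputable section

namespace Groth.Agent.MultTypeLib

section Semi

variable (R : Type u) [CommRing R] (S : Type v) [CommRing S] [Algebra R S]
variable (A : Type w) [CommRing A] [Bialgebra R A]
variable (B : Type*) [CommRing B] [Bialgebra S B] [Algebra R B] [IsScalarTower R S B]

/-- The map `A ⊗[R] A → B ⊗[S] B` induced by `f`. -/
def sq {R : Type u} [CommRing R] {A : Type w} [CommRing A] [Algebra R A] (S : Type v) [CommRing S]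
    [Algebra R S] {B : Type*} [CommRing B] [Algebra S B] [Algebra R B] [IsScalarTower R S B]
    (f : A →ₐ[R] B) : A ⊗[R] A →ₐ[R] B ⊗[S] B :=
  Algebra.TensorProduct.lift ((Algebra.TensorProduct.includeLeft (R := S) (S := R) (A := B) (B := B)).comp f)
    (((Algebra.TensorProduct.includeRight (R := S) (A := B) (B := B)).restrictScalars R).comp f)
    (fun _ _ => .all _ _)

@[simp] theorem sq_tmul {R : Type u} [CommRing R] {A : Type w} [CommRing A] [Algebra R A] (S : Type v)
    [CommRing S] [Algebra R S] {B : Type*} [CommRing B] [Algebra S B] [Algebra R B]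
    [IsScalarTower R S B] (f : A →ₐ[R] B) (a a' : A) : sq S f (a ⊗ₜ a') = f a ⊗ₜ f a' := by
  simp [sq]

/-- A morphism of bialgebras over a change of base. -/
structure SemiBialgHom where
  /-- the algebra map -/
  toAlgHom : A →ₐ[R] B
  counit_comp : ∀ a, counit (R := S) (toAlgHom a) = algebraMap R S (counit (R := R) a)
  comul_comp : ∀ a, comul (R := S) (toAlgHom a) = sq S toAlgHom (comul (R := R) a)

variable {R S A B}

/-- Precomposition, linear maps. -/
def SemiBialgHom.pre (h : SemiBialgHom R S A B) {T : Type*} [CommRing T] [Algebra R T] [Algebra S T]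
    [IsScalarTower R S T] : WithConv (B →ₗ[S] T) →* WithConv (A →ₗ[R] T) where
  toFun U := toConv ((U.ofConv.restrictScalars R) ∘ₗ h.toAlgHom.toLinearMap)
  map_one' := by
    refine WithConv.ext (LinearMap.ext fun a => ?_)
    simp [h.counit_comp, ← IsScalarTower.algebraMap_apply]
  map_mul' U V := by
    refine WithConv.ext (LinearMap.ext fun a => ?_)
    simp only [LinearMap.coe_comp, LinearMap.coe_restrictScalars, Function.comp_apply,
      AlgHom.toLinearMap_apply, LinearMap.convMul_apply, h.comul_comp]
    generalize comul (R := R) a = z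
    induction z using TensorProduct.induction_on with
    | zero => simp
    | add z₁ z₂ h₁ h₂ => simp only [map_add, h₁, h₂]
    | tmul x y => simp

@[simp] theorem SemiBialgHom.pre_apply (h : SemiBialgHom R S A B) {T : Type*} [CommRing T] [Algebra R T]
    [Algebra S T] [IsScalarTower R S T] (U : WithConv (B →ₗ[S] T)) (a : A) :
    (h.pre U).ofConv a = U.ofConv (h.toAlgHom a) := rfl

/-- Composition. -/
def SemiBialgHom.comp {U : Type*} [CommRing U] [Algebra S U] [Algebra R U] [IsScalarTower R S U]
    {C : Type*} [CommRing C] [Bialgebra U C] [Algebra S C] [Algebra R C] [IsScalarTower S U C]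
    [IsScalarTower R U C] [IsScalarTower R S C]
    (g : SemiBialgHom S U B C) (h : SemiBialgHom R S A B) : SemiBialgHom R U A C where
  toAlgHom := (g.toAlgHom.restrictScalars R).comp h.toAlgHom
  counit_comp a := by
    simp [g.counit_comp, h.counit_comp, ← IsScalarTower.algebraMap_apply]
  comul_comp a := by
    simp only [AlgHom.comp_apply, AlgHom.restrictScalars_apply, g.comul_comp, h.comul_comp]
    generalize comul (R := R) a = z
    induction z using TensorProduct.induction_on with
    | zero => simp
    | add z₁ z₂ h₁ h₂ => simp only [map_add, h₁, h₂]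
    | tmul x y => simp

variable (R S A)

/-- The canonical map to the base change. -/
def SemiBialgHom.baseChange : SemiBialgHom R S A (S ⊗[R] A) where
  toAlgHom := Algebra.TensorProduct.includeRight
  counit_comp a := by simp [Algebra.algebraMap_eq_smul_one]
  comul_comp a := by
    rw [← comulAlgHom_apply, Bialgebra.TensorProduct.comulAlgHom_def]
    simp only [AlgHom.comp_apply, Algebra.TensorProduct.map_tmul, comulAlgHom_apply, Bialgebra.comul_one,
      Algebra.TensorProduct.one_def, Algebra.TensorProduct.includeRight_apply]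
    generalize comul (R := R) a = z
    induction z using TensorProduct.induction_on with
    | zero => simp
    | add z₁ z₂ h₁ h₂ => simp only [TensorProduct.tmul_add, map_add, h₁, h₂]
    | tmul x y => simp

variable {R S A}

/-- A bialgebra morphism. -/
def SemiBialgHom.ofBialgHom {B' : Type*} [CommRing B'] [Bialgebra S B'] (e : B →ₐc[S] B') :
    SemiBialgHom S S B B' where
  toAlgHom := (e : B →ₐ[S] B')
  counit_comp a := by
    show counit (R := S) (e a) = _
    rw [CoalgHomClass.counit_comp_apply]; rfl
  comul_comp a := by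
    show comul (R := S) (e a) = _
    rw [← CoalgHomClass.map_comp_comul_apply]
    generalize comul (R := S) a = z
    induction z using TensorProduct.induction_on with
    | zero => simp
    | add z₁ z₂ h₁ h₂ => simp only [map_add, h₁, h₂]
    | tmul x y => simp

end Semi

/-- A flat extension diagonalising `A`. -/
structure Split (R : Type u) [CommRing R] (A : Type u) [CommRing A] [Bialgebra R A] where
  /-- the extension -/
  S : Type u
  [commRing : CommRing S]
  [algebra : Algebra R S]
  [flat : Module.Flat R S]
  /-- the character group -/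
  M : Type u
  [commGroup : CommGroup M]
  /-- the coordinates -/
  hom : SemiBialgHom R S A (MonoidAlgebra S M)
  /-- base change -/
  equiv : S ⊗[R] A ≃ₐ[S] MonoidAlgebra S M
  equiv_tmul : ∀ a, equiv (1 ⊗ₜ a) = hom.toAlgHom a

attribute [instance] Split.commRing Split.algebra Split.flat Split.commGroup

variable {R : Type u} [CommRing R] {A : Type u} [CommRing A] [HopfAlgebra R A]

set_option maxHeartbeats 1000000 in
/-- Constant type: one extension, faithfully flat. -/
theorem exists_split_of_const {Rf : Type u} [CommRing Rf] [Algebra R Rf] [Module.Flat R Rf]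
    (h : SGA3b.IsMultTypeConst Rf (Rf ⊗[R] A)) :
    ∃ P : Split R A, ∀ p : Ideal R, p.IsPrime → (∃ q : Ideal Rf, q.IsPrime ∧ q.comap (algebraMap R Rf) = p) →
      ∃ q : Ideal P.S, q.IsPrime ∧ q.comap (algebraMap R P.S) = p := by
  obtain ⟨S, _, _, hS, M, _, ⟨e⟩⟩ := h
  let _ : Algebra R S := ((algebraMap Rf S).comp (algebraMap R Rf)).toAlgebra
  have : IsScalarTower R Rf S := IsScalarTower.of_algebraMap_eq fun _ => rfl
  have : Module.Flat R S := Module.Flat.trans R Rf S
  refine ⟨{ S := S
            M := M
            hom := ((SemiBialgHom.ofBialgHom (e : S ⊗[Rf] (Rf ⊗[R] A) →ₐc[S] MonoidAlgebra S M)).comp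
              (SemiBialgHom.baseChange Rf S (Rf ⊗[R] A))).comp (SemiBialgHom.baseChange R Rf A)
            equiv := (Algebra.TensorProduct.cancelBaseChange R Rf S S A).symm.trans (e : _ ≃ₐ[S] _)
            equiv_tmul := fun a => by
              simp [SemiBialgHom.comp, SemiBialgHom.baseChange, SemiBialgHom.ofBialgHom] }, ?_⟩
  rintro p _ ⟨q, hq, rfl⟩
  obtain ⟨⟨r, hr⟩, hqr⟩ := PrimeSpectrum.comap_surjective_of_faithfullyFlat (A := Rf) (B := S) ⟨q, hq⟩
  refine ⟨r, hr, ?_⟩
  have : r.comap (algebraMap Rf S) = q := congrArg PrimeSpectrum.asIdeal hqr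
  rw [← this, Ideal.comap_comap]; rfl

/-- A covering family of diagonalising extensions. -/
structure Cover (R : Type u) [CommRing R] (A : Type u) [CommRing A] [Bialgebra R A] where
  /-- the index type -/
  ι : Type u
  [finite : Finite ι]
  /-- the members -/
  split : ι → Split R A
  surj : ∀ p : Ideal R, p.IsPrime → ∃ (i : ι) (q : Ideal (split i).S),
    q.IsPrime ∧ q.comap (algebraMap R (split i).S) = p

attribute [instance] Cover.finite

theorem exists_cover (h : SGA3b.IsMultType R A) : Nonempty (Cover R A) := by
  obtain ⟨s, hs, hA⟩ := h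
  obtain ⟨t, hts, ht⟩ := Submodule.mem_span_finite_of_mem_span (hs ▸ Submodule.mem_top : (1 : R) ∈ Ideal.span s)
  choose P hP using fun f : (t : Finset R) => exists_split_of_const (hA f (hts f.2))
  refine ⟨⟨(t : Finset R), P, fun p hp => ?_⟩⟩
  obtain ⟨f, hft, hfp⟩ : ∃ f ∈ t, f ∉ p := by
    by_contra hne
    push Not at hne
    exact hp.ne_top (p.eq_top_iff_one.mpr (Submodule.span_le.mpr hne ht))
  obtain ⟨q, hq, hqp⟩ : ∃ q : Ideal (Localization.Away f), q.IsPrime ∧
      q.comap (algebraMap R (Localization.Away f)) = p := by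
    have hdis : Disjoint (Submonoid.powers f : Set R) (p : Set R) := by
      rw [Set.disjoint_left]
      rintro x ⟨n, rfl⟩ hx
      exact hfp (hp.mem_of_pow_mem n hx)
    exact ⟨_, IsLocalization.isPrime_of_isPrime_disjoint _ _ p hp hdis,
      IsLocalization.under_map_of_isPrime_disjoint _ _ hp hdis⟩
  exact ⟨⟨f, hft⟩, hP ⟨f, hft⟩ p hp ⟨q, hq, hqp⟩⟩

namespace Cover

variable (c : Cover R A) {N : Type*} [AddCommGroup N] [Module R N]

/-- An element of a module vanishes if it does so over the cover. -/
theorem module_ext (x : N) (hx : ∀ i, (1 : (c.split i).S) ⊗ₜ[R] x = 0) : x = 0 := by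
  by_contra hne
  obtain ⟨p, hp, hle⟩ := Ideal.exists_le_maximal (LinearMap.ker (LinearMap.toSpanSingleton R N x))
    (fun h => hne (by
      have : (1 : R) ∈ LinearMap.ker (LinearMap.toSpanSingleton R N x) := h ▸ trivial
      simpa using this))
  obtain ⟨i, q, hq, hqp⟩ := c.surj p hp.isPrime
  let S := (c.split i).S
  let I : Ideal R := LinearMap.ker (LinearMap.toSpanSingleton R N x)
  let f : R ⧸ I →ₗ[R] N := Submodule.liftQ I (LinearMap.toSpanSingleton R N x) le_rfl
  have hf : Function.Injective f := LinearMap.ker_eq_bot.mp (Submodule.ker_liftQ_eq_bot _ _ _ le_rfl)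
  have hfS := Module.Flat.lTensor_preserves_injective_linearMap (M := S) f hf
  have hf1 : f (Ideal.Quotient.mk I 1) = x := by
    show LinearMap.toSpanSingleton R N x 1 = x
    simp
  have h1 : (1 : S ⊗[R] (R ⧸ I)) = 0 := by
    apply hfS
    rw [map_zero, Algebra.TensorProduct.one_def, LinearMap.lTensor_tmul,
      ← (Ideal.Quotient.mk I).map_one, hf1, hx i]
  let g : S ⊗[R] (R ⧸ I) →ₐ[R] S ⧸ q := Algebra.TensorProduct.lift (Ideal.Quotient.mkₐ R q)
    (Ideal.Quotient.liftₐ I (Algebra.ofId R (S ⧸ q)) fun r hr => by
      have hrp : algebraMap R S r ∈ q := by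
        rw [← Ideal.mem_comap, hqp]; exact hle hr
      simp [Algebra.ofId_apply, IsScalarTower.algebraMap_apply R S (S ⧸ q),
        Ideal.Quotient.eq_zero_iff_mem.mpr hrp])
    (fun _ _ => .all _ _)
  have h2 := congrArg g h1
  rw [map_one, map_zero] at h2
  exact hq.ne_top (Ideal.Quotient.zero_eq_one_iff.mp h2.symm)

theorem mem_of_forall (L : Submodule R N) (x : N)
    (hx : ∀ i, (1 : (c.split i).S) ⊗ₜ[R] x ∈ LinearMap.range (LinearMap.lTensor (c.split i).S L.subtype)) :
    x ∈ L := by
  rw [← Submodule.Quotient.mk_eq_zero L]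
  refine c.module_ext _ fun i => ?_
  obtain ⟨y, hy⟩ := hx i
  have h := congrArg (LinearMap.lTensor (c.split i).S L.mkQ) hy
  have h0 : L.mkQ ∘ₗ L.subtype = 0 := by ext z; simp
  rw [← LinearMap.comp_apply, ← LinearMap.lTensor_comp, h0,
    LinearMap.lTensor_zero, LinearMap.zero_apply, LinearMap.lTensor_tmul] at h
  exact h.symm

theorem eq_zero_of_hom (a : A) (ha : ∀ i, (c.split i).hom.toAlgHom a = 0) : a = 0 :=
  c.module_ext a fun i => (c.split i).equiv.injective (by rw [(c.split i).equiv_tmul, ha i, map_zero])

theorem eq_of_hom (a b : A) (h : ∀ i, (c.split i).hom.toAlgHom a = (c.split i).hom.toAlgHom b) : a = b :=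
  sub_eq_zero.mp (c.eq_zero_of_hom _ fun i => by rw [map_sub, h i, sub_self])

end Cover

end Groth.Agent.MultTypeLib
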