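import Groth.Agent.MultTypeLib.Diag
import Groth.Agent.MultTypeLib.Build
import Groth.Agent.MultTypeLib.Sub
import Mathlib.RingTheory.Idempotents

/-!
# Change of the splitting ring and rigidity of group-like elements
-/

universe u v w

open WithConv TensorProduct Coalgebra Bialgebra

noncomputable section

namespace Groth.Agent.MultTypeLib

section Extend

variable {R : Type u} [CommRing R] {S : Type u} [CommRing S] [Algebra R S] {T : Type u} [CommRing T]
  [Algebra R T] [Algebra S T] [IsScalarTower R S T]
variable {A : Type u} [CommRing A] [Bialgebra R A]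
variable {B : Type u} [CommRing B] [Bialgebra T B] [Algebra R B] [Algebra S B] [IsScalarTower R T B]
  [IsScalarTower S T B] [IsScalarTower R S B]

/-- Extend a semilinear morphism along an intermediate base. -/
def SemiBialgHom.extendSemi (h : SemiBialgHom R T A B) : SemiBialgHom S T (S ⊗[R] A) B where
  toAlgHom := Algebra.TensorProduct.lift (Algebra.ofId S B) h.toAlgHom fun _ _ => .all _ _
  counit_comp z := by
    induction z using TensorProduct.induction_on with
    | zero => simp
    | add z₁ z₂ h₁ h₂ => simp only [map_add, h₁, h₂]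
    | tmul s a =>
      rw [Algebra.TensorProduct.lift_tmul, Algebra.ofId_apply, IsScalarTower.algebraMap_apply S T B]
      simp only [Bialgebra.counit_mul, h.counit_comp, TensorProduct.counit_tmul, Bialgebra.counit_algebraMap]
      simp [Algebra.smul_def, mul_comm, ← IsScalarTower.algebraMap_apply]
  comul_comp z := by
    induction z using TensorProduct.induction_on with
    | zero => simp
    | add z₁ z₂ h₁ h₂ => simp only [map_add, h₁, h₂]
    | tmul s a =>
      set f : S ⊗[R] A →ₐ[S] B :=
        Algebra.TensorProduct.lift (Algebra.ofId S B) h.toAlgHom fun _ _ => .all _ _ with hf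
      have e0 : (s ⊗ₜ[R] a : S ⊗[R] A) = algebraMap S (S ⊗[R] A) s * (1 ⊗ₜ a) := by simp
      have e2 : comul (R := S) ((1 : S) ⊗ₜ[R] a : S ⊗[R] A) =
          sq S (SemiBialgHom.baseChange R S A).toAlgHom (comul (R := R) a) :=
        (SemiBialgHom.baseChange R S A).comul_comp a
      rw [e0, map_mul, AlgHom.commutes, Bialgebra.comul_mul, Bialgebra.comul_mul,
        Bialgebra.comul_algebraMap, IsScalarTower.algebraMap_apply S T B, Bialgebra.comul_algebraMap,
        map_mul, AlgHom.commutes, ← IsScalarTower.algebraMap_apply S T (B ⊗[T] B), e2]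
      congr 1
      have e1 : f (1 ⊗ₜ a) = h.toAlgHom a := by simp [hf]
      rw [e1, h.comul_comp]
      generalize comul (R := R) a = y
      induction y using TensorProduct.induction_on with
      | zero => simp
      | add y₁ y₂ h₁ h₂ => simp only [map_add, h₁, h₂]
      | tmul p q => simp [hf, SemiBialgHom.baseChange]

@[simp] theorem SemiBialgHom.extendSemi_tmul (h : SemiBialgHom R T A B) (s : S) (a : A) :
    (h.extendSemi (S := S)).toAlgHom (s ⊗ₜ a) = algebraMap S B s * h.toAlgHom a := by
  simp [SemiBialgHom.extendSemi, Algebra.ofId_apply]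

end Extend

section MapA

variable {R : Type u} [CommRing R] {S : Type u} [CommRing S] [Algebra R S] {T : Type u} [CommRing T]
  [Algebra R T] {U : Type u} [CommRing U] [Algebra R U]
variable (A : Type u) [CommRing A] [Bialgebra R A]

/-- Change of base on `- ⊗ A`. -/
abbrev mA (f : S →ₐ[R] T) : S ⊗[R] A →ₐ[R] T ⊗[R] A := Algebra.TensorProduct.map f (AlgHom.id R A)

variable {A}

theorem mA_comp (g : T →ₐ[R] U) (f : S →ₐ[R] T) (z : S ⊗[R] A) : mA A g (mA A f z) = mA A (g.comp f) z := by
  induction z using TensorProduct.induction_on with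
  | zero => simp
  | tmul s a => simp
  | add x y hx hy => simp only [map_add, hx, hy]

theorem isGroupLike_mA (f : S →ₐ[R] T) {z : S ⊗[R] A} (hz : IsGroupLikeElem S z) :
    IsGroupLikeElem T (mA A f z) := by
  let _ : Algebra S T := f.toRingHom.toAlgebra
  have : IsScalarTower R S T := IsScalarTower.of_algebraMap_eq fun r => (f.commutes r).symm
  have h := ((SemiBialgHom.baseChange R T A).extendSemi (S := S)).isGroupLike hz
  have e : mA A f z = ((SemiBialgHom.baseChange R T A).extendSemi (S := S)).toAlgHom z := by
    clear h hz
    induction z using TensorProduct.induction_on with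
    | zero => simp
    | tmul s a =>
      rw [SemiBialgHom.extendSemi_tmul]
      simp [SemiBialgHom.baseChange, Algebra.TensorProduct.algebraMap_apply, RingHom.algebraMap_toAlgebra]
    | add x y hx hy => simp only [map_add, hx, hy]
  rw [e]
  exact h

end MapA

section MapCoeff

variable (S : Type u) [CommRing S] (T : Type u) [CommRing T] [Algebra S T] (M : Type u) [CommGroup M]

/-- Change of coefficients of a group algebra. -/
def mapCoeff : SemiBialgHom S T (MonoidAlgebra S M) (MonoidAlgebra T M) where
  toAlgHom := MonoidAlgebra.lift S (MonoidAlgebra T M) M (MonoidAlgebra.of T M)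
  counit_comp x := by
    induction x using MonoidAlgebra.induction_linear with
    | zero => simp
    | add x y hx hy => simp only [map_add, hx, hy]
    | single m r => simp [MonoidAlgebra.of_apply, Algebra.algebraMap_eq_smul_one]
  comul_comp x := by
    induction x using MonoidAlgebra.induction_linear with
    | zero => simp
    | add x y hx hy => simp only [map_add, hx, hy]
    | single m r =>
      simp [MonoidAlgebra.of_apply, comul_single_one]
      have e : MonoidAlgebra.single m (r • (1 : T)) = (algebraMap S T r) • MonoidAlgebra.single m (1 : T) := by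
        simp [MonoidAlgebra.smul_single, Algebra.smul_def]
      rw [e, TensorProduct.tmul_smul, algebraMap_smul]

variable {S T M}

theorem mapCoeff_single (m : M) (r : S) :
    (mapCoeff S T M).toAlgHom (MonoidAlgebra.single m r) = MonoidAlgebra.single m (algebraMap S T r) := by
  simp [mapCoeff, MonoidAlgebra.of_apply, MonoidAlgebra.smul_single, Algebra.smul_def]

theorem coeff_mapCoeff (x : MonoidAlgebra S M) (m : M) :
    ((mapCoeff S T M).toAlgHom x).coeff m = algebraMap S T (x.coeff m) := by
  classical
  induction x using MonoidAlgebra.induction_linear with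
  | zero => simp
  | add x y hx hy => simp [hx, hy]
  | single n r =>
    rw [mapCoeff_single, MonoidAlgebra.coeff_single, MonoidAlgebra.coeff_single, Finsupp.single_apply,
      Finsupp.single_apply]
    split_ifs <;> simp

end MapCoeff

section GroupAlgebra

variable {S : Type u} [CommRing S] {M : Type u} [CommGroup M]

/-- The identity of a group algebra, as a semilinear morphism. -/
def idHom (S : Type u) [CommRing S] (M : Type u) [CommGroup M] :
    SemiBialgHom S S (MonoidAlgebra S M) (MonoidAlgebra S M) :=
  SemiBialgHom.ofBialgHom (BialgHom.id S _)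

@[simp] theorem idHom_apply (x : MonoidAlgebra S M) : (idHom S M).toAlgHom x = x := rfl

theorem isGroupLike_single (m : M) : IsGroupLikeElem S (MonoidAlgebra.single m (1 : S)) where
  counit_eq_one := by simp
  comul_eq_tmul_self := comul_single_one m 1

theorem groupLike_idem {x : MonoidAlgebra S M} (hx : IsGroupLikeElem S x) (m : M) :
    IsIdempotentElem (x.coeff m) := by
  classical
  simpa [IsIdempotentElem] using (idHom S M).groupLike_orth hx m m

theorem groupLike_orth' {x : MonoidAlgebra S M} (hx : IsGroupLikeElem S x) {m n : M} (h : m ≠ n) :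
    x.coeff m * x.coeff n = 0 := by
  classical
  simpa [h] using (idHom S M).groupLike_orth hx m n

/-- Group-like elements which agree modulo nilpotents are equal. -/
theorem groupLike_ext_nil {x y : MonoidAlgebra S M} (hx : IsGroupLikeElem S x) (hy : IsGroupLikeElem S y)
    (h : ∀ m, IsNilpotent (x.coeff m - y.coeff m)) : x = y := by
  ext m
  exact eq_of_isNilpotent_sub_of_isIdempotentElem (groupLike_idem hx m) (groupLike_idem hy m) (h m)

/-- Orthogonal idempotents of sum one define a group-like element. -/
theorem isGroupLike_of_orth (t : Finset M) (e : M → S) (he : ∀ m ∈ t, ∀ n ∈ t, m ≠ n → e m * e n = 0)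
    (hi : ∀ m ∈ t, IsIdempotentElem (e m)) (hs : ∑ m ∈ t, e m = 1) :
    IsGroupLikeElem S (∑ m ∈ t, MonoidAlgebra.single m (e m)) where
  counit_eq_one := by simp [map_sum, hs]
  comul_eq_tmul_self := by
    classical
    rw [TensorProduct.sum_tmul, map_sum]
    refine Finset.sum_congr rfl fun m hm => ?_
    rw [TensorProduct.tmul_sum, comul_single_one]
    have key : ∀ n, (MonoidAlgebra.single m (e m) ⊗ₜ[S] MonoidAlgebra.single n (e n)) =
        (e m * e n) • (MonoidAlgebra.single m (1 : S) ⊗ₜ[S] MonoidAlgebra.single n (1 : S)) := by
      intro n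
      rw [mul_smul, ← TensorProduct.tmul_smul, TensorProduct.smul_tmul']
      simp [MonoidAlgebra.smul_single]
    rw [Finset.sum_eq_single m]
    · rw [key, (hi m hm).eq, ← TensorProduct.tmul_smul]
      simp [MonoidAlgebra.smul_single]
    · intro n hn hne
      rw [key, he m hm n hn (Ne.symm hne), zero_smul]
    · exact fun h => absurd hm h

/-- Lift a group-like element along a nil extension. -/
theorem exists_groupLike_lift {T : Type u} [CommRing T] (π : S →+* T) (hπ : Function.Surjective π)
    (hker : ∀ x ∈ RingHom.ker π, IsNilpotent x) {x₀ : MonoidAlgebra T M} (hx₀ : IsGroupLikeElem T x₀) :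
    ∃ x : MonoidAlgebra S M, IsGroupLikeElem S x ∧ ∀ m, π (x.coeff m) = x₀.coeff m := by
  classical
  let t := x₀.coeff.support
  have hsum : ∑ m ∈ t, x₀.coeff m = 1 := by
    conv_rhs => rw [← hx₀.counit_eq_one, ← MonoidAlgebra.sum_single x₀, Finsupp.sum]
    simp [map_sum]
    rfl
  have hc : CompleteOrthogonalIdempotents fun m : t => x₀.coeff m.1 := by
    refine ⟨⟨fun m => groupLike_idem hx₀ m.1, fun m n h => groupLike_orth' hx₀ (fun e => h (Subtype.ext e))⟩, ?_⟩
    rw [Finset.sum_coe_sort t (fun m => x₀.coeff m)]
    exact hsum
  obtain ⟨e', he', hee⟩ := CompleteOrthogonalIdempotents.lift_of_isNilpotent_ker π hker hc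
    (fun m => hπ _)
  let e : M → S := fun m => if h : m ∈ t then e' ⟨m, h⟩ else 0
  have hsum' : ∑ m ∈ t, e m = 1 := by
    rw [← Finset.sum_coe_sort t e, ← he'.complete]
    exact Finset.sum_congr rfl fun m _ => by simp [e]
  refine ⟨∑ m ∈ t, MonoidAlgebra.single m (e m), isGroupLike_of_orth t e ?_ ?_ hsum', fun m => ?_⟩
  · intro m hm n hn hne
    simp only [e, hm, hn, dite_true]
    exact he'.ortho (fun h => hne (congrArg Subtype.val h))
  · intro m hm
    simp only [e, hm, dite_true]
    exact he'.idem _
  · rw [MonoidAlgebra.coeff_sum, Finsupp.finsetSum_apply]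
    simp only [MonoidAlgebra.coeff_single, Finsupp.single_apply]
    rw [Finset.sum_ite_eq']
    split_ifs with h
    · simp only [e, h, dite_true]
      exact congrFun hee ⟨m, h⟩
    · rw [map_zero]
      exact (Finsupp.notMem_support_iff.mp h).symm

end GroupAlgebra

section SplitChange

variable {R : Type u} [CommRing R] {A : Type u} [CommRing A] [HopfAlgebra R A] (P : Split R A)
variable (T : Type u) [CommRing T] [Algebra R T] [Algebra P.S T] [IsScalarTower R P.S T]

/-- Coordinates over an extension of the splitting ring. -/
def Split.homOver : SemiBialgHom R T A (MonoidAlgebra T P.M) :=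
  (mapCoeff P.S T P.M).comp P.hom

/-- The group-like element of `P.S ⊗ A` attached to a character. -/
def Split.char : P.M →* P.S ⊗[R] A :=
  (P.equiv.symm : MonoidAlgebra P.S P.M →* P.S ⊗[R] A).comp (MonoidAlgebra.of P.S P.M)

theorem Split.isGroupLike_char (n : P.M) : IsGroupLikeElem P.S (P.char n) := by
  have h := (SemiBialgHom.ofBialgHom
    (P.bialgEquiv.symm : MonoidAlgebra P.S P.M →ₐc[P.S] P.S ⊗[R] A)).isGroupLike (isGroupLike_single (S := P.S) n)
  suffices e : P.char n = P.bialgEquiv.symm (MonoidAlgebra.single n 1) by rw [e]; exact h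
  apply P.equiv.injective
  show P.equiv (P.equiv.symm _) = P.equiv (P.bialgEquiv.symm _)
  rw [AlgEquiv.apply_symm_apply, ← P.extend_eq]
  exact (P.bialgEquiv.apply_symm_apply _).symm

theorem Split.extend_homOver (z : P.S ⊗[R] A) :
    (P.homOver T).extend (mA A (IsScalarTower.toAlgHom R P.S T) z) =
      (mapCoeff P.S T P.M).toAlgHom (P.equiv z) := by
  induction z using TensorProduct.induction_on with
  | zero => simp
  | add x y hx hy => simp only [map_add, hx, hy]
  | tmul s a =>
    rw [show P.equiv (s ⊗ₜ[R] a) = s • P.hom.toAlgHom a by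
        rw [← P.equiv_tmul, ← map_smul]; simp [TensorProduct.smul_tmul'],
      map_smul, Algebra.TensorProduct.map_tmul, AlgHom.id_apply, SemiBialgHom.extend_tmul]
    simp [Split.homOver, SemiBialgHom.comp, Algebra.smul_def,
      IsScalarTower.algebraMap_apply P.S T (MonoidAlgebra T P.M)]

/-- The base change over an extension of the splitting ring is a group algebra. -/
theorem Split.extend_homOver_bijective : Function.Bijective (P.homOver T).extend := by
  let ι := IsScalarTower.toAlgHom R P.S T
  let inv : MonoidAlgebra T P.M →ₐ[T] T ⊗[R] A :=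
    MonoidAlgebra.lift T (T ⊗[R] A) P.M
      (((mA A ι).toRingHom.toMonoidHom : P.S ⊗[R] A →* T ⊗[R] A).comp P.char)
  have h1 : (P.homOver T).extend.comp inv = AlgHom.id T _ := by
    refine MonoidAlgebra.algHom_ext (fun n => ?_) (Subsingleton.elim _ _)
    show (P.homOver T).extend (inv (MonoidAlgebra.single n 1)) = _
    rw [MonoidAlgebra.lift_single, one_smul]
    show (P.homOver T).extend (mA A ι (P.char n)) = _
    rw [P.extend_homOver T]
    simp [Split.char, MonoidAlgebra.of_apply, mapCoeff_single]
  have h2 : inv.comp (P.homOver T).extend = AlgHom.id T _ := by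
    refine Algebra.TensorProduct.ext (Subsingleton.elim _ _) (AlgHom.ext fun a => ?_)
    show inv ((P.homOver T).extend (1 ⊗ₜ a)) = 1 ⊗ₜ a
    have key : ∀ x : MonoidAlgebra P.S P.M, inv ((mapCoeff P.S T P.M).toAlgHom x) = mA A ι (P.equiv.symm x) := by
      intro x
      induction x using MonoidAlgebra.induction_linear with
      | zero => simp
      | add x y hx hy => simp only [map_add, hx, hy]
      | single n r =>
        rw [mapCoeff_single, MonoidAlgebra.lift_single,
          show MonoidAlgebra.single n r = r • MonoidAlgebra.single n (1 : P.S) by simp [MonoidAlgebra.smul_single],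
          map_smul]
        show algebraMap P.S T r • mA A ι (P.char n) = mA A ι (r • P.char n)
        generalize P.char n = z
        induction z using TensorProduct.induction_on with
        | zero => simp
        | add x y hx hy => simp only [smul_add, map_add, hx, hy]
        | tmul s a => simp [TensorProduct.smul_tmul', ι, Algebra.smul_def]
    rw [SemiBialgHom.extend_tmul, one_smul]
    show inv ((mapCoeff P.S T P.M).toAlgHom (P.hom.toAlgHom a)) = _
    rw [key, ← P.equiv_tmul, AlgEquiv.symm_apply_apply]
    simp [ι]
  exact Function.bijective_iff_has_inverse.mpr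
    ⟨inv, fun z => AlgHom.congr_fun h2 z, fun z => AlgHom.congr_fun h1 z⟩

include P in
/-- Group-like elements of `T ⊗ A` which agree modulo a nil ideal are equal. -/
theorem Split.groupLike_ext_nil {U : Type u} [CommRing U] [Algebra R U] (q : T →ₐ[R] U)
    (hker : ∀ x, q x = 0 → IsNilpotent x) {z z' : T ⊗[R] A} (hz : IsGroupLikeElem T z)
    (hz' : IsGroupLikeElem T z') (h : mA A q z = mA A q z') : z = z' := by
  let _ : Algebra P.S U := (q.toRingHom.comp (algebraMap P.S T)).toAlgebra
  have : IsScalarTower R P.S U := IsScalarTower.of_algebraMap_eq fun r => by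
    show algebraMap R U r = q (algebraMap P.S T (algebraMap R P.S r))
    rw [← IsScalarTower.algebraMap_apply, AlgHom.commutes]
  have key : ∀ (y : T ⊗[R] A) (m : P.M),
      ((P.homOver U).extend (mA A q y)).coeff m = q (((P.homOver T).extend y).coeff m) := by
    intro y m
    induction y using TensorProduct.induction_on with
    | zero => simp
    | add x y hx hy => simp [hx, hy]
    | tmul t a =>
      rw [Algebra.TensorProduct.map_tmul, SemiBialgHom.extend_tmul, SemiBialgHom.extend_tmul]
      simp [Split.homOver, SemiBialgHom.comp, coeff_mapCoeff]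
      rfl
  have hg : ∀ {y : T ⊗[R] A}, IsGroupLikeElem T y → IsGroupLikeElem T ((P.homOver T).extend y) := fun hy => by
    rw [← SemiBialgHom.extendBialg_apply]
    exact (SemiBialgHom.ofBialgHom (P.homOver T).extendBialg).isGroupLike hy
  apply (P.extend_homOver_bijective T).1
  refine MultTypeLib.groupLike_ext_nil (hg hz) (hg hz') fun m => hker _ ?_
  rw [map_sub, ← key, ← key, h, sub_self]

end SplitChange

end Groth.Agent.MultTypeLib
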