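import Groth.Agent.MultTypeLib.Basic

/-!
# Coefficient functionals and rigidity
-/

universe u v w

open WithConv TensorProduct Coalgebra Bialgebra

noncomputable section

namespace Groth.Agent.MultTypeLib

section Functional

variable {S : Type v} [CommRing S] {M : Type w} [CommGroup M]

/-- The coefficient at `m`. -/
def cB (m : M) : MonoidAlgebra S M →ₗ[S] S :=
  Finsupp.lapply m ∘ₗ (MonoidAlgebra.coeffLinearEquiv S).toLinearMap

theorem cB_apply (m : M) (x : MonoidAlgebra S M) : cB m x = x.coeff m := rfl

@[simp] theorem cB_single [DecidableEq M] (m n : M) (r : S) :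
    cB m (MonoidAlgebra.single n r) = if n = m then r else 0 := by
  simp [cB_apply, Finsupp.single_apply]

theorem comul_single_one (n : M) (r : S) :
    comul (R := S) (MonoidAlgebra.single n r) = MonoidAlgebra.single n 1 ⊗ₜ MonoidAlgebra.single n r := by
  rw [MonoidAlgebra.comul_single, CommSemiring.comul_apply]
  simp [TensorProduct.map_tmul]

theorem ext_single {T : Type*} [AddCommMonoid T] [Module S T] {U V : MonoidAlgebra S M →ₗ[S] T}
    (h : ∀ n, U (MonoidAlgebra.single n 1) = V (MonoidAlgebra.single n 1)) : U = V := by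
  refine LinearMap.ext fun x => ?_
  induction x using MonoidAlgebra.induction_linear with
  | zero => simp
  | add y z hy hz => simp [hy, hz]
  | single n r =>
    have e : MonoidAlgebra.single n r = r • MonoidAlgebra.single n (1 : S) := by simp
    rw [e, map_smul, map_smul, h]

theorem cB_mul_cB [DecidableEq M] (m n : M) :
    toConv (cB m) * toConv (cB n) = if m = n then toConv (cB (S := S) m) else 0 := by
  refine WithConv.ext (ext_single fun x => ?_)
  rw [LinearMap.convMul_apply, comul_single_one]
  by_cases hmn : m = n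
  · subst hmn; by_cases hx : x = m <;> simp [hx]
  · by_cases hx : x = m <;> simp [hx, hmn]

end Functional

variable {R : Type u} [CommRing R] {S : Type v} [CommRing S] [Algebra R S]
variable {C : Type*} [CommRing C] [Bialgebra R C] {M : Type w} [CommGroup M]

/-- The coefficient functionals of a morphism into a group algebra. -/
def SemiBialgHom.coef (h : SemiBialgHom R S C (MonoidAlgebra S M)) (m : M) : WithConv (C →ₗ[R] S) :=
  h.pre (toConv (cB m))

theorem SemiBialgHom.coef_apply (h : SemiBialgHom R S C (MonoidAlgebra S M)) (m : M) (c : C) :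
    (h.coef m).ofConv c = (h.toAlgHom c).coeff m := rfl

theorem SemiBialgHom.coef_mul [DecidableEq M] (h : SemiBialgHom R S C (MonoidAlgebra S M)) (m n : M) :
    h.coef m * h.coef n = if m = n then h.coef m else 0 := by
  unfold SemiBialgHom.coef
  rw [← map_mul, cB_mul_cB]
  split_ifs
  · rfl
  · exact WithConv.ext (LinearMap.ext fun _ => rfl)

theorem SemiBialgHom.coef_idem (h : SemiBialgHom R S C (MonoidAlgebra S M)) (m : M) :
    h.coef m * h.coef m = h.coef m := by
  classical
  rw [h.coef_mul, if_pos rfl]

theorem conv_mul_mem (X Y : WithConv (C →ₗ[R] S)) (J K : Ideal S) (hX : ∀ c, X.ofConv c ∈ J)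
    (hY : ∀ c, Y.ofConv c ∈ K) (c : C) : (X * Y).ofConv c ∈ J * K := by
  rw [LinearMap.convMul_apply]
  generalize comul (R := R) c = z
  induction z using TensorProduct.induction_on with
  | zero => simp
  | add z₁ z₂ h₁ h₂ => simp only [map_add]; exact add_mem h₁ h₂
  | tmul x y => simpa using Ideal.mul_mem_mul (hX x) (hY y)

/-- Congruent commuting idempotents are congruent modulo all powers. -/
theorem sub_mem_pow {e f : WithConv (C →ₗ[R] S)} (he : e * e = e) (hf : f * f = f) (hc : Commute e f)
    (J : Ideal S) (h : ∀ c, e.ofConv c - f.ofConv c ∈ J) :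
    ∀ (n : ℕ) (c : C), e.ofConv c - f.ofConv c ∈ J ^ n := by
  have hd : (e - f) * (e - f) * (e - f) = e - f := by
    simp only [mul_sub, sub_mul, mul_assoc, he, hf]
    have h1 : f * e = e * f := hc.eq.symm
    have h2 : ∀ x, f * (e * x) = e * (f * x) := fun x => by rw [← mul_assoc, h1, mul_assoc]
    have h3 : ∀ x, e * (e * x) = e * x := fun x => by rw [← mul_assoc, he]
    simp only [h1, h2, h3, hf]
    abel
  intro n
  induction n with
  | zero => intro c; simp
  | succ n ih =>
    intro c
    have := conv_mul_mem ((e - f) * (e - f)) (e - f) (J ^ n * J) J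
      (conv_mul_mem _ _ _ _ ih h) h c
    rw [hd] at this
    rw [pow_succ]
    exact (Ideal.mul_le_left : J ^ n * J * J ≤ J ^ n * J) this

/-- Congruence modulo an ideal after tensoring gives congruence of values. -/
theorem sub_mem_map_of_tmul_eq {N : Type*} [AddCommGroup N] [Module R N] (l : N →ₗ[R] S) (I : Ideal R)
    {x y : N} (h : (1 : R ⧸ I) ⊗ₜ[R] x = (1 : R ⧸ I) ⊗ₜ[R] y) :
    l x - l y ∈ I.map (algebraMap R S) := by
  let g : (R ⧸ I) ⊗[R] S →ₐ[R] S ⧸ I.map (algebraMap R S) := Algebra.TensorProduct.lift
    (Ideal.Quotient.liftₐ I (Algebra.ofId R _) fun r hr => by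
      rw [Algebra.ofId_apply, IsScalarTower.algebraMap_apply R S (S ⧸ I.map (algebraMap R S)),
        Ideal.Quotient.algebraMap_eq, Ideal.Quotient.eq_zero_iff_mem]
      exact Ideal.mem_map_of_mem _ hr)
    (Ideal.Quotient.mkₐ R _) (fun _ _ => .all _ _)
  have h2 := congrArg (fun z => g (LinearMap.lTensor (R ⧸ I) l z)) h
  simp only [LinearMap.lTensor_tmul, g, Algebra.TensorProduct.lift_tmul, map_one, one_mul] at h2
  exact Ideal.Quotient.eq.mp h2

/-- Rigidity: two morphisms into a group algebra with commuting coefficient functionals which agree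
modulo a nilpotent ideal are equal. -/
theorem eq_of_congr_nilpotent (h h' : SemiBialgHom R S C (MonoidAlgebra S M))
    (hc : ∀ m, Commute (h.coef m) (h'.coef m)) (J : Ideal S) (hJ : IsNilpotent J)
    (hcong : ∀ m c, (h.coef m).ofConv c - (h'.coef m).ofConv c ∈ J) (c : C) :
    h.toAlgHom c = h'.toAlgHom c := by
  obtain ⟨n, hn⟩ := hJ
  ext m
  have := sub_mem_pow (h.coef_idem m) (h'.coef_idem m) (hc m) J (hcong m) n c
  rwa [hn, Ideal.zero_eq_bot, Ideal.mem_bot, sub_eq_zero] at this

variable (R C) in
/-- The unit morphism. -/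
def SemiBialgHom.triv (S : Type v) [CommRing S] [Algebra R S] (M : Type w) [CommGroup M] :
    SemiBialgHom R S C (MonoidAlgebra S M) where
  toAlgHom := (Algebra.ofId R _).comp (counitAlgHom R C)
  counit_comp a := by
    rw [AlgHom.comp_apply, Algebra.ofId_apply, IsScalarTower.algebraMap_apply R S (MonoidAlgebra S M),
      Bialgebra.counit_algebraMap]
    rfl
  comul_comp a := by
    have : sq S ((Algebra.ofId R (MonoidAlgebra S M)).comp (counitAlgHom R C)) (comul (R := R) a) =
        algebraMap R _ (counit (R := R) a) := by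
      conv_rhs => rw [← Bialgebra.counitAlgHom_apply]
      have hk := congrArg (fun z => algebraMap R (MonoidAlgebra S M ⊗[S] MonoidAlgebra S M)
        (TensorProduct.lid R R (LinearMap.lTensor R (counit (R := R)) z)))
        (Coalgebra.rTensor_counit_comul (R := R) a)
      simp only [LinearMap.lTensor_tmul, TensorProduct.lid_tmul, one_smul] at hk
      rw [Bialgebra.counitAlgHom_apply, ← hk]
      generalize comul (R := R) a = z
      induction z using TensorProduct.induction_on with
      | zero => simp
      | add z₁ z₂ h₁ h₂ => simp only [map_add, h₁, h₂]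
      | tmul x y =>
        simp [Algebra.algebraMap_eq_smul_one, Algebra.TensorProduct.one_def,
          TensorProduct.smul_tmul', TensorProduct.tmul_smul, smul_smul, mul_comm]
    rw [this, AlgHom.comp_apply, Algebra.ofId_apply, IsScalarTower.algebraMap_apply R S (MonoidAlgebra S M),
      Bialgebra.comul_algebraMap, ← IsScalarTower.algebraMap_apply]
    rfl

theorem SemiBialgHom.coef_triv [DecidableEq M] (m : M) :
    (SemiBialgHom.triv R C S M).coef m = if m = 1 then 1 else 0 := by
  refine WithConv.ext (LinearMap.ext fun c => ?_)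
  rw [SemiBialgHom.coef_apply]
  show ((algebraMap R (MonoidAlgebra S M)) (counit (R := R) c)).coeff m = _
  rw [IsScalarTower.algebraMap_apply R S (MonoidAlgebra S M), MonoidAlgebra.coe_algebraMap,
    Function.comp_apply, MonoidAlgebra.coeff_single_apply]
  by_cases hm : m = 1
  · subst hm; simp
  · simp [hm, Ne.symm hm]

theorem commute_coef_triv (h : SemiBialgHom R S C (MonoidAlgebra S M)) (m : M) :
    Commute (h.coef m) ((SemiBialgHom.triv R C S M).coef m) := by
  classical
  rw [SemiBialgHom.coef_triv]
  split_ifs
  · exact Commute.one_right _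
  · exact Commute.zero_right _

section Map

variable {R : Type u} [CommRing R] {A : Type u} [CommRing A] [HopfAlgebra R A]
variable {C : Type u} [CommRing C] [HopfAlgebra R C]

/-- The coordinates of a morphism. -/
def Split.mapHom (P : Split R A) (φ : C →ₐc[R] A) : SemiBialgHom R P.S C (MonoidAlgebra P.S P.M) :=
  P.hom.comp (SemiBialgHom.ofBialgHom φ)

@[simp] theorem Split.mapHom_apply (P : Split R A) (φ : C →ₐc[R] A) (c : C) :
    (P.mapHom φ).toAlgHom c = P.hom.toAlgHom (φ c) := rfl

end Map

end Groth.Agent.MultTypeLib
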