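import Groth.Agent.MultTypeLib.Pair
import Groth.Agent.AdicLib.Basic
import Groth.Agent.S5242
import Mathlib.RingTheory.AdicCompletion.Basic

/-!
# Groups of multiplicative type over complete rings
-/

universe u

open WithConv TensorProduct Coalgebra Bialgebra

noncomputable section

namespace Groth.Agent.MultTypeLib

variable {R : Type u} [CommRing R] (I : Ideal R)

theorem one_tmul_eq_iff_mem {N : Type u} [AddCommGroup N] [Module R N] (J : Ideal R) (x y : N) :
    (1 : R ⧸ J) ⊗ₜ[R] x = (1 : R ⧸ J) ⊗ₜ[R] y ↔ x - y ∈ (J • ⊤ : Submodule R N) := by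
  rw [← (TensorProduct.quotTensorEquivQuotSMul N J).injective.eq_iff, ← Submodule.Quotient.mk_eq_zero]
  have e : ∀ z : N, TensorProduct.quotTensorEquivQuotSMul N J ((1 : R ⧸ J) ⊗ₜ[R] z) = Submodule.Quotient.mk z := by
    intro z
    rw [← map_one (Ideal.Quotient.mk J), TensorProduct.quotTensorEquivQuotSMul_mk_tmul, one_smul]
  rw [e, e, Submodule.Quotient.mk_sub, sub_eq_zero]

variable [IsNoetherianRing R] [IsAdicComplete I R]

set_option maxHeartbeats 2000000 in
/-- Over a complete ring, group-like elements of finite groups of multiplicative type lift from the reduction. -/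
theorem exists_groupLike_lift_complete {B : Type u} [CommRing B] [HopfAlgebra R B] [Module.Finite R B]
    (hB : SGA3b.IsMultType R B) {w : (R ⧸ I) ⊗[R] B} (hw : IsGroupLikeElem (R ⧸ I) w) :
    ∃ b : B, IsGroupLikeElem R b ∧ (1 : R ⧸ I) ⊗ₜ[R] b = w := by
  have hle : ∀ k, I ^ (k + 1) ≤ I := fun k => Ideal.pow_le_self (Nat.succ_ne_zero k)
  let π : ∀ k, (R ⧸ I ^ (k + 1)) →ₐ[R] R ⧸ I := fun k => Ideal.Quotient.factorₐ R (hle k)
  have hlift : ∀ k, ∃ c : (R ⧸ I ^ (k + 1)) ⊗[R] B, IsGroupLikeElem (R ⧸ I ^ (k + 1)) c ∧ mA B (π k) c = w := by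
    intro k
    let Rk := R ⧸ I ^ (k + 1)
    let J : Ideal Rk := I.map (algebraMap R Rk)
    have hJnil : ∀ x ∈ J, IsNilpotent x := fun x hx => ⟨k + 1, by
      have h1 := Ideal.pow_mem_pow hx (k + 1)
      rw [← Ideal.map_pow, Ideal.Quotient.algebraMap_eq, Ideal.map_quotient_self] at h1
      exact h1⟩
    obtain ⟨c⟩ := exists_cover (isMultType_baseChange Rk hB)
    let χ : (R ⧸ I) →ₐ[R] Rk ⧸ J := Ideal.Quotient.liftₐ I (Algebra.ofId R (Rk ⧸ J)) fun r hr => by
      rw [Algebra.ofId_apply, IsScalarTower.algebraMap_apply R Rk (Rk ⧸ J)]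
      exact Ideal.Quotient.eq_zero_iff_mem.mpr (Ideal.mem_map_of_mem _ hr)
    let κ : Rk ⧸ J →ₐ[R] R ⧸ I := Ideal.Quotient.liftₐ J (π k) fun x hx => by
      suffices J ≤ RingHom.ker (π k) from this hx
      rw [Ideal.map_le_iff_le_comap]
      intro r hr
      rw [Ideal.mem_comap, RingHom.mem_ker, AlgHom.commutes, Ideal.Quotient.algebraMap_eq]
      exact Ideal.Quotient.eq_zero_iff_mem.mpr hr
    let w' : (Rk ⧸ J) ⊗[Rk] (Rk ⊗[R] B) :=
      baseChangeTrans (R := R) Rk (Rk ⧸ J) B (mA B χ w)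
    have hw' : IsGroupLikeElem (Rk ⧸ J) w' := (isGroupLike_mA χ hw).map _
    obtain ⟨z, hz, ez⟩ := c.exists_groupLike_lift J hJnil hw'
    refine ⟨z, hz, ?_⟩
    have e1 : mA B (Ideal.Quotient.mkₐ R J) z = mA B χ w := by
      have hcan : ∀ y : Rk ⊗[R] B, Algebra.TensorProduct.cancelBaseChange R Rk (Rk ⧸ J) (Rk ⧸ J) B
          ((1 : Rk ⧸ J) ⊗ₜ[Rk] y) = mA B (Ideal.Quotient.mkₐ R J) y := by
        intro y
        induction y using TensorProduct.induction_on with
        | zero => simp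
        | add a b ha hb => simp only [TensorProduct.tmul_add, map_add, ha, hb]
        | tmul s a => simp [Algebra.smul_def]
      have hbct : ∀ x, Algebra.TensorProduct.cancelBaseChange R Rk (Rk ⧸ J) (Rk ⧸ J) B
          (baseChangeTrans (R := R) Rk (Rk ⧸ J) B x) = x := by
        intro x
        induction x using TensorProduct.induction_on with
        | zero => simp
        | add a b ha hb => simp only [map_add, ha, hb]
        | tmul s a =>
          show Algebra.TensorProduct.cancelBaseChange R Rk (Rk ⧸ J) (Rk ⧸ J) B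
            (((SemiBialgHom.baseChange Rk (Rk ⧸ J) (Rk ⊗[R] B)).comp
              (SemiBialgHom.baseChange R Rk B)).extend (s ⊗ₜ[R] a)) = _
          simp [SemiBialgHom.comp, SemiBialgHom.baseChange, TensorProduct.smul_tmul']
      rw [← hcan z, ez]
      exact hbct _
    have e2 := congrArg (mA B κ) e1
    rw [mA_comp, mA_comp, show κ.comp χ = AlgHom.id R _ from AlgHom.ext fun x => by
      obtain ⟨r, rfl⟩ := Ideal.Quotient.mk_surjective x
      exact ((κ.comp χ).commutes r).trans rfl, show κ.comp (Ideal.Quotient.mkₐ R J) = π k from AlgHom.ext fun x => rfl]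
      at e2
    rw [e2, mA, Algebra.TensorProduct.map_id]
    rfl
  choose c hc ec using hlift
  choose b hb using fun k => TensorProduct.mk_surjective R B (R ⧸ I ^ (k + 1)) Ideal.Quotient.mk_surjective (c k)
  have hb' : ∀ k, (1 : R ⧸ I ^ (k + 1)) ⊗ₜ[R] b k = c k := hb
  -- compatibility
  have hcompat : ∀ m n, m ≤ n → b n - b m ∈ (I ^ (m + 1) • ⊤ : Submodule R B) := by
    intro m n hmn
    rw [← one_tmul_eq_iff_mem, hb']
    let f : (R ⧸ I ^ (n + 1)) →ₐ[R] R ⧸ I ^ (m + 1) :=
      Ideal.Quotient.factorₐ R (Ideal.pow_le_pow_right (Nat.succ_le_succ hmn))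
    have e : (1 : R ⧸ I ^ (m + 1)) ⊗ₜ[R] b n = mA B f (c n) := by
      rw [← hb' n, Algebra.TensorProduct.map_tmul, map_one, AlgHom.id_apply]
    rw [e]
    obtain ⟨cv⟩ := exists_cover (isMultType_baseChange (R ⧸ I ^ (m + 1)) hB)
    let Rm := R ⧸ I ^ (m + 1)
    let J : Ideal Rm := I.map (algebraMap R Rm)
    have hJnil : ∀ x ∈ J, IsNilpotent x := fun x hx => ⟨m + 1, by
      have h1 := Ideal.pow_mem_pow hx (m + 1)
      rw [← Ideal.map_pow, Ideal.Quotient.algebraMap_eq, Ideal.map_quotient_self] at h1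
      exact h1⟩
    let χ : (R ⧸ I) →ₐ[R] Rm ⧸ J := Ideal.Quotient.liftₐ I (Algebra.ofId R (Rm ⧸ J)) fun r hr => by
      rw [Algebra.ofId_apply, IsScalarTower.algebraMap_apply R Rm (Rm ⧸ J)]
      exact Ideal.Quotient.eq_zero_iff_mem.mpr (Ideal.mem_map_of_mem _ hr)
    refine cv.groupLike_ext J hJnil (isGroupLike_mA f (hc n)) (hc m) ?_
    apply (Algebra.TensorProduct.cancelBaseChange R Rm (Rm ⧸ J) (Rm ⧸ J) B).injective
    have hcan : ∀ z : Rm ⊗[R] B, Algebra.TensorProduct.cancelBaseChange R Rm (Rm ⧸ J) (Rm ⧸ J) B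
        ((1 : Rm ⧸ J) ⊗ₜ[Rm] z) = mA B (Ideal.Quotient.mkₐ R J) z := by
      intro z
      induction z using TensorProduct.induction_on with
      | zero => simp
      | add a b ha hb => simp only [TensorProduct.tmul_add, map_add, ha, hb]
      | tmul s a => simp [Algebra.smul_def]
    have hχ : ∀ (N : ℕ) (g : (R ⧸ I ^ (N + 1)) →ₐ[R] Rm ⧸ J), g = χ.comp (π N) := fun N g =>
      AlgHom.ext fun x => by
        obtain ⟨r, rfl⟩ := Ideal.Quotient.mk_surjective x
        exact (g.commutes r).trans ((χ.comp (π N)).commutes r).symm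
    rw [hcan, hcan, mA_comp, hχ n ((Ideal.Quotient.mkₐ R J).comp f), hχ m (Ideal.Quotient.mkₐ R J), ← mA_comp,
      ← mA_comp, ec n, ec m]
  have : IsAdicComplete I B := AdicLib.isAdicComplete_of_finite I B
  obtain ⟨L, hL⟩ := IsPrecomplete.prec (inferInstance : IsPrecomplete I B) (f := b) (fun {m n} hmn => by
    rw [SModEq.sub_mem, ← neg_sub]
    exact Submodule.neg_mem _ ((Submodule.smul_mono (Ideal.pow_le_pow_right (Nat.le_succ m)) le_rfl)
      (hcompat m n hmn)))
  have hL' : ∀ k, (1 : R ⧸ I ^ (k + 1)) ⊗ₜ[R] L = c k := by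
    intro k
    rw [← hb' k, one_tmul_eq_iff_mem]
    have h1 := hcompat k (k + 1) (Nat.le_succ k)
    have h2 : b (k + 1) - L ∈ (I ^ (k + 1) • ⊤ : Submodule R B) := by
      rw [← SModEq.sub_mem]; exact hL (k + 1)
    have h3 := Submodule.sub_mem _ h1 h2
    convert h3 using 1
    abel
  have hHB : IsHausdorff I B := inferInstance
  have hHR : IsHausdorff I R := inferInstance
  have hHBB : IsHausdorff I (B ⊗[R] B) := IsHausdorff.of_le_jacobson I _ (IsAdicComplete.le_jacobson_bot I)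
  refine ⟨L, ⟨?_, ?_⟩, ?_⟩
  · refine sub_eq_zero.mp (hHR.haus _ fun k => ?_)
    rw [SModEq.zero]
    refine (Submodule.smul_mono (Ideal.pow_le_pow_right (Nat.le_succ k)) le_rfl) ?_
    rw [smul_eq_mul, Ideal.mul_top, ← Ideal.Quotient.eq_zero_iff_mem, map_sub, map_one, sub_eq_zero]
    have h := (hc k).counit_eq_one
    rw [← hL' k, TensorProduct.counit_tmul] at h
    simpa [Algebra.smul_def] using h
  · refine sub_eq_zero.mp (hHBB.haus _ fun k => ?_)
    rw [SModEq.zero]
    refine (Submodule.smul_mono (Ideal.pow_le_pow_right (Nat.le_succ k)) le_rfl) ?_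
    rw [← one_tmul_eq_iff_mem]
    apply (AlgebraTensorModule.distribBaseChange R (R ⧸ I ^ (k + 1)) B B).injective
    have e : ∀ y : B ⊗[R] B, AlgebraTensorModule.distribBaseChange R (R ⧸ I ^ (k + 1)) B B (1 ⊗ₜ y) =
        sq (R ⧸ I ^ (k + 1)) (SemiBialgHom.baseChange R (R ⧸ I ^ (k + 1)) B).toAlgHom y := by
      intro y
      induction y using TensorProduct.induction_on with
      | zero => simp
      | add x y hx hy => simp only [TensorProduct.tmul_add, map_add, hx, hy]
      | tmul p q => simp [SemiBialgHom.baseChange]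
    rw [e, ← (SemiBialgHom.baseChange R (R ⧸ I ^ (k + 1)) B).comul_comp,
      AlgebraTensorModule.distribBaseChange_tmul]
    show comul ((1 : R ⧸ I ^ (k + 1)) ⊗ₜ[R] L) = _
    rw [hL' k, (hc k).comul_eq_tmul_self, ← hL' k]
  · have h := congrArg (mA B (π 0)) (hL' 0)
    rw [Algebra.TensorProduct.map_tmul, map_one, AlgHom.id_apply, ec] at h
    exact h

variable {A : Type u} [CommRing A] [HopfAlgebra R A]

/-- Over a complete ring, diagonalisability is detected on the reduction. -/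
theorem isDiag_of_complete (hft : Algebra.FiniteType R A) (hA : SGA3b.IsMultType R A)
    (hd : SGA3b.IsDiag (R ⧸ I) ((R ⧸ I) ⊗[R] A)) : SGA3b.IsDiag R A := by
  refine isDiag_of_lifting I (IsAdicComplete.le_jacobson_bot I) hft hA hd fun n hn w hw => ?_
  have := isHopfIdeal_torsionIdeal hA n
  obtain ⟨hm, hfin⟩ := Groth.Agent.S5242.result R A hft hA n hn (SGA3b.torsionIdeal R A n) rfl
  let π : (R ⧸ I) ⊗[R] A →ₐc[R ⧸ I] (R ⧸ I) ⊗[R] (A ⧸ SGA3b.torsionIdeal R A n) :=
    Bialgebra.TensorProduct.map (BialgHom.id _ _) (Bialgebra.Quotient.mkBialgHom (SGA3b.torsionIdeal R A n))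
  obtain ⟨b, hb, eb⟩ := exists_groupLike_lift_complete I hm (hw.map π)
  refine ⟨b, hb, eb.trans ?_⟩
  clear hw eb
  induction w using TensorProduct.induction_on with
  | zero => simp
  | add x y hx hy => simp only [map_add, hx, hy]
  | tmul s a => rfl

end Groth.Agent.MultTypeLib
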