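import Groth.Agent.MultTypeLib.DiagDeform
import Groth.Agent.MultTypeLib.SmoothComplete

/-!
# The open and closed diagonalisable subgroup over a complete ring

If the reductions modulo the powers of `I` are flat and the reduction modulo `I` is `D(M)`, the
compatible characters give a homomorphism `C → R[M]`; it is surjective with kernel generated by
the largest idempotent of `IC`.
-/

universe u

open WithConv TensorProduct Coalgebra Bialgebra

noncomputable section

namespace Groth.Agent.MultTypeLib

section Level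

variable {R : Type u} [CommRing R] (I : Ideal R) {C : Type u} [CommRing C] [HopfAlgebra R C]
variable {M : Type u} [CommGroup M]

set_option maxHeartbeats 1000000 in
/-- A diagonalisation of a thickening of the reduction. -/
theorem exists_level (e₀ : (R ⧸ I) ⊗[R] C ≃ₐc[R ⧸ I] MonoidAlgebra (R ⧸ I) M)
    {Q : Type u} [CommRing Q] [Algebra R Q] (p : Q →ₐ[R] R ⧸ I) (hp : Function.Surjective p)
    (hker : IsNilpotent (RingHom.ker p)) [Module.Flat Q (Q ⊗[R] C)] :
    ∃ (Φ : Q ⊗[R] C ≃ₐc[Q] MonoidAlgebra Q M),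
      ∀ m, mA C p (Φ.symm (MonoidAlgebra.single m 1)) = e₀.symm (MonoidAlgebra.single m 1) := by
  let J : Ideal Q := RingHom.ker p
  let q : (Q ⧸ J) ≃ₐ[R] R ⧸ I := Ideal.quotientKerAlgEquivOfSurjective (f := p) hp
  let T : Type u := Q ⧸ J
  let _ : Algebra (R ⧸ I) T := (q.symm.toAlgHom.toRingHom).toAlgebra
  have : IsScalarTower R (R ⧸ I) T := IsScalarTower.of_algebraMap_eq fun r => (q.symm.toAlgHom.commutes r).symm
  let h₀ : SemiBialgHom R (R ⧸ I) C (MonoidAlgebra (R ⧸ I) M) :=
    (SemiBialgHom.ofBialgHom (e₀ : (R ⧸ I) ⊗[R] C →ₐc[R ⧸ I] MonoidAlgebra (R ⧸ I) M)).comp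
      (SemiBialgHom.baseChange R (R ⧸ I) C)
  have hb : Function.Bijective h₀.extend := by
    rw [show ⇑h₀.extend = ⇑e₀ from funext (extend_eq_of_equiv e₀)]
    exact e₀.bijective
  let eT : T ⊗[R] C ≃ₐc[T] MonoidAlgebra T M :=
    ((mapCoeff (R ⧸ I) T M).comp h₀).toBialgEquiv (extend_comp_mapCoeff_bijective h₀ hb)
  let eQ : T ⊗[Q] (Q ⊗[R] C) ≃ₐc[T] MonoidAlgebra T M := (baseChangeTrans (R := R) Q T C).symm.trans eT
  obtain ⟨g, hg, hgr, hgb⟩ := exists_deform_diag (R := Q) (A := Q ⊗[R] C) J hker eQ
  refine ⟨(BialgEquiv.ofBijective (homOfGroupLike g hg) hgb).symm, fun m => ?_⟩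
  have e : (BialgEquiv.ofBijective (homOfGroupLike g hg) hgb).symm.symm (MonoidAlgebra.single m 1) = g m := by
    show homOfGroupLike g hg (MonoidAlgebra.single m 1) = g m
    rw [homOfGroupLike_single, one_smul]
  rw [e]
  have hcan : ∀ y : Q ⊗[R] C, Algebra.TensorProduct.cancelBaseChange R Q T T C ((1 : T) ⊗ₜ[Q] y) =
      mA C (Ideal.Quotient.mkₐ R J) y := by
    intro y
    induction y using TensorProduct.induction_on with
    | zero => simp
    | add a b ha hb => simp only [TensorProduct.tmul_add, map_add, ha, hb]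
    | tmul s a => simp [T, Algebra.smul_def]
  have hbct : ∀ x, Algebra.TensorProduct.cancelBaseChange R Q T T C (baseChangeTrans (R := R) Q T C x) = x := by
    intro x
    induction x using TensorProduct.induction_on with
    | zero => simp
    | add a b ha hb => simp only [map_add, ha, hb]
    | tmul s a =>
      show Algebra.TensorProduct.cancelBaseChange R Q T T C
        (((SemiBialgHom.baseChange Q T (Q ⊗[R] C)).comp (SemiBialgHom.baseChange R Q C)).extend (s ⊗ₜ[R] a)) = _
      simp [SemiBialgHom.comp, SemiBialgHom.baseChange, TensorProduct.smul_tmul']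
  let κ : (R ⧸ I) →ₐ[R] T := q.symm.toAlgHom
  have heT : ∀ w, eT (mA C κ w) = (mapCoeff (R ⧸ I) T M).toAlgHom (e₀ w) := by
    intro w
    rw [← show h₀.extend w = e₀ w from extend_eq_of_equiv e₀ w]
    exact extend_comp_mapCoeff h₀ w
  have h1 : mA C (Ideal.Quotient.mkₐ R J) (g m) = mA C κ (e₀.symm (MonoidAlgebra.single m 1)) := by
    rw [← hcan, hgr]
    show Algebra.TensorProduct.cancelBaseChange R Q T T C
      (baseChangeTrans (R := R) Q T C (eT.symm (MonoidAlgebra.single m 1))) = _
    rw [hbct]
    refine eT.injective ?_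
    show eT (eT.symm _) = eT _
    rw [eT.apply_symm_apply, heT, e₀.apply_symm_apply, mapCoeff_single, map_one]
  have h2 := congrArg (mA C q.toAlgHom) h1
  rw [mA_comp, mA_comp, show q.toAlgHom.comp (Ideal.Quotient.mkₐ R J) = p from AlgHom.ext fun x => rfl,
    show q.toAlgHom.comp κ = AlgHom.id R (R ⧸ I) from AlgHom.ext fun x => q.apply_symm_apply x] at h2
  rw [h2, mA, Algebra.TensorProduct.map_id]
  rfl

theorem groupLike_unique_of_level {Q : Type u} [CommRing Q] [Algebra R Q] {T : Type u} [CommRing T] [Algebra R T]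
    (p : Q →ₐ[R] T) (hp : Function.Surjective p) (hker : IsNilpotent (RingHom.ker p))
    (Φ : Q ⊗[R] C ≃ₐc[Q] MonoidAlgebra Q M) {x y : Q ⊗[R] C} (hx : IsGroupLikeElem Q x)
    (hy : IsGroupLikeElem Q y) (h : mA C p x = mA C p y) : x = y := by
  refine Φ.injective (groupLike_ext_nil (hx.map Φ) (hy.map Φ) fun m => ?_)
  have h1 : x - y ∈ (RingHom.ker p • ⊤ : Submodule Q (Q ⊗[R] C)) :=
    mem_smul_top_of_rTensor p hp _ (by rw [← mA_eq_rTensor, map_sub, h, sub_self])
  have h2 := map_smul_top (((Finsupp.lapply m).comp (MonoidAlgebra.coeffLinearEquiv Q).toLinearMap).comp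
    (Φ : Q ⊗[R] C ≃ₐ[Q] MonoidAlgebra Q M).toLinearEquiv.toLinearMap) h1
  rw [smul_eq_mul, Ideal.mul_top] at h2
  obtain ⟨n, hn⟩ := hker
  refine ⟨n, ?_⟩
  have h3 := Ideal.pow_mem_pow h2 n
  rw [hn, Ideal.zero_eq_bot, Ideal.mem_bot] at h3
  rw [← h3]
  congr 1
  show _ = (Φ (x - y)).coeff m
  rw [map_sub, MonoidAlgebra.coeff_sub, Finsupp.sub_apply]
  rfl

end Level

section Limit

variable {R : Type u} [CommRing R] [IsNoetherianRing R] (I : Ideal R) [IsAdicComplete I R]
variable {C : Type u} [CommRing C] [HopfAlgebra R C] {M : Type u} [CommGroup M]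

/-- The coefficient functional. -/
def coeffAt (R : Type u) [CommRing R] {M : Type u} [CommGroup M] (m : M) : MonoidAlgebra R M →ₗ[R] R :=
  (Finsupp.lapply m).comp (MonoidAlgebra.coeffLinearEquiv R).toLinearMap

theorem coeffAt_apply (m : M) (x : MonoidAlgebra R M) : coeffAt R m x = x.coeff m := rfl

omit [IsNoetherianRing R] in
theorem ext_coeffAt_sq [DecidableEq M] {z z' : MonoidAlgebra R M ⊗[R] MonoidAlgebra R M}
    (h : ∀ m n, LinearMap.mul' R R (TensorProduct.map (coeffAt R m) (coeffAt R n) z) =
      LinearMap.mul' R R (TensorProduct.map (coeffAt R m) (coeffAt R n) z')) : z = z' := by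
  refine ((TensorProduct.congr (MonoidAlgebra.coeffLinearEquiv R) (MonoidAlgebra.coeffLinearEquiv R)).trans
    (finsuppTensorFinsupp' R M M)).injective (Finsupp.ext fun ⟨m, n⟩ => ?_)
  have e : ∀ w, ((TensorProduct.congr (MonoidAlgebra.coeffLinearEquiv R) (MonoidAlgebra.coeffLinearEquiv R)).trans
      (finsuppTensorFinsupp' R M M)) w (m, n) =
      LinearMap.mul' R R (TensorProduct.map (coeffAt R m) (coeffAt R n) w) := by
    intro w
    induction w using TensorProduct.induction_on with
    | zero => simp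
    | add a b ha hb => simp only [map_add, Finsupp.add_apply, ha, hb]
    | tmul a b => simp [coeffAt]
  rw [e, e]
  exact h m n

set_option maxHeartbeats 2000000 in
/-- The limit of the characters. -/
theorem exists_limit_hom (hflat : ∀ k : ℕ, Module.Flat (R ⧸ I ^ (k + 1)) ((R ⧸ I ^ (k + 1)) ⊗[R] C))
    (e₀ : (R ⧸ I) ⊗[R] C ≃ₐc[R ⧸ I] MonoidAlgebra (R ⧸ I) M) :
    ∃ π : C →ₐc[R] MonoidAlgebra R M,
      ∀ c, e₀ ((1 : R ⧸ I) ⊗ₜ c) = evalAt (Ideal.Quotient.mk I) (π c) := by
  classical
  let Q : ℕ → Type u := fun k => R ⧸ I ^ (k + 1)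
  have hle : ∀ k, I ^ (k + 1) ≤ I := fun k => Ideal.pow_le_self (Nat.succ_ne_zero k)
  let p : ∀ k, Q k →ₐ[R] R ⧸ I := fun k => Ideal.Quotient.factorₐ R (hle k)
  have hnil : ∀ k, IsNilpotent (RingHom.ker (p k)) := fun k => ⟨k + 1, by
    rw [Ideal.zero_eq_bot, eq_bot_iff]
    have h : RingHom.ker (p k) ≤ I.map (Ideal.Quotient.mk (I ^ (k + 1))) := fun x hx => by
      obtain ⟨r, rfl⟩ := Ideal.Quotient.mk_surjective x
      exact Ideal.mem_map_of_mem _ (Ideal.Quotient.eq_zero_iff_mem.mp (RingHom.mem_ker.mp hx))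
    refine le_trans (Ideal.pow_right_mono h _) ?_
    rw [← Ideal.map_pow, Ideal.map_quotient_self]⟩
  choose Φ hΦ using fun k => have := hflat k
    exists_level I e₀ (p k) (Ideal.Quotient.factor_surjective (hle k)) (hnil k)
  let pk : ∀ k, Q (k + 1) →ₐ[R] Q k := fun k =>
    Ideal.Quotient.factorₐ R (Ideal.pow_le_pow_right (Nat.le_succ _))
  let H : ∀ k, SemiBialgHom R (Q k) C (MonoidAlgebra (Q k) M) := fun k =>
    (SemiBialgHom.ofBialgHom (Φ k : Q k ⊗[R] C →ₐc[Q k] MonoidAlgebra (Q k) M)).comp
      (SemiBialgHom.baseChange R (Q k) C)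
  have hH : ∀ k c, (H k).toAlgHom c = Φ k (1 ⊗ₜ c) := fun k c => rfl
  have hcompat : ∀ k c, evalAt (pk k : Q (k + 1) →+* Q k) ((H (k + 1)).toAlgHom c) = (H k).toAlgHom c := by
    intro k c
    have hsingle : ∀ m, mA C (pk k) ((Φ (k + 1)).symm (MonoidAlgebra.single m 1)) =
        (Φ k).symm (MonoidAlgebra.single m 1) := by
      intro m
      refine groupLike_unique_of_level (p k) (Ideal.Quotient.factor_surjective (hle k)) (hnil k) (Φ k)
        (isGroupLike_mA (pk k) ((isGroupLike_single m).map _)) ((isGroupLike_single m).map _) ?_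
      rw [mA_comp, show (p k).comp (pk k) = p (k + 1) from AlgHom.ext fun x => by
        obtain ⟨r, rfl⟩ := Ideal.Quotient.mk_surjective x
        rfl, hΦ, hΦ]
    have key : ∀ y, evalAt (pk k : Q (k + 1) →+* Q k) y = Φ k (mA C (pk k) ((Φ (k + 1)).symm y)) := by
      intro y
      induction y using MonoidAlgebra.induction_linear with
      | zero => simp
      | add a b ha hb => simp only [map_add, ha, hb]
      | single m r =>
        rw [evalAt_single, show MonoidAlgebra.single m r = r • MonoidAlgebra.single m (1 : Q (k + 1)) by simp,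
          map_smul, Algebra.smul_def, map_mul, Algebra.TensorProduct.algebraMap_apply, Algebra.algebraMap_self,
          RingHom.id_apply, Algebra.TensorProduct.map_tmul, map_one, hsingle, map_mul, BialgEquiv.apply_symm_apply,
          show ((pk k r) ⊗ₜ[R] (1 : C) : Q k ⊗[R] C) = algebraMap (Q k) (Q k ⊗[R] C) (pk k r) from rfl]
        rw [AlgEquivClass.commutes, ← Algebra.smul_def, MonoidAlgebra.smul_single, smul_eq_mul, mul_one]
        rfl
    rw [hH, hH, key, BialgEquiv.symm_apply_apply, Algebra.TensorProduct.map_tmul, map_one, AlgHom.id_apply]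
  -- coefficients
  choose u hu using fun k (m : M) (c : C) => Ideal.Quotient.mk_surjective (((H k).toAlgHom c).coeff m)
  have hcauchy : ∀ m c a b, a ≤ b → u b m c - u a m c ∈ I ^ (a + 1) := by
    intro m c a b hab
    induction hab with
    | refl => rw [sub_self]; exact zero_mem _
    | @step b hab ih =>
      rw [← sub_add_sub_cancel _ (u b m c)]
      refine add_mem ?_ ih
      refine Ideal.pow_le_pow_right (Nat.succ_le_succ hab) (Ideal.Quotient.eq.mp ?_)
      rw [hu, ← hcompat b c, coeff_evalAt, ← hu]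
      rfl
  have hlim : ∀ m c, ∃ L : R, ∀ k, Ideal.Quotient.mk (I ^ (k + 1)) L = ((H k).toAlgHom c).coeff m := by
    intro m c
    obtain ⟨L, hL⟩ := IsPrecomplete.prec (inferInstance : IsPrecomplete I R) (f := fun k => u k m c)
      (fun {a b} hab => by
        rw [SModEq.sub_mem, smul_eq_mul, Ideal.mul_top, ← neg_sub]
        exact neg_mem (Ideal.pow_le_pow_right (Nat.le_succ a) (hcauchy m c a b hab)))
    refine ⟨L, fun k => ?_⟩
    rw [← hu k m c, eq_comm, Ideal.Quotient.eq, ← sub_add_sub_cancel _ (u (k + 1) m c)]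
    have h1 := SModEq.sub_mem.mp (hL (k + 1))
    rw [smul_eq_mul, Ideal.mul_top] at h1
    exact add_mem (by rw [← neg_sub]; exact neg_mem (hcauchy m c k (k + 1) (Nat.le_succ k))) h1
  choose e he using hlim
  have sepR : ∀ x y : R, (∀ k, Ideal.Quotient.mk (I ^ (k + 1)) x = Ideal.Quotient.mk (I ^ (k + 1)) y) → x = y :=
    fun x y h => sub_eq_zero.mp (IsHausdorff.haus' (I := I) _ fun k => by
      rw [SModEq.zero, smul_eq_mul, Ideal.mul_top]
      exact Ideal.pow_le_pow_right (Nat.le_succ k) (Ideal.Quotient.eq.mp (h k)))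
  have horth : ∀ c (rep : Coalgebra.Repr R c (C × C)) (m n : M),
      ∑ i ∈ rep.index, e m (rep.left i) * e n (rep.right i) = if m = n then e m c else 0 := by
    intro c rep m n
    refine sepR _ _ fun k => ?_
    have h := coeff_comul (Q k) M m n ((H k).toAlgHom c)
    rw [(H k).comul_comp, ← rep.eq, map_sum, map_sum, map_sum] at h
    rw [map_sum, apply_ite (Ideal.Quotient.mk _), map_zero, he, ← h]
    refine Finset.sum_congr rfl fun i _ => ?_
    rw [map_mul, he, he, sq_tmul, TensorProduct.map_tmul, LinearMap.mul'_apply]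
    rfl
  have hfinsupp : ∀ c, {m | e m c ≠ 0}.Finite := fun c => by
    let rep := Coalgebra.Repr.arbitrary R c
    refine finite_of_orth (fun m (i : rep.index) => e m (rep.left i.1))
      (fun m (i : rep.index) => e m (rep.right i.1)) (fun m => e m c) (fun m n h => ?_) fun m => ?_
    · have := horth c rep m n
      rw [if_neg h] at this
      rw [← this]
      exact Finset.sum_coe_sort rep.index fun i => e m (rep.left i) * e n (rep.right i)
    · have := horth c rep m m
      rw [if_pos rfl] at this
      rw [← this]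
      exact Finset.sum_coe_sort rep.index fun i => e m (rep.left i) * e m (rep.right i)
  let x : C → MonoidAlgebra R M := fun c => ∑ m ∈ (hfinsupp c).toFinset, MonoidAlgebra.single m (e m c)
  have hx : ∀ c m, (x c).coeff m = e m c := fun c m => by
    by_cases h : e m c = 0
    · simp [x, Finsupp.single_apply, h]
    · simp [x, Finsupp.single_apply, h]
  have hxk : ∀ k c, evalAt (Ideal.Quotient.mk (I ^ (k + 1))) (x c) = (H k).toAlgHom c := fun k c => by
    ext m
    rw [coeff_evalAt, hx, he]
  have sepM : ∀ z z' : MonoidAlgebra R M,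
      (∀ k, evalAt (Ideal.Quotient.mk (I ^ (k + 1))) z = evalAt (Ideal.Quotient.mk (I ^ (k + 1))) z') → z = z' := by
    intro z z' h
    ext m
    refine sepR _ _ fun k => ?_
    have := congrArg (fun w : MonoidAlgebra _ M => w.coeff m) (h k)
    simpa [coeff_evalAt] using this
  let π₀ : C →ₐ[R] MonoidAlgebra R M :=
    { toFun := x
      map_one' := sepM _ _ fun k => by rw [hxk, map_one, map_one]
      map_mul' := fun a b => sepM _ _ fun k => by rw [hxk, map_mul, map_mul, hxk, hxk]
      map_zero' := sepM _ _ fun k => by rw [hxk, map_zero, map_zero]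
      map_add' := fun a b => sepM _ _ fun k => by rw [hxk, map_add, map_add, hxk, hxk]
      commutes' := fun r => sepM _ _ fun k => by
        rw [hxk, AlgHom.commutes, IsScalarTower.algebraMap_apply R (Q k) (MonoidAlgebra (Q k) M)]
        show _ = evalAt _ (MonoidAlgebra.single 1 r)
        rw [evalAt_single]
        rfl }
  refine ⟨BialgHom.ofAlgHom π₀ (AlgHom.ext fun c => sepR _ _ fun k => ?_) (AlgHom.ext fun c => ?_), fun c => ?_⟩
  · show Ideal.Quotient.mk _ (counit (R := R) (x c)) = Ideal.Quotient.mk _ (counit (R := R) c)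
    rw [← counit_evalAt (Ideal.Quotient.mk (I ^ (k + 1))), hxk, (H k).counit_comp]
    rfl
  · refine ext_coeffAt_sq fun m n => ?_
    simp only [AlgHom.comp_apply, Bialgebra.comulAlgHom_apply]
    have h := coeff_comul R M m n (π₀ c)
    show _ = LinearMap.mul' R R (TensorProduct.map (coeffAt R m) (coeffAt R n) (comul (π₀ c)))
    refine Eq.trans ?_ h.symm
    show _ = if m = n then (x c).coeff m else 0
    rw [hx]
    let rep := Coalgebra.Repr.arbitrary R c
    rw [← horth c rep m n, ← rep.eq, map_sum, map_sum, map_sum]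
    refine Finset.sum_congr rfl fun i _ => ?_
    simp only [Algebra.TensorProduct.map_tmul, TensorProduct.map_tmul, LinearMap.mul'_apply]
    exact congrArg₂ (· * ·) (hx _ m) (hx _ n)
  · have h0 : e₀ ((1 : R ⧸ I) ⊗ₜ c) = evalAt (p 0 : Q 0 →+* R ⧸ I) ((H 0).toAlgHom c) := by
      have key : ∀ y, evalAt (p 0 : Q 0 →+* R ⧸ I) y = e₀ (mA C (p 0) ((Φ 0).symm y)) := by
        intro y
        induction y using MonoidAlgebra.induction_linear with
        | zero => simp
        | add a b ha hb => simp only [map_add, ha, hb]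
        | single m r =>
          rw [evalAt_single, show MonoidAlgebra.single m r = r • MonoidAlgebra.single m (1 : Q 0) by simp,
            map_smul, Algebra.smul_def, map_mul, Algebra.TensorProduct.algebraMap_apply, Algebra.algebraMap_self,
            RingHom.id_apply, Algebra.TensorProduct.map_tmul, map_one, hΦ, map_mul, BialgEquiv.apply_symm_apply,
            show ((p 0 r) ⊗ₜ[R] (1 : C) : (R ⧸ I) ⊗[R] C) = algebraMap (R ⧸ I) ((R ⧸ I) ⊗[R] C) (p 0 r) from rfl]
          rw [AlgEquivClass.commutes, ← Algebra.smul_def, MonoidAlgebra.smul_single, smul_eq_mul, mul_one]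
          rfl
      rw [hH, key, BialgEquiv.symm_apply_apply, Algebra.TensorProduct.map_tmul, map_one, AlgHom.id_apply]
    rw [h0, ← hxk 0 c, evalAt_evalAt]
    rfl

end Limit

section Kernel

variable {R : Type u} [CommRing R] {C : Type u} [CommRing C] [HopfAlgebra R C] {M : Type u} [CommGroup M]
variable (π : C →ₐc[R] MonoidAlgebra R M)

/-- The grading map of the translations by the subgroup. -/
def gradeHom : C →ₐ[R] MonoidAlgebra C M :=
  (Algebra.TensorProduct.lift
    ((IsScalarTower.toAlgHom R C (MonoidAlgebra C M)))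
    (evalAlg (M := M) (Algebra.ofId R C))
    (fun _ _ => .all _ _)).comp
    ((Algebra.TensorProduct.map (AlgHom.id R C) (π : C →ₐ[R] MonoidAlgebra R M)).comp (Bialgebra.comulAlgHom R C))

theorem gradeHom_coeff (c : C) (m : M) :
    (gradeHom π c).coeff m =
      TensorProduct.rid R C (LinearMap.lTensor C (coeffAt R m ∘ₗ (π : C →ₐ[R] MonoidAlgebra R M).toLinearMap) (comul c)) := by
  simp only [gradeHom, AlgHom.comp_apply, Bialgebra.comulAlgHom_apply]
  generalize comul (R := R) c = z
  induction z using TensorProduct.induction_on with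
  | zero => simp
  | add a b ha hb => simp only [map_add, MonoidAlgebra.coeff_add, Finsupp.add_apply, ha, hb]
  | tmul a b =>
    rw [Algebra.TensorProduct.map_tmul, Algebra.TensorProduct.lift_tmul, LinearMap.lTensor_tmul,
      TensorProduct.rid_tmul, AlgHom.id_apply, evalAlg_apply, IsScalarTower.toAlgHom_apply,
      ← Algebra.smul_def, MonoidAlgebra.coeff_smul, Finsupp.smul_apply, coeff_evalAt, smul_eq_mul, mul_comm,
      LinearMap.comp_apply, Algebra.smul_def]
    rfl

theorem rid_lTensor_coeffAt (m : M) (x : MonoidAlgebra R M) :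
    TensorProduct.rid R _ (LinearMap.lTensor (MonoidAlgebra R M) (coeffAt R m) (comul x)) =
      coeffAt R m x • MonoidAlgebra.single m (1 : R) := by
  classical
  induction x using MonoidAlgebra.induction_linear with
  | zero => simp
  | add a b ha hb => simp only [map_add, add_smul, ha, hb]
  | single l r =>
    have hr : MonoidAlgebra.single l r = r • MonoidAlgebra.single l (1 : R) := by simp
    rw [hr, map_smul, map_smul, map_smul, map_smul, comul_single_one, LinearMap.lTensor_tmul,
      TensorProduct.rid_tmul, smul_eq_mul, ← smul_smul]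
    by_cases h : l = m
    · subst h; rfl
    · rw [show coeffAt R m (MonoidAlgebra.single l (1 : R)) = 0 from Finsupp.single_eq_of_ne (Ne.symm h)]
      simp

theorem map_gradeHom_coeff (c : C) (m : M) :
    π ((gradeHom π c).coeff m) = coeffAt R m (π c) • MonoidAlgebra.single m (1 : R) := by
  rw [gradeHom_coeff, ← rid_lTensor_coeffAt, ← CoalgHomClass.map_comp_comul_apply]
  generalize comul (R := R) c = z
  induction z using TensorProduct.induction_on with
  | zero => simp
  | add a b ha hb => simp only [map_add, ha, hb]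
  | tmul a b => simp

theorem sum_gradeHom (c : C) :
    MonoidAlgebra.lift C C M 1 (gradeHom π c) = c := by
  have hc : TensorProduct.rid R C (LinearMap.lTensor C (counit (R := R)) (comul c)) = c := by
    rw [Coalgebra.lTensor_counit_comul, TensorProduct.rid_tmul, one_smul]
  refine Eq.trans ?_ hc
  simp only [gradeHom, AlgHom.comp_apply, Bialgebra.comulAlgHom_apply]
  generalize comul (R := R) c = z
  induction z using TensorProduct.induction_on with
  | zero => simp
  | add a b ha hb => simp only [map_add, ha, hb]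
  | tmul a b =>
    rw [Algebra.TensorProduct.map_tmul, Algebra.TensorProduct.lift_tmul, LinearMap.lTensor_tmul,
      TensorProduct.rid_tmul, AlgHom.id_apply, IsScalarTower.toAlgHom_apply, map_mul, AlgHom.commutes,
      evalAlg_apply, Algebra.algebraMap_self, RingHom.id_apply, ← CoalgHomClass.counit_comp_apply (R := R) π b,
      Algebra.smul_def, mul_comm _ a]
    congr 1
    show MonoidAlgebra.lift C C M 1 (evalAt _ (π b)) = algebraMap R C (counit (π b))
    generalize π b = y
    induction y using MonoidAlgebra.induction_linear with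
    | zero => simp
    | add p q hp hq => simp only [map_add, hp, hq]
    | single l r => simp [evalAt_single]

variable [IsNoetherianRing R]

set_option maxHeartbeats 2000000 in
/-- A surjection onto a diagonalisable group which is infinitesimally an isomorphism along a jacobson
ideal has a kernel generated by an idempotent. -/
theorem exists_idem_ker (hft : Algebra.FiniteType R C) (hsurj : Function.Surjective π) {I : Ideal R}
    (hI : I ≤ Ideal.jacobson ⊥)
    (hJ : ∀ x, π x = 0 → x ∈ I.map (algebraMap R C)) :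
    ∃ e : C, IsIdempotentElem e ∧ e ∈ I.map (algebraMap R C) ∧ ∀ x, π x = 0 ↔ x ∈ Ideal.span {e} := by
  classical
  let J : Ideal C := RingHom.ker (π : C →ₐ[R] MonoidAlgebra R M)
  have hmem : ∀ x, x ∈ J ↔ π x = 0 := fun x => Iff.rfl
  have hnoeth : IsNoetherianRing C := Algebra.FiniteType.isNoetherianRing R C
  -- `J = I J`
  let L : C →ₗ[R] MonoidAlgebra R M := (π : C →ₐ[R] MonoidAlgebra R M).toLinearMap
  have hfree : Module.Free R (MonoidAlgebra R M) := Module.Free.of_equiv (MonoidAlgebra.coeffLinearEquiv R).symm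
  have hIJ : ∀ x : LinearMap.ker L, x ∈ (I • ⊤ : Submodule R (LinearMap.ker L)) := fun x => by
    rw [← sub_zero x, ← one_tmul_eq_iff_mem, TensorProduct.tmul_zero]
    refine LinearMap.lTensor_injective_of_exact_of_flat L hsurj (LinearMap.ker L).subtype
      (LinearMap.ker L).injective_subtype (LinearMap.exact_subtype_ker_map L) (R ⧸ I) ?_
    rw [map_zero, LinearMap.lTensor_tmul, ← TensorProduct.tmul_zero C (1 : R ⧸ I), one_tmul_eq_iff_mem, sub_zero,
      Ideal.smul_top_eq_map]
    exact hJ _ x.2
  -- sections of the characters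
  choose w hw using fun m : M => hsurj (MonoidAlgebra.single m 1)
  let comp : M → C →ₗ[R] C := fun m =>
    ((Finsupp.lapply m).comp (MonoidAlgebra.coeffLinearEquiv C).toLinearMap).restrictScalars R ∘ₗ
      (gradeHom π).toLinearMap
  have hcomp : ∀ m c, comp m c = (gradeHom π c).coeff m := fun m c => rfl
  have hcompJ : ∀ m c, comp m c - algebraMap R C (coeffAt R m (π c)) * w m ∈ J := fun m c => by
    rw [hmem, map_sub, hcomp, map_gradeHom_coeff, ← Algebra.smul_def, map_smul, hw, sub_self]
  have hcompJ' : ∀ m c, c ∈ J → comp m c ∈ J := fun m c hc => by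
    have h := hcompJ m c
    rwa [show coeffAt R m (π c) = 0 by rw [(hmem c).mp hc, map_zero], map_zero, zero_mul, sub_zero] at h
  have hmul : ∀ a b : C, comp 1 (a * b) = ∑ m ∈ (gradeHom π b).coeff.support, comp m⁻¹ a * comp m b := by
    intro a b
    rw [hcomp, map_mul]
    conv_lhs => rw [← MonoidAlgebra.sum_coeff_single (gradeHom π b), Finsupp.sum, Finset.mul_sum]
    rw [MonoidAlgebra.coeff_sum, Finsupp.finsetSum_apply]
    refine Finset.sum_congr rfl fun m _ => ?_
    rw [MonoidAlgebra.coeff_mul_single_apply, one_mul, hcomp, hcomp]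
  -- generators modulo the square
  obtain ⟨G, hG⟩ : J.FG := IsNoetherian.noetherian J
  let V : Submodule R (C ⧸ J ^ 2) := Submodule.span R
    (↑(G.biUnion fun g => (gradeHom π g).coeff.support.image fun m => Ideal.Quotient.mk (J ^ 2) (w m⁻¹ * comp m g)) :
      Set (C ⧸ J ^ 2))
  have hV : Module.Finite R V := Module.Finite.span_of_finite R (Finset.finite_toSet _)
  let q : C →ₗ[R] C ⧸ J ^ 2 := (Ideal.Quotient.mkₐ R (J ^ 2)).toLinearMap
  let W : Submodule R (C ⧸ J ^ 2) := (LinearMap.ker L).map (q ∘ₗ comp 1)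
  have hWV : W ≤ V := by
    rintro _ ⟨j, hj, rfl⟩
    have hj' : j ∈ Submodule.span C (G : Set C) := (SetLike.ext_iff.mp hG j).mpr hj
    obtain ⟨a, ha⟩ := Submodule.mem_span_finset.mp hj'
    rw [← ha.2, map_sum]
    refine Submodule.sum_mem _ fun g hg => ?_
    show Ideal.Quotient.mk (J ^ 2) (comp 1 (a g * g)) ∈ V
    rw [hmul, map_sum]
    refine Submodule.sum_mem _ fun m hm => ?_
    have h1 : Ideal.Quotient.mk (J ^ 2) (comp m⁻¹ (a g) * comp m g) =
        coeffAt R m⁻¹ (π (a g)) • Ideal.Quotient.mk (J ^ 2) (w m⁻¹ * comp m g) := by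
      rw [← Ideal.Quotient.mkₐ_eq_mk R, ← map_smul, Algebra.smul_def, ← mul_assoc,
        Ideal.Quotient.mkₐ_eq_mk, Ideal.Quotient.eq, ← sub_mul, pow_two]
      exact Ideal.mul_mem_mul (hcompJ _ _) (hcompJ' _ _ (by rw [← hG]; exact Ideal.subset_span hg))
    rw [h1]
    exact V.smul_mem _ (Submodule.subset_span (Finset.mem_biUnion.mpr ⟨g, hg, Finset.mem_image_of_mem _ hm⟩))
  have hW : W = ⊥ := by
    have hfg : W.FG := by
      have : IsNoetherian R V := isNoetherian_of_isNoetherianRing_of_finite R V
      have h := IsNoetherian.noetherian (W.comap V.subtype)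
      have := h.map V.subtype
      rwa [Submodule.map_comap_subtype, inf_eq_right.mpr hWV] at this
    refine Submodule.eq_bot_of_le_smul_of_le_jacobson_bot I W hfg ?_ hI
    rintro _ ⟨j, hj, rfl⟩
    have h := Submodule.mem_map_of_mem (f := (q ∘ₗ comp 1) ∘ₗ (LinearMap.ker L).subtype) (hIJ ⟨j, hj⟩)
    rw [Submodule.map_smul'', Submodule.map_top] at h
    refine Submodule.smul_mono le_rfl ?_ h
    rintro _ ⟨y, rfl⟩
    exact ⟨y.1, y.2, rfl⟩
  have hzero : ∀ j ∈ J, comp 1 j ∈ J ^ 2 := fun j hj => by
    have h : (q ∘ₗ comp 1) j ∈ W := ⟨j, hj, rfl⟩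
    rw [hW, Submodule.mem_bot] at h
    exact Ideal.Quotient.eq_zero_iff_mem.mp h
  have hall : ∀ j ∈ J, ∀ m, comp m j ∈ J ^ 2 := by
    intro j hj m
    have h1 := hzero (w m⁻¹ * j) (J.mul_mem_left _ hj)
    rw [hmul] at h1
    have h2 : w m⁻¹ * comp m j ∈ J ^ 2 := by
      have hterm : ∀ n ∈ (gradeHom π j).coeff.support,
          comp n⁻¹ (w m⁻¹) * comp n j - (if n = m then w m⁻¹ * comp m j else 0) ∈ J ^ 2 := by
        intro n _
        rw [pow_two]
        have h3 := Ideal.mul_mem_mul (hcompJ n⁻¹ (w m⁻¹)) (hcompJ' n j hj)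
        rw [sub_mul, hw, coeffAt_apply, MonoidAlgebra.coeff_single, Finsupp.single_apply] at h3
        by_cases hn : n = m
        · subst hn; simpa using h3
        · simpa [hn, Ne.symm hn] using h3
      have h4 := sub_mem h1 (Submodule.sum_mem _ hterm)
      rw [Finset.sum_sub_distrib, sub_sub_cancel, Finset.sum_ite_eq'] at h4
      by_cases hm : m ∈ (gradeHom π j).coeff.support
      · simpa [hm] using h4
      · rw [show comp m j = 0 from Finsupp.notMem_support_iff.mp hm, mul_zero]
        exact zero_mem _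
    have hu : w m * w m⁻¹ - 1 ∈ J := by
      rw [hmem, map_sub, map_mul, hw, hw, map_one, MonoidAlgebra.single_mul_single, mul_inv_cancel, one_mul,
        ← MonoidAlgebra.one_def, sub_self]
    have e : comp m j = w m * (w m⁻¹ * comp m j) - (w m * w m⁻¹ - 1) * comp m j := by ring
    rw [e]
    refine sub_mem (Ideal.mul_mem_left _ _ h2) ?_
    rw [pow_two]
    exact Ideal.mul_mem_mul hu (hcompJ' m j hj)
  have hidem : IsIdempotentElem J := by
    refine le_antisymm Ideal.mul_le_left fun j hj => ?_
    rw [← pow_two, ← sum_gradeHom π j, MonoidAlgebra.lift_apply]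
    refine Submodule.sum_mem _ fun m _ => ?_
    show (gradeHom π j).coeff m • (1 : C) ∈ J ^ 2
    rw [smul_eq_mul, mul_one]
    exact hall j hj m
  obtain ⟨e, he, hJe⟩ := (Ideal.isIdempotentElem_iff_of_fg J (IsNoetherian.noetherian J)).mp hidem
  refine ⟨e, he, hJ e ((hmem e).mp (hJe ▸ Submodule.mem_span_singleton_self e)), fun x => ?_⟩
  rw [← hmem, hJe]

end Kernel

end Groth.Agent.MultTypeLib
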