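import Groth.Agent.MultTypeLib.SmoothLift

/-!
# Lifting conjugating points

If two homomorphisms out of a group with an invariant mean are conjugate modulo a nilpotent ideal by a point of a
formally smooth group, then they are conjugate by a point with the same reduction.
-/

universe u

open WithConv TensorProduct Coalgebra Bialgebra

noncomputable section

namespace Groth.Agent.MultTypeLib

attribute [local instance 2000] algConvGroup

variable {R : Type u} [CommRing R] {A : Type u} [CommRing A] [HopfAlgebra R A]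
variable {C : Type u} [CommRing C] [HopfAlgebra R C]

/-- Being a homomorphism, for maps of algebras. -/
def IsHomPt (d : WithConv (C →ₐ[R] A)) : Prop :=
  convMap (Bialgebra.comulAlgHom R A) d =
    convMap Algebra.TensorProduct.includeLeft d * convMap Algebra.TensorProduct.includeRight d

theorem isHomPt_bialgHom (φ : C →ₐc[R] A) : IsHomPt (toConv (φ : C →ₐ[R] A)) := by
  refine WithConv.ext (AlgHom.ext fun c => sub_eq_zero.mp ?_)
  have := isHomMod_bialgHom ⊥ φ c
  rw [Submodule.bot_smul, Submodule.mem_bot, ← map_mul] at this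
  exact this

/-- Conjugation by a point of the base. -/
def conjPt (x : WithConv (C →ₐ[R] R)) (d : WithConv (C →ₐ[R] A)) : WithConv (C →ₐ[R] A) :=
  convMap (Algebra.ofId R A) x * d * (convMap (Algebra.ofId R A) x)⁻¹

theorem conjPt_mul (x y : WithConv (C →ₐ[R] R)) (d : WithConv (C →ₐ[R] A)) :
    conjPt (x * y) d = conjPt x (conjPt y d) := by
  simp only [conjPt, map_mul]
  group

theorem convMap_ofId {T : Type u} [CommRing T] [Algebra R T] (h : A →ₐ[R] T) (x : WithConv (C →ₐ[R] R)) :
    convMap h (convMap (Algebra.ofId R A) x) = convMap (Algebra.ofId R T) x := by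
  rw [convMap_convMap, Subsingleton.elim (h.comp (Algebra.ofId R A)) (Algebra.ofId R T)]

theorem IsHomPt.conj {d : WithConv (C →ₐ[R] A)} (hd : IsHomPt d) (x : WithConv (C →ₐ[R] R)) : IsHomPt (conjPt x d) := by
  unfold IsHomPt at hd ⊢
  simp only [conjPt, map_mul, map_inv, convMap_ofId, hd]
  group

set_option maxHeartbeats 2000000 in
/-- Congruent homomorphisms are conjugate by a point, one step. -/
theorem Mean.exists_conjPt_step [Algebra.FormallySmooth R C] (μ : Mean R A) {K : Ideal R} (hK : IsNilpotent K)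
    {d b : WithConv (C →ₐ[R] A)} (hd : IsHomPt d) (hb : IsHomPt b) (h : Cong K (lin d) (lin b)) :
    ∃ g : WithConv (C →ₐ[R] R), Cong K (lin g) (lin 1) ∧ Cong (K * K) (lin (conjPt g d)) (lin b) := by
  let iL : A →ₐ[R] A ⊗[R] A := Algebra.TensorProduct.includeLeft
  let iR : A →ₐ[R] A ⊗[R] A := Algebra.TensorProduct.includeRight
  let Δ : A →ₐ[R] A ⊗[R] A := Bialgebra.comulAlgHom R A
  let D : WithConv (C →ₐ[R] A) := b * d⁻¹
  have hD1 : Cong K (lin D) (lin (1 : WithConv (C →ₐ[R] A))) := by
    have := h.symm.mul_right (S := lin d⁻¹)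
    rwa [← map_mul, ← map_mul, mul_inv_cancel] at this
  have hD : ∀ c, D.ofConv c - Algebra.ofId R A ((Bialgebra.counitAlgHom R C) c) ∈ (K • ⊤ : Submodule R A) := fun c => by
    have := hD1 c
    simpa using this
  obtain ⟨g, hg, hg1⟩ := exists_lift_of_mean μ.μ (Algebra.ofId R A) (fun x y => by
    rw [Algebra.ofId_apply, mul_comm, ← Algebra.smul_def, map_smul, smul_eq_mul, mul_comm]) μ.map_one' hK
    D.ofConv (Bialgebra.counitAlgHom R C) hD
  let n : WithConv (C →ₗ[R] A) := toConv (Algebra.linearMap R A ∘ₗ μ.μ ∘ₗ D.ofConv.toLinearMap)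
  have hn : lin b * n * lin d⁻¹ = n := by
    have e : convMap Δ D = convMap iL b * convMap iR D * convMap iL d⁻¹ := by
      simp only [D, map_mul, map_inv]
      rw [show convMap Δ b = convMap iL b * convMap iR b from hb,
        show convMap Δ d = convMap iL d * convMap iR d from hd]
      group
    have e' := congrArg (fun z => toConv (μ.L ∘ₗ (lin z).ofConv)) e
    simp only [map_mul, lin_convMap] at e'
    rw [comp_mul_right μ.L iL.toLinearMap μ.L_mul, comp_mul_left μ.L iL.toLinearMap μ.L_mul] at e'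
    have e5 : toConv (μ.L ∘ₗ (iR.toLinearMap ∘ₗ (lin D).ofConv)) = n :=
      WithConv.ext (LinearMap.ext fun c => by
        show μ.L ((1 : A) ⊗ₜ D.ofConv c) = algebraMap R A (μ.μ (D.ofConv c))
        rw [Mean.L_tmul, Algebra.algebraMap_eq_smul_one])
    have e6 : toConv (μ.L ∘ₗ (Δ.toLinearMap ∘ₗ (lin D).ofConv)) = n :=
      WithConv.ext (LinearMap.ext fun c => by
        show μ.L (comul (D.ofConv c)) = algebraMap R A (μ.μ (D.ofConv c))
        rw [Algebra.algebraMap_eq_smul_one]
        exact μ.inv _)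
    rw [e5, e6] at e'
    exact e'.symm
  let G : WithConv (C →ₐ[R] A) := convMap (Algebra.ofId R A) g
  have hGn : Cong (K * K) (lin G) n := hg.comp (Algebra.linearMap R A)
  have hconj : Cong (K * K) (lin (b * G)) (lin (G * d)) := by
    have h1 : lin b * n = n * lin d := by
      conv_rhs => rw [← hn, mul_assoc, ← map_mul, inv_mul_cancel, map_one, mul_one]
    rw [map_mul, map_mul]
    exact (hGn.mul_left.trans (h1 ▸ Cong.refl _)).trans hGn.symm.mul_right
  refine ⟨g, hg1, ?_⟩
  have h2 := (hconj.symm.mul_right (S := lin G⁻¹))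
  rw [← map_mul, ← map_mul, mul_inv_cancel_right] at h2
  exact h2

/-- Homomorphisms conjugate modulo a nilpotent ideal are conjugate. -/
theorem Mean.exists_conjPt [Algebra.FormallySmooth R C] (μ : Mean R A) {K : Ideal R} (hK : IsNilpotent K)
    {d b : WithConv (C →ₐ[R] A)} (hd : IsHomPt d) (hb : IsHomPt b) (x₀ : WithConv (C →ₐ[R] R))
    (h : Cong K (lin (conjPt x₀ d)) (lin b)) :
    ∃ x : WithConv (C →ₐ[R] R), Cong K (lin x) (lin x₀) ∧ conjPt x d = b := by
  have hstep : ∀ k : ℕ, ∃ x : WithConv (C →ₐ[R] R),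
      Cong K (lin x) (lin x₀) ∧ Cong (K ^ 2 ^ k) (lin (conjPt x d)) (lin b) := by
    intro k
    induction k with
    | zero => exact ⟨x₀, Cong.refl _, by simpa using h⟩
    | succ k ih =>
      obtain ⟨x, hx, hxb⟩ := ih
      obtain ⟨g, hg, hgb⟩ := μ.exists_conjPt_step (hK.pow_of_pos (Nat.two_pow_pos k).ne') (hd.conj x) hb hxb
      refine ⟨g * x, ?_, ?_⟩
      · have h1 := (hg.mono (Ideal.pow_le_self (Nat.two_pow_pos k).ne')).mul_right (S := lin x)
        rw [← map_mul, ← map_mul, one_mul] at h1
        exact h1.trans hx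
      · rw [conjPt_mul, pow_succ, pow_mul, pow_two]
        exact hgb
  obtain ⟨n, hn⟩ := hK
  obtain ⟨x, hx, hxb⟩ := hstep n
  refine ⟨x, hx, WithConv.ext (AlgHom.ext fun c => sub_eq_zero.mp ?_)⟩
  have h' := hxb c
  rw [pow_eq_zero_of_le Nat.lt_two_pow_self.le hn, Submodule.zero_eq_bot, Submodule.bot_smul,
    Submodule.mem_bot] at h'
  exact h'

end Groth.Agent.MultTypeLib
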