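import Groth.Agent.MultTypeLib.HomLift

/-!
# Conjugating points over affine bases lift along nilpotent ideals
-/

universe u

open CategoryTheory CategoryTheory.Limits MonoidalCategory CartesianMonoidalCategory MonObj AlgebraicGeometry

noncomputable section

namespace Groth.Agent.MultTypeLib.ConjNilLift

open GenLift GenMultType HomLift

variable {R : Type u} [CommRing R] (J : Ideal R) {H G : Over (Spec (CommRingCat.of R))} [GrpObj H] [GrpObj G]

theorem ptm_conv {x : 𝟙_ (Over (Spec (CommRingCat.of R))) ⟶ G} {x₀ : P₀ J ⟶ G}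
    (h : ptm (𝟙 (Spec (CommRingCat.of R))) (Ideal.Quotient.mk J) ≫ x = overEq (Category.comp_id _) ≫ x₀) :
    toUnit (P₀ J) ≫ x = x₀ := by
  have e : toUnit (P₀ J) = overEq (Category.comp_id _).symm ≫ ptm (𝟙 (Spec (CommRingCat.of R))) (Ideal.Quotient.mk J) :=
    (toUnit_unique _ _)
  calc toUnit (P₀ J) ≫ x
      = overEq (Category.comp_id _).symm ≫ (ptm (𝟙 _) (Ideal.Quotient.mk J) ≫ x) := by rw [e]; exact Category.assoc _ _ _
    _ = overEq (Category.comp_id _).symm ≫ overEq (Category.comp_id _) ≫ x₀ := congrArg _ h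
    _ = x₀ := by rw [← Category.assoc, overEq_comp, Category.id_comp]

theorem conj_of_fix (u v : H ⟶ G) [IsMonHom u] [IsMonHom v] {x : 𝟙_ (Over (Spec (CommRingCat.of R))) ⟶ G}
    (hx : FixedLift.FixPt (conjAction v u) x) (X : Over (Spec (CommRingCat.of R))) (h : X ⟶ H) :
    h ≫ v = (toUnit X ≫ x) * (h ≫ u) * (toUnit X ≫ x)⁻¹ := (fixPt_conj_iff v u x).mp hx X (toUnit X) h

/-- Conjugacy of homomorphisms agreeing modulo a square zero ideal. -/
theorem exists_conj_sq (hJ : J ^ 2 = ⊥) (hH : IsMT H) (u v : H ⟶ G) [IsMonHom u] [IsMonHom v]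
    (h0 : ∀ (X : Over (Spec (CommRingCat.of R))) (_ : X ⟶ P₀ J) (h : X ⟶ H), h ≫ u = h ≫ v) :
    ∃ g : 𝟙_ (Over (Spec (CommRingCat.of R))) ⟶ G, toUnit (P₀ J) ≫ g = 1 ∧
      ∀ (X : Over (Spec (CommRingCat.of R))) (h : X ⟶ H), h ≫ v = (toUnit X ≫ g) * (h ≫ u) * (toUnit X ≫ g)⁻¹ := by
  obtain ⟨x, hx, hxF⟩ := exists_fixed_sq (conjAction v u) hH (𝟙 (Spec (CommRingCat.of R))) (Ideal.Quotient.mk J)
    Ideal.Quotient.mk_surjective (by rw [Ideal.mk_ker]; exact hJ) 1 (by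
      rw [MonObj.comp_one, fixPt_conj_iff]
      intro T q h
      rw [MonObj.comp_one, _root_.one_mul, inv_one, _root_.mul_one]
      exact (h0 T (q ≫ overEq (Category.comp_id _)) h).symm)
  refine ⟨x, ptm_conv J (hx.trans ?_), fun X h => conj_of_fix u v hxF X h⟩
  exact (MonObj.comp_one _).trans (MonObj.comp_one _).symm

/-- Conjugating points lift along nilpotent ideals for smooth groups. -/
theorem exists_conj_lift (hJ : IsNilpotent J) (hH : IsMT H) [Smooth G.hom] (u v : H ⟶ G) [IsMonHom u] [IsMonHom v]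
    (g₀ : P₀ J ⟶ G)
    (h0 : ∀ (X : Over (Spec (CommRingCat.of R))) (p : X ⟶ P₀ J) (h : X ⟶ H),
      h ≫ v = (p ≫ g₀) * (h ≫ u) * (p ≫ g₀)⁻¹) :
    ∃ g : 𝟙_ (Over (Spec (CommRingCat.of R))) ⟶ G, toUnit (P₀ J) ≫ g = g₀ ∧
      ∀ (X : Over (Spec (CommRingCat.of R))) (h : X ⟶ H), h ≫ v = (toUnit X ≫ g) * (h ≫ u) * (toUnit X ≫ g)⁻¹ := by
  obtain ⟨x, hx, hxF⟩ := exists_fixed_lift (conjAction v u) hH (𝟙 (Spec (CommRingCat.of R))) (Ideal.Quotient.mk J)
    Ideal.Quotient.mk_surjective (by rw [Ideal.mk_ker]; exact hJ) (overEq (Category.comp_id _) ≫ g₀) (by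
      rw [fixPt_conj_iff]
      intro T q h
      rw [← Category.assoc]
      exact h0 T _ h)
  exact ⟨x, ptm_conv J hx, fun X h => conj_of_fix u v hxF X h⟩

theorem conjBy_of_iso {H' : Over (Spec (CommRingCat.of R))} (i : H ⟶ G) (i' : H' ⟶ G) (φ : H ≅ H')
    (g : 𝟙_ (Over (Spec (CommRingCat.of R))) ⟶ G)
    (hg : ∀ (X : Over (Spec (CommRingCat.of R))) (h : X ⟶ H),
      h ≫ φ.hom ≫ i' = (toUnit X ≫ g) * (h ≫ i) * (toUnit X ≫ g)⁻¹) : SGA3x.ConjBy i i' g :=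
  ⟨φ, by have h := hg H (𝟙 H); simp only [Category.id_comp] at h; exact h.symm⟩

end Groth.Agent.MultTypeLib.ConjNilLift
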