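import Groth.Agent.MultTypeLib.Point

/-!
# Coordinates along points of a splitting ring
-/

universe u

open WithConv TensorProduct Coalgebra Bialgebra

noncomputable section

namespace Groth.Agent.MultTypeLib

section Eval

variable {S : Type u} [CommRing S] {T : Type u} [CommRing T] {M : Type u} [CommGroup M]
  {Q : Type u} [CommGroup Q]

/-- Evaluation of the coefficients. -/
def evalAt (j : S →+* T) : MonoidAlgebra S M →+* MonoidAlgebra T M :=
  let _ : Algebra S T := j.toAlgebra
  (mapCoeff S T M).toAlgHom.toRingHom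

theorem coeff_evalAt (j : S →+* T) (x : MonoidAlgebra S M) (m : M) : (evalAt j x).coeff m = j (x.coeff m) :=
  let _ : Algebra S T := j.toAlgebra
  coeff_mapCoeff x m

theorem evalAt_single (j : S →+* T) (m : M) (r : S) :
    evalAt j (MonoidAlgebra.single m r) = MonoidAlgebra.single m (j r) :=
  let _ : Algebra S T := j.toAlgebra
  mapCoeff_single m r

theorem isGroupLike_evalAt (j : S →+* T) {x : MonoidAlgebra S M} (hx : IsGroupLikeElem S x) :
    IsGroupLikeElem T (evalAt j x) :=
  let _ : Algebra S T := j.toAlgebra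
  (mapCoeff S T M).isGroupLike hx

theorem evalAt_mapDomain (j : S →+* T) (f : M →* Q) (x : MonoidAlgebra S M) :
    evalAt j (MonoidAlgebra.mapDomainBialgHom S f x) = MonoidAlgebra.mapDomainBialgHom T f (evalAt j x) :=
  let _ : Algebra S T := j.toAlgebra
  mapCoeff_mapDomain T f x

theorem evalAt_evalAt {U : Type u} [CommRing U] (j : S →+* T) (i : T →+* U) (x : MonoidAlgebra S M) :
    evalAt i (evalAt j x) = evalAt (i.comp j) x := by
  ext m
  simp [coeff_evalAt]

/-- The value of a group-like element at a point. -/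
theorem evalAt_eq_single_iff {K : Type u} [Field K] (j : S →+* K) {x : MonoidAlgebra S M}
    (hx : IsGroupLikeElem S x) (m : M) :
    evalAt j x = MonoidAlgebra.single m 1 ↔ j (x.coeff m) ≠ 0 := by
  classical
  constructor
  · intro h hm
    have h2 := congrArg (fun y => y.coeff m) h
    simp only [coeff_evalAt, MonoidAlgebra.coeff_single, Finsupp.single_eq_same, hm] at h2
    exact zero_ne_one h2
  · intro hm
    obtain ⟨n, hn⟩ := exists_single_of_field (isGroupLike_evalAt j hx)
    suffices n = m by rw [← hn, this]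
    by_contra hne
    have h2 := congrArg (fun y => y.coeff m) hn
    simp only [coeff_evalAt, MonoidAlgebra.coeff_single, Finsupp.single_apply, if_neg hne] at h2
    exact hm h2.symm

/-- Elements with supports in a set on which `f` is injective are determined by their images. -/
theorem eq_of_mapDomain_eq (f : M →* Q) {x y : MonoidAlgebra S M} (s : Finset M)
    (hs : ∀ a ∈ s, ∀ b ∈ s, f a = f b → a = b) (hx : x.coeff.support ⊆ s) (hy : y.coeff.support ⊆ s)
    (h : MonoidAlgebra.mapDomainBialgHom S f x = MonoidAlgebra.mapDomainBialgHom S f y) : x = y := by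
  classical
  have key : ∀ (z : MonoidAlgebra S M), z.coeff.support ⊆ s → ∀ a ∈ s,
      (MonoidAlgebra.mapDomainBialgHom S f z).coeff (f a) = z.coeff a := by
    intro z hz a ha
    conv_lhs => rw [← MonoidAlgebra.sum_coeff_single z, Finsupp.sum, map_sum]
    rw [MonoidAlgebra.coeff_sum, Finsupp.finsetSum_apply]
    simp only [MonoidAlgebra.mapDomainBialgHom_single, MonoidAlgebra.coeff_single]
    rw [Finset.sum_eq_single a]
    · rw [Finsupp.single_eq_same]
    · intro b hb hba
      rw [Finsupp.single_eq_of_ne (fun e => hba (hs b (hz hb) a ha e.symm))]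
    · intro h0
      rw [Finsupp.notMem_support_iff.mp h0, Finsupp.single_zero, Finsupp.coe_zero, Pi.zero_apply]
  ext a
  by_cases ha : a ∈ s
  · rw [← key x hx a ha, ← key y hy a ha, h]
  · rw [Finsupp.notMem_support_iff.mp fun h' => ha (hx h'), Finsupp.notMem_support_iff.mp fun h' => ha (hy h')]

end Eval

section Coord

variable {R : Type u} [CommRing R] {A : Type u} [CommRing A] [HopfAlgebra R A] (P : Split R A)
variable {T : Type u} [CommRing T] [Algebra R T]

/-- Coordinates along a point of the splitting ring. -/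
def Split.coordAt (j : P.S →ₐ[R] T) : T ⊗[R] A →ₐc[T] MonoidAlgebra T P.M :=
  let _ : Algebra P.S T := j.toRingHom.toAlgebra
  have : IsScalarTower R P.S T := IsScalarTower.of_algebraMap_eq fun r => (j.commutes r).symm
  (P.homOver T).extendBialg

theorem Split.coordAt_bijective (j : P.S →ₐ[R] T) : Function.Bijective (P.coordAt j) := by
  let _ : Algebra P.S T := j.toRingHom.toAlgebra
  have : IsScalarTower R P.S T := IsScalarTower.of_algebraMap_eq fun r => (j.commutes r).symm
  exact P.extend_homOver_bijective T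

theorem Split.coordAt_tmul (j : P.S →ₐ[R] T) (t : T) (a : A) :
    P.coordAt j (t ⊗ₜ a) = t • evalAt (j : P.S →+* T) (P.hom.toAlgHom a) := by
  let _ : Algebra P.S T := j.toRingHom.toAlgebra
  have : IsScalarTower R P.S T := IsScalarTower.of_algebraMap_eq fun r => (j.commutes r).symm
  exact (P.homOver T).extend_tmul t a

theorem Split.coordAt_one_tmul (j : P.S →ₐ[R] T) (a : A) :
    P.coordAt j (1 ⊗ₜ a) = evalAt (j : P.S →+* T) (P.hom.toAlgHom a) := by
  rw [P.coordAt_tmul, one_smul]

theorem Split.coordAt_mA (j : P.S →ₐ[R] T) (z : P.S ⊗[R] A) :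
    P.coordAt j (mA A j z) = evalAt (j : P.S →+* T) (P.equiv z) := by
  let _ : Algebra P.S T := j.toRingHom.toAlgebra
  have : IsScalarTower R P.S T := IsScalarTower.of_algebraMap_eq fun r => (j.commutes r).symm
  exact P.extend_homOver T z

theorem Split.coordAt_char (j : P.S →ₐ[R] T) (m : P.M) :
    P.coordAt j (mA A j (P.char m)) = MonoidAlgebra.single m 1 := by
  rw [P.coordAt_mA, show P.equiv (P.char m) = MonoidAlgebra.single m 1 from P.equiv.apply_symm_apply _,
    evalAt_single, map_one]

theorem Split.coordAt_id (z : P.S ⊗[R] A) : P.coordAt (AlgHom.id R P.S) z = P.equiv z := by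
  have h := P.coordAt_mA (AlgHom.id R P.S) z
  rw [show mA A (AlgHom.id R P.S) z = z by
    rw [mA, Algebra.TensorProduct.map_id]; rfl] at h
  rw [h]
  ext m
  rw [coeff_evalAt]
  rfl

/-- The characters occurring in the coordinates of a fixed tensor lie in a finite set. -/
theorem Split.exists_support_bound (z : P.S ⊗[R] A) :
    ∃ G : Finset P.M, ∀ (T : Type u) [CommRing T] [Algebra R T] (j j' : P.S →ₐ[R] T),
      (P.coordAt j (mA A j' z)).coeff.support ⊆ G := by
  classical
  induction z using TensorProduct.induction_on with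
  | zero => exact ⟨∅, fun T _ _ j j' => by simp⟩
  | add x y hx hy =>
    obtain ⟨G₁, h₁⟩ := hx
    obtain ⟨G₂, h₂⟩ := hy
    refine ⟨G₁ ∪ G₂, fun T _ _ j j' => ?_⟩
    rw [map_add, map_add, MonoidAlgebra.coeff_add]
    exact Finsupp.support_add.trans (Finset.union_subset_union (h₁ T j j') (h₂ T j j'))
  | tmul s a =>
    refine ⟨(P.hom.toAlgHom a).coeff.support, fun T _ _ j j' => ?_⟩
    intro m hm
    rw [Algebra.TensorProduct.map_tmul, AlgHom.id_apply, P.coordAt_tmul, Finsupp.mem_support_iff,
      MonoidAlgebra.coeff_smul, Finsupp.smul_apply, coeff_evalAt] at hm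
    rw [Finsupp.mem_support_iff]
    intro h0
    rw [h0, map_zero, smul_zero] at hm
    exact hm rfl

variable (n : ℕ) [(SGA3b.torsionIdeal R A n).IsHopfIdeal R]

/-- The reduction to a torsion subgroup. -/
abbrev tpi (n : ℕ) (T : Type u) [CommRing T] [Algebra R T] :
    T ⊗[R] A →ₐ[T] T ⊗[R] (A ⧸ SGA3b.torsionIdeal R A n) :=
  Algebra.TensorProduct.map (AlgHom.id T T) (Ideal.Quotient.mkₐ R (SGA3b.torsionIdeal R A n))

/-- Coordinates of a torsion subgroup along a point. -/
def Split.torCoordAt (j : P.S →ₐ[R] T) : T ⊗[R] (A ⧸ SGA3b.torsionIdeal R A n) →ₐ[T]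
    MonoidAlgebra T (P.M ⧸ (powMonoidHom n : P.M →* P.M).range) :=
  let _ : Algebra P.S T := j.toRingHom.toAlgebra
  have : IsScalarTower R P.S T := IsScalarTower.of_algebraMap_eq fun r => (j.commutes r).symm
  ((mapCoeff P.S T _).comp (P.torHom n)).extend

theorem Split.torCoordAt_injective (j : P.S →ₐ[R] T) : Function.Injective (P.torCoordAt n j) := by
  let _ : Algebra P.S T := j.toRingHom.toAlgebra
  have : IsScalarTower R P.S T := IsScalarTower.of_algebraMap_eq fun r => (j.commutes r).symm
  exact (extend_comp_mapCoeff_bijective (P.torHom n) (P.torHom_bijective n)).1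

theorem Split.torCoordAt_one_tmul (j : P.S →ₐ[R] T) (b : A ⧸ SGA3b.torsionIdeal R A n) :
    P.torCoordAt n j (1 ⊗ₜ b) = evalAt (j : P.S →+* T) ((P.torHom n).toAlgHom b) := by
  let _ : Algebra P.S T := j.toRingHom.toAlgebra
  have : IsScalarTower R P.S T := IsScalarTower.of_algebraMap_eq fun r => (j.commutes r).symm
  exact (((mapCoeff P.S T _).comp (P.torHom n)).extend_tmul 1 b).trans (one_smul _ _)

theorem Split.torCoordAt_tpi (j : P.S →ₐ[R] T) (w : T ⊗[R] A) :
    P.torCoordAt n j (tpi n T w) = MonoidAlgebra.mapDomainBialgHom T (prn n) (P.coordAt j w) := by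
  let _ : Algebra P.S T := j.toRingHom.toAlgebra
  have : IsScalarTower R P.S T := IsScalarTower.of_algebraMap_eq fun r => (j.commutes r).symm
  exact P.extend_torHom n w

end Coord

end Groth.Agent.MultTypeLib
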