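import Groth.Agent.MultTypeLib.Sub
import Mathlib.RingTheory.Ideal.IdempotentFG

/-!
# Subgroups of multiplicative type of diagonalisable groups over a connected base
-/

universe u v w

open WithConv TensorProduct Coalgebra Bialgebra

noncomputable section

namespace Groth.Agent.MultTypeLib

section GroupLikeCoeff

variable {R : Type u} [CommRing R] {S : Type v} [CommRing S] [Algebra R S]
variable {A : Type w} [CommRing A] [Bialgebra R A] {M : Type*} [CommGroup M]

theorem SemiBialgHom.groupLike_orth [DecidableEq M] (h : SemiBialgHom R S A (MonoidAlgebra S M)) {a : A}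
    (ha : IsGroupLikeElem R a) (m n : M) :
    (h.toAlgHom a).coeff m * (h.toAlgHom a).coeff n = if m = n then (h.toAlgHom a).coeff m else 0 := by
  have := congrArg (fun f => f.ofConv a) (h.coef_mul m n)
  rw [LinearMap.convMul_apply, ha.comul_eq_tmul_self, TensorProduct.map_tmul, LinearMap.mul'_apply] at this
  simp only [h.coef_apply] at this
  rw [this]
  split_ifs <;> simp [h.coef_apply]

theorem SemiBialgHom.groupLike_sum (h : SemiBialgHom R S A (MonoidAlgebra S M)) {a : A}
    (ha : IsGroupLikeElem R a) (s : S) (hs : ∀ m, s * (h.toAlgHom a).coeff m = 0) : s = 0 := by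
  have h0 : s • h.toAlgHom a = 0 := by
    ext m; simp [hs m]
  have := congrArg (counit (R := S)) h0
  rw [map_smul, map_zero, (h.isGroupLike ha).counit_eq_one, smul_eq_mul, mul_one] at this
  exact this

theorem SemiBialgHom.groupLike_mul_coeff (h : SemiBialgHom R S A (MonoidAlgebra S M)) {a b : A}
    (hb : IsGroupLikeElem R b) (n : M) :
    (h.toAlgHom b).coeff n * (h.toAlgHom (b * a)).coeff n =
      (h.toAlgHom b).coeff n * (h.toAlgHom a).coeff 1 := by
  classical
  rw [map_mul, MonoidAlgebra.coeff_mul, Finsupp.sum, Finset.mul_sum]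
  rw [Finset.sum_eq_single n]
  · rw [Finsupp.sum, Finset.mul_sum, Finset.sum_eq_single 1]
    · rw [if_pos (mul_one n), ← mul_assoc, h.groupLike_orth hb, if_pos rfl]
    · intro l _ hl
      rw [if_neg (fun h => hl (by simpa using h)), mul_zero]
    · intro hl
      rw [Finsupp.notMem_support_iff] at hl
      simp [hl]
  · intro l _ hl
    rw [Finsupp.sum, Finset.mul_sum]
    refine Finset.sum_eq_zero fun l' _ => ?_
    split_ifs
    · rw [← mul_assoc, h.groupLike_orth hb, if_neg (Ne.symm hl), zero_mul]
    · rw [mul_zero]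
  · intro hn
    rw [Finsupp.notMem_support_iff] at hn
    simp [hn]

end GroupLikeCoeff

variable {R : Type u} [CommRing R] {A : Type u} [CommRing A] [HopfAlgebra R A]

theorem Cover.ideal_le (c : Cover R A) (I I' : Ideal R)
    (h : ∀ i, I'.map (algebraMap R (c.split i).S) ≤ I.map (algebraMap R (c.split i).S)) : I' ≤ I := by
  intro x hx
  refine c.mem_of_forall I x fun i => ?_
  have key : ∀ y ∈ I.map (algebraMap R (c.split i).S),
      y ⊗ₜ[R] (1 : R) ∈ LinearMap.range (LinearMap.lTensor (c.split i).S (Submodule.subtype I)) := by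
    intro y hy
    induction hy using Submodule.span_induction with
    | mem y hy =>
      obtain ⟨a, ha, rfl⟩ := hy
      exact ⟨1 ⊗ₜ ⟨a, ha⟩, by
        rw [LinearMap.lTensor_tmul, Submodule.subtype_apply, Algebra.algebraMap_eq_smul_one,
          TensorProduct.smul_tmul, smul_eq_mul, mul_one]⟩
    | zero => simp
    | add y z _ _ hy hz => rw [TensorProduct.add_tmul]; exact add_mem hy hz
    | smul r y _ hy =>
      obtain ⟨w, hw⟩ := hy
      refine ⟨r • w, ?_⟩
      have : ∀ w, LinearMap.lTensor (c.split i).S (Submodule.subtype I) (r • w) =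
          r • LinearMap.lTensor (c.split i).S (Submodule.subtype I) w := by
        intro w
        induction w using TensorProduct.induction_on with
        | zero => simp
        | add a b ha hb => simp [smul_add, map_add, ha, hb]
        | tmul a b => simp [TensorProduct.smul_tmul']
      rw [this, hw, TensorProduct.smul_tmul']
  have := key _ (h i (Ideal.mem_map_of_mem _ hx))
  rwa [Algebra.algebraMap_eq_smul_one, TensorProduct.smul_tmul, smul_eq_mul, mul_one] at this

theorem Split.ann_map (P : Split R A) (x : A) (s : P.S) (hs : s • P.hom.toAlgHom x = 0) :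
    s ∈ Ideal.map (algebraMap R P.S) (LinearMap.ker (LinearMap.toSpanSingleton R A x)) := by
  let Φ := LinearMap.toSpanSingleton R A x
  have h0 : s ⊗ₜ[R] x = (0 : P.S ⊗[R] A) := by
    apply P.equiv.injective
    have e1 : (s ⊗ₜ[R] x : P.S ⊗[R] A) = s • ((1 : P.S) ⊗ₜ[R] x) := by
      rw [TensorProduct.smul_tmul', smul_eq_mul, mul_one]
    rw [map_zero, e1, map_smul, P.equiv_tmul, hs]
  have hex : Function.Exact (LinearMap.ker Φ).subtype Φ := fun y => by simp [LinearMap.mem_ker]
  obtain ⟨y, hy⟩ := (Module.Flat.lTensor_exact P.S hex (s ⊗ₜ[R] (1 : R))).mp (by simpa [Φ] using h0)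
  have hmem : ∀ y : P.S ⊗[R] LinearMap.ker Φ,
      TensorProduct.rid R P.S (LinearMap.lTensor P.S (LinearMap.ker Φ).subtype y) ∈
        Ideal.map (algebraMap R P.S) (LinearMap.ker Φ) := by
    intro y
    induction y using TensorProduct.induction_on with
    | zero => simp
    | add y z hy hz => simpa using add_mem hy hz
    | tmul a b =>
      simp only [LinearMap.lTensor_tmul, Submodule.subtype_apply, TensorProduct.rid_tmul, Algebra.smul_def]
      exact Ideal.mul_mem_right _ _ (Ideal.mem_map_of_mem _ b.2)
  simpa [hy] using hmem y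

/-- Over a connected base, a group-like element of a group of multiplicative type other than `1` has
vanishing component at `1` in every splitting. -/
theorem coeff_one_eq_zero (c : Cover R A) (hconn : ∀ e : R, IsIdempotentElem e → e = 0 ∨ e = 1)
    {a : A} (ha : IsGroupLikeElem R a) (hne : a ≠ 1) (i : c.ι) :
    ((c.split i).hom.toAlgHom a).coeff 1 = 0 := by
  classical
  let I : Ideal R := LinearMap.ker (LinearMap.toSpanSingleton R A (a - 1))
  let e : ∀ i, (c.split i).S := fun i => ((c.split i).hom.toAlgHom a).coeff 1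
  have hmap : ∀ i, I.map (algebraMap R (c.split i).S) = Ideal.span {e i} := by
    intro i
    let h := (c.split i).hom
    have he : ∀ m, e i * (h.toAlgHom (a - 1)).coeff m = 0 := by
      intro m
      rw [map_sub, map_one, MonoidAlgebra.coeff_sub, Finsupp.sub_apply, MonoidAlgebra.one_def,
        MonoidAlgebra.coeff_single, Finsupp.single_apply, mul_sub, h.groupLike_orth ha]
      split_ifs with h' <;> simp [e, h]
    refine le_antisymm (Ideal.map_le_iff_le_comap.mpr fun r hr => ?_) ?_
    · have hr' : algebraMap R (c.split i).S r • h.toAlgHom (a - 1) = 0 := by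
        rw [← algebra_compatible_smul, ← map_smul, show r • (a - 1) = 0 from hr, map_zero]
      set s := algebraMap R (c.split i).S r
      have hc : ∀ m, s * ((h.toAlgHom a).coeff m - if 1 = m then 1 else 0) = 0 := fun m => by
        have := congrArg (fun y => y.coeff m) hr'
        simpa [map_sub, MonoidAlgebra.one_def, Finsupp.single_apply] using this
      have h1 : s = s * e i := by
        have := hc 1
        rw [if_pos rfl, mul_sub, mul_one, sub_eq_zero] at this
        exact this.symm
      rw [Ideal.mem_comap, show algebraMap R (c.split i).S r = s from rfl, h1]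
      exact Ideal.mem_span_singleton'.mpr ⟨s, rfl⟩
    · rw [Ideal.span_singleton_le_iff_mem]
      refine (c.split i).ann_map _ _ ?_
      ext m
      simpa using he m
  have hidem : ∀ i, Ideal.span {e i} * Ideal.span {e i} = Ideal.span {e i} := fun i => by
    rw [Ideal.span_singleton_mul_span_singleton]
    congr 1
    have := (c.split i).hom.groupLike_orth ha 1 1
    rw [if_pos rfl] at this
    rw [this]
  have hgen : ∀ i, ∃ T : Finset R, (T : Set R) ⊆ I ∧ e i ∈ Ideal.span ((algebraMap R (c.split i).S) '' (T : Set R)) := by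
    intro i
    have h1 : e i ∈ I.map (algebraMap R (c.split i).S) := hmap i ▸ Ideal.mem_span_singleton_self _
    obtain ⟨T, hT, h2⟩ := Submodule.mem_span_finite_of_mem_span h1
    obtain ⟨T', hT', rfl⟩ := Finset.subset_set_image_iff.mp hT
    exact ⟨T', hT', by simpa using h2⟩
  choose T hT heT using hgen
  have := Fintype.ofFinite c.ι
  have hle : I ≤ Ideal.span ((Finset.univ.biUnion T : Finset R) : Set R) := by
    refine c.ideal_le _ _ fun i => ?_
    rw [hmap, Ideal.span_singleton_le_iff_mem, Ideal.map_span]
    exact Ideal.span_mono (Set.image_mono (by intro x hx; exact Finset.mem_biUnion.mpr ⟨i, Finset.mem_univ _, hx⟩)) (heT i)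
  have hfg : I.FG := ⟨Finset.univ.biUnion T, le_antisymm (Ideal.span_le.mpr fun x hx => by
    obtain ⟨i, -, hxi⟩ := Finset.mem_biUnion.mp hx
    exact hT i hxi) hle⟩
  have hI2 : IsIdempotentElem I := le_antisymm Ideal.mul_le_right
    (c.ideal_le _ _ fun i => by rw [Ideal.map_mul, hmap, hidem])
  obtain ⟨e0, he0, hIe⟩ := (Ideal.isIdempotentElem_iff_of_fg I hfg).mp hI2
  rcases hconn e0 he0 with h0 | h1
  · have hbot : I = ⊥ := by rw [hIe, h0]; simp
    have := hmap i
    rw [hbot, Ideal.map_bot, eq_comm, Ideal.span_singleton_eq_bot] at this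
    exact this
  · exfalso
    apply hne
    have : (1 : R) ∈ I := by rw [hIe, h1]; exact Submodule.mem_span_singleton_self _
    simpa [I, sub_eq_zero] using this

theorem isDiag_quotient_of_connected [Nontrivial R] (hconn : ∀ e : R, IsIdempotentElem e → e = 0 ∨ e = 1)
    (hG : SGA3b.IsDiag R A) (J : Ideal A) [J.IsHopfIdeal R] (hH : SGA3b.IsMultType R (A ⧸ J)) :
    SGA3b.IsDiag R (A ⧸ J) := by
  classical
  obtain ⟨M, inst, e⟩ := hG
  obtain ⟨e⟩ := e
  obtain ⟨c⟩ := exists_cover hH
  let q : MonoidAlgebra R M →ₐc[R] A ⧸ J := (Bialgebra.Quotient.mkBialgHom J).comp (e.symm : MonoidAlgebra R M →ₐc[R] A)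
  let g : M →* GroupLike R (A ⧸ J) :=
    { toFun := fun m => ⟨q (MonoidAlgebra.single m 1), (MonoidAlgebra.isGroupLikeElem_single_one m).map q⟩
      map_one' := GroupLike.val_injective (by simp [← MonoidAlgebra.one_def])
      map_mul' := fun a b => GroupLike.val_injective (by
        show q _ = q _ * q _
        rw [← map_mul, MonoidAlgebra.single_mul_single, one_mul]) }
  let Q := M ⧸ g.ker
  let gbar : Q →* GroupLike R (A ⧸ J) := QuotientGroup.kerLift g
  have hgbar : Function.Injective gbar := QuotientGroup.kerLift_injective g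
  let Φ : MonoidAlgebra R Q →ₐc[R] A ⧸ J :=
    (MonoidAlgebra.liftGroupLikeBialgHom (R := R) (A := A ⧸ J)).comp (MonoidAlgebra.mapDomainBialgHom R gbar)
  have hΦ : ∀ (x : Q) (r : R), Φ (MonoidAlgebra.single x r) = r • (gbar x).val := fun x r => by
    simp [Φ, MonoidAlgebra.liftGroupLikeBialgHom]
  refine ⟨Q, inferInstance, ⟨(BialgEquiv.ofBijective Φ ⟨?_, ?_⟩).symm⟩⟩
  · rw [injective_iff_map_eq_zero]
    intro z hz
    ext x'
    refine c.module_ext _ fun i => ?_
    let h := (c.split i).hom
    suffices hs : algebraMap R (c.split i).S (z.coeff x') = 0 by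
      apply (TensorProduct.rid R (c.split i).S).injective
      rw [map_zero, TensorProduct.rid_tmul, ← Algebra.algebraMap_eq_smul_one]
      exact hs
    refine h.groupLike_sum (gbar x').2 _ fun n => ?_
    have h1 := congrArg (fun y => (h.toAlgHom y).coeff n * (h.toAlgHom (gbar x').val).coeff n) hz
    simp only [map_zero, MonoidAlgebra.coeff_zero, Finsupp.coe_zero, Pi.zero_apply, zero_mul] at h1
    rw [← MonoidAlgebra.sum_coeff_single z, Finsupp.sum, map_sum, map_sum, MonoidAlgebra.coeff_sum,
      Finsupp.finsetSum_apply, Finset.sum_mul, Finset.sum_eq_single x'] at h1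
    · rw [hΦ, map_smul, MonoidAlgebra.coeff_smul, Finsupp.smul_apply, Algebra.smul_def, mul_assoc,
        h.groupLike_orth (gbar x').2, if_pos rfl] at h1
      exact h1
    · intro x _ hx
      rw [hΦ, map_smul, MonoidAlgebra.coeff_smul, Finsupp.smul_apply, Algebra.smul_def, mul_assoc]
      have hmul : (gbar x').val * (gbar (x'⁻¹ * x)).val = (gbar x).val := by
        rw [← GroupLike.val_mul, ← map_mul, mul_inv_cancel_left]
      have hne : (gbar (x'⁻¹ * x)).val ≠ 1 := fun h => hx (by
        have h2 : gbar (x'⁻¹ * x) = 1 := GroupLike.val_injective h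
        rw [← map_one gbar] at h2
        exact (inv_mul_eq_one.mp (hgbar h2)).symm)
      rw [← hmul, mul_comm ((h.toAlgHom _).coeff n), h.groupLike_mul_coeff (gbar x').2,
        coeff_one_eq_zero c hconn (gbar (x'⁻¹ * x)).2 hne i, mul_zero, mul_zero]
    · intro hx
      rw [Finsupp.notMem_support_iff] at hx
      simp [hx]
  · intro y
    obtain ⟨a, rfl⟩ := Ideal.Quotient.mk_surjective y
    obtain ⟨x, rfl⟩ : ∃ x, e.symm x = a := ⟨e a, e.symm_apply_apply a⟩
    refine ⟨MonoidAlgebra.mapDomainBialgHom R (QuotientGroup.mk' g.ker) x, ?_⟩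
    induction x using MonoidAlgebra.induction_linear with
    | zero => simp
    | add y z hy hz => simp only [map_add, hy, hz]
    | single m r =>
      rw [MonoidAlgebra.mapDomainBialgHom_single, hΦ]
      have e1 : MonoidAlgebra.single m r = r • MonoidAlgebra.single m (1 : R) := by simp
      rw [e1, map_smul, ← Ideal.Quotient.mkₐ_eq_mk R, map_smul]
      rfl

end Groth.Agent.MultTypeLib
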