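import Groth.Agent.MultTypeLib.Averaging
import Groth.Agent.MultTypeLib.Complete
import Groth.Agent.MultTypeLib.Decomp

/-!
# Lifting homomorphisms to smooth groups
-/

universe u

open WithConv TensorProduct Coalgebra Bialgebra

noncomputable section

namespace Groth.Agent.MultTypeLib

section Coeff

variable (S : Type u) [CommRing S] (M : Type u) [CommGroup M]

/-- The coefficient at the unit. -/
def coeffOne : MonoidAlgebra S M →ₗ[S] S :=
  (Finsupp.lapply 1).comp (MonoidAlgebra.coeffLinearEquiv S).toLinearMap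

variable {S M}

theorem coeffOne_one : coeffOne S M 1 = 1 := by
  classical
  simp [coeffOne, MonoidAlgebra.one_def, Finsupp.single_eq_same]

theorem coeffOne_single [DecidableEq M] (m : M) (r : S) :
    coeffOne S M (MonoidAlgebra.single m r) = if m = 1 then r else 0 := by
  simp [coeffOne, Finsupp.single_apply]

theorem conv_coeffOne {T : Type u} [CommRing T] [Algebra S T] (U : MonoidAlgebra S M →ₗ[S] T) :
    toConv (Algebra.linearMap S T ∘ₗ coeffOne S M) * toConv U =
        toConv (U 1 • (Algebra.linearMap S T ∘ₗ coeffOne S M)) ∧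
      toConv U * toConv (Algebra.linearMap S T ∘ₗ coeffOne S M) =
        toConv (U 1 • (Algebra.linearMap S T ∘ₗ coeffOne S M)) := by
  classical
  constructor
  all_goals
    refine WithConv.ext (LinearMap.ext fun x => ?_)
    induction x using MonoidAlgebra.induction_linear with
    | zero => simp
    | add a b ha hb => simp only [map_add, ha, hb]
    | single m r =>
      have hr : MonoidAlgebra.single m r = r • MonoidAlgebra.single m (1 : S) := by simp
      rw [hr, map_smul, map_smul]
      congr 1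
      rw [LinearMap.convMul_apply, comul_single_one]
      simp only [TensorProduct.map_tmul, LinearMap.mul'_apply, LinearMap.comp_apply, Algebra.linearMap_apply,
        coeffOne_single, LinearMap.smul_apply, smul_eq_mul]
      split_ifs with h
      · subst h; simp [MonoidAlgebra.one_def, mul_comm]
      · simp

theorem rid_lTensor_coeffOne (x : MonoidAlgebra S M) :
    TensorProduct.rid S _ (LinearMap.lTensor (MonoidAlgebra S M) (coeffOne S M) (comul x)) =
      coeffOne S M x • (1 : MonoidAlgebra S M) := by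
  classical
  induction x using MonoidAlgebra.induction_linear with
  | zero => simp
  | add a b ha hb => simp only [map_add, add_smul, ha, hb]
  | single m r =>
    have hr : MonoidAlgebra.single m r = r • MonoidAlgebra.single m (1 : S) := by simp
    rw [hr, map_smul, map_smul, map_smul, map_smul, comul_single_one, LinearMap.lTensor_tmul,
      TensorProduct.rid_tmul, coeffOne_single, smul_eq_mul, ← smul_smul]
    split_ifs with h
    · subst h; simp [MonoidAlgebra.one_def]
    · simp

end Coeff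

section ExistsMean

variable {R : Type u} [CommRing R] {A : Type u} [CommRing A] [HopfAlgebra R A]

/-- The local mean of a split form. -/
def Split.mean (P : Split R A) : A →ₗ[R] P.S :=
  (coeffOne P.S P.M).restrictScalars R ∘ₗ P.hom.toAlgHom.toLinearMap

theorem Split.mean_one (P : Split R A) : P.mean 1 = 1 := by simp [Split.mean, coeffOne_one]

theorem Split.mean_conv (P : Split R A) {T : Type u} [CommRing T] [Algebra R T] [Algebra P.S T]
    [IsScalarTower R P.S T] (φ : A →ₗ[R] T) :
    toConv (IsScalarTower.toAlgHom R P.S T ∘ₗ P.mean) * toConv φ =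
        toConv (φ 1 • (IsScalarTower.toAlgHom R P.S T ∘ₗ P.mean)) ∧
      toConv φ * toConv (IsScalarTower.toAlgHom R P.S T ∘ₗ P.mean) =
        toConv (φ 1 • (IsScalarTower.toAlgHom R P.S T ∘ₗ P.mean)) := by
  let U : MonoidAlgebra P.S P.M →ₗ[P.S] T := LinearMap.liftBaseChange P.S φ ∘ₗ P.equiv.symm.toLinearMap
  have hU : ∀ a, U (P.hom.toAlgHom a) = φ a := fun a => by
    show LinearMap.liftBaseChange P.S φ (P.equiv.symm (P.hom.toAlgHom a)) = _
    rw [← P.equiv_tmul, AlgEquiv.symm_apply_apply, LinearMap.liftBaseChange_tmul, one_smul]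
  have hpre : P.hom.pre (toConv U) = toConv φ := WithConv.ext (LinearMap.ext fun a => by
    rw [SemiBialgHom.pre_apply]; exact hU a)
  have hθ : P.hom.pre (toConv (Algebra.linearMap P.S T ∘ₗ coeffOne P.S P.M)) =
      toConv (IsScalarTower.toAlgHom R P.S T ∘ₗ P.mean) :=
    WithConv.ext (LinearMap.ext fun a => by rw [SemiBialgHom.pre_apply]; rfl)
  have h1 : U 1 = φ 1 := by rw [← map_one P.hom.toAlgHom, hU]
  obtain ⟨e1, e2⟩ := conv_coeffOne U
  have hs : P.hom.pre (toConv (U 1 • (Algebra.linearMap P.S T ∘ₗ coeffOne P.S P.M))) =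
      toConv (φ 1 • (IsScalarTower.toAlgHom R P.S T ∘ₗ P.mean)) :=
    WithConv.ext (LinearMap.ext fun a => by rw [SemiBialgHom.pre_apply, h1]; rfl)
  exact ⟨by rw [← hpre, ← hθ, ← map_mul, e1, hs], by rw [← hpre, ← hθ, ← map_mul, e2, hs]⟩

/-- Groups of multiplicative type have invariant means. -/
theorem exists_mean (h : SGA3b.IsMultType R A) : Nonempty (Mean R A) := by
  obtain ⟨c⟩ := exists_cover h
  have hloc : ∀ a : A, ∃ r : R, ∀ i, algebraMap R (c.split i).S r = (c.split i).mean a := by
    intro a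
    obtain ⟨r, hr⟩ := c.descend (fun i => (c.split i).mean a ⊗ₜ[R] (1 : R)) fun i j => by
      show _ ⊗ₜ[R] (1 : R) = _ ⊗ₜ[R] (1 : R)
      congr 1
      let T := (c.split i).S ⊗[R] (c.split j).S
      let fL : (c.split i).S →ₐ[R] T := Algebra.TensorProduct.includeLeft
      let fR : (c.split j).S →ₐ[R] T := Algebra.TensorProduct.includeRight
      let θ : A →ₗ[R] T := fL.toLinearMap ∘ₗ (c.split i).mean
      let ψ : A →ₗ[R] T := fR.toLinearMap ∘ₗ (c.split j).mean
      suffices θ = ψ from LinearMap.congr_fun this a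
      have hθ1 : θ 1 = 1 := by simp [θ, Split.mean_one]
      have hψ1 : ψ 1 = 1 := by simp [ψ, Split.mean_one]
      have hi : toConv θ * toConv ψ = toConv θ := by
        have e := ((c.split i).mean_conv (T := T) ψ).1
        rw [hψ1, one_smul] at e
        exact e
      have hj : toConv θ * toConv ψ = toConv ψ := by
        let _ : Algebra (c.split j).S T := fR.toRingHom.toAlgebra
        have : IsScalarTower R (c.split j).S T := IsScalarTower.of_algebraMap_eq fun x => (fR.commutes x).symm
        have e := ((c.split j).mean_conv (T := T) θ).2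
        rw [hθ1, one_smul] at e
        exact e
      exact congrArg WithConv.ofConv (hi.symm.trans hj)
    refine ⟨r, fun i => ?_⟩
    have h := congrArg (TensorProduct.rid R (c.split i).S) (hr i)
    rw [TensorProduct.rid_tmul, TensorProduct.rid_tmul, one_smul] at h
    rw [← h, Algebra.algebraMap_eq_smul_one]
  choose m hm using hloc
  have ext : ∀ x y : R, (∀ i, algebraMap R (c.split i).S x = algebraMap R (c.split i).S y) → x = y :=
    fun x y h => sub_eq_zero.mp (c.module_ext _ fun i => by
      rw [← mul_one (x - y), ← smul_eq_mul, ← TensorProduct.smul_tmul, ← Algebra.algebraMap_eq_smul_one,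
        map_sub, h i, sub_self, TensorProduct.zero_tmul])
  let μ : A →ₗ[R] R :=
    { toFun := m
      map_add' := fun x y => ext _ _ fun i => by rw [map_add, hm, hm, hm, map_add]
      map_smul' := fun r x => ext _ _ fun i => by
        rw [RingHom.id_apply, smul_eq_mul, map_mul, hm, hm, map_smul, Algebra.smul_def] }
  refine ⟨⟨μ, ext _ _ fun i => (hm 1 i).trans ((c.split i).mean_one.trans (map_one _).symm), fun y => ?_⟩⟩
  refine sub_eq_zero.mp (c.module_ext _ fun i => (c.split i).equiv.injective ?_)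
  rw [TensorProduct.tmul_sub, map_sub, map_zero, sub_eq_zero, (c.split i).equiv_tmul, (c.split i).equiv_tmul,
    map_smul, map_one]
  have key : ∀ z : A ⊗[R] A,
      (c.split i).hom.toAlgHom (TensorProduct.rid R A (LinearMap.lTensor A μ z)) =
        TensorProduct.rid (c.split i).S _ (LinearMap.lTensor (MonoidAlgebra (c.split i).S (c.split i).M)
          (coeffOne (c.split i).S (c.split i).M) (sq (c.split i).S (c.split i).hom.toAlgHom z)) := by
    intro z
    induction z using TensorProduct.induction_on with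
    | zero => simp
    | add a b ha hb => simp only [map_add, ha, hb]
    | tmul a b =>
      rw [LinearMap.lTensor_tmul, TensorProduct.rid_tmul, sq_tmul, LinearMap.lTensor_tmul, TensorProduct.rid_tmul,
        map_smul]
      show μ b • _ = (c.split i).mean b • _
      rw [← hm b i, IsScalarTower.algebraMap_smul]
      rfl
  rw [key, ← (c.split i).hom.comul_comp, rid_lTensor_coeffOne]
  show (c.split i).mean y • (1 : MonoidAlgebra (c.split i).S (c.split i).M) = μ y • 1
  rw [← hm y i, IsScalarTower.algebraMap_smul]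
  rfl

end ExistsMean

section Lift

variable {R : Type u} [CommRing R] {A : Type u} [CommRing A] [HopfAlgebra R A]
  {C : Type u} [CommRing C] [HopfAlgebra R C] [Algebra.FormallySmooth R C]

theorem mem_smul_top_iff {N : Type u} [AddCommGroup N] [Module R N] (I : Ideal R) (x : N) :
    (1 : R ⧸ I) ⊗ₜ[R] x = 0 ↔ x ∈ (I • ⊤ : Submodule R N) := by
  simpa using one_tmul_eq_iff_mem I x 0

set_option maxHeartbeats 2000000 in
/-- Homomorphisms to smooth groups lift along nilpotent ideals. -/
theorem exists_bialgHom_lift_smooth (hA : SGA3b.IsMultType R A) {I : Ideal R} (hI : IsNilpotent I)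
    (φ₀ : (R ⧸ I) ⊗[R] C →ₐc[R ⧸ I] (R ⧸ I) ⊗[R] A) :
    ∃ φ : C →ₐc[R] A, ∀ c, φ₀ (1 ⊗ₜ c) = 1 ⊗ₜ φ c := by
  obtain ⟨μ⟩ := exists_mean hA
  let π : A →ₐ[R] (R ⧸ I) ⊗[R] A := Algebra.TensorProduct.includeRight
  have hπ : Function.Surjective π := TensorProduct.mk_surjective R A (R ⧸ I) Ideal.Quotient.mk_surjective
  have hker : IsNilpotent (RingHom.ker π) := by
    obtain ⟨n, hn⟩ := hI
    refine ⟨n, eq_bot_iff.mpr (le_trans (Ideal.pow_right_mono (show RingHom.ker π ≤ I.map (algebraMap R A) from ?_) n) ?_)⟩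
    · intro x hx
      have h := (mem_smul_top_iff I x).mp hx
      rwa [Ideal.smul_top_eq_map] at h
    · rw [← Ideal.map_pow, hn, Ideal.zero_eq_bot, Ideal.map_bot]
  let f₀ : C →ₐ[R] (R ⧸ I) ⊗[R] A :=
    ((φ₀ : (R ⧸ I) ⊗[R] C →ₐ[R ⧸ I] (R ⧸ I) ⊗[R] A).restrictScalars R).comp Algebra.TensorProduct.includeRight
  let f : C →ₐ[R] A := Algebra.FormallySmooth.liftOfSurjective f₀ π hπ hker
  have hf : ∀ c, (1 : R ⧸ I) ⊗ₜ[R] f c = φ₀ (1 ⊗ₜ c) :=
    Algebra.FormallySmooth.liftOfSurjective_apply f₀ π hπ hker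
  have hhom : IsHomMod I (toConv f) := by
    intro c
    rw [← one_tmul_eq_iff_mem]
    apply (AlgebraTensorModule.distribBaseChange R (R ⧸ I) A A).injective
    rw [← sq_baseChange_eq, ← sq_baseChange_eq]
    show sq (R ⧸ I) (SemiBialgHom.baseChange R (R ⧸ I) A).toAlgHom (comul (f c)) = _
    rw [← (SemiBialgHom.baseChange R (R ⧸ I) A).comul_comp]
    show comul ((1 : R ⧸ I) ⊗ₜ[R] f c) = _
    rw [hf, ← CoalgHomClass.map_comp_comul_apply,
      show ((1 : R ⧸ I) ⊗ₜ[R] c) = (SemiBialgHom.baseChange R (R ⧸ I) C).toAlgHom c from rfl,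
      (SemiBialgHom.baseChange R (R ⧸ I) C).comul_comp, LinearMap.convMul_apply]
    generalize comul (R := R) c = z
    induction z using TensorProduct.induction_on with
    | zero => simp
    | add p q hp hq => simp only [map_add, hp, hq]
    | tmul p q => simp [SemiBialgHom.baseChange, convMap_apply, hf]
  obtain ⟨φ, hφ⟩ := μ.exists_bialgHom hI (toConv f) hhom
  refine ⟨φ, fun c => ?_⟩
  rw [← hf, ← sub_eq_zero, ← TensorProduct.tmul_sub, mem_smul_top_iff]
  rw [← neg_sub]
  exact neg_mem (hφ c)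

/-- Homomorphisms lift relatively to a homomorphism of groups of multiplicative type. -/
theorem exists_bialgHom_lift_smooth_rel {A₂ : Type u} [CommRing A₂] [HopfAlgebra R A₂]
    (hA : SGA3b.IsMultType R A) (hA₂ : SGA3b.IsMultType R A₂) {I : Ideal R} (hI : IsNilpotent I)
    (α : A₂ →ₐc[R] A) (β : C →ₐc[R] A)
    (γ₀ : (R ⧸ I) ⊗[R] C →ₐc[R ⧸ I] (R ⧸ I) ⊗[R] A₂)
    (h0 : ∀ c : C, Algebra.TensorProduct.map (AlgHom.id (R ⧸ I) (R ⧸ I)) (α : A₂ →ₐ[R] A) (γ₀ (1 ⊗ₜ c)) =
      1 ⊗ₜ β c) :
    ∃ γ : C →ₐc[R] A₂, (∀ c, γ₀ (1 ⊗ₜ c) = 1 ⊗ₜ γ c) ∧ ∀ c, α (γ c) = β c := by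
  obtain ⟨μ⟩ := exists_mean hA
  obtain ⟨γ, hγ⟩ := exists_bialgHom_lift_smooth hA₂ hI γ₀
  have hstep : ∀ k : ℕ, ∃ γ' : C →ₐc[R] A₂, (∀ c, γ' c - γ c ∈ (I • ⊤ : Submodule R A₂)) ∧
      ∀ c, α (γ' c) - β c ∈ ((I ^ 2 ^ k) • ⊤ : Submodule R A) := by
    intro k
    induction k with
    | zero =>
      refine ⟨γ, fun c => by rw [sub_self]; exact zero_mem _, fun c => ?_⟩
      rw [pow_zero, pow_one, ← one_tmul_eq_iff_mem, ← h0 c, hγ c]
      simp
    | succ k ih =>
      obtain ⟨γ', h1, h2⟩ := ih
      obtain ⟨γ'', h3, h4⟩ := μ.exists_conj_step (hI.pow_of_pos (Nat.two_pow_pos k).ne') α β γ' h2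
      refine ⟨γ'', fun c => ?_, fun c => ?_⟩
      · rw [← sub_add_sub_cancel _ (γ' c)]
        exact add_mem (Submodule.smul_mono (Ideal.pow_le_self (by positivity)) le_rfl (h3 c)) (h1 c)
      · rw [pow_succ, pow_mul, pow_two]
        exact h4 c
  obtain ⟨n, hn⟩ := hI
  obtain ⟨γ', h1, h2⟩ := hstep n
  refine ⟨γ', fun c => ?_, fun c => sub_eq_zero.mp ?_⟩
  · rw [hγ c, ← sub_eq_zero, ← TensorProduct.tmul_sub, mem_smul_top_iff, ← neg_sub]
    exact neg_mem (h1 c)
  · have h := h2 c
    rw [pow_eq_zero_of_le Nat.lt_two_pow_self.le hn, Submodule.zero_eq_bot, Submodule.bot_smul,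
      Submodule.mem_bot] at h
    exact h

end Lift

end Groth.Agent.MultTypeLib
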