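import Groth.Agent.MultTypeLib.Averaging
import Groth.Agent.MultTypeLib.Complete
import Groth.Agent.MultTypeLib.SmoothLift
import Mathlib.RingTheory.Flat.Equalizer

/-!
# Flat deformations of diagonalisable groups

A flat Hopf algebra whose reduction modulo a nilpotent ideal is a group algebra is itself a group
algebra: the characters lift, because a mean on the reduction lifts to a functional.
-/

universe u

open TensorProduct Coalgebra Bialgebra

noncomputable section

namespace Groth.Agent.MultTypeLib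

variable {R : Type u} [CommRing R] {A : Type u} [CommRing A] [HopfAlgebra R A]

/-- Integration of the second variable against a functional. -/
def slice (μ : A →ₗ[R] R) : A ⊗[R] A →ₗ[R] A :=
  (TensorProduct.rid R A).toLinearMap ∘ₗ LinearMap.lTensor A μ

theorem slice_tmul (μ : A →ₗ[R] R) (a b : A) : slice μ (a ⊗ₜ b) = μ b • a := by simp [slice]

/-- Invariance of a functional modulo an ideal. -/
def InvMod (I : Ideal R) (μ : A →ₗ[R] R) : Prop :=
  ∀ y : A, slice μ (comul y) - μ y • (1 : A) ∈ (I • ⊤ : Submodule R A)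

theorem mem_smul_smul {K I : Ideal R} {M N : Type u} [AddCommGroup M] [Module R M] [AddCommGroup N] [Module R N]
    (L : M →ₗ[R] N) (hL : ∀ x, L x ∈ (I • ⊤ : Submodule R N)) {x : M} (hx : x ∈ (K • ⊤ : Submodule R M)) :
    L x ∈ ((K * I) • ⊤ : Submodule R N) := by
  refine Submodule.smul_induction_on hx (fun r hr t _ => ?_) fun a b ha hb => by rw [map_add]; exact add_mem ha hb
  rw [map_smul, mul_smul]
  exact Submodule.smul_mem_smul hr (hL t)

theorem isUnit_of_sub_mem {T : Type u} [CommRing T] [Algebra R T] {K : Ideal R} (hK : IsNilpotent K) {x y : T}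
    (hy : IsUnit y) (hxy : x - y ∈ (K • ⊤ : Submodule R T)) : IsUnit x := by
  rw [Ideal.smul_top_eq_map] at hxy
  obtain ⟨n, hn⟩ := hK
  have hnil : IsNilpotent (x - y) := ⟨n, by
    have h := Ideal.pow_mem_pow (show x - y ∈ K.map (algebraMap R T) from hxy) n
    rw [← Ideal.map_pow, hn, Ideal.zero_eq_bot, Ideal.map_bot, Ideal.mem_bot] at h
    exact h⟩
  have h2 : IsUnit (y + (x - y)) := IsNilpotent.isUnit_add_left_of_commute hnil hy (Commute.all _ _)
  rwa [add_sub_cancel] at h2

set_option maxHeartbeats 1000000 in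
/-- A group-like element modulo `K` improves to one modulo `K * I`. -/
theorem exists_groupLike_step {I K : Ideal R} (hKI : K ≤ I) (hK : IsNilpotent K) {μ : A →ₗ[R] R}
    (hμ1 : μ 1 = 1) (hμ : InvMod I μ) {w : A} (hw : IsUnit w)
    (hwK : comul w - w ⊗ₜ[R] w ∈ (K • ⊤ : Submodule R (A ⊗[R] A))) :
    ∃ w' : A, IsUnit w' ∧ w' - w ∈ (K • ⊤ : Submodule R A) ∧
      comul w' - w' ⊗ₜ[R] w' ∈ ((K * I) • ⊤ : Submodule R (A ⊗[R] A)) := by
  let Δ : A →ₐ[R] A ⊗[R] A := Bialgebra.comulAlgHom R A
  let iL : A →ₐ[R] A ⊗[R] A := Algebra.TensorProduct.includeLeft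
  let iR : A →ₐ[R] A ⊗[R] A := Algebra.TensorProduct.includeRight
  let M3 : A ⊗[R] A →ₐ[R] A ⊗[R] (A ⊗[R] A) :=
    (Algebra.TensorProduct.assoc R R R A A A).toAlgHom.comp (Algebra.TensorProduct.map Δ (AlgHom.id R A))
  let N3 : A ⊗[R] A →ₐ[R] A ⊗[R] (A ⊗[R] A) := Algebra.TensorProduct.map (AlgHom.id R A) Δ
  let R3 : A ⊗[R] A →ₐ[R] A ⊗[R] (A ⊗[R] A) := Algebra.TensorProduct.includeRight
  obtain ⟨v, hv⟩ := hw.exists_right_inv
  let z : A ⊗[R] A := Δ w * (v ⊗ₜ v) - 1
  have hww : (w ⊗ₜ[R] w) * (v ⊗ₜ[R] v) = 1 := by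
    rw [Algebra.TensorProduct.tmul_mul_tmul, hv, Algebra.TensorProduct.one_def]
  have hz : z ∈ (K • ⊤ : Submodule R (A ⊗[R] A)) := by
    have h := mul_mem_smul_left (v ⊗ₜ[R] v) hwK
    rwa [mul_comm, sub_mul, hww] at h
  -- the cocycle identity
  have hco : M3 (Δ w) = N3 (Δ w) := by
    show (TensorProduct.assoc R A A A) (LinearMap.rTensor A (comul (R := R)) (comul w)) = _
    rw [Coalgebra.coassoc_apply]
    rfl
  have hMw : M3 (w ⊗ₜ w) = embTwo R A (Δ w) * R3 (iR w) := by
    show Algebra.TensorProduct.assoc R R R A A A (Δ w ⊗ₜ w) = _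
    generalize Δ w = y
    induction y using TensorProduct.induction_on with
    | zero => simp
    | add p q hp hq => simp only [TensorProduct.add_tmul, map_add, add_mul, hp, hq]
    | tmul p q => simp [embTwo, R3, iR]
  have hNw : N3 (w ⊗ₜ w) = embTwo R A (iL w) * R3 (Δ w) := by
    show w ⊗ₜ Δ w = _
    simp [embTwo, R3, iL]
    rw [← Algebra.TensorProduct.one_def, one_mul]
  have htri : embTwo R A (w ⊗ₜ w) * R3 (iR w) = embTwo R A (iL w) * R3 (w ⊗ₜ w) := by
    simp [embTwo, R3, iL, iR]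
  have hΔz : Δ w = (w ⊗ₜ w) * (1 + z) := by
    show Δ w = (w ⊗ₜ w) * (1 + (Δ w * (v ⊗ₜ v) - 1))
    rw [add_sub_cancel, mul_left_comm, hww, mul_one]
  have hw3 : IsUnit (embTwo R A (w ⊗ₜ w) * R3 (iR w)) :=
    ((IsUnit.of_mul_eq_one _ hww).map (embTwo R A)).mul ((hw.map iR).map R3)
  have hcoc : (1 + M3 z) * (1 + embTwo R A z) = (1 + N3 z) * (1 + R3 z) := by
    refine hw3.mul_left_cancel ?_
    have h1 := hco
    rw [hΔz, map_mul, map_mul, map_add, map_add, map_one, map_one, hMw, hNw, hΔz, map_mul, map_mul, map_add,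
      map_add, map_one, map_one] at h1
    calc embTwo R A (w ⊗ₜ w) * R3 (iR w) * ((1 + M3 z) * (1 + embTwo R A z))
        = embTwo R A (w ⊗ₜ w) * (1 + embTwo R A z) * R3 (iR w) * (1 + M3 z) := by ring
      _ = embTwo R A (iL w) * (R3 (w ⊗ₜ w) * (1 + R3 z)) * (1 + N3 z) := h1
      _ = embTwo R A (w ⊗ₜ w) * R3 (iR w) * ((1 + N3 z) * (1 + R3 z)) := by rw [htri]; ring
  -- integrate
  let t : A := slice μ z
  let L3 : A ⊗[R] (A ⊗[R] A) →ₗ[R] A ⊗[R] A := LinearMap.lTensor A (slice μ)
  have hS : ∀ {K' : Ideal R}, K' ≤ K * I → ∀ {x : A ⊗[R] A}, x ∈ (K' • ⊤ : Submodule R (A ⊗[R] A)) →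
      x ∈ ((K * I) • ⊤ : Submodule R (A ⊗[R] A)) := fun h _ hx => Submodule.smul_mono h le_rfl hx
  have hquad : ∀ {T : Type u} [CommRing T] [Algebra R T] (x y : T), x ∈ (K • ⊤ : Submodule R T) →
      y ∈ (K • ⊤ : Submodule R T) → x * y ∈ ((K * I) • ⊤ : Submodule R T) := fun x y hx hy =>
    Submodule.smul_mono (Ideal.mul_mono le_rfl hKI) le_rfl (mul_mem_smul hx hy)
  have hlin : M3 z + embTwo R A z - (N3 z + R3 z) ∈ ((K * I) • ⊤ : Submodule R (A ⊗[R] (A ⊗[R] A))) := by
    have e : M3 z + embTwo R A z - (N3 z + R3 z) = N3 z * R3 z - M3 z * embTwo R A z := by linear_combination hcoc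
    rw [e]
    exact sub_mem (hquad _ _ (map_smul_top N3.toLinearMap hz) (map_smul_top R3.toLinearMap hz))
      (hquad _ _ (map_smul_top M3.toLinearMap hz) (map_smul_top (embTwo R A).toLinearMap hz))
  have e1 : ∀ x, L3 (M3 x) = Δ (slice μ x) := fun x => by
    induction x using TensorProduct.induction_on with
    | zero => simp
    | add a b ha hb => simp only [map_add, ha, hb]
    | tmul a b =>
      rw [slice_tmul, map_smul]
      show L3 (Algebra.TensorProduct.assoc R R R A A A (Δ a ⊗ₜ b)) = _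
      generalize Δ a = y
      induction y using TensorProduct.induction_on with
      | zero => simp
      | add p q hp hq => simp only [TensorProduct.add_tmul, map_add, smul_add, hp, hq]
      | tmul p q =>
        rw [Algebra.TensorProduct.assoc_tmul]
        show p ⊗ₜ slice μ (q ⊗ₜ b) = _
        rw [slice_tmul, TensorProduct.tmul_smul]
  have e2 : ∀ x, L3 (N3 x) - iL (slice μ x) ∈ (I • ⊤ : Submodule R (A ⊗[R] A)) := fun x => by
    induction x using TensorProduct.induction_on with
    | zero => simp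
    | add a b ha hb => simp only [map_add]; rw [add_sub_add_comm]; exact add_mem ha hb
    | tmul a b =>
      show a ⊗ₜ slice μ (comul b) - slice μ (a ⊗ₜ b) ⊗ₜ (1 : A) ∈ _
      rw [slice_tmul, TensorProduct.smul_tmul, ← TensorProduct.tmul_sub]
      exact map_smul_top (TensorProduct.mk R A A a) (hμ b)
  have e3 : ∀ x, L3 (R3 x) = iR (slice μ x) := fun x => rfl
  have e4 : ∀ x, L3 (embTwo R A x) = x := fun x => by
    induction x using TensorProduct.induction_on with
    | zero => simp
    | add a b ha hb => simp only [map_add, ha, hb]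
    | tmul a b =>
      show a ⊗ₜ slice μ (b ⊗ₜ 1) = _
      rw [slice_tmul, hμ1, one_smul]
  have hslice : Δ t + z - (iL t + iR t) ∈ ((K * I) • ⊤ : Submodule R (A ⊗[R] A)) := by
    have h := map_smul_top L3 hlin
    rw [map_sub, map_add, map_add, e1, e4, e3] at h
    have h' := mem_smul_smul (K := K) (L3 ∘ₗ N3.toLinearMap - iL.toLinearMap ∘ₗ slice μ) e2 hz
    have hsum := add_mem h h'
    rw [LinearMap.sub_apply, LinearMap.comp_apply, LinearMap.comp_apply] at hsum
    convert hsum using 1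
    simp only [AlgHom.toLinearMap_apply, t]
    abel
  have ht : t ∈ (K • ⊤ : Submodule R A) := map_smul_top (slice μ) hz
  refine ⟨w * (1 + t), ?_, ?_, ?_⟩
  · exact hw.mul (isUnit_of_sub_mem hK isUnit_one (by rwa [add_sub_cancel_left]))
  · rw [mul_add, mul_one, add_sub_cancel_left]
    exact mul_mem_smul_left w ht
  · have e : Δ (w * (1 + t)) - (w * (1 + t)) ⊗ₜ[R] (w * (1 + t)) =
        (w ⊗ₜ w) * ((Δ t + z - (iL t + iR t)) + (z * Δ t - iL t * iR t)) := by
      rw [show ((w * (1 + t)) ⊗ₜ[R] (w * (1 + t))) = (w ⊗ₜ w) * ((1 + iL t) * (1 + iR t)) by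
        simp only [iL, iR, Algebra.TensorProduct.includeLeft_apply, Algebra.TensorProduct.includeRight_apply,
          Algebra.TensorProduct.one_def, ← TensorProduct.add_tmul, ← TensorProduct.tmul_add,
          Algebra.TensorProduct.tmul_mul_tmul, one_mul, mul_one],
        map_mul, map_add, map_one, hΔz]
      ring
    show Δ (w * (1 + t)) - (w * (1 + t)) ⊗ₜ[R] (w * (1 + t)) ∈ _
    rw [e]
    refine mul_mem_smul_left _ (add_mem hslice (sub_mem ?_ ?_))
    · exact hquad _ _ hz (map_smul_top Δ.toLinearMap ht)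
    · exact hquad _ _ (map_smul_top iL.toLinearMap ht) (map_smul_top iR.toLinearMap ht)

/-- Group-like elements congruent modulo `K` are congruent modulo `K * I`. -/
theorem groupLike_step_unique {I K : Ideal R} (hKI : K ≤ I) {μ : A →ₗ[R] R} (hμ1 : μ 1 = 1) (hμ : InvMod I μ)
    {g g' : A} (hg : IsGroupLikeElem R g) (hg' : IsGroupLikeElem R g')
    (h : g' - g ∈ (K • ⊤ : Submodule R A)) : g' - g ∈ ((K * I) • ⊤ : Submodule R A) := by
  let Δ : A →ₐ[R] A ⊗[R] A := Bialgebra.comulAlgHom R A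
  obtain ⟨v, hv⟩ := hg.isUnit.exists_right_inv
  let x : A := v * g' - 1
  have hgx : g' = g * (1 + x) := by
    show g' = g * (1 + (v * g' - 1))
    rw [add_sub_cancel, ← mul_assoc, hv, one_mul]
  have hx : x ∈ (K • ⊤ : Submodule R A) := by
    have h1 := mul_mem_smul_left v h
    rwa [mul_sub, mul_comm v g, hv] at h1
  have hgg : IsUnit (g ⊗ₜ[R] g) := by
    refine IsUnit.of_mul_eq_one (v ⊗ₜ v) ?_
    rw [Algebra.TensorProduct.tmul_mul_tmul, hv, Algebra.TensorProduct.one_def]
  have hΔx : (1 : A ⊗[R] A) + Δ x = (1 + x) ⊗ₜ[R] (1 + x) := by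
    refine hgg.mul_left_cancel ?_
    rw [Algebra.TensorProduct.tmul_mul_tmul, ← hgx, ← hg'.comul_eq_tmul_self, ← hg.comul_eq_tmul_self]
    show Δ g * (1 + Δ x) = Δ g'
    rw [hgx, map_mul, map_add, map_one]
  have h2 := congrArg (slice μ) hΔx
  rw [map_add, Algebra.TensorProduct.one_def, slice_tmul, slice_tmul, hμ1, one_smul, map_add, hμ1, add_smul,
    one_smul] at h2
  have h3 : slice μ (Δ x) - μ x • (1 : A) ∈ ((K * I) • ⊤ : Submodule R A) :=
    mem_smul_smul (slice μ ∘ₗ Δ.toLinearMap - (LinearMap.toSpanSingleton R A 1) ∘ₗ μ)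
      (fun y => hμ y) hx
  have h4 : μ x • x ∈ ((K * I) • ⊤ : Submodule R A) := by
    rw [Algebra.smul_def (μ x) x]
    refine Submodule.smul_mono (Ideal.mul_mono le_rfl hKI) le_rfl (mul_mem_smul ?_ hx)
    exact map_smul_top (Algebra.linearMap R A ∘ₗ μ) hx
  have hx' : x = (slice μ (Δ x) - μ x • (1 : A)) - μ x • x := by linear_combination (norm := module) -h2
  rw [hgx, mul_add, mul_one, add_sub_cancel_left, hx']
  exact mul_mem_smul_left g (sub_mem h3 h4)

/-- A map to a flat module that is bijective modulo a nilpotent ideal is bijective. -/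
theorem bijective_of_flat_of_nil {F N : Type u} [AddCommGroup F] [Module R F] [AddCommGroup N] [Module R N]
    [Module.Flat R N] {I : Ideal R} (hI : IsNilpotent I) (L : F →ₗ[R] N)
    (hLT : Function.Bijective (LinearMap.lTensor (R ⧸ I) L)) : Function.Bijective L := by
  obtain ⟨n, hn⟩ := hI
  have hsurj : Function.Surjective L := by
    have hstep : ∀ k, ∀ y : N, ∃ f, y - L f ∈ ((I ^ k) • ⊤ : Submodule R N) := by
      intro k
      induction k with
      | zero => exact fun y => ⟨0, by rw [pow_zero, Ideal.one_eq_top, Submodule.top_smul]; trivial⟩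
      | succ k ih =>
        intro y
        obtain ⟨f, hf⟩ := ih y
        suffices ∀ y' ∈ ((I ^ k) • ⊤ : Submodule R N), ∃ f', y' - L f' ∈ ((I ^ (k + 1)) • ⊤ : Submodule R N) by
          obtain ⟨f', hf'⟩ := this _ hf
          exact ⟨f + f', by rwa [map_add, ← sub_sub]⟩
        intro y' hy'
        refine Submodule.smul_induction_on hy' (fun r hr b _ => ?_) fun p q ⟨f1, h1⟩ ⟨f2, h2⟩ =>
          ⟨f1 + f2, by rw [map_add, add_sub_add_comm]; exact add_mem h1 h2⟩
        obtain ⟨w, hw⟩ := hLT.2 ((1 : R ⧸ I) ⊗ₜ b)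
        obtain ⟨f', rfl⟩ := TensorProduct.mk_surjective R F (R ⧸ I) Ideal.Quotient.mk_surjective w
        have hb : b - L f' ∈ (I • ⊤ : Submodule R N) := (one_tmul_eq_iff_mem I b (L f')).mp hw.symm
        refine ⟨r • f', ?_⟩
        rw [map_smul, ← smul_sub, pow_succ, mul_smul]
        exact Submodule.smul_mem_smul hr hb
    intro y
    obtain ⟨f, hf⟩ := hstep n y
    rw [hn, Submodule.zero_eq_bot, Submodule.bot_smul, Submodule.mem_bot, sub_eq_zero] at hf
    exact ⟨f, hf.symm⟩
  refine ⟨?_, hsurj⟩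
  have hinj0 : Function.Injective (LinearMap.lTensor (R ⧸ I) (LinearMap.ker L).subtype) :=
    LinearMap.lTensor_injective_of_exact_of_flat L hsurj (LinearMap.ker L).subtype
      (LinearMap.ker L).injective_subtype (LinearMap.exact_subtype_ker_map L) (R ⧸ I)
  have hker : ∀ x : LinearMap.ker L, x ∈ (I • ⊤ : Submodule R (LinearMap.ker L)) := fun x => by
    rw [← sub_zero x, ← one_tmul_eq_iff_mem, TensorProduct.tmul_zero]
    refine hinj0 (hLT.1 ?_)
    rw [map_zero, map_zero, LinearMap.lTensor_tmul]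
    show (1 : R ⧸ I) ⊗ₜ L (x : F) = 0
    rw [LinearMap.mem_ker.mp x.2, TensorProduct.tmul_zero]
  have hpow : ∀ k, (⊤ : Submodule R (LinearMap.ker L)) ≤ (I ^ k) • ⊤ := by
    intro k
    induction k with
    | zero => simp
    | succ k ih =>
      intro x _
      rw [pow_succ, mul_smul]
      exact Submodule.smul_mono le_rfl (fun y _ => hker y) (ih (Submodule.mem_top (x := x)))
  refine LinearMap.ker_eq_bot.mp ((Submodule.eq_bot_iff _).mpr fun x hx => ?_)
  have h := hpow n (Submodule.mem_top (x := (⟨x, hx⟩ : LinearMap.ker L)))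
  rw [hn, Submodule.zero_eq_bot, Submodule.bot_smul, Submodule.mem_bot] at h
  exact congrArg Subtype.val h


section Deform

variable {M : Type u} [CommGroup M] (I : Ideal R)

theorem exists_lift_basis [Module.Flat R A] (hI : IsNilpotent I) (a : M → A)
    (ha : Function.Bijective (fun x : MonoidAlgebra (R ⧸ I) M =>
      x.coeff.sum fun m s => s • ((1 : R ⧸ I) ⊗ₜ[R] a m))) :
    Function.Bijective (Finsupp.linearCombination R a) := by
  classical
  let L := Finsupp.linearCombination R a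
  let L₀ := LinearMap.lTensor (R ⧸ I) L
  have hL₀ : Function.Bijective L₀ := by
    let θ : (R ⧸ I) ⊗[R] (M →₀ R) ≃ₗ[R] (M →₀ R ⧸ I) := TensorProduct.finsuppScalarRight R R (R ⧸ I) M
    have e : ⇑L₀ = (fun x : MonoidAlgebra (R ⧸ I) M => x.coeff.sum fun m s => s • ((1 : R ⧸ I) ⊗ₜ[R] a m)) ∘
        (MonoidAlgebra.coeffLinearEquiv (R ⧸ I)).symm ∘ θ := by
      funext w
      induction w using TensorProduct.induction_on with
      | zero => simp
      | add p q hp hq =>
        simp only [Function.comp_apply, map_add, MonoidAlgebra.coeff_add] at hp hq ⊢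
        rw [hp, hq, Finsupp.sum_add_index'] <;> simp [add_smul]
      | tmul s f =>
        induction f using Finsupp.induction_linear with
        | zero => simp
        | add p q hp hq =>
          simp only [Function.comp_apply, TensorProduct.tmul_add, map_add, MonoidAlgebra.coeff_add] at hp hq ⊢
          rw [hp, hq, Finsupp.sum_add_index'] <;> simp [add_smul]
        | single m r =>
          simp [L₀, L, θ, TensorProduct.finsuppScalarRight_apply_tmul]
          rw [TensorProduct.smul_tmul' s, smul_eq_mul, mul_one]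
    rw [e]
    exact ha.comp ((MonoidAlgebra.coeffLinearEquiv (R ⧸ I)).symm.bijective.comp θ.bijective)
  exact bijective_of_flat_of_nil hI L hL₀

set_option maxHeartbeats 2000000 in
/-- Flat deformations of diagonalisable groups are diagonalisable, with the characters lifted. -/
theorem exists_deform_diag [Module.Flat R A] (hI : IsNilpotent I)
    (e₀ : (R ⧸ I) ⊗[R] A ≃ₐc[R ⧸ I] MonoidAlgebra (R ⧸ I) M) :
    ∃ (g : M →* A) (hg : ∀ m, IsGroupLikeElem R (g m)),
      (∀ m, (1 : R ⧸ I) ⊗ₜ[R] g m = e₀.symm (MonoidAlgebra.single m 1)) ∧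
        Function.Bijective (homOfGroupLike g hg) := by
  classical
  let h : SemiBialgHom R (R ⧸ I) A (MonoidAlgebra (R ⧸ I) M) :=
    (SemiBialgHom.ofBialgHom (e₀ : (R ⧸ I) ⊗[R] A →ₐc[R ⧸ I] MonoidAlgebra (R ⧸ I) M)).comp
      (SemiBialgHom.baseChange R (R ⧸ I) A)
  have hh : ∀ x, h.toAlgHom x = e₀ ((1 : R ⧸ I) ⊗ₜ x) := fun x => rfl
  have hbasis : ∀ a : M → A, (∀ m, (1 : R ⧸ I) ⊗ₜ[R] a m = e₀.symm (MonoidAlgebra.single m 1)) →
      Function.Bijective (Finsupp.linearCombination R a) := by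
    intro a ha
    refine exists_lift_basis I hI a ?_
    have e : (fun x : MonoidAlgebra (R ⧸ I) M => x.coeff.sum fun m s => s • ((1 : R ⧸ I) ⊗ₜ[R] a m)) =
        fun x => e₀.symm x := by
      funext x
      simp only [ha]
      conv_rhs => rw [← MonoidAlgebra.sum_coeff_single x]
      rw [Finsupp.sum, Finsupp.sum, map_sum]
      refine Finset.sum_congr rfl fun m _ => ?_
      rw [← map_smul, MonoidAlgebra.smul_single, smul_eq_mul, mul_one]
    rw [e]
    exact e₀.symm.bijective
  choose b hb using fun m : M => TensorProduct.mk_surjective R A (R ⧸ I) Ideal.Quotient.mk_surjective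
    (e₀.symm (MonoidAlgebra.single m 1))
  let a : M → A := fun m => if m = 1 then 1 else b m
  have ha : ∀ m, (1 : R ⧸ I) ⊗ₜ[R] a m = e₀.symm (MonoidAlgebra.single m 1) := by
    intro m
    by_cases hm : m = 1
    · rw [show a m = 1 from if_pos hm, hm, ← MonoidAlgebra.one_def, map_one, Algebra.TensorProduct.one_def]
    · rw [show a m = b m from if_neg hm]; exact hb m
  let eq : (M →₀ R) ≃ₗ[R] A := LinearEquiv.ofBijective _ (hbasis a ha)
  let μ : A →ₗ[R] R := Finsupp.lapply 1 ∘ₗ eq.symm.toLinearMap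
  have hμ1 : μ 1 = 1 := by
    have e : eq.symm 1 = Finsupp.single 1 1 := eq.symm_apply_eq.mpr (by
      show (1 : A) = Finsupp.linearCombination R a (Finsupp.single 1 1)
      rw [Finsupp.linearCombination_single, one_smul]
      exact (if_pos rfl).symm)
    show eq.symm 1 1 = 1
    rw [e, Finsupp.single_eq_same]
  have hμ₀ : ∀ x, algebraMap R (R ⧸ I) (μ x) = coeffOne (R ⧸ I) M (h.toAlgHom x) := by
    intro x
    obtain ⟨f, rfl⟩ := eq.surjective x
    induction f using Finsupp.induction_linear with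
    | zero => simp
    | add p q hp hq => simp only [map_add, hp, hq]
    | single m r =>
      show algebraMap R (R ⧸ I) (eq.symm (eq (Finsupp.single m r)) 1) = _
      rw [LinearEquiv.symm_apply_apply,
        show eq (Finsupp.single m r) = r • a m from Finsupp.linearCombination_single R r m, map_smul, hh, ha,
        e₀.apply_symm_apply, ← IsScalarTower.algebraMap_smul (R ⧸ I), map_smul, coeffOne_single,
        Finsupp.single_apply, smul_eq_mul]
      split_ifs <;> simp
  have hμ : InvMod I μ := by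
    intro y
    rw [← one_tmul_eq_iff_mem]
    refine e₀.injective ?_
    show e₀ _ = e₀ _
    rw [← hh, ← hh, map_smul, map_one]
    have key : ∀ z : A ⊗[R] A, h.toAlgHom (slice μ z) = TensorProduct.rid (R ⧸ I) _
        (LinearMap.lTensor (MonoidAlgebra (R ⧸ I) M) (coeffOne (R ⧸ I) M) (sq (R ⧸ I) h.toAlgHom z)) := by
      intro z
      induction z using TensorProduct.induction_on with
      | zero => simp
      | add p q hp hq => simp only [map_add, hp, hq]
      | tmul p q =>
        rw [slice_tmul, sq_tmul, LinearMap.lTensor_tmul, TensorProduct.rid_tmul, map_smul, ← hμ₀,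
          IsScalarTower.algebraMap_smul]
    rw [key, ← h.comul_comp, rid_lTensor_coeffOne, ← hμ₀, IsScalarTower.algebraMap_smul]
  obtain ⟨n, hn⟩ := hI
  have hlift : ∀ m, ∃ w : A, IsGroupLikeElem R w ∧ (1 : R ⧸ I) ⊗ₜ[R] w = e₀.symm (MonoidAlgebra.single m 1) := by
    intro m
    have h0 : comul (a m) - a m ⊗ₜ[R] a m ∈ (I • ⊤ : Submodule R (A ⊗[R] A)) := by
      rw [← one_tmul_eq_iff_mem]
      apply (AlgebraTensorModule.distribBaseChange R (R ⧸ I) A A).injective
      rw [← sq_baseChange_eq, ← sq_baseChange_eq, ← (SemiBialgHom.baseChange R (R ⧸ I) A).comul_comp, sq_tmul]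
      show comul ((1 : R ⧸ I) ⊗ₜ[R] a m) = ((1 : R ⧸ I) ⊗ₜ[R] a m) ⊗ₜ ((1 : R ⧸ I) ⊗ₜ[R] a m)
      have hgl : IsGroupLikeElem (R ⧸ I) ((1 : R ⧸ I) ⊗ₜ[R] a m) := by
        rw [ha]; exact (isGroupLike_single m).map _
      exact hgl.comul_eq_tmul_self
    have hu : IsUnit (a m) := by
      refine isUnit_of_mul_isUnit_left (y := a m⁻¹) (isUnit_of_sub_mem ⟨n, hn⟩ isUnit_one ?_)
      rw [← one_tmul_eq_iff_mem,
        show (1 : R ⧸ I) ⊗ₜ[R] (a m * a m⁻¹) = ((1 : R ⧸ I) ⊗ₜ[R] a m) * ((1 : R ⧸ I) ⊗ₜ[R] a m⁻¹) by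
          rw [Algebra.TensorProduct.tmul_mul_tmul, one_mul],
        ha, ha, ← map_mul, MonoidAlgebra.single_mul_single, mul_inv_cancel, one_mul, ← MonoidAlgebra.one_def,
        map_one, Algebra.TensorProduct.one_def]
    have hk : ∀ k, ∃ w : A, IsUnit w ∧ w - a m ∈ (I • ⊤ : Submodule R A) ∧
        comul w - w ⊗ₜ[R] w ∈ ((I ^ (k + 1)) • ⊤ : Submodule R (A ⊗[R] A)) := by
      intro k
      induction k with
      | zero => exact ⟨a m, hu, by rw [sub_self]; exact zero_mem _, by rwa [zero_add, pow_one]⟩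
      | succ k ih =>
        obtain ⟨w, h1, h2, h3⟩ := ih
        obtain ⟨w', h4, h5, h6⟩ := exists_groupLike_step (Ideal.pow_le_self (Nat.succ_ne_zero k))
          (IsNilpotent.pow_of_pos ⟨n, hn⟩ (Nat.succ_ne_zero k)) hμ1 hμ h1 h3
        refine ⟨w', h4, ?_, by rwa [pow_succ]⟩
        rw [← sub_add_sub_cancel _ w]
        exact add_mem (Submodule.smul_mono (Ideal.pow_le_self (Nat.succ_ne_zero k)) le_rfl h5) h2
    obtain ⟨w, h1, h2, h3⟩ := hk n
    rw [pow_succ, hn, zero_mul, Submodule.zero_eq_bot, Submodule.bot_smul, Submodule.mem_bot, sub_eq_zero] at h3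
    refine ⟨w, ⟨?_, h3⟩, ?_⟩
    · have h4 := congrArg (TensorProduct.lid R A) (Coalgebra.rTensor_counit_comul (R := R) w)
      rw [h3, LinearMap.rTensor_tmul, TensorProduct.lid_tmul, TensorProduct.lid_tmul, one_smul,
        Algebra.smul_def] at h4
      have h5 : algebraMap R A (counit w) = 1 := h1.mul_right_cancel (by rw [one_mul]; exact h4)
      have h6 := congrArg (counit (R := R)) h5
      rwa [Bialgebra.counit_algebraMap, Bialgebra.counit_one] at h6
    · rw [← ha, one_tmul_eq_iff_mem]; exact h2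
  choose w hw ew using hlift
  have huniq : ∀ x y : A, IsGroupLikeElem R x → IsGroupLikeElem R y →
      (1 : R ⧸ I) ⊗ₜ[R] x = (1 : R ⧸ I) ⊗ₜ[R] y → x = y := by
    intro x y hx hy hxy
    have hk : ∀ k, x - y ∈ ((I ^ (k + 1)) • ⊤ : Submodule R A) := by
      intro k
      induction k with
      | zero => rw [zero_add, pow_one, ← one_tmul_eq_iff_mem]; exact hxy
      | succ k ih =>
        rw [pow_succ]
        exact groupLike_step_unique (Ideal.pow_le_self (Nat.succ_ne_zero k)) hμ1 hμ hy hx ih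
    have h1 := hk n
    rw [pow_succ, hn, zero_mul, Submodule.zero_eq_bot, Submodule.bot_smul, Submodule.mem_bot, sub_eq_zero] at h1
    exact h1
  let g : M →* A :=
    { toFun := w
      map_one' := huniq _ _ (hw 1) .one (by
        rw [ew, ← MonoidAlgebra.one_def, map_one, Algebra.TensorProduct.one_def])
      map_mul' := fun p q => huniq _ _ (hw _) ((hw p).mul (hw q)) (by
        rw [show (1 : R ⧸ I) ⊗ₜ[R] (w p * w q) = ((1 : R ⧸ I) ⊗ₜ[R] w p) * ((1 : R ⧸ I) ⊗ₜ[R] w q) by
            rw [Algebra.TensorProduct.tmul_mul_tmul, one_mul],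
          ew, ew, ew, ← map_mul, MonoidAlgebra.single_mul_single, one_mul]) }
  refine ⟨g, hw, ew, ?_⟩
  have e : ⇑(homOfGroupLike g hw) = ⇑(Finsupp.linearCombination R w) ∘ ⇑(MonoidAlgebra.coeffLinearEquiv R) := by
    funext x
    induction x using MonoidAlgebra.induction_linear with
    | zero => simp
    | add p q hp hq => simp only [map_add, Function.comp_apply] at hp hq ⊢; rw [hp, hq]
    | single m r => rw [homOfGroupLike_single]; simp; rfl
  rw [e]
  exact (hbasis w ew).comp (MonoidAlgebra.coeffLinearEquiv R).bijective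

end Deform

end Groth.Agent.MultTypeLib
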