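import Groth.Agent.MultTypeLib.TorsionCrit
import Mathlib.LinearAlgebra.LinearIndependent.Basic
import Mathlib.RingTheory.Coalgebra.GroupLike
import Mathlib.RingTheory.Nakayama
import Mathlib.Data.Nat.Choose.Basic

/-!
# Closed subgroups of diagonalisable groups with finite closed fibre
-/

universe u

open WithConv TensorProduct Coalgebra Bialgebra IsLocalRing

noncomputable section

namespace Groth.Agent.MultTypeLib

section

variable {R : Type u} [CommRing R] {C : Type u} [CommRing C] [Bialgebra R C] {M : Type u} [CommGroup M]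
  (f : MonoidAlgebra R M →ₐc[R] C)

/-- The image of a character. -/
def hchar : M →* C := (f : MonoidAlgebra R M →ₐ[R] C).toMonoidHom.comp (MonoidAlgebra.of R M)

theorem hchar_apply (m : M) : hchar f m = f (MonoidAlgebra.single m 1) := rfl

theorem hchar_groupLike (m : M) : IsGroupLikeElem R (hchar f m) :=
  (MonoidAlgebra.isGroupLikeElem_single_one m).map f

/-- Powers of a point evaluated on a character. -/
theorem point_pow_hchar {k : Type u} [CommRing k] [Algebra R k] (x : WithConv (C →ₐ[R] k)) (i : ℕ) (m : M) :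
    (x ^ i).ofConv (hchar f m) = x.ofConv (hchar f m) ^ i := by
  induction i with
  | zero =>
    rw [pow_zero, pow_zero]
    show algebraMap R k (counit (hchar f m)) = 1
    rw [(hchar_groupLike f m).counit_eq_one, map_one]
  | succ i ih =>
    rw [pow_succ, pow_succ, AlgHom.convMul_apply, (hchar_groupLike f m).comul_eq_tmul_self,
      Algebra.TensorProduct.lift_tmul, ih]

/-- A point gives a quotient algebra over the residue field: the group algebra of the range of its character. -/
theorem exists_range_hom [IsLocalRing R] {k : Type u} [Field k] [Algebra R k]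
    (hf : Function.Surjective f) (x : WithConv (C →ₐ[R] k)) :
    ∃ θ : C →ₐ[R] MonoidAlgebra (ResidueField R)
        (MonoidHom.range ((x.ofConv.toMonoidHom.comp (hchar f)).toHomUnits)),
      ∀ m, θ (hchar f m) = MonoidAlgebra.single
        (⟨(x.ofConv.toMonoidHom.comp (hchar f)).toHomUnits m, m, rfl⟩ : MonoidHom.range _) 1 := by
  classical
  let χ := (x.ofConv.toMonoidHom.comp (hchar f)).toHomUnits
  let G := MonoidHom.range χ
  let k₀ := ResidueField R
  let φ : MonoidAlgebra R M →ₐ[R] MonoidAlgebra R G := MonoidAlgebra.mapDomainAlgHom R R χ.rangeRestrict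
  let ψ : MonoidAlgebra R M →ₐ[R] MonoidAlgebra k₀ G :=
    MonoidAlgebra.lift R (MonoidAlgebra k₀ G) M ((MonoidAlgebra.of k₀ G).comp χ.rangeRestrict)
  let f₁ : MonoidAlgebra R M →ₐ[R] C := f
  have hker : RingHom.ker f₁ ≤ RingHom.ker ψ := by
    intro y hy
    rw [RingHom.mem_ker] at hy ⊢
    -- the coefficients of the image die in the field
    have hz : ∀ g, algebraMap R k ((φ y).coeff g) = 0 := by
      let fn : G → (Multiplicative ℕ →* k) := fun g =>
        { toFun := fun i => ((g : kˣ) : k) ^ Multiplicative.toAdd i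
          map_one' := pow_zero _
          map_mul' := fun i j => pow_add _ _ _ }
      have hinj : Function.Injective fn := fun g g' h => by
        have := DFunLike.congr_fun h (Multiplicative.ofAdd 1)
        refine Subtype.ext (Units.ext ?_)
        simpa [fn] using this
      have hli := (linearIndependent_monoidHom (Multiplicative ℕ) k).comp fn hinj
      refine fun g => ?_
      have hsum : ∀ i : ℕ, ∑ g ∈ (φ y).coeff.support, algebraMap R k ((φ y).coeff g) * ((g : kˣ) : k) ^ i = 0 := by
        intro i
        let ev : G →* k := (powMonoidHom i).comp ((Units.coeHom k).comp G.subtype)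
        have h1 : ((x ^ i).ofConv).comp f₁ = (MonoidAlgebra.lift R k G ev).comp φ :=
          MonoidAlgebra.algHom_ext (fun m => by
            show (x ^ i).ofConv (hchar f m) = _
            rw [point_pow_hchar]
            simp [φ, ev, χ]
            rfl) (AlgHom.ext fun r => by
            rw [show r = algebraMap R R r from rfl, AlgHom.commutes, AlgHom.commutes])
        have h2 := AlgHom.congr_fun h1 y
        rw [AlgHom.comp_apply, hy, map_zero] at h2
        rw [AlgHom.comp_apply, MonoidAlgebra.lift_apply] at h2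
        refine Eq.trans ?_ h2.symm
        exact Finset.sum_congr rfl fun g _ => (Algebra.smul_def _ _).symm
      by_cases hg : g ∈ (φ y).coeff.support
      · refine linearIndependent_iff'.mp hli (φ y).coeff.support (fun g => algebraMap R k ((φ y).coeff g)) ?_ g hg
        funext i
        rw [Finset.sum_apply]
        exact hsum (Multiplicative.toAdd i)
      · rw [Finsupp.notMem_support_iff.mp hg, map_zero]
    have hm : ∀ g, algebraMap R k₀ ((φ y).coeff g) = 0 := fun g => by
      refine Ideal.Quotient.eq_zero_iff_mem.mpr ?_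
      have hp : (RingHom.ker (algebraMap R k)).IsPrime := RingHom.ker_isPrime _
      exact le_maximalIdeal hp.ne_top (RingHom.mem_ker.mpr (hz g))
    have h3 : ψ = (MonoidAlgebra.lift R (MonoidAlgebra k₀ G) G (MonoidAlgebra.of k₀ G)).comp φ :=
      MonoidAlgebra.algHom_ext (fun m => by simp [φ, ψ]) (AlgHom.ext fun r => by
        rw [show r = algebraMap R R r from rfl, AlgHom.commutes, AlgHom.commutes])
    rw [h3, AlgHom.comp_apply, MonoidAlgebra.lift_apply]
    refine Finset.sum_eq_zero fun g _ => ?_
    show (φ y).coeff g • (MonoidAlgebra.of k₀ G g) = 0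
    rw [Algebra.smul_def, IsScalarTower.algebraMap_apply R k₀ (MonoidAlgebra k₀ G), hm, map_zero, zero_mul]
  let θ : C →ₐ[R] MonoidAlgebra k₀ G := AlgHom.liftOfSurjective f₁ hf ψ hker
  refine ⟨θ, fun m => ?_⟩
  show θ (f₁ (MonoidAlgebra.single m 1)) = _
  rw [show θ (f₁ (MonoidAlgebra.single m 1)) = ψ (MonoidAlgebra.single m 1) from
    AlgHom.liftOfSurjective_apply f₁ hf ψ hker _]
  simp [ψ, χ]
  rfl

end

section Local

variable {R : Type u} [CommRing R] [IsLocalRing R] {C : Type u} [CommRing C] [Bialgebra R C] {M : Type u}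
  [CommGroup M] {f : MonoidAlgebra R M →ₐc[R] C}

/-- With closed fibre of dimension `d`, the `d!` powers of the characters are unipotent. -/
theorem isNilpotent_pow_sub_one (hf : Function.Surjective f)
    [Module.Finite (ResidueField R) (ResidueField R ⊗[R] C)] (m : M) :
    IsNilpotent (hchar f m ^ (Module.finrank (ResidueField R) (ResidueField R ⊗[R] C)).factorial - 1) := by
  rw [nilpotent_iff_mem_prime]
  intro q hq
  let k := q.ResidueField
  let x : WithConv (C →ₐ[R] k) := toConv (IsScalarTower.toAlgHom R C k)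
  obtain ⟨θ, hθ⟩ := exists_range_hom f hf x
  let χ := (x.ofConv.toMonoidHom.comp (hchar f)).toHomUnits
  let G := MonoidHom.range χ
  let k₀ := ResidueField R
  let Θ : k₀ ⊗[R] C →ₐ[k₀] MonoidAlgebra k₀ G :=
    Algebra.TensorProduct.lift (Algebra.ofId _ _) θ fun _ _ => .all _ _
  have hΘ : Function.Surjective Θ := fun z => by
    induction z using MonoidAlgebra.induction_linear with
    | zero => exact ⟨0, map_zero _⟩
    | add a b ha hb =>
      obtain ⟨a', rfl⟩ := ha
      obtain ⟨b', rfl⟩ := hb
      exact ⟨a' + b', map_add _ _ _⟩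
    | single g r =>
      obtain ⟨g, a, rfl⟩ := g
      refine ⟨r ⊗ₜ hchar f a, ?_⟩
      show Algebra.TensorProduct.lift _ θ _ (r ⊗ₜ hchar f a) = _
      rw [Algebra.TensorProduct.lift_tmul, hθ, Algebra.ofId_apply, ← Algebra.smul_def,
        MonoidAlgebra.smul_single', mul_one]
  have : Module.Finite k₀ (MonoidAlgebra k₀ G) := Module.Finite.of_surjective Θ.toLinearMap hΘ
  have hrank : Module.finrank k₀ (MonoidAlgebra k₀ G) ≤ Module.finrank k₀ (k₀ ⊗[R] C) :=
    LinearMap.finrank_le_finrank_of_surjective (f := Θ.toLinearMap) hΘ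
  let b : Module.Basis G k₀ (MonoidAlgebra k₀ G) := MonoidAlgebra.basis G k₀
  have : Finite G := Module.Finite.finite_basis b
  have hcard : Nat.card G ≤ Module.finrank k₀ (k₀ ⊗[R] C) := by
    rwa [Module.finrank_eq_nat_card_basis b] at hrank
  have hdvd : Nat.card G ∣ (Module.finrank k₀ (k₀ ⊗[R] C)).factorial := Nat.dvd_factorial Nat.card_pos hcard
  have h1 : (⟨χ m, m, rfl⟩ : G) ^ (Module.finrank k₀ (k₀ ⊗[R] C)).factorial = 1 :=
    orderOf_dvd_iff_pow_eq_one.mp ((orderOf_dvd_natCard _).trans hdvd)
  have h2 : algebraMap C k (hchar f m) ^ (Module.finrank k₀ (k₀ ⊗[R] C)).factorial = 1 := by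
    have := congrArg (fun g : G => (((g : kˣ)) : k)) h1
    simpa [χ, x] using this
  refine Ideal.algebraMap_residueField_eq_zero.mp ?_
  rw [map_sub, map_pow, map_one, h2, sub_self]

/-- A quotient of a finitely generated diagonalisable group with finite closed fibre is finite. -/
theorem finite_of_finite_fibre (hf : Function.Surjective f) [Algebra.FiniteType R C]
    [Module.Finite (ResidueField R) (ResidueField R ⊗[R] C)] : Module.Finite R C := by
  let f₁ : MonoidAlgebra R M →ₐ[R] C := f
  have hint : ∀ m, IsIntegral R (hchar f m) := by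
    intro m
    obtain ⟨Q, hQ⟩ := isNilpotent_pow_sub_one hf m
    refine ⟨(Polynomial.X ^ (Module.finrank (ResidueField R) (ResidueField R ⊗[R] C)).factorial - 1) ^ Q,
      (Polynomial.monic_X_pow_sub_C (R := R) 1 (Nat.factorial_ne_zero _)).pow Q |> (by
        simpa using ·), ?_⟩
    rw [Polynomial.eval₂_pow, Polynomial.eval₂_sub, Polynomial.eval₂_X_pow, Polynomial.eval₂_one]
    exact hQ
  have : Algebra.IsIntegral R C := ⟨fun c => by
    obtain ⟨y, rfl⟩ := hf c
    induction y using MonoidAlgebra.induction_linear with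
    | zero => rw [map_zero]; exact isIntegral_zero
    | add a b ha hb => rw [map_add]; exact ha.add hb
    | single m r =>
      rw [show MonoidAlgebra.single m r = r • MonoidAlgebra.single m (1 : R) by simp, map_smul]
      exact (hint m).smul r⟩
  exact Algebra.IsIntegral.finite

/-- If the characters killed by `n` are unipotent on the closed fibre and `n` is invertible, they are trivial. -/
theorem pow_eq_one_of_unit [Module.Finite R C] [Group.FG M] (hf : Function.Surjective f) (n : ℕ)
    (hn : IsUnit (n : R)) (hmem : ∀ m, hchar f m ^ n - 1 ∈ (maximalIdeal R).map (algebraMap R C)) (m : M) :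
    hchar f m ^ n = 1 := by
  let 𝔪 := (maximalIdeal R).map (algebraMap R C)
  let T := Ideal.span (Set.range fun m => hchar f m ^ n - 1)
  -- finitely generated
  obtain ⟨S, hS⟩ := Group.fg_def.mp ‹Group.FG M›
  have hTfg : T.FG := by
    classical
    refine ⟨(S ∪ S.image fun m => m⁻¹).image fun m => hchar f m ^ n - 1, le_antisymm (Ideal.span_mono (by simp)) ?_⟩
    refine Ideal.span_le.mpr ?_
    rintro _ ⟨a, rfl⟩
    have ha : a ∈ Subgroup.closure (S : Set M) := hS ▸ Subgroup.mem_top a
    induction ha using Subgroup.closure_induction'' with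
    | one => simp
    | mem x hx => exact Ideal.subset_span (by simpa using ⟨x, Or.inl hx, rfl⟩)
    | inv_mem x hx => exact Ideal.subset_span (by simpa using ⟨x⁻¹, Or.inr (by simpa using hx), rfl⟩)
    | mul x y _ _ hx hy =>
      show hchar f (x * y) ^ n - 1 ∈ Ideal.span _
      rw [show hchar f (x * y) ^ n - 1 = hchar f x ^ n * (hchar f y ^ n - 1) + (hchar f x ^ n - 1) by
        rw [map_mul, mul_pow]; ring]
      exact add_mem (Ideal.mul_mem_left _ _ hy) hx
  -- the power endomorphism
  let P : C →ₐ[R] C := (toConv (AlgHom.id R C) ^ n).ofConv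
  have hP : ∀ m, P (hchar f m) = hchar f m ^ n := fun m => point_pow_hchar f _ n m
  have hPc : ∀ c, P c - algebraMap R C (counit c) ∈ T := fun c => by
    obtain ⟨y, rfl⟩ := hf c
    induction y using MonoidAlgebra.induction_linear with
    | zero => simp
    | add a b ha hb => simp only [map_add]; rw [add_sub_add_comm]; exact add_mem ha hb
    | single a r =>
      rw [show MonoidAlgebra.single a r = r • MonoidAlgebra.single a (1 : R) by simp, map_smul, ← hchar_apply,
        map_smul, map_smul, (hchar_groupLike f a).counit_eq_one, smul_eq_mul, mul_one, hP,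
        ← Algebra.algebraMap_eq_smul_one r |>.symm, ← smul_sub]
      exact Submodule.smul_of_tower_mem T r (Ideal.subset_span ⟨a, rfl⟩)
  have hz : ∀ z ∈ 𝔪, P z - algebraMap R C (counit z) ∈ 𝔪 * T := by
    intro z hz
    have hz' : z ∈ (maximalIdeal R • ⊤ : Submodule R C) := by
      rw [Ideal.smul_top_eq_map]; exact hz
    refine Submodule.smul_induction_on hz' (fun r hr c _ => ?_) fun a b ha hb => ?_
    · rw [map_smul, map_smul, smul_eq_mul, map_mul, ← Algebra.smul_def r (algebraMap R C _), ← smul_sub,
        Algebra.smul_def]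
      exact Ideal.mul_mem_mul (Ideal.mem_map_of_mem _ hr) (hPc c)
    · rw [map_add, map_add, map_add, add_sub_add_comm]; exact add_mem ha hb
  have hle : T ≤ 𝔪 • T := by
    refine Ideal.span_le.mpr ?_
    rintro _ ⟨a, rfl⟩
    show _ ∈ 𝔪 * T
    have hzT : hchar f a ^ n - 1 ∈ T := Ideal.subset_span ⟨a, rfl⟩
    obtain ⟨b, hb⟩ : ∃ b, (hchar f a ^ n) ^ n - 1 = (n : C) * (hchar f a ^ n - 1) + (hchar f a ^ n - 1) ^ 2 * b := by
      suffices H : ∀ (w : C) (j : ℕ), ∃ b, w ^ j - 1 = (j : C) * (w - 1) + (w - 1) ^ 2 * b from H _ n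
      intro w j
      induction j with
      | zero => exact ⟨0, by simp⟩
      | succ j ih =>
        obtain ⟨b, hb⟩ := ih
        refine ⟨b * w + j, ?_⟩
        have h : w ^ j = 1 + ((j : C) * (w - 1) + (w - 1) ^ 2 * b) := by rw [← hb]; ring
        rw [pow_succ, h, Nat.cast_succ]
        ring
    have h1 := hz _ (hmem a)
    rw [map_sub, map_pow, map_one, hP, map_sub, show counit (R := R) (hchar f a ^ n) = 1 from
      ((hchar_groupLike f a).pow (n := n)).counit_eq_one, Bialgebra.counit_one, sub_self, map_zero, sub_zero, hb] at h1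
    have h2 : (n : C) * (hchar f a ^ n - 1) ∈ 𝔪 * T := by
      have h3 : (hchar f a ^ n - 1) ^ 2 * b ∈ 𝔪 * T := Ideal.mul_mem_right _ _ (by
        rw [pow_two]; exact Ideal.mul_mem_mul (hmem a) hzT)
      simpa using sub_mem h1 h3
    obtain ⟨u, hu⟩ := hn.map (algebraMap R C)
    rw [map_natCast] at hu
    rw [← hu] at h2
    simpa using Ideal.mul_mem_left _ (↑u⁻¹ : C) h2
  have hjac : 𝔪 ≤ Ideal.jacobson ⊥ := by
    rw [Ideal.jacobson]
    refine le_sInf fun M' hM => ?_
    have := hM.2
    have h1 : (M'.comap (algebraMap R C)).IsMaximal := Ideal.isMaximal_comap_of_isIntegral_of_isMaximal M'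
    exact Ideal.map_le_iff_le_comap.mpr (le_of_eq (eq_maximalIdeal h1).symm)
  have hbot : T = ⊥ := Submodule.eq_bot_of_le_smul_of_le_jacobson_bot 𝔪 T hTfg hle hjac
  have h : hchar f m ^ n - 1 ∈ T := Ideal.subset_span ⟨m, rfl⟩
  rw [hbot] at h
  exact sub_eq_zero.mp h

/-- A quotient with trivial closed fibre is trivial. -/
theorem augIdeal_eq_bot (hf : Function.Surjective f) [Algebra.FiniteType R C]
    (hs : ∀ c : C, c - algebraMap R C (counit c) ∈ (maximalIdeal R).map (algebraMap R C)) :
    ∀ c : C, c = algebraMap R C (counit c) := by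
  let 𝔪 := (maximalIdeal R).map (algebraMap R C)
  let k₀ := ResidueField R
  have : Module.Finite k₀ (k₀ ⊗[R] C) := by
    refine Module.Finite.of_surjective (Algebra.linearMap k₀ (k₀ ⊗[R] C)) fun z => ?_
    induction z using TensorProduct.induction_on with
    | zero => exact ⟨0, map_zero _⟩
    | add a b ha hb =>
      obtain ⟨a', rfl⟩ := ha
      obtain ⟨b', rfl⟩ := hb
      exact ⟨a' + b', map_add _ _ _⟩
    | tmul r c =>
      refine ⟨counit (R := R) c • r, ?_⟩
      have h0 : (1 : k₀) ⊗ₜ[R] (c - algebraMap R C (counit c)) = 0 := by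
        have h := Ideal.mem_map_of_mem (Algebra.TensorProduct.includeRight : C →ₐ[R] k₀ ⊗[R] C).toRingHom (hs c)
        rw [Ideal.map_map, AlgHom.toRingHom_eq_coe, AlgHom.comp_algebraMap,
          IsScalarTower.algebraMap_eq R k₀ (k₀ ⊗[R] C), ← Ideal.map_map,
          show (maximalIdeal R).map (algebraMap R k₀) = ⊥ from (Ideal.map_eq_bot_iff_le_ker _).mpr
            (fun x hx => Ideal.Quotient.eq_zero_iff_mem.mpr hx), Ideal.map_bot] at h
        exact h
      rw [TensorProduct.tmul_sub, sub_eq_zero] at h0
      calc algebraMap k₀ (k₀ ⊗[R] C) (counit (R := R) c • r)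
          = r • ((1 : k₀) ⊗ₜ[R] algebraMap R C (counit c)) := by
            rw [Algebra.algebraMap_eq_smul_one (A := C), TensorProduct.smul_tmul', TensorProduct.tmul_smul,
              TensorProduct.smul_tmul', smul_eq_mul, mul_one, Algebra.TensorProduct.algebraMap_apply]
            rfl
        _ = r ⊗ₜ c := by rw [← h0, TensorProduct.smul_tmul', smul_eq_mul, mul_one]
  have := finite_of_finite_fibre hf
  let I : Ideal C := RingHom.ker (Bialgebra.counitAlgHom R C)
  let f₁ : C →ₐ[R] R := Bialgebra.counitAlgHom R C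
  have hI : ∀ c, c - algebraMap R C (counit c) ∈ I := fun c => by
    show f₁ (c - algebraMap R C (counit c)) = 0
    rw [map_sub, AlgHom.commutes]
    exact sub_self _
  have hIfg : (I.restrictScalars R).FG := by
    let g : C →ₗ[R] C := LinearMap.id - (Algebra.linearMap R C).comp (counit : C →ₗ[R] R)
    have : I.restrictScalars R = LinearMap.range g := by
      apply le_antisymm
      · intro c hc
        refine ⟨c, ?_⟩
        show c - algebraMap R C (counit c) = c
        rw [show counit (R := R) c = 0 from hc, map_zero, sub_zero]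
      · rintro _ ⟨c, rfl⟩; exact hI c
    rw [this, ← Submodule.map_top]
    exact Module.Finite.fg_top.map g
  have hIbot : I.restrictScalars R = ⊥ := by
    refine Submodule.eq_bot_of_le_smul_of_le_jacobson_bot (maximalIdeal R) _ hIfg (fun z hz => ?_)
      (maximalIdeal_le_jacobson _)
    have h0 : counit (R := R) z = 0 := hz
    have hz' : z ∈ (maximalIdeal R • ⊤ : Submodule R C) := by
      rw [Ideal.smul_top_eq_map]
      have := hs z
      rwa [h0, map_zero, sub_zero] at this
    have hmap : ∀ z ∈ (maximalIdeal R • ⊤ : Submodule R C),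
        z - algebraMap R C (counit z) ∈ maximalIdeal R • I.restrictScalars R := fun z hz => by
      refine Submodule.smul_induction_on hz (fun r hr c _ => ?_) fun a b ha hb => ?_
      · rw [map_smul, smul_eq_mul, map_mul, ← Algebra.smul_def, ← smul_sub]
        exact Submodule.smul_mem_smul hr (hI c)
      · rw [map_add, map_add, add_sub_add_comm]; exact add_mem ha hb
    simpa [h0] using hmap z hz'
  intro c
  exact sub_eq_zero.mp ((Submodule.eq_bot_iff _).mp hIbot _ (hI c))

end Local

/-- Powers of unipotents killed by a power of `n`. -/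
theorem one_add_pow_eq_one {C : Type u} [CommRing C] {z : C} {N Q : ℕ} (hQ : z ^ Q = 0) (hN : (N : C) * z = 0) :
    (1 + z) ^ (N * Q.factorial) = 1 := by
  rw [add_comm, add_pow]
  rw [Finset.sum_eq_single 0]
  · simp
  · intro i hi hi0
    rcases le_or_gt Q i with h | h
    · rw [← Nat.sub_add_cancel h, pow_add, hQ]; simp
    obtain ⟨j, rfl⟩ := Nat.exists_eq_succ_of_ne_zero hi0
    obtain ⟨l, hl⟩ : N ∣ (N * Q.factorial).choose (j + 1) := by
      obtain ⟨t, ht⟩ : (j + 1) ∣ Q.factorial := Nat.dvd_factorial j.succ_pos h.le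
      rcases Nat.eq_zero_or_pos (N * Q.factorial) with h0 | h0
      · rw [h0] at hi
        simp at hi
      obtain ⟨K, hK⟩ := Nat.exists_eq_succ_of_ne_zero h0.ne'
      refine ⟨t * K.choose j, Nat.eq_of_mul_eq_mul_right j.succ_pos ?_⟩
      rw [Nat.succ_eq_add_one] at hK
      rw [Nat.succ_eq_add_one, hK, ← Nat.add_one_mul_choose_eq, ← hK, ht]
      ring
    rw [one_pow, mul_one, hl, Nat.cast_mul, pow_succ]
    calc z ^ j * z * ((N : C) * l) = z ^ j * l * ((N : C) * z) := by ring
      _ = 0 := by rw [hN, mul_zero]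
  · simp

end Groth.Agent.MultTypeLib
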