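import Groth.Agent.MultTypeLib.ConnCrit
import Mathlib.RingTheory.TotallySplit
import Mathlib.RingTheory.Spectrum.Prime.FreeLocus
import Mathlib.RingTheory.Idempotents
import Mathlib.RingTheory.Etale.Basic
import Mathlib.RingTheory.Finiteness.ModuleFinitePresentation

/-!
# Finite étale algebras over a connected base are split by a connected finite étale cover
-/

universe u

open TensorProduct PrimeSpectrum

noncomputable section

namespace Groth.Agent.MultTypeLib

section

variable {R : Type u} [CommRing R] [ConnectedSpace (PrimeSpectrum R)]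

/-- A nonzero finite étale algebra over a connected base is faithfully flat. -/
theorem faithfullyFlat_of_finite_etale (T : Type u) [CommRing T] [Algebra R T] [Module.Finite R T]
    [Algebra.Etale R T] [Nontrivial T] : Module.FaithfullyFlat R T := by
  have himg : IsClopen (comap (algebraMap R T) '' Set.univ) :=
    ⟨isClosedMap_comap_of_isIntegral _ (algebraMap_isIntegral_iff.mpr inferInstance) _ isClosed_univ,
      isOpenMap_comap_of_hasGoingDown_of_finitePresentation _ isOpen_univ⟩
  have hne : (comap (algebraMap R T) '' (Set.univ : Set (PrimeSpectrum T))).Nonempty :=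
    Set.univ_nonempty.image _
  have huniv := (_root_.isClopen_iff.mp himg).resolve_left hne.ne_empty
  refine Module.FaithfullyFlat.of_comap_surjective fun p => ?_
  obtain ⟨q, -, hq⟩ := (huniv ▸ Set.mem_univ p : p ∈ comap (algebraMap R T) '' Set.univ)
  exact ⟨q, hq⟩

/-- A finite étale algebra over a connected base is split by a connected finite étale cover. -/
theorem exists_connected_split (D : Type u) [CommRing D] [Algebra R D] [Module.Finite R D] [Algebra.Etale R D] :
    ∃ (E : Type u) (_ : CommRing E) (_ : Algebra R E), Algebra.Etale R E ∧ Module.Finite R E ∧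
      Module.FaithfullyFlat R E ∧ ConnectedSpace (PrimeSpectrum E) ∧ Algebra.IsFiniteSplit E (E ⊗[R] D) := by
  classical
  have hR : Nonempty (PrimeSpectrum R) := inferInstance
  obtain ⟨p₀⟩ := hR
  have hconst : ∀ (M : Type u) [AddCommGroup M] [Module R M] [Module.FinitePresentation R M] [Module.Flat R M],
      Module.rankAtStalk (R := R) M = ((Module.rankAtStalk (R := R) M p₀ : ℕ) : PrimeSpectrum R → ℕ) :=
    fun M _ _ _ _ => funext fun p => by
      rw [Pi.natCast_def]
      exact Module.isLocallyConstant_rankAtStalk.apply_eq_of_preconnectedSpace p p₀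
  have : Module.FinitePresentation R D := .of_finite_of_finitePresentation R D
  obtain ⟨T₀, _, _, hT₀ff, _, _, hT₀⟩ := Algebra.IsFiniteSplit.exists_tensorProduct_of_etale (hconst D)
  let P : ℕ → Prop := fun n => ∃ (T : Type u) (_ : CommRing T) (_ : Algebra R T), Algebra.Etale R T ∧
    Module.Finite R T ∧ Nontrivial T ∧ Algebra.IsFiniteSplit T (T ⊗[R] D) ∧ Module.rankAtStalk (R := R) T p₀ = n
  have hP : ∃ n, P n := by
    have : Nontrivial R := p₀.nontrivial
    have : Nontrivial T₀ := (FaithfulSMul.algebraMap_injective R T₀).nontrivial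
    exact ⟨_, T₀, inferInstance, inferInstance, inferInstance, inferInstance, inferInstance, hT₀, rfl⟩
  obtain ⟨T, _, _, het, hfin, hnt, hsplit, hn⟩ := Nat.find_spec hP
  refine ⟨T, inferInstance, inferInstance, het, hfin, faithfullyFlat_of_finite_etale T,
    connectedSpace_of_idem fun e he => ?_, hsplit⟩
  by_contra hcon
  push Not at hcon
  let T₁ := T ⧸ Ideal.span {e}
  let T₂ := T ⧸ Ideal.span {1 - e}
  have hloc : ∀ (a : T), IsIdempotentElem a → IsLocalization.Away (1 - a) (T ⧸ Ideal.span {a}) := fun a ha =>
    IsLocalization.away_of_isIdempotentElem ha.one_sub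
      (by rw [Ideal.Quotient.algebraMap_eq, Ideal.mk_ker, sub_sub_cancel]) Ideal.Quotient.mk_surjective
  have := hloc e he
  have := hloc (1 - e) he.one_sub
  have : Algebra.Etale T T₁ := Algebra.Etale.of_isLocalizationAway (1 - e)
  have : Algebra.Etale T T₂ := Algebra.Etale.of_isLocalizationAway (1 - (1 - e))
  have : Algebra.Etale R T₁ := Algebra.Etale.comp R T T₁
  have : Algebra.Etale R T₂ := Algebra.Etale.comp R T T₂
  have hnt' : ∀ a : T, IsIdempotentElem a → a ≠ 1 → Nontrivial (T ⧸ Ideal.span {a}) := fun a ha hne => by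
    refine Ideal.Quotient.nontrivial_iff.mpr fun h => hne ?_
    obtain ⟨u, hu⟩ := Ideal.span_singleton_eq_top.mp h
    exact hu ▸ (IsIdempotentElem.iff_eq_one_of_isUnit u.isUnit).mp (hu ▸ ha)
  have : Nontrivial T₁ := hnt' e he hcon.2
  have : Nontrivial T₂ := hnt' (1 - e) he.one_sub (fun h => hcon.1 (by simpa using h))
  have : Algebra.IsFiniteSplit T₁ (T₁ ⊗[R] D) :=
    Algebra.IsFiniteSplit.of_algEquiv (Algebra.TensorProduct.cancelBaseChange R T T₁ T₁ D)
  have hlt : Module.rankAtStalk (R := R) T₁ p₀ < Nat.find hP := by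
    let φ : T →ₗ[R] T₁ × T₂ :=
      (Ideal.Quotient.mkₐ R (Ideal.span {e})).toLinearMap.prod (Ideal.Quotient.mkₐ R (Ideal.span {1 - e})).toLinearMap
    have hφ : Function.Bijective φ := by
      refine ⟨(injective_iff_map_eq_zero _).mpr fun x hx => ?_, fun z => ?_⟩
      · obtain ⟨a, ha⟩ := Ideal.mem_span_singleton.mp (Ideal.Quotient.eq_zero_iff_mem.mp (congrArg Prod.fst hx))
        obtain ⟨b, hb⟩ := Ideal.mem_span_singleton.mp (Ideal.Quotient.eq_zero_iff_mem.mp (congrArg Prod.snd hx))
        calc x = e * x + (1 - e) * x := by ring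
          _ = e * ((1 - e) * b) + (1 - e) * (e * a) := by rw [← hb, ← ha]
          _ = (e * (1 - e)) * (a + b) := by ring
          _ = 0 := by rw [mul_sub, mul_one, he.eq, sub_self, zero_mul]
      · obtain ⟨a, ha⟩ := Ideal.Quotient.mk_surjective z.1
        obtain ⟨b, hb⟩ := Ideal.Quotient.mk_surjective z.2
        refine ⟨(1 - e) * a + e * b, Prod.ext ?_ ?_⟩
        · refine Eq.trans ?_ ha
          refine Ideal.Quotient.eq.mpr (Ideal.mem_span_singleton.mpr ⟨b - a, ?_⟩)
          ring
        · refine Eq.trans ?_ hb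
          refine Ideal.Quotient.eq.mpr (Ideal.mem_span_singleton.mpr ⟨a - b, ?_⟩)
          ring
    have := faithfullyFlat_of_finite_etale (R := R) T₂
    have : Module.Finite R T₁ := Module.Finite.trans T T₁
    have : Module.Finite R T₂ := Module.Finite.trans T T₂
    have : Module.FinitePresentation R T₁ := .of_finite_of_finitePresentation R T₁
    have : Module.FinitePresentation R T₂ := .of_finite_of_finitePresentation R T₂
    rw [← hn, Module.rankAtStalk_eq_of_equiv (LinearEquiv.ofBijective φ hφ), Module.rankAtStalk_prod,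
      Pi.add_apply, lt_add_iff_pos_right]
    obtain ⟨q, hq⟩ := PrimeSpectrum.comap_surjective_of_faithfullyFlat (A := R) (B := T₂) p₀
    refine Nat.pos_of_ne_zero fun h0 => ?_
    have hz : Module.rankAtStalk (R := R) T₂ = 0 := by
      rw [hconst T₂, h0]; rfl
    exact not_subsingleton T₂ (Module.rankAtStalk_eq_zero_iff_subsingleton.mp hz)
  have : Module.Finite R T₁ := Module.Finite.trans T T₁
  exact Nat.find_min hP hlt ⟨T₁, inferInstance, inferInstance, inferInstance, inferInstance, inferInstance,
    inferInstance, rfl⟩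

end

end Groth.Agent.MultTypeLib
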