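import Groth.Agent.MultTypeLib.Spread
import Groth.Agent.MultTypeLib.EtaleSplit
import Groth.Agent.GrpSchLib.DualPairing
import Mathlib.RingTheory.HopfAlgebra.GroupLike

/-!
# Group-like elements of a finite group as points of the dual algebra
-/

universe u

open WithConv TensorProduct Coalgebra Bialgebra

noncomputable section

namespace Groth.Agent.MultTypeLib

section Pairing

variable {R : Type u} [CommRing R] (G : Type u) [CommRing G] [Algebra R G] (N : Type u) [AddCommGroup N] [Module R N]

/-- Extension of linear forms to the scalar extension. -/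
def prL : Module.Dual R N →ₗ[R] (G ⊗[R] N →ₗ[G] G) where
  toFun φ := LinearMap.liftBaseChange G ((Algebra.linearMap R G).comp φ)
  map_add' φ ψ := by
    ext n
    simp
  map_smul' r φ := by
    ext n
    simp [Algebra.smul_def]

variable {G N}

@[simp] theorem prL_tmul (φ : Module.Dual R N) (g : G) (n : N) :
    prL G N φ (g ⊗ₜ n) = g * algebraMap R G (φ n) := by
  simp [prL]

theorem prL_comp {P : Type u} [AddCommGroup P] [Module R P] (f : N →ₗ[R] P) (φ : Module.Dual R P) (x : G ⊗[R] N) :
    prL G N (φ.comp f) x = prL G P φ (LinearMap.lTensor G f x) := by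
  induction x using TensorProduct.induction_on with
  | zero => simp
  | add a b ha hb => simp only [map_add, ha, hb]
  | tmul g n => simp

variable [Module.Finite R N] [Module.Projective R N]

theorem prL_separated (x : G ⊗[R] N) (h : ∀ φ, prL G N φ x = 0) : x = 0 := by
  have key : ∀ T : Module.Dual R N ⊗[R] N, LinearMap.lTensor G (dualTensorHom R N N T) x = 0 := fun T => by
    induction T using TensorProduct.induction_on with
    | zero => simp
    | add a b ha hb => rw [map_add, LinearMap.lTensor_add, LinearMap.add_apply, ha, hb, add_zero]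
    | tmul φ n =>
      have : ∀ y : G ⊗[R] N, LinearMap.lTensor G (dualTensorHom R N N (φ ⊗ₜ n)) y = prL G N φ y ⊗ₜ n := fun y => by
        induction y using TensorProduct.induction_on with
        | zero => simp
        | add a b ha hb => simp only [map_add, TensorProduct.add_tmul, ha, hb]
        | tmul g m =>
          rw [LinearMap.lTensor_tmul, dualTensorHom_apply, TensorProduct.tmul_smul, TensorProduct.smul_tmul',
            prL_tmul, Algebra.smul_def, mul_comm]
      rw [this, h φ, TensorProduct.zero_tmul]
  obtain ⟨T, hT⟩ := (dualTensorHom_bijective (R := R) (M := N) (N := N)).2 LinearMap.id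
  have := key T
  rwa [hT, LinearMap.lTensor_id, LinearMap.id_apply] at this

theorem prL_ext (x y : G ⊗[R] N) (h : ∀ φ, prL G N φ x = prL G N φ y) : x = y :=
  sub_eq_zero.mp (prL_separated (x - y) fun φ => by rw [map_sub, h, sub_self])

theorem prL_surjective (f : Module.Dual R N →ₗ[R] G) : ∃ x : G ⊗[R] N, ∀ φ, prL G N φ x = f φ := by
  obtain ⟨T, hT⟩ := (dualTensorHom_bijective (R := R) (M := N) (N := N)).2 LinearMap.id
  refine ⟨LinearMap.rTensor N f T, fun ψ => ?_⟩
  have key : ∀ T : Module.Dual R N ⊗[R] N,
      prL G N ψ (LinearMap.rTensor N f T) = f (ψ.comp (dualTensorHom R N N T)) := fun T => by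
    induction T using TensorProduct.induction_on with
    | zero => simp
    | add a b ha hb => rw [map_add, map_add, ha, hb, map_add, LinearMap.comp_add, map_add]
    | tmul φ n =>
      rw [LinearMap.rTensor_tmul, prL_tmul, show ψ.comp (dualTensorHom R N N (φ ⊗ₜ n)) = ψ n • φ from
        LinearMap.ext fun m => by simp [mul_comm], map_smul, Algebra.smul_def, mul_comm]
  rw [key, hT, LinearMap.comp_id]

end Pairing

section Hopf

open CartDual (D)

variable {R : Type u} [CommRing R] {A : Type u} [CommRing A] [HopfAlgebra R A] [Module.Finite R A]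
  [Module.Projective R A] {G : Type u} [CommRing G] [Algebra R G]

theorem prL_counit (x : G ⊗[R] A) : prL G A (counit (R := R)) x = counit (R := G) x := by
  induction x using TensorProduct.induction_on with
  | zero => simp
  | add a b ha hb => simp only [map_add, ha, hb]
  | tmul g a => simp [Algebra.smul_def, mul_comm]

theorem prL_convMul (φ ψ : D R A) (x : G ⊗[R] A) :
    prL G A (φ * ψ).ofConv x =
      prL G (A ⊗[R] A) (CartDual.ev₂ R A (φ ⊗ₜ ψ)) (LinearMap.lTensor G (comul (R := R)) x) := by
  rw [← prL_comp]
  congr 2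
  exact LinearMap.ext fun a => GrpSchLib.convMul_eq_ev₂ φ ψ a

theorem prL_distrib (φ ψ : D R A) (x y : G ⊗[R] A) :
    prL G (A ⊗[R] A) (CartDual.ev₂ R A (φ ⊗ₜ ψ)) ((AlgebraTensorModule.distribBaseChange R G A A).symm (x ⊗ₜ[G] y)) =
      prL G A φ.ofConv x * prL G A ψ.ofConv y := by
  induction x using TensorProduct.induction_on with
  | zero => simp
  | add a b ha hb => simp only [TensorProduct.add_tmul, map_add, ha, hb, add_mul]
  | tmul g a =>
    induction y using TensorProduct.induction_on with
    | zero => simp
    | add c d hc hd => simp only [TensorProduct.tmul_add, map_add, hc, hd, mul_add]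
    | tmul h b =>
      simp [AlgebraTensorModule.distribBaseChange_symm_tmul, CartDual.coe_apply]
      ring

variable [Coalgebra.IsCocomm R A]

/-- A group-like element as a point of the dual algebra. -/
def ptHom (x : G ⊗[R] A) (hx : IsGroupLikeElem G x) : D R A →ₐ[R] G :=
  AlgHom.ofLinearMap
    { toFun := fun φ => prL G A φ.ofConv x
      map_add' := fun φ ψ => by simp
      map_smul' := fun r φ => by simp }
    (by
      show prL G A (1 : D R A).ofConv x = 1
      rw [show ((1 : D R A)).ofConv = (counit (R := R) : A →ₗ[R] R) from LinearMap.ext fun a => by simp,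
        prL_counit, hx.counit_eq_one])
    fun φ ψ => by
      have h := ((isGroupLike_iff_glDef x).mp hx).1
      rw [glDef, sub_eq_zero] at h
      show prL G A (φ * ψ).ofConv x = prL G A φ.ofConv x * prL G A ψ.ofConv x
      rw [prL_convMul, h, prL_distrib]

@[simp] theorem ptHom_apply (x : G ⊗[R] A) (hx : IsGroupLikeElem G x) (φ : D R A) :
    ptHom x hx φ = prL G A φ.ofConv x := rfl

theorem isGroupLike_of_hom (f : D R A →ₐ[R] G) (x : G ⊗[R] A) (hx : ∀ φ : D R A, prL G A φ.ofConv x = f φ) :
    IsGroupLikeElem G x := by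
  refine (isGroupLike_iff_glDef x).mpr ⟨?_, ?_⟩
  · rw [glDef, sub_eq_zero]
    refine prL_ext _ _ fun Φ => ?_
    obtain ⟨z, rfl⟩ := (CartDual.ev₂ R A).surjective Φ
    induction z using TensorProduct.induction_on with
    | zero => simp
    | add a b ha hb => simp only [map_add, LinearMap.add_apply, ha, hb]
    | tmul φ ψ => rw [← prL_convMul, prL_distrib, hx, hx, hx, map_mul]
  · rw [← prL_counit, show (counit (R := R) : A →ₗ[R] R) = ((1 : D R A)).ofConv from
      LinearMap.ext fun a => by simp, hx, map_one, sub_self]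

/-- The pairing between the scalar extensions of the dual and of the algebra. -/
def bForm : G ⊗[R] D R A →ₗ[G] (G ⊗[R] A →ₗ[G] G) :=
  LinearMap.liftBaseChange G ((prL G A).comp (CartDual.toDual R A).toLinearMap)

@[simp] theorem bForm_tmul (g : G) (φ : D R A) (x : G ⊗[R] A) :
    bForm (g ⊗ₜ φ) x = g * prL G A φ.ofConv x := by
  simp [bForm]

theorem bForm_one_tmul (z : G ⊗[R] D R A) (a : A) :
    bForm z ((1 : G) ⊗ₜ a) = prL G (D R A)
      ((LinearMap.applyₗ a).comp (CartDual.toDual R A).toLinearMap) z := by
  induction z using TensorProduct.induction_on with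
  | zero => simp
  | add x y hx hy => simp only [map_add, LinearMap.add_apply, hx, hy]
  | tmul g φ => simp

theorem evalDual_bijective :
    Function.Bijective fun a : A => ((LinearMap.applyₗ a).comp (CartDual.toDual R A).toLinearMap : Module.Dual R (D R A)) := by
  refine ⟨fun a b h => GrpSchLib.eq_of_forall_form fun φ => LinearMap.congr_fun h φ, fun f => ?_⟩
  obtain ⟨a, ha, -⟩ := GrpSchLib.existsUnique_eval f
  exact ⟨a, LinearMap.ext fun φ => (ha φ).symm⟩

theorem bForm_separated (z : G ⊗[R] D R A) (h : ∀ a : A, bForm z ((1 : G) ⊗ₜ a) = 0) : z = 0 :=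
  prL_separated z fun f => by
    obtain ⟨a, rfl⟩ := evalDual_bijective.2 f
    rw [← bForm_one_tmul, h]

set_option maxHeartbeats 1000000 in
/-- If the dual algebra is split over a connected extension, the group is diagonalisable there. -/
theorem isDiag_of_dual_split (E : Type u) [CommRing E] [Algebra R E] [ConnectedSpace (PrimeSpectrum E)]
    [Algebra.IsFiniteSplit E (E ⊗[R] D R A)] : SGA3b.IsDiag E (E ⊗[R] A) := by
  classical
  have : Nontrivial E := PrimeSpectrum.nonempty_iff_nontrivial.mp inferInstance
  obtain ⟨n, ⟨u⟩⟩ := (inferInstance : Algebra.IsFiniteSplit E (E ⊗[R] D R A)).nonempty_algEquiv_fun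
  let π : Fin n → (D R A →ₐ[R] E) := fun i =>
    (((Pi.evalAlgHom E (fun _ : Fin n => E) i).comp u.toAlgHom).restrictScalars R).comp
      Algebra.TensorProduct.includeRight
  have hg : ∀ i, ∃ x : E ⊗[R] A, ∀ φ : D R A, prL E A φ.ofConv x = π i φ := fun i => by
    obtain ⟨x, hx⟩ := prL_surjective ((π i).toLinearMap.comp (CartDual.toDual R A).symm.toLinearMap)
    exact ⟨x, fun φ => hx φ.ofConv⟩
  choose g hg using hg
  have hB : ∀ (z : E ⊗[R] D R A) i, bForm z (g i) = u z i := fun z i => by
    induction z using TensorProduct.induction_on with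
    | zero => simp
    | add x y hx hy => simp only [map_add, LinearMap.add_apply, Pi.add_apply, hx, hy]
    | tmul s φ =>
      rw [bForm_tmul, hg, show (s ⊗ₜ[R] φ : E ⊗[R] D R A) = s • ((1 : E) ⊗ₜ[R] φ) by
        rw [TensorProduct.smul_tmul', smul_eq_mul, mul_one], map_smul]
      rfl
  let δ : Fin n → (Fin n → E) := fun i => Pi.single i 1
  let L : E ⊗[R] A →ₗ[E] (Fin n → E) := LinearMap.pi fun i => bForm (u.symm (δ i))
  have hLg : ∀ j, L (g j) = δ j := fun j => funext fun i => by
    show bForm (u.symm (δ i)) (g j) = _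
    rw [hB, AlgEquiv.apply_symm_apply]
    show (Pi.single i 1 : Fin n → E) j = (Pi.single j 1 : Fin n → E) i
    rw [Pi.single_apply, Pi.single_apply]
    simp only [eq_comm]
  have hLinj : Function.Injective L := by
    refine (injective_iff_map_eq_zero L).mpr fun x hx => prL_separated x fun φ => ?_
    have h1 : ∀ i, bForm (u.symm (δ i)) x = 0 := fun i => congrFun hx i
    have h2 : bForm ((1 : E) ⊗ₜ toConv φ) x = 0 := by
      rw [← u.symm_apply_apply ((1 : E) ⊗ₜ toConv φ), show u ((1 : E) ⊗ₜ toConv φ) =
        ∑ i, u ((1 : E) ⊗ₜ toConv φ) i • δ i from pi_eq_sum_univ' _, map_sum, map_sum, LinearMap.sum_apply]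
      exact Finset.sum_eq_zero fun i _ => by rw [map_smul, map_smul, LinearMap.smul_apply, h1, smul_zero]
    simpa using h2
  have hLsurj : Function.Surjective L := fun c => ⟨∑ i, c i • g i, by
    rw [map_sum]
    refine (Finset.sum_congr rfl fun i _ => ?_).trans (pi_eq_sum_univ' c).symm
    rw [map_smul, hLg]⟩
  let b : Module.Basis (Fin n) E (E ⊗[R] A) := Module.Basis.ofEquivFun (LinearEquiv.ofBijective L ⟨hLinj, hLsurj⟩)
  have hb : ∀ i, b i = g i := fun i => hLinj (by
    rw [hLg]
    funext j
    have h := b.repr_self i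
    show L (b i) j = _
    have h2 : L (b i) j = b.repr (b i) j := rfl
    rw [h2, h, Finsupp.single_eq_pi_single])
  have hgl : ∀ i, IsGroupLikeElem E (g i) := fun i => isGroupLike_of_hom (π i) _ (hg i)
  let σ : Fin n → GroupLike E (E ⊗[R] A) := fun i => ⟨g i, hgl i⟩
  have hσ : Function.Bijective σ := by
    refine ⟨fun i j h => b.injective (by rw [hb, hb]; exact congrArg GroupLike.val h), fun x => ?_⟩
    let χ : E ⊗[R] D R A →ₐ[E] E :=
      Algebra.TensorProduct.lift (Algebra.ofId E E) (ptHom x.1 x.2) fun _ _ => .all _ _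
    have hχ : ∀ z, χ z = bForm z x.1 := fun z => by
      induction z using TensorProduct.induction_on with
      | zero => simp
      | add p q hp hq => simp only [map_add, LinearMap.add_apply, hp, hq]
      | tmul s φ => simp [χ]
    let ψ : (Fin n → E) →ₐ[E] E := χ.comp u.symm.toAlgHom
    have hsum : ∑ i, ψ (δ i) = 1 := by
      rw [← map_sum, show ∑ i, δ i = 1 from funext fun j => by simp [δ, Pi.single_apply, Finset.sum_apply], map_one]
    obtain ⟨i, hi⟩ : ∃ i, ψ (δ i) = 1 := by
      by_contra hne
      push Not at hne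
      have hid : ∀ i, IsIdempotentElem (δ i) := fun i => by
        rw [IsIdempotentElem]; simp [δ, ← Pi.single_mul]
      have h0 : ∀ i, ψ (δ i) = 0 := fun i => (idem_trivial ((hid i).map ψ)).resolve_right (hne i)
      rw [Finset.sum_eq_zero fun i _ => h0 i] at hsum
      have : Nontrivial E := PrimeSpectrum.nonempty_iff_nontrivial.mp inferInstance
      exact zero_ne_one hsum
    refine ⟨i, GroupLike.val_injective (hLinj ?_)⟩
    show L (g i) = L x.1
    rw [hLg]
    funext j
    rw [show L x.1 j = ψ (δ j) from (hχ _).symm]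
    rcases eq_or_ne j i with rfl | hji
    · rw [hi]; simp [δ]
    · have h1 : ψ (δ j) * ψ (δ i) = 0 := by
        rw [← map_mul, show δ j * δ i = 0 from funext fun l => by
          simp only [δ, Pi.mul_apply, Pi.single_apply, Pi.zero_apply]
          rcases eq_or_ne l j with rfl | h
          · rw [if_neg hji, mul_zero]
          · rw [if_neg h, zero_mul], map_zero]
      rw [hi, mul_one] at h1
      rw [h1]
      simp [δ, Pi.single_apply, hji]
  let σe := Equiv.ofBijective σ hσ
  let F : MonoidAlgebra E (GroupLike E (E ⊗[R] A)) →ₐc[E] E ⊗[R] A := MonoidAlgebra.liftGroupLikeBialgHom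
  let e := (MonoidAlgebra.basis (GroupLike E (E ⊗[R] A)) E).equiv b σe.symm
  have hF : ∀ z, F z = e z := fun z => by
    induction z using MonoidAlgebra.induction_linear with
    | zero => simp
    | add p q hp hq => simp only [map_add, hp, hq]
    | single x r =>
      rw [show MonoidAlgebra.single x r = r • (MonoidAlgebra.basis (GroupLike E (E ⊗[R] A)) E) x by simp, map_smul,
        map_smul, Module.Basis.equiv_apply, hb]
      congr 1
      rw [show g (σe.symm x) = ((σe (σe.symm x)).val) from rfl, Equiv.apply_symm_apply]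
      simp [F]
  exact ⟨GroupLike E (E ⊗[R] A), inferInstance,
    ⟨(BialgEquiv.ofBijective F (by rw [show ⇑F = ⇑e from funext hF]; exact e.bijective)).symm⟩⟩

/-- Over a diagonalising extension the dual algebra is split. -/
theorem dual_split_of_diag (S : Type u) [CommRing S] [Algebra R S] {M : Type u} [CommGroup M] [Finite M]
    (e : S ⊗[R] A ≃ₐc[S] MonoidAlgebra S M) : Algebra.Etale S (S ⊗[R] D R A) := by
  classical
  have hg : ∀ m, IsGroupLikeElem S (e.symm (MonoidAlgebra.single m (1 : S))) := fun m =>
    (MonoidAlgebra.isGroupLikeElem_single_one m).map e.symm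
  let b : Module.Basis M S (S ⊗[R] A) := (MonoidAlgebra.basis M S).map (e.symm : MonoidAlgebra S M ≃ₐ[S] S ⊗[R] A).toLinearEquiv
  have hb : ∀ m, b m = e.symm (MonoidAlgebra.single m (1 : S)) := fun m => by simp [b]
  let Φ : S ⊗[R] D R A →ₐ[S] (M → S) := Pi.algHom S (fun _ => S) fun m =>
    Algebra.TensorProduct.lift (Algebra.ofId S S) (ptHom _ (hg m)) fun _ _ => .all _ _
  have hΦ : ∀ z m, Φ z m = bForm z (b m) := fun z m => by
    rw [hb]
    induction z using TensorProduct.induction_on with
    | zero => simp
    | add p q hp hq => simp only [map_add, LinearMap.add_apply, Pi.add_apply, hp, hq]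
    | tmul s φ => simp [Φ]
  have hbij : Function.Bijective Φ := by
    refine ⟨(injective_iff_map_eq_zero Φ).mpr fun z hz => bForm_separated z fun a => ?_, fun c => ?_⟩
    · rw [show bForm z = 0 from b.ext fun m => by rw [← hΦ, hz]; rfl]
      rfl
    · let F : S ⊗[R] A →ₗ[S] S := b.constr S c
      let ev : A →ₗ[R] Module.Dual R (D R A) :=
        { toFun := fun a => (LinearMap.applyₗ a).comp (CartDual.toDual R A).toLinearMap
          map_add' := fun x y => LinearMap.ext fun φ => by simp
          map_smul' := fun r x => LinearMap.ext fun φ => by simp }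
      let evE : A ≃ₗ[R] Module.Dual R (D R A) := LinearEquiv.ofBijective ev evalDual_bijective
      obtain ⟨z, hz⟩ := prL_surjective (N := D R A)
        (((F.restrictScalars R).comp (TensorProduct.mk R S A 1)).comp evE.symm.toLinearMap)
      have hzF : bForm z = F := by
        ext a
        show bForm z ((1 : S) ⊗ₜ a) = F ((1 : S) ⊗ₜ a)
        rw [bForm_one_tmul, show ((LinearMap.applyₗ a).comp (CartDual.toDual R A).toLinearMap : Module.Dual R (D R A)) =
          evE a from rfl, hz]
        simp
      exact ⟨z, funext fun m => by rw [hΦ, hzF]; exact b.constr_basis _ _ m⟩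
  exact Algebra.Etale.of_equiv (AlgEquiv.ofBijective Φ hbij).symm

end Hopf

end Groth.Agent.MultTypeLib
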