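import Groth.Agent.MultTypeLib.DualPair
import Groth.Agent.MultTypeLib.HopfKer
import Mathlib.RingTheory.Kaehler.TensorProduct
import Mathlib.RingTheory.Smooth.Fiber
import Mathlib.RingTheory.Etale.Descent

/-!
# Finite groups of multiplicative type
-/

universe u

open WithConv TensorProduct Coalgebra Bialgebra

noncomputable section

namespace Groth.Agent.MultTypeLib

open CartDual (D)

variable {R : Type u} [CommRing R] {A : Type u} [CommRing A] [HopfAlgebra R A]

theorem Split.free (P : Split R A) : Module.Free P.S (P.S ⊗[R] A) :=
  Module.Free.of_equiv P.equiv.toLinearEquiv.symm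

/-- A finite group of multiplicative type is locally free. -/
theorem projective_of_isMultType [Module.Finite R A] (hA : SGA3b.IsMultType R A) : Module.Projective R A := by
  classical
  obtain ⟨c⟩ := exists_cover hA
  have := Fintype.ofFinite c.ι
  obtain ⟨n, f, hf⟩ := Module.Finite.exists_fin' R A
  have hfree : ∀ i, Module.Free (c.split i).S ((c.split i).S ⊗[R] A) := fun i => (c.split i).free
  -- flat
  have hflat : Module.Flat R A := by
    refine Module.Flat.iff_lTensor_preserves_injective_linearMap.mpr fun N N' _ _ _ _ g hg => ?_
    refine (injective_iff_map_eq_zero _).mpr fun x hx => c.module_ext x fun i => ?_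
    let S := (c.split i).S
    have : Module.Flat R (S ⊗[R] A) := Module.Flat.trans R S (S ⊗[R] A)
    have hinj := Module.Flat.lTensor_preserves_injective_linearMap (M := S ⊗[R] A) g hg
    let e₁ := TensorProduct.assoc R S A N
    let e₂ := TensorProduct.assoc R S A N'
    have hcomm : ∀ z, e₂ (LinearMap.lTensor (S ⊗[R] A) g z) = LinearMap.lTensor S (LinearMap.lTensor A g) (e₁ z) := by
      intro z
      induction z using TensorProduct.induction_on with
      | zero => simp
      | add a b ha hb => simp only [map_add, ha, hb]
      | tmul y m =>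
        induction y using TensorProduct.induction_on with
        | zero => simp
        | add a b ha hb => simp only [TensorProduct.add_tmul, map_add, ha, hb]
        | tmul s a => simp [e₁, e₂]
    apply e₁.symm.injective
    rw [map_zero]
    apply hinj
    rw [map_zero]
    apply e₂.injective
    rw [map_zero, hcomm, LinearEquiv.apply_symm_apply, LinearMap.lTensor_tmul, hx, TensorProduct.tmul_zero]
  -- the relations are finitely generated
  let K := LinearMap.ker f
  have hK : ∀ i, ∃ K' : Submodule R K, K'.FG ∧
      ∀ z : K, (1 : (c.split i).S) ⊗ₜ[R] (Submodule.Quotient.mk (p := K') z) = 0 := by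
    intro i
    let S := (c.split i).S
    have : Module.Free S (S ⊗[R] A) := hfree i
    let fS : S ⊗[R] (Fin n → R) →ₗ[S] S ⊗[R] A := f.baseChange S
    have hfS : Function.Surjective fS := LinearMap.lTensor_surjective S hf
    obtain ⟨sec, hsec⟩ := Module.projective_lifting_property fS LinearMap.id hfS
    let iS : S ⊗[R] K →ₗ[S] S ⊗[R] (Fin n → R) := K.subtype.baseChange S
    have hiS : Function.Injective iS :=
      Module.Flat.lTensor_preserves_injective_linearMap (M := S) K.subtype K.injective_subtype
    have hex : Function.Exact (LinearMap.lTensor S K.subtype) (LinearMap.lTensor S f) :=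
      lTensor_exact S (f := K.subtype) (g := f) (LinearMap.exact_subtype_ker_map f) hf
    let pr : S ⊗[R] (Fin n → R) →ₗ[S] S ⊗[R] (Fin n → R) := LinearMap.id - sec.comp fS
    have hrange : LinearMap.range iS = LinearMap.range pr := by
      refine le_antisymm ?_ ?_
      · rintro _ ⟨z, rfl⟩
        refine ⟨iS z, ?_⟩
        have h0 : fS (iS z) = 0 := (hex (iS z)).mpr ⟨z, rfl⟩
        simp [pr, h0]
      · rintro _ ⟨z, rfl⟩
        have h0 : fS (pr z) = 0 := by
          simp only [pr, LinearMap.sub_apply, LinearMap.id_apply, LinearMap.comp_apply, map_sub]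
          rw [← LinearMap.comp_apply fS sec, hsec, LinearMap.id_apply, sub_self]
        exact (hex (pr z)).mp h0
    have : Module.Finite S (LinearMap.range iS) := hrange ▸ Module.Finite.range pr
    have : Module.Finite S (S ⊗[R] K) := Module.Finite.equiv (LinearEquiv.ofInjective iS hiS).symm
    obtain ⟨s, hs⟩ := Module.Finite.fg_top (R := S) (M := S ⊗[R] K)
    choose T hT using fun z : S ⊗[R] K => TensorProduct.exists_finset z
    let gens : Finset K := s.biUnion fun z => (T z).image Prod.snd
    refine ⟨Submodule.span R gens, ⟨gens, rfl⟩, fun z => ?_⟩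
    let q : K →ₗ[R] K ⧸ Submodule.span R (gens : Set K) := Submodule.mkQ _
    have hq : q.baseChange S = 0 := by
      refine LinearMap.ext_on (s := (s : Set (S ⊗[R] K))) hs fun z hz => ?_
      rw [hT z, map_sum]
      refine Finset.sum_eq_zero fun p hp => ?_
      rw [LinearMap.baseChange_tmul, show q p.2 = 0 from (Submodule.Quotient.mk_eq_zero _).mpr
        (Submodule.subset_span (Finset.mem_biUnion.mpr ⟨z, hz, Finset.mem_image.mpr ⟨p, hp, rfl⟩⟩)),
        TensorProduct.tmul_zero]
    simpa [q] using LinearMap.congr_fun hq ((1 : S) ⊗ₜ z)
  choose K' hK'fg hK' using hK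
  let Ksum : Submodule R K := ⨆ i, K' i
  have hKsum : Ksum.FG := Submodule.fg_iSup _ hK'fg
  have htop : Ksum = ⊤ := by
    refine eq_top_iff.mpr fun z _ => ?_
    refine (Submodule.Quotient.mk_eq_zero Ksum).mp (c.module_ext _ fun i => ?_)
    have h := congrArg (LinearMap.lTensor (c.split i).S (Submodule.factor (le_iSup K' i))) (hK' i z)
    simpa using h
  have hKfg : (LinearMap.ker f).FG := by
    have h := hKsum.map K.subtype
    rwa [htop, Submodule.map_top, Submodule.range_subtype] at h
  have : Module.FinitePresentation R A := Module.finitePresentation_of_surjective f hf hKfg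
  exact Module.Flat.projective_of_finitePresentation

variable [Coalgebra.IsCocomm R A] [Module.Finite R A] [Module.Projective R A]

set_option maxHeartbeats 1000000 in
/-- The dual of a finite group of multiplicative type is étale. -/
theorem etale_dual_of_isMultType (hA : SGA3b.IsMultType R A) : Algebra.Etale R (D R A) := by
  classical
  obtain ⟨c⟩ := exists_cover hA
  have : Module.FinitePresentation R (D R A) := Module.finitePresentation_of_projective R _
  have : Algebra.FinitePresentation R (D R A) :=
    (Module.FinitePresentation.iff_finitePresentation_of_finite R (D R A)).mp inferInstance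
  have : Module.Flat R (D R A) := Module.Flat.of_projective
  have : Algebra.FormallyUnramified R (D R A) := ⟨⟨fun x y => sub_eq_zero.mp (c.module_ext _ fun i => ?_)⟩⟩
  · exact Algebra.Etale.of_formallyUnramified_of_flat
  let P := c.split i
  rcases subsingleton_or_nontrivial P.S with h | h
  · have : Subsingleton (P.S ⊗[R] Ω[D R A⁄R]) := Module.subsingleton P.S _
    exact Subsingleton.elim _ _
  have : Module.Finite P.S (MonoidAlgebra P.S P.M) := Module.Finite.equiv P.equiv.toLinearEquiv
  have : Finite P.M := Module.Finite.finite_basis (MonoidAlgebra.basis P.M P.S)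
  have hb : Function.Bijective P.hom.extend := by
    rw [show ⇑P.hom.extend = ⇑P.equiv from funext P.extend_eq]
    exact P.equiv.bijective
  have := dual_split_of_diag (R := R) (A := A) P.S (P.hom.toBialgEquiv hb)
  let _ : Algebra (D R A) (P.S ⊗[R] D R A) := Algebra.TensorProduct.rightAlgebra
  have : Subsingleton (P.S ⊗[R] Ω[D R A⁄R]) :=
    (KaehlerDifferential.tensorKaehlerEquivBase R P.S (D R A) (P.S ⊗[R] D R A)).toEquiv.subsingleton
  exact Subsingleton.elim _ _

set_option maxHeartbeats 1000000 in
/-- A finite group with étale dual over a connected base is isotrivial. -/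
theorem isIsotrivial_of_etale_dual [ConnectedSpace (PrimeSpectrum R)] [Algebra.Etale R (D R A)] :
    SGA3b.IsIsotrivial R A := by
  obtain ⟨E, _, _, het, hfin, hff, _, _⟩ := exists_connected_split (R := R) (D R A)
  exact ⟨E, inferInstance, inferInstance, het, hfin, hff, isDiag_of_dual_split E⟩

end Groth.Agent.MultTypeLib
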