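import Groth.Agent.MultTypeLib.DiagSub
import Groth.Agent.MultTypeLib.Basic

/-!
# Closed subgroups with finite closed fibre of groups of multiplicative type
-/

universe u

open WithConv TensorProduct Coalgebra Bialgebra IsLocalRing

noncomputable section

namespace Groth.Agent.MultTypeLib

section

variable {R : Type u} [CommRing R] {C : Type u} [CommRing C] [Bialgebra R C] {M : Type u} [CommGroup M]
  (f : MonoidAlgebra R M →ₐc[R] C)

/-- The characters of a base change. -/
def bcChar (S : Type u) [CommRing S] [Algebra R S] : M →* GroupLike S (S ⊗[R] C) where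
  toFun m := ⟨(1 : S) ⊗ₜ hchar f m, ⟨by
    rw [TensorProduct.counit_tmul, (hchar_groupLike f m).counit_eq_one, one_smul]
    exact (Bialgebra.counit_one : counit (R := S) (1 : S) = 1), by
    rw [← show (SemiBialgHom.baseChange R S C).toAlgHom (hchar f m) = (1 : S) ⊗ₜ[R] hchar f m from rfl,
      (SemiBialgHom.baseChange R S C).comul_comp, (hchar_groupLike f m).comul_eq_tmul_self]
    simp [SemiBialgHom.baseChange]⟩⟩
  map_one' := GroupLike.val_injective (by simp [Algebra.TensorProduct.one_def])
  map_mul' a b := GroupLike.val_injective (by simp [Algebra.TensorProduct.tmul_mul_tmul])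

/-- The base change of a quotient of a group algebra. -/
def bcDiag (S : Type u) [CommRing S] [Algebra R S] : MonoidAlgebra S M →ₐc[S] S ⊗[R] C :=
  MonoidAlgebra.liftGroupLikeBialgHom.comp (MonoidAlgebra.mapDomainBialgHom S (bcChar f S))

theorem hchar_bcDiag (S : Type u) [CommRing S] [Algebra R S] (m : M) :
    hchar (bcDiag f S) m = (1 : S) ⊗ₜ hchar f m := by
  simp [hchar_apply, bcDiag, bcChar]

theorem bcDiag_surjective (hf : Function.Surjective f) (S : Type u) [CommRing S] [Algebra R S] :
    Function.Surjective (bcDiag f S) := fun z => by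
  induction z using TensorProduct.induction_on with
  | zero => exact ⟨0, map_zero _⟩
  | add a b ha hb =>
    obtain ⟨a', rfl⟩ := ha
    obtain ⟨b', rfl⟩ := hb
    exact ⟨a' + b', map_add _ _ _⟩
  | tmul s c =>
    obtain ⟨y, rfl⟩ := hf c
    induction y using MonoidAlgebra.induction_linear with
    | zero => exact ⟨0, by simp⟩
    | add a b ha hb =>
      obtain ⟨a', ha'⟩ := ha
      obtain ⟨b', hb'⟩ := hb
      exact ⟨a' + b', by rw [map_add, ha', hb', map_add, TensorProduct.tmul_add]⟩
    | single m r =>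
      refine ⟨(r • s) • MonoidAlgebra.single m 1, ?_⟩
      rw [map_smul, ← hchar_apply, hchar_bcDiag, TensorProduct.smul_tmul', smul_eq_mul, mul_one,
        show MonoidAlgebra.single m r = r • MonoidAlgebra.single m (1 : R) by simp, map_smul, ← hchar_apply,
        TensorProduct.tmul_smul, TensorProduct.smul_tmul']

/-- Characters in a finite algebra over a field satisfy `h ^ d! = 1`. -/
theorem pow_factorial_eq_one {K : Type u} [Field K] {CK : Type u} [CommRing CK] [Bialgebra K CK]
    [Module.Finite K CK] (g : MonoidAlgebra K M →ₐc[K] CK) {D : ℕ} (hD : Module.finrank K CK ≤ D) (m : M) :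
    hchar g m ^ D.factorial = 1 := by
  let ψ := (hchar g).toHomUnits
  let G := ψ.range
  let ι : G → CK := fun x => ((x : CKˣ) : CK)
  have hι : Function.Injective ι := Units.val_injective.comp Subtype.val_injective
  have hli : LinearIndependent K ι := by
    refine LinearIndepOn.linearIndependent_restrict (linearIndepOn_isGroupLikeElem (R := K) (A := CK)) |>.comp
      (fun x => (⟨ι x, ?_⟩ : {a : CK | IsGroupLikeElem K a})) fun a b h => hι (congrArg Subtype.val h)
    obtain ⟨_, a, rfl⟩ := x
    exact hchar_groupLike g a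
  have : Finite G := hli.finite
  have hcard : Nat.card G ≤ D := by
    have := Fintype.ofFinite G
    rw [Nat.card_eq_fintype_card]
    exact hli.fintype_card_le_finrank.trans hD
  have h1 : (⟨ψ m, m, rfl⟩ : G) ^ D.factorial = 1 :=
    orderOf_dvd_iff_pow_eq_one.mp ((orderOf_dvd_natCard _).trans (Nat.dvd_factorial Nat.card_pos hcard))
  exact congrArg ι h1

end

/-- An element dying in the residue fibre lies in the fibre ideal. -/
theorem mem_map_of_fibre_zero {R : Type u} [CommRing R] [IsLocalRing R] {C : Type u} [CommRing C] [Algebra R C]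
    {x : C} (h : (1 : ResidueField R) ⊗ₜ[R] x = 0) : x ∈ (maximalIdeal R).map (algebraMap R C) := by
  let I := maximalIdeal R
  let ψ : ResidueField R ⊗[R] C →ₐ[R] C ⧸ I.map (algebraMap R C) := Algebra.TensorProduct.lift
    (Ideal.Quotient.liftₐ I (Algebra.ofId R (C ⧸ I.map (algebraMap R C))) fun r hr => by
      show algebraMap R (C ⧸ I.map (algebraMap R C)) r = 0
      rw [IsScalarTower.algebraMap_apply R C (C ⧸ I.map (algebraMap R C))]
      exact Ideal.Quotient.eq_zero_iff_mem.mpr (Ideal.mem_map_of_mem _ hr))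
    (Ideal.Quotient.mkₐ R _) fun _ _ => .all _ _
  have h2 := congrArg ψ h
  rw [Algebra.TensorProduct.lift_tmul, map_one, one_mul, map_zero] at h2
  exact Ideal.Quotient.eq_zero_iff_mem.mp h2

theorem finrank_fibre_le {R : Type u} [CommRing R] {C : Type u} [AddCommGroup C] [Module R C] {D : ℕ}
    (s : Fin D → C) (hs : Submodule.span R (Set.range s) = ⊤) (K : Type u) [Field K] [Algebra R K] :
    Module.finrank K (K ⊗[R] C) ≤ D := by
  have h := finrank_range_le_card (R := K) (fun i => (1 : K) ⊗ₜ[R] s i)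
  rw [Fintype.card_fin, Set.finrank] at h
  have htop : Submodule.span K (Set.range fun i => (1 : K) ⊗ₜ[R] s i) = ⊤ := by
    rw [eq_top_iff]
    rintro z -
    induction z using TensorProduct.induction_on with
    | zero => exact Submodule.zero_mem _
    | add a b ha hb => exact add_mem ha hb
    | tmul r c =>
      rw [show r ⊗ₜ[R] c = r • ((1 : K) ⊗ₜ[R] c) by rw [TensorProduct.smul_tmul', smul_eq_mul, mul_one]]
      refine Submodule.smul_mem _ _ ?_
      have hc : c ∈ Submodule.span R (Set.range s) := hs ▸ Submodule.mem_top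
      induction hc using Submodule.span_induction with
      | mem x hx =>
        obtain ⟨i, rfl⟩ := hx
        exact Submodule.subset_span ⟨i, rfl⟩
      | zero => rw [TensorProduct.tmul_zero]; exact Submodule.zero_mem _
      | add x y _ _ hx hy => rw [TensorProduct.tmul_add]; exact add_mem hx hy
      | smul a x _ hx => rw [TensorProduct.tmul_smul]; exact Submodule.smul_of_tower_mem _ a hx
  rwa [htop, finrank_top] at h

set_option maxHeartbeats 1000000 in
/-- A quotient of a finitely generated diagonalisable group with finite closed fibre is killed by an integer. -/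
theorem exists_pow_eq_one {R : Type u} [CommRing R] [IsLocalRing R] {C : Type u} [CommRing C] [Bialgebra R C]
    {M : Type u} [CommGroup M] [Group.FG M] {f : MonoidAlgebra R M →ₐc[R] C} (hf : Function.Surjective f)
    [Algebra.FiniteType R C] [Module.Finite (ResidueField R) (ResidueField R ⊗[R] C)] :
    ∃ N : ℕ, 0 < N ∧ ∀ m, hchar f m ^ N = 1 := by
  classical
  have := finite_of_finite_fibre hf
  obtain ⟨D, s, hs⟩ := Module.Finite.exists_fin (R := R) (M := C)
  let n := D.factorial
  have hfib : ∀ (K : Type u) [Field K] [Algebra R K] (m : M), (1 : K) ⊗ₜ[R] (hchar f m ^ n - 1) = 0 := by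
    intro K _ _ m
    have h := pow_factorial_eq_one (bcDiag f K) (finrank_fibre_le s hs K) m
    rw [hchar_bcDiag, Algebra.TensorProduct.tmul_pow, one_pow] at h
    rw [TensorProduct.tmul_sub, h, Algebra.TensorProduct.one_def, sub_self]
  -- nilpotent and torsion
  have hnil : ∀ m, IsNilpotent (hchar f m ^ n - 1) := fun m => by
    rw [nilpotent_iff_mem_prime]
    intro q hq
    let κ := (q.comap (algebraMap R C)).ResidueField
    let ev : κ ⊗[R] C →ₐ[R] q.ResidueField := Algebra.TensorProduct.lift
      (Ideal.ResidueField.mapₐ (q.comap (algebraMap R C)) q (Algebra.ofId R C) rfl)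
      (IsScalarTower.toAlgHom R C q.ResidueField) fun _ _ => .all _ _
    have h2 := congrArg ev (hfib κ m)
    rw [Algebra.TensorProduct.lift_tmul, map_one, one_mul, map_zero] at h2
    exact Ideal.algebraMap_residueField_eq_zero.mp h2
  have htor : ∀ m, ∃ L : ℕ, ((n ^ L : ℕ) : C) * (hchar f m ^ n - 1) = 0 := by
    intro m
    let z := hchar f m ^ n - 1
    let J : Ideal R := LinearMap.ker (LinearMap.toSpanSingleton R C z)
    suffices h : (n : R) ∈ J.radical by
      obtain ⟨L, hL⟩ := h
      refine ⟨L, ?_⟩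
      have h2 : ((n : R) ^ L) • z = 0 := hL
      rwa [Algebra.smul_def, map_pow, map_natCast, ← Nat.cast_pow] at h2
    rw [Ideal.radical_eq_sInf, Ideal.mem_sInf]
    rintro P ⟨hJP, hP⟩
    by_contra hnP
    let Rp := Localization.AtPrime P
    have hu : IsUnit (n : Rp) := by
      rw [← map_natCast (algebraMap R Rp)]
      exact IsLocalization.map_units Rp (⟨(n : R), hnP⟩ : P.primeCompl)
    have : Module.Finite Rp (Rp ⊗[R] C) := inferInstance
    have hz : ∀ a, hchar (bcDiag f Rp) a ^ n - 1 ∈ (maximalIdeal Rp).map (algebraMap Rp (Rp ⊗[R] C)) := by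
      intro a
      refine mem_map_of_fibre_zero ((Algebra.TensorProduct.cancelBaseChange R Rp (ResidueField Rp)
        (ResidueField Rp) C).injective ?_)
      rw [map_zero, hchar_bcDiag, Algebra.TensorProduct.tmul_pow, one_pow, Algebra.TensorProduct.one_def,
        ← TensorProduct.tmul_sub, Algebra.TensorProduct.cancelBaseChange_tmul, one_smul]
      exact hfib _ a
    have h1 := pow_eq_one_of_unit (bcDiag_surjective f hf Rp) n hu hz m
    rw [hchar_bcDiag, Algebra.TensorProduct.tmul_pow, one_pow] at h1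
    have h2 : TensorProduct.mk R Rp C 1 z = 0 := by
      show (1 : Rp) ⊗ₜ[R] (hchar f m ^ n - 1) = 0
      rw [TensorProduct.tmul_sub, h1, Algebra.TensorProduct.one_def, sub_self]
    obtain ⟨t, ht⟩ := (IsLocalizedModule.eq_zero_iff P.primeCompl (TensorProduct.mk R Rp C 1)).mp h2
    exact t.2 (hJP (show (t : R) • z = 0 from ht))
  have hord : ∀ m, ∃ N : ℕ, 0 < N ∧ hchar f m ^ N = 1 := by
    intro m
    obtain ⟨Q, hQ⟩ := hnil m
    obtain ⟨L, hL⟩ := htor m
    refine ⟨n * (n ^ L * Q.factorial), Nat.mul_pos D.factorial_pos (Nat.mul_pos (pow_pos D.factorial_pos _)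
      Q.factorial_pos), ?_⟩
    rw [pow_mul]
    simpa using one_add_pow_eq_one hQ hL
  choose Nm hNm0 hNm using hord
  obtain ⟨S, hS⟩ := Group.fg_def.mp ‹Group.FG M›
  let S' := S ∪ S.image fun m => m⁻¹
  refine ⟨∏ a ∈ S', Nm a, Finset.prod_pos fun a _ => hNm0 a, fun m => ?_⟩
  have hgen : ∀ a ∈ S', hchar f a ^ (∏ b ∈ S', Nm b) = 1 := fun a ha => by
    obtain ⟨t, ht⟩ := Finset.dvd_prod_of_mem Nm ha
    rw [ht, pow_mul, hNm, one_pow]
  have hm : m ∈ Subgroup.closure (S : Set M) := hS ▸ Subgroup.mem_top m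
  induction hm using Subgroup.closure_induction'' with
  | one => rw [map_one, one_pow]
  | mem x hx => exact hgen x (Finset.mem_union_left _ hx)
  | inv_mem x hx => exact hgen _ (Finset.mem_union_right _ (Finset.mem_image_of_mem _ hx))
  | mul x y _ _ hx hy => rw [map_mul, mul_pow, hx, hy, one_mul]

/-- A group of multiplicative type over a local ring is diagonalisable over a local faithfully flat extension. -/
theorem exists_diag_local {R : Type u} [CommRing R] [IsLocalRing R] {A : Type u} [CommRing A] [HopfAlgebra R A]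
    (hft : Algebra.FiniteType R A) (hA : SGA3b.IsMultType R A) :
    ∃ (T : Type u) (_ : CommRing T) (_ : IsLocalRing T) (_ : Algebra R T), Module.FaithfullyFlat R T ∧
      IsLocalHom (algebraMap R T) ∧
      ∃ (M : Type u) (_ : CommGroup M), Group.FG M ∧ Nonempty (MonoidAlgebra T M ≃ₐc[T] T ⊗[R] A) := by
  obtain ⟨c⟩ := exists_cover hA
  obtain ⟨i, q, hq, hqm⟩ := c.surj (maximalIdeal R) (maximalIdeal.isMaximal R).isPrime
  let P := c.split i
  let T := Localization.AtPrime q
  have : Module.Flat R T := Module.Flat.trans R P.S T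
  have hmT : (maximalIdeal T).comap (algebraMap R T) = maximalIdeal R := by
    rw [IsScalarTower.algebraMap_eq R P.S T, ← Ideal.comap_comap]
    exact (congrArg (Ideal.comap (algebraMap R P.S)) Localization.AtPrime.comap_maximalIdeal).trans hqm
  have hloc : IsLocalHom (algebraMap R T) := ((IsLocalRing.local_hom_TFAE _).out 0 4).mpr hmT
  have hb : Function.Bijective P.hom.extend := by
    rw [show ⇑P.hom.extend = ⇑P.equiv from funext P.extend_eq]
    exact P.equiv.bijective
  let E : T ⊗[R] A ≃ₐc[T] MonoidAlgebra T P.M :=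
    ((mapCoeff P.S T P.M).comp P.hom).toBialgEquiv (extend_comp_mapCoeff_bijective (T := T) P.hom hb)
  have : Algebra.FiniteType T (MonoidAlgebra T P.M) :=
    Algebra.FiniteType.equiv (inferInstance : Algebra.FiniteType T (T ⊗[R] A)) (E : T ⊗[R] A ≃ₐ[T] MonoidAlgebra T P.M)
  exact ⟨T, inferInstance, inferInstance, inferInstance, Module.FaithfullyFlat.of_flat_of_isLocalHom, hloc,
    P.M, inferInstance, (MonoidAlgebra.finiteType_iff_group_fg (R := T)).mp this, ⟨E.symm⟩⟩

/-- A closed subgroup with finite closed fibre of a group of multiplicative type is contained in a torsion kernel. -/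
theorem exists_torsion_le {R : Type u} [CommRing R] [IsLocalRing R] {A : Type u} [CommRing A] [HopfAlgebra R A]
    (hft : Algebra.FiniteType R A) (hA : SGA3b.IsMultType R A) (J : Ideal A) [J.IsHopfIdeal R]
    (hs : Module.Finite (ResidueField R) (ResidueField R ⊗[R] (A ⧸ J))) :
    ∃ n : ℕ, 0 < n ∧ SGA3b.torsionIdeal R A n ≤ J := by
  obtain ⟨T, _, _, _, hffT, hloc, M, _, hM, ⟨E⟩⟩ := exists_diag_local hft hA
  let π : A →ₐc[R] A ⧸ J := Bialgebra.Quotient.mkBialgHom (R := R) J
  let p : T ⊗[R] A →ₐc[T] T ⊗[R] (A ⧸ J) := Bialgebra.TensorProduct.map (BialgHom.id T T) π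
  let f : MonoidAlgebra T M →ₐc[T] T ⊗[R] (A ⧸ J) := p.comp (E : MonoidAlgebra T M →ₐc[T] T ⊗[R] A)
  have hf : Function.Surjective f :=
    (LinearMap.lTensor_surjective T (g := (Ideal.Quotient.mkₐ R J).toLinearMap)
      Ideal.Quotient.mk_surjective).comp (EquivLike.surjective E)
  have hfibT : Module.Finite (ResidueField T) (ResidueField T ⊗[T] (T ⊗[R] (A ⧸ J))) := by
    exact Module.Finite.equiv ((AlgebraTensorModule.cancelBaseChange R (ResidueField R) (ResidueField T)
      (ResidueField T) (A ⧸ J)).trans (AlgebraTensorModule.cancelBaseChange R T (ResidueField T)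
      (ResidueField T) (A ⧸ J)).symm)
  have : Algebra.FiniteType R (A ⧸ J) := hft.of_surjective (Ideal.Quotient.mkₐ R J) Ideal.Quotient.mk_surjective
  obtain ⟨N, hN0, hN⟩ := exists_pow_eq_one hf
  refine ⟨N, hN0, Ideal.map_le_iff_le_comap.mpr fun a ha => ?_⟩
  -- the power map of the quotient is trivial
  have hpow : ∀ y, (toConv (AlgHom.id T (T ⊗[R] (A ⧸ J))) ^ N).ofConv y = algebraMap T _ (counit y) := by
    intro y
    obtain ⟨z, rfl⟩ := hf y
    induction z using MonoidAlgebra.induction_linear with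
    | zero => simp
    | add u v hu hv => simp only [map_add, hu, hv]
    | single m r =>
      rw [show MonoidAlgebra.single m r = r • MonoidAlgebra.single m (1 : T) by simp, map_smul, map_smul, map_smul,
        smul_eq_mul, map_mul, ← hchar_apply, point_pow_hchar f _ N m,
        (hchar_groupLike f m).counit_eq_one, map_one, mul_one]
      show r • hchar f m ^ N = _
      rw [hN, ← Algebra.algebraMap_eq_smul_one]
  let pre : WithConv ((A ⧸ J) →ₐ[R] T ⊗[R] (A ⧸ J)) →* WithConv (A →ₐ[R] T ⊗[R] (A ⧸ J)) :=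
    { toFun := fun g => toConv (g.ofConv.comp (π : A →ₐ[R] A ⧸ J))
      map_one' := by
        refine WithConv.ext (AlgHom.ext fun c => ?_)
        show algebraMap R (T ⊗[R] (A ⧸ J)) (counit (π c)) = algebraMap R (T ⊗[R] (A ⧸ J)) (counit c)
        rw [CoalgHomClass.counit_comp_apply]
      map_mul' := fun g g' => WithConv.ext (AlgHom.convMul_comp_bialgHom_distrib g g' π) }
  let ι : A →ₐ[R] T ⊗[R] (A ⧸ J) :=
    (Algebra.TensorProduct.includeRight : (A ⧸ J) →ₐ[R] T ⊗[R] (A ⧸ J)).comp (Ideal.Quotient.mkₐ R J)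
  have h : convMap ι (toConv (AlgHom.id R A) ^ N) =
      pre (restrictPoint T (T ⊗[R] (A ⧸ J)) (toConv (AlgHom.id T (T ⊗[R] (A ⧸ J))) ^ N)) := by
    rw [map_pow]
    exact ((map_pow (pre.comp (restrictPoint T (T ⊗[R] (A ⧸ J)))) (toConv (AlgHom.id T (T ⊗[R] (A ⧸ J)))) N).trans
      (congrArg (· ^ N) rfl)).symm
  have h1 : (1 : T) ⊗ₜ[R] (Ideal.Quotient.mk J (SGA3b.powConv R A N a)) = 0 := by
    refine (congrArg (fun g : WithConv (A →ₐ[R] T ⊗[R] (A ⧸ J)) => g.ofConv a) h).trans ?_
    show (toConv (AlgHom.id T (T ⊗[R] (A ⧸ J))) ^ N).ofConv ((1 : T) ⊗ₜ[R] π a) = 0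
    rw [hpow, TensorProduct.counit_tmul, CoalgHomClass.counit_comp_apply, show counit (R := R) a = 0 from ha,
      zero_smul, map_zero]
  show SGA3b.powConv R A N a ∈ J
  exact Ideal.Quotient.eq_zero_iff_mem.mp (Module.FaithfullyFlat.tensorProduct_mk_injective
    (A := R) (B := T) (A ⧸ J) (h1.trans (TensorProduct.tmul_zero _ _).symm))

/-- A closed subgroup with trivial closed fibre of a group of multiplicative type is trivial. -/
theorem eq_augIdeal_of_fibre_trivial {R : Type u} [CommRing R] [IsLocalRing R] {A : Type u} [CommRing A]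
    [HopfAlgebra R A] (hft : Algebra.FiniteType R A) (hA : SGA3b.IsMultType R A) (J : Ideal A) [J.IsHopfIdeal R]
    (hs : J ⊔ Ideal.map (algebraMap R A) (maximalIdeal R) =
      RingHom.ker (Bialgebra.counitAlgHom R A) ⊔ Ideal.map (algebraMap R A) (maximalIdeal R)) :
    J = RingHom.ker (Bialgebra.counitAlgHom R A) := by
  obtain ⟨T, _, _, _, hffT, hloc, M, _, hM, ⟨E⟩⟩ := exists_diag_local hft hA
  let π : A →ₐc[R] A ⧸ J := Bialgebra.Quotient.mkBialgHom (R := R) J
  let p : T ⊗[R] A →ₐc[T] T ⊗[R] (A ⧸ J) := Bialgebra.TensorProduct.map (BialgHom.id T T) π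
  let f : MonoidAlgebra T M →ₐc[T] T ⊗[R] (A ⧸ J) := p.comp (E : MonoidAlgebra T M →ₐc[T] T ⊗[R] A)
  have hf : Function.Surjective f :=
    (LinearMap.lTensor_surjective T (g := (Ideal.Quotient.mkₐ R J).toLinearMap)
      Ideal.Quotient.mk_surjective).comp (EquivLike.surjective E)
  have hJ : J ≤ RingHom.ker (Bialgebra.counitAlgHom R A) := fun a ha => by
    show counit (R := R) a = 0
    rw [← CoalgHomClass.counit_comp_apply π, show π a = 0 from Ideal.Quotient.eq_zero_iff_mem.mpr ha, map_zero]
  have hc : ∀ c : A ⧸ J, c - algebraMap R (A ⧸ J) (counit c) ∈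
      (maximalIdeal R).map (algebraMap R (A ⧸ J)) := by
    intro c
    obtain ⟨a, rfl⟩ := Ideal.Quotient.mk_surjective c
    have h1 : a - algebraMap R A (counit a) ∈ J ⊔ Ideal.map (algebraMap R A) (maximalIdeal R) := by
      rw [hs]
      refine Ideal.mem_sup_left ?_
      show Bialgebra.counitAlgHom R A (a - algebraMap R A (counit a)) = 0
      rw [map_sub, AlgHom.commutes]
      exact sub_self _
    have h2 := Ideal.mem_map_of_mem (Ideal.Quotient.mk J) h1
    rw [Ideal.map_sup, Ideal.map_quotient_self, bot_sup_eq, Ideal.map_map] at h2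
    rw [show counit (R := R) (Ideal.Quotient.mk J a) = counit (R := R) a from
      CoalgHomClass.counit_comp_apply π a]
    exact h2
  have hlT : (maximalIdeal R).map (algebraMap R T) ≤ maximalIdeal T :=
    ((IsLocalRing.local_hom_TFAE _).out 0 2).mp hloc
  have hcT : ∀ y : T ⊗[R] (A ⧸ J), y - algebraMap T _ (counit y) ∈
      (maximalIdeal T).map (algebraMap T (T ⊗[R] (A ⧸ J))) := by
    intro y
    induction y using TensorProduct.induction_on with
    | zero => simp
    | add u v hu hv => rw [map_add, map_add, add_sub_add_comm]; exact add_mem hu hv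
    | tmul t c =>
      have h1 : t ⊗ₜ[R] c - algebraMap T _ (counit (R := T) (t ⊗ₜ[R] c)) =
          (t ⊗ₜ[R] (1 : A ⧸ J)) * (Algebra.TensorProduct.includeRight : (A ⧸ J) →ₐ[R] T ⊗[R] (A ⧸ J))
            (c - algebraMap R _ (counit c)) := by
        rw [map_sub, AlgHom.commutes, mul_sub, TensorProduct.counit_tmul, Algebra.TensorProduct.includeRight_apply,
          Algebra.TensorProduct.tmul_mul_tmul, mul_one, one_mul, Algebra.smul_def, map_mul,
          IsScalarTower.algebraMap_apply R T (T ⊗[R] (A ⧸ J)), mul_comm]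
        rfl
      rw [h1]
      refine Ideal.mul_mem_left _ _ ?_
      have h2 := Ideal.mem_map_of_mem
        (Algebra.TensorProduct.includeRight : (A ⧸ J) →ₐ[R] T ⊗[R] (A ⧸ J)).toRingHom (hc c)
      rw [Ideal.map_map, AlgHom.toRingHom_eq_coe, AlgHom.comp_algebraMap,
        IsScalarTower.algebraMap_eq R T (T ⊗[R] (A ⧸ J)), ← Ideal.map_map] at h2
      exact Ideal.map_mono hlT h2
  have : Algebra.FiniteType R (A ⧸ J) := hft.of_surjective (Ideal.Quotient.mkₐ R J) Ideal.Quotient.mk_surjective
  refine le_antisymm hJ fun a ha => Ideal.Quotient.eq_zero_iff_mem.mp ?_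
  refine Module.FaithfullyFlat.tensorProduct_mk_injective (A := R) (B := T) (A ⧸ J) ?_
  show (1 : T) ⊗ₜ[R] π a = (1 : T) ⊗ₜ[R] 0
  rw [augIdeal_eq_bot hf hcT ((1 : T) ⊗ₜ[R] π a), TensorProduct.counit_tmul, CoalgHomClass.counit_comp_apply,
    show counit (R := R) a = 0 from ha, zero_smul, map_zero, TensorProduct.tmul_zero]

end Groth.Agent.MultTypeLib
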