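import Mathlib.AlgebraicGeometry.Morphisms.UnderlyingMap
import Mathlib.AlgebraicGeometry.Pullbacks
import Mathlib.AlgebraicGeometry.PullbackCarrier
import Mathlib.RingTheory.Flat.Stability
import Mathlib.RingTheory.Flat.Localization
import Mathlib.AlgebraicGeometry.AffineScheme
import Mathlib.RingTheory.Flat.Basic
import Mathlib.LinearAlgebra.TensorProduct.RightExactness

/-!
# Morphisms out of infinitesimal pushouts

If `T ⟶ M` is injective, surjective on spectra and its image contains a nilpotent ideal `I` of `M`, a morphism out of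
`Spec M` whose restriction to `Spec (M ⧸ I)` comes from a quotient of `T` factors uniquely through `Spec T`.
-/

universe u

open CategoryTheory CategoryTheory.Limits AlgebraicGeometry
open TensorProduct

namespace Groth.Agent.MultTypeLib.SqExtend

/-- The morphism of spectra of an algebra. -/
noncomputable abbrev sMap (T M : Type u) [CommRing T] [CommRing M] [Algebra T M] :
    Spec (CommRingCat.of M) ⟶ Spec (CommRingCat.of T) :=
  Spec.map (CommRingCat.ofHom (algebraMap T M))

variable {T M : Type u} [CommRing T] [CommRing M] [Algebra T M]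

/-- Morphisms out of the spectrum of a subring with the same spectrum image are determined by the bigger ring. -/
theorem hom_ext (hinj : Function.Injective (algebraMap T M)) (hsurj : Surjective (sMap T M)) {X : Scheme.{u}}
    {f₁ f₂ : Spec (CommRingCat.of T) ⟶ X} (h : sMap T M ≫ f₁ = sMap T M ≫ f₂) : f₁ = f₂ := by
  refine Scheme.hom_ext_of_forall _ _ fun q => ?_
  have hb : ∀ q', f₂ q' = f₁ q' := fun q' => by
    obtain ⟨m, rfl⟩ := (sMap T M).surjective q'
    rw [← Scheme.Hom.comp_apply, ← Scheme.Hom.comp_apply, h]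
  obtain ⟨V, hV, hqV, -⟩ := exists_isAffineOpen_mem_and_subset (show f₁ q ∈ (⊤ : X.Opens) from trivial)
  obtain ⟨_, ⟨g, rfl⟩, hqg, hgV⟩ :=
    PrimeSpectrum.isTopologicalBasis_basic_opens.exists_subset_of_mem_open (show q ∈ ((f₁ ⁻¹ᵁ V : Set _)) from hqV)
      (f₁ ⁻¹ᵁ V).2
  refine ⟨PrimeSpectrum.basicOpen g, hqg, ?_⟩
  let T' := Localization.Away g
  let c : Spec (CommRingCat.of T') ⟶ Spec (CommRingCat.of T) := sMap T T'
  suffices key : c ≫ f₁ = c ≫ f₂ by
    haveI : IsOpenImmersion c := IsOpenImmersion.of_isLocalization g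
    have hr : Set.range c = (PrimeSpectrum.basicOpen g : Set (PrimeSpectrum T)) :=
      PrimeSpectrum.localization_away_comap_range T' g
    let U : (Spec (CommRingCat.of T)).Opens := PrimeSpectrum.basicOpen g
    let e := IsOpenImmersion.isoOfRangeEq c U.ι (by rw [hr, Scheme.Opens.range_ι]; rfl)
    rw [← cancel_epi e.hom, ← Category.assoc, ← Category.assoc, IsOpenImmersion.isoOfRangeEq_hom_fac]
    exact key
  let M' := T' ⊗[T] M
  have hinj' : Function.Injective (algebraMap T' M') := by
    have h1 : Function.Injective (LinearMap.lTensor T' (Algebra.linearMap T M)) :=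
      Module.Flat.lTensor_preserves_injective_linearMap (M := T') _ hinj
    intro a b hab
    have h2 := @h1 (a ⊗ₜ 1) (b ⊗ₜ 1) (by
      simp only [LinearMap.lTensor_tmul, Algebra.linearMap_apply, map_one]
      exact hab)
    simpa using congrArg (TensorProduct.rid T T') h2
  have hcomm : sMap T' M' ≫ c = Spec.map (CommRingCat.ofHom (Algebra.TensorProduct.includeRight : M →ₐ[T] M').toRingHom) ≫
      sMap T M := by
    rw [← Spec.map_comp, ← Spec.map_comp]
    congr 1
    ext t
    exact ((Algebra.TensorProduct.includeRight : M →ₐ[T] M').commutes t).symm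
  have key' : sMap T' M' ≫ c ≫ f₁ = sMap T' M' ≫ c ≫ f₂ := by
    rw [reassoc_of% hcomm, h, ← reassoc_of% hcomm]
  have hr₁ : Set.range (c ≫ f₁) ⊆ Set.range hV.fromSpec := by
    rintro _ ⟨p, rfl⟩
    rw [hV.range_fromSpec, Scheme.Hom.comp_apply]
    exact hgV ((Set.ext_iff.mp (PrimeSpectrum.localization_away_comap_range T' g) _).mp ⟨p, rfl⟩)
  have hr₂ : Set.range (c ≫ f₂) ⊆ Set.range hV.fromSpec := by
    rintro _ ⟨p, rfl⟩
    rw [Scheme.Hom.comp_apply, hb, ← Scheme.Hom.comp_apply]
    exact hr₁ ⟨p, rfl⟩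
  let l₁ := IsOpenImmersion.lift hV.fromSpec _ hr₁
  let l₂ := IsOpenImmersion.lift hV.fromSpec _ hr₂
  suffices hl : l₁ = l₂ by
    rw [← IsOpenImmersion.lift_fac hV.fromSpec _ hr₁, ← IsOpenImmersion.lift_fac hV.fromSpec _ hr₂]
    exact congrArg (· ≫ hV.fromSpec) hl
  have hl' : sMap T' M' ≫ l₁ = sMap T' M' ≫ l₂ := by
    rw [← cancel_mono hV.fromSpec, Category.assoc, Category.assoc, IsOpenImmersion.lift_fac,
      IsOpenImmersion.lift_fac, key']
  rw [← Spec.map_preimage l₁, ← Spec.map_preimage l₂] at hl' ⊢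
  rw [← Spec.map_comp, ← Spec.map_comp] at hl'
  have hl'' := Spec.map_injective hl'
  congr 1
  ext a
  exact hinj' (congrArg (fun k => k.hom a) hl'')

/-- Base change of a spectrum surjection. -/
theorem surjective_baseChange (hsurj : Surjective (sMap T M)) (T' : Type u) [CommRing T'] [Algebra T T'] :
    Surjective (sMap T' (T' ⊗[T] M)) := by
  haveI := hsurj
  rw [show sMap T' (T' ⊗[T] M) = (pullbackSpecIso T T' M).inv ≫ pullback.fst _ _ from
    (pullbackSpecIso_inv_fst T T' M).symm]
  haveI : Surjective (pullback.fst (Spec.map (CommRingCat.ofHom (algebraMap T T'))) (sMap T M)) :=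
    MorphismProperty.pullback_fst _ _ hsurj
  infer_instance

variable {T₀ : Type u} [CommRing T₀] [Algebra T T₀] (I : Ideal M) [Algebra T₀ (M ⧸ I)] [IsScalarTower T T₀ (M ⧸ I)]

set_option maxHeartbeats 800000 in
/-- A morphism out of `Spec M` whose reduction comes from `T₀` factors through `Spec T`. -/
theorem exists_desc (hinj : Function.Injective (algebraMap T M)) (hsurj : Surjective (sMap T M))
    (hπ : Function.Surjective (algebraMap T T₀)) (hπn : ∀ t, algebraMap T T₀ t = 0 → IsNilpotent t)
    (hI : IsNilpotent I) (hIT : ∀ i ∈ I, i ∈ (algebraMap T M).range) {X : Scheme.{u}}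
    (z : Spec (CommRingCat.of M) ⟶ X) (x₀ : Spec (CommRingCat.of T₀) ⟶ X)
    (hz : sMap M (M ⧸ I) ≫ z = sMap T₀ (M ⧸ I) ≫ x₀) :
    ∃ zT : Spec (CommRingCat.of T) ⟶ X, sMap T M ≫ zT = z := by
  have hcomm : sMap M (M ⧸ I) ≫ sMap T M = sMap T₀ (M ⧸ I) ≫ sMap T T₀ := by
    rw [← Spec.map_comp, ← Spec.map_comp]
    congr 1
    ext t
    exact (IsScalarTower.algebraMap_apply T M (M ⧸ I) t).symm.trans (IsScalarTower.algebraMap_apply T T₀ (M ⧸ I) t)
  have hloc : ∀ q : PrimeSpectrum T, ∃ (f : T), f ∉ q.asIdeal ∧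
      ∃ w : Spec (CommRingCat.of (Localization.Away f)) ⟶ X,
        sMap (Localization.Away f) ((Localization.Away f) ⊗[T] M) ≫ w =
          Spec.map (CommRingCat.ofHom
            (Algebra.TensorProduct.includeRight : M →ₐ[T] (Localization.Away f) ⊗[T] M).toRingHom) ≫ z := by
    intro q
    obtain ⟨q₀, hq₀⟩ : q ∈ Set.range (PrimeSpectrum.comap (algebraMap T T₀)) := by
      rw [range_comap_of_surjective _ _ hπ]
      exact fun t ht => q.2.radical.symm ▸ (Ideal.mem_radical_iff.mpr (by
        obtain ⟨n, hn⟩ := hπn t ht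
        exact ⟨n, by rw [hn]; exact q.asIdeal.zero_mem⟩))
    obtain ⟨V, hV, hqV, -⟩ := exists_isAffineOpen_mem_and_subset (show x₀ q₀ ∈ (⊤ : X.Opens) from trivial)
    obtain ⟨_, ⟨f₀, rfl⟩, hqf, hfV⟩ :=
      PrimeSpectrum.isTopologicalBasis_basic_opens.exists_subset_of_mem_open
        (a := q₀) (u := { x : PrimeSpectrum T₀ | x₀ x ∈ V }) hqV
        (x₀ ⁻¹ᵁ V).2
    obtain ⟨f, rfl⟩ := hπ f₀
    refine ⟨f, fun hf => hqf (by rw [← hq₀] at hf; exact hf), ?_⟩
    let T' := Localization.Away f
    let M' := T' ⊗[T] M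
    let r : M →ₐ[T] M' := Algebra.TensorProduct.includeRight
    have hr : Set.range (Spec.map (CommRingCat.ofHom r.toRingHom) ≫ z) ⊆ Set.range hV.fromSpec := by
      rintro _ ⟨p, rfl⟩
      rw [hV.range_fromSpec, Scheme.Hom.comp_apply]
      let m : PrimeSpectrum M := PrimeSpectrum.comap r.toRingHom p
      have hmf : algebraMap T M f ∉ m.asIdeal := fun hm => by
        have h1 : r (algebraMap T M f) ∈ (p : PrimeSpectrum M').asIdeal := hm
        rw [r.commutes] at h1
        refine (p : PrimeSpectrum M').2.ne_top (Ideal.eq_top_of_isUnit_mem _ h1 ?_)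
        rw [IsScalarTower.algebraMap_apply T T' M']
        exact (IsLocalization.Away.algebraMap_isUnit f).map _
      obtain ⟨m', hm'⟩ : m ∈ Set.range (PrimeSpectrum.comap (algebraMap M (M ⧸ I))) := by
        rw [Ideal.Quotient.algebraMap_eq, range_comap_of_surjective _ _ Ideal.Quotient.mk_surjective, Ideal.mk_ker]
        intro i hi
        obtain ⟨n, hn⟩ := hI
        refine m.2.mem_of_pow_mem n ?_
        have h1 := Ideal.pow_mem_pow hi n
        rw [hn, Ideal.zero_eq_bot, Ideal.mem_bot] at h1
        rw [h1]; exact Ideal.zero_mem _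
      show z m ∈ V
      rw [show z m = x₀ (PrimeSpectrum.comap (algebraMap T₀ (M ⧸ I)) m') by
        rw [← hm']
        exact congrArg (fun k => k.base m') hz]
      refine hfV fun hf => hmf ?_
      rw [← hm']
      show algebraMap M (M ⧸ I) (algebraMap T M f) ∈ m'.asIdeal
      rw [← IsScalarTower.algebraMap_apply T M (M ⧸ I), IsScalarTower.algebraMap_apply T T₀ (M ⧸ I)]
      exact hf
    let l := IsOpenImmersion.lift hV.fromSpec _ hr
    let c : Γ(X, V) ⟶ CommRingCat.of M' := Spec.preimage l
    let P₀ := T' ⊗[T] T₀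
    let r₀ : T₀ →ₐ[T] P₀ := Algebra.TensorProduct.includeRight
    have hr₀ : Set.range (Spec.map (CommRingCat.ofHom r₀.toRingHom) ≫ x₀) ⊆ Set.range hV.fromSpec := by
      rintro _ ⟨p, rfl⟩
      rw [hV.range_fromSpec, Scheme.Hom.comp_apply]
      refine hfV fun hf => ?_
      have h1 : r₀ (algebraMap T T₀ f) ∈ (p : PrimeSpectrum P₀).asIdeal := hf
      rw [r₀.commutes] at h1
      refine (p : PrimeSpectrum P₀).2.ne_top (Ideal.eq_top_of_isUnit_mem _ h1 ?_)
      rw [IsScalarTower.algebraMap_apply T T' P₀]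
      exact (IsLocalization.Away.algebraMap_isUnit f).map _
    let l₀ := IsOpenImmersion.lift hV.fromSpec _ hr₀
    let χ : Γ(X, V) ⟶ CommRingCat.of P₀ := Spec.preimage l₀
    let π' : M' →ₐ[T] T' ⊗[T] (M ⧸ I) := Algebra.TensorProduct.map (AlgHom.id T T') (IsScalarTower.toAlgHom T M (M ⧸ I))
    let φ' : P₀ →ₐ[T] T' ⊗[T] (M ⧸ I) := Algebra.TensorProduct.map (AlgHom.id T T') (IsScalarTower.toAlgHom T T₀ (M ⧸ I))
    have hcχ : c ≫ CommRingCat.ofHom π'.toRingHom = χ ≫ CommRingCat.ofHom φ'.toRingHom := by
      apply Spec.map_injective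
      rw [Spec.map_comp, Spec.map_comp, Spec.map_preimage, Spec.map_preimage, ← cancel_mono hV.fromSpec,
        Category.assoc, Category.assoc, IsOpenImmersion.lift_fac, IsOpenImmersion.lift_fac, ← Spec.map_comp_assoc,
        ← Spec.map_comp_assoc]
      have e1 : CommRingCat.ofHom r.toRingHom ≫ CommRingCat.ofHom π'.toRingHom =
          CommRingCat.ofHom (algebraMap M (M ⧸ I)) ≫ CommRingCat.ofHom
            (Algebra.TensorProduct.includeRight : (M ⧸ I) →ₐ[T] T' ⊗[T] (M ⧸ I)).toRingHom := by
        ext a; rfl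
      have e2 : CommRingCat.ofHom r₀.toRingHom ≫ CommRingCat.ofHom φ'.toRingHom =
          CommRingCat.ofHom (algebraMap T₀ (M ⧸ I)) ≫ CommRingCat.ofHom
            (Algebra.TensorProduct.includeRight : (M ⧸ I) →ₐ[T] T' ⊗[T] (M ⧸ I)).toRingHom := by
        ext a; rfl
      rw [e1, e2, Spec.map_comp_assoc, Spec.map_comp_assoc]
      exact congrArg (Spec.map _ ≫ ·) hz
    have hmem : ∀ a, c.hom a ∈ (algebraMap T' M').range := fun a => by
      obtain ⟨t', ht'⟩ : ∃ t', algebraMap T' P₀ t' = χ.hom a := by
        generalize χ.hom a = w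
        induction w using TensorProduct.induction_on with
        | zero => exact ⟨0, map_zero _⟩
        | add p p' hp hp' =>
          obtain ⟨s, rfl⟩ := hp
          obtain ⟨s', rfl⟩ := hp'
          exact ⟨s + s', map_add _ _ _⟩
        | tmul s t₀ =>
          obtain ⟨t, rfl⟩ := hπ t₀
          refine ⟨t • s, ?_⟩
          rw [Algebra.TensorProduct.algebraMap_apply, Algebra.algebraMap_self, RingHom.id_apply,
            TensorProduct.smul_tmul, Algebra.algebraMap_eq_smul_one t]
      have h0 : π' (c.hom a - algebraMap T' M' t') = 0 := by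
        have e := congrArg (fun k => k.hom a) hcχ
        rw [map_sub, sub_eq_zero]
        refine e.trans ?_
        show φ' (χ.hom a) = _
        rw [← ht', Algebra.TensorProduct.algebraMap_apply, Algebra.TensorProduct.algebraMap_apply]
        show (AlgHom.id T T') _ ⊗ₜ[T] IsScalarTower.toAlgHom T T₀ (M ⧸ I) 1 =
          (AlgHom.id T T') _ ⊗ₜ[T] IsScalarTower.toAlgHom T M (M ⧸ I) 1
        rw [map_one, map_one]
      have hex : Function.Exact (LinearMap.lTensor T' ((I.restrictScalars T).subtype))
          (LinearMap.lTensor T' (IsScalarTower.toAlgHom T M (M ⧸ I)).toLinearMap) :=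
        lTensor_exact T' (fun y => ⟨fun hy => ⟨⟨y, Ideal.Quotient.eq_zero_iff_mem.mp hy⟩, rfl⟩,
          fun ⟨y', hy'⟩ => hy' ▸ Ideal.Quotient.eq_zero_iff_mem.mpr y'.2⟩) Ideal.Quotient.mk_surjective
      obtain ⟨k, hk⟩ := (hex (c.hom a - algebraMap T' M' t')).mp h0
      have hk' : ∀ k, LinearMap.lTensor T' ((I.restrictScalars T).subtype) k ∈ (algebraMap T' M').range := by
        intro k
        induction k using TensorProduct.induction_on with
        | zero => rw [map_zero]; exact zero_mem _
        | add p p' hp hp' => rw [map_add]; exact add_mem hp hp'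
        | tmul s i =>
          obtain ⟨t, ht⟩ := hIT i.1 i.2
          refine ⟨t • s, ?_⟩
          rw [Algebra.TensorProduct.algebraMap_apply, Algebra.algebraMap_self, RingHom.id_apply, TensorProduct.smul_tmul,
            ← Algebra.algebraMap_eq_smul_one, ht]
          rfl
      have := add_mem (hk ▸ hk' k : c.hom a - algebraMap T' M' t' ∈ (algebraMap T' M').range) ⟨t', rfl⟩
      rwa [sub_add_cancel] at this
    have hinj' : Function.Injective (algebraMap T' M') := by
      intro a b hab
      have h1 : Function.Injective (LinearMap.lTensor T' (Algebra.linearMap T M)) :=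
        Module.Flat.lTensor_preserves_injective_linearMap (M := T') _ hinj
      have h2 := @h1 (a ⊗ₜ 1) (b ⊗ₜ 1) (by
        simp only [LinearMap.lTensor_tmul, Algebra.linearMap_apply, map_one]
        exact hab)
      simpa using congrArg (TensorProduct.rid T T') h2
    let eR : T' ≃+* (algebraMap T' M').range :=
      RingEquiv.ofBijective (algebraMap T' M').rangeRestrict
        ⟨fun a b hab => hinj' (congrArg Subtype.val hab), RingHom.rangeRestrict_surjective _⟩
    let d : Γ(X, V) ⟶ CommRingCat.of T' :=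
      CommRingCat.ofHom (eR.symm.toRingHom.comp (c.hom.codRestrict _ hmem))
    have hd : d ≫ CommRingCat.ofHom (algebraMap T' M') = c := by
      ext a
      exact congrArg Subtype.val (eR.apply_symm_apply ⟨c.hom a, hmem a⟩)
    refine ⟨Spec.map d ≫ hV.fromSpec, ?_⟩
    rw [← Category.assoc, ← Spec.map_comp, hd, Spec.map_preimage, IsOpenImmersion.lift_fac]
  choose f hf w hw using hloc
  have hspan : Ideal.span (Set.range f) = ⊤ := by
    by_contra hne
    obtain ⟨m, hm, hle⟩ := Ideal.exists_le_maximal _ hne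
    exact hf ⟨m, hm.isPrime⟩ (hle (Ideal.subset_span ⟨⟨m, hm.isPrime⟩, rfl⟩))
  let 𝒰 := (Scheme.affineOpenCoverOfSpanRangeEqTop (R := CommRingCat.of T) f hspan).openCover
  have hincl : ∀ (q : PrimeSpectrum T) (N : Type u) [CommRing N] [Algebra T N]
      (k : Localization.Away (f q) →ₐ[T] N),
      sMap N (N ⊗[T] M) ≫ Spec.map (CommRingCat.ofHom k.toRingHom) ≫ w q =
        Spec.map (CommRingCat.ofHom (Algebra.TensorProduct.includeRight : M →ₐ[T] N ⊗[T] M).toRingHom) ≫ z := by
    intro q N _ _ k
    have e1 : CommRingCat.ofHom k.toRingHom ≫ CommRingCat.ofHom (algebraMap N (N ⊗[T] M)) =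
        CommRingCat.ofHom (algebraMap (Localization.Away (f q)) ((Localization.Away (f q)) ⊗[T] M)) ≫
          CommRingCat.ofHom (Algebra.TensorProduct.map k (AlgHom.id T M)).toRingHom := by
      ext s; simp [Algebra.TensorProduct.algebraMap_apply]
    have e2 : CommRingCat.ofHom (Algebra.TensorProduct.includeRight : M →ₐ[T] (Localization.Away (f q)) ⊗[T] M).toRingHom ≫
          CommRingCat.ofHom (Algebra.TensorProduct.map k (AlgHom.id T M)).toRingHom =
        CommRingCat.ofHom (Algebra.TensorProduct.includeRight : M →ₐ[T] N ⊗[T] M).toRingHom := by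
      ext s; simp
    rw [← Spec.map_comp_assoc, e1, Spec.map_comp_assoc, hw, ← Spec.map_comp_assoc, e2]
  refine ⟨𝒰.glueMorphisms (fun q => w q) fun q q' => ?_, ?_⟩
  · let N := Localization.Away (f q) ⊗[T] Localization.Away (f q')
    haveI : Module.Flat T N := Module.Flat.trans T (Localization.Away (f q)) N
    show pullback.fst (sMap T (Localization.Away (f q))) (sMap T (Localization.Away (f q'))) ≫ w q =
      pullback.snd (sMap T (Localization.Away (f q))) (sMap T (Localization.Away (f q'))) ≫ w q'
    rw [← cancel_epi (pullbackSpecIso T (Localization.Away (f q)) (Localization.Away (f q'))).inv,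
      pullbackSpecIso_inv_fst_assoc, pullbackSpecIso_inv_snd_assoc]
    refine hom_ext (T := N) (M := N ⊗[T] M) ?_ (surjective_baseChange hsurj N) ?_
    · intro a b hab
      have h1 : Function.Injective (LinearMap.lTensor N (Algebra.linearMap T M)) :=
        Module.Flat.lTensor_preserves_injective_linearMap (M := N) _ hinj
      have h2 := @h1 (a ⊗ₜ 1) (b ⊗ₜ 1) (by
        simp only [LinearMap.lTensor_tmul, Algebra.linearMap_apply, map_one]
        exact hab)
      simpa using congrArg (TensorProduct.rid T N) h2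
    · exact (hincl q N Algebra.TensorProduct.includeLeft).trans
        (hincl q' N Algebra.TensorProduct.includeRight).symm
  · refine Scheme.hom_ext_of_forall _ _ fun m => ?_
    let q : PrimeSpectrum T := PrimeSpectrum.comap (algebraMap T M) m
    let T' := Localization.Away (f q)
    let c : Spec (CommRingCat.of T') ⟶ Spec (CommRingCat.of T) := sMap T T'
    haveI : IsOpenImmersion c := IsOpenImmersion.of_isLocalization (f q)
    let i : pullback c (sMap T M) ⟶ Spec (CommRingCat.of M) := pullback.snd _ _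
    refine ⟨i.opensRange, ?_, ?_⟩
    · rw [Scheme.Hom.opensRange_pullbackSnd]
      show q ∈ Set.range c
      rw [show Set.range c = (PrimeSpectrum.basicOpen (f q) : Set (PrimeSpectrum T)) from
        PrimeSpectrum.localization_away_comap_range T' (f q)]
      exact hf q
    · generalize hG : 𝒰.glueMorphisms _ _ = G
      have hc : c ≫ G = w q := by
        rw [← hG]
        exact 𝒰.ι_glueMorphisms _ _ q
      have key : (pullbackSpecIso T T' M).inv ≫ i ≫ sMap T M ≫ G = (pullbackSpecIso T T' M).inv ≫ i ≫ z := by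
        simp only [i]
        rw [← pullback.condition_assoc, hc, pullbackSpecIso_inv_fst_assoc, pullbackSpecIso_inv_snd_assoc]
        exact hw q
      rw [cancel_epi] at key
      rw [← cancel_epi i.isoOpensRange.hom, Scheme.Hom.isoOpensRange_hom_ι_assoc,
        Scheme.Hom.isoOpensRange_hom_ι_assoc]
      exact key

end Groth.Agent.MultTypeLib.SqExtend
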