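import Groth.Agent.MultTypeLib.FixedLift
import Groth.Agent.MultTypeLib.SqExtend

/-!
# Fixed lifts in arbitrary schemes

The orbit of a lift `y` of a fixed point factors through the subring `B + J A` of `A`, on which the invariant mean is a
homomorphism of algebras; the average is the composite. No hypothesis on the scheme acted upon is needed.
-/

universe u

open CategoryTheory CategoryTheory.Limits MonoidalCategory CartesianMonoidalCategory MonObj AlgebraicGeometry
open TensorProduct WithConv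

noncomputable section

namespace Groth.Agent.MultTypeLib.FixedLiftGlobal

open GrpSchLib.AffineHopf FixedLift

section Ring

variable {B M : Type u} [CommRing B] [CommRing M] [Algebra B M]

/-- The subalgebra `B + I`, for an augmentation `ε` and an ideal `I`. -/
def sub (ε : M →ₐ[B] B) (I : Ideal M) : Subalgebra B M where
  carrier := {a | a - algebraMap B M (ε a) ∈ I}
  mul_mem' := fun {a b} ha hb => by
    show a * b - algebraMap B M (ε (a * b)) ∈ I
    have e : a * b - algebraMap B M (ε (a * b)) =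
        (a - algebraMap B M (ε a)) * b + algebraMap B M (ε a) * (b - algebraMap B M (ε b)) := by
      rw [map_mul, map_mul]; ring
    rw [e]
    exact add_mem (Ideal.mul_mem_right _ _ ha) (Ideal.mul_mem_left _ _ hb)
  add_mem' := fun {a b} ha hb => by
    show a + b - algebraMap B M (ε (a + b)) ∈ I
    rw [map_add, map_add, add_sub_add_comm]
    exact add_mem ha hb
  algebraMap_mem' := fun b => by
    show algebraMap B M b - algebraMap B M (ε (algebraMap B M b)) ∈ I
    rw [AlgHom.commutes]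
    simp

theorem mem_sub {ε : M →ₐ[B] B} {I : Ideal M} {a : M} : a ∈ sub ε I ↔ a - algebraMap B M (ε a) ∈ I := Iff.rfl

/-- An augmented ideal thickening: a nilpotent ideal containing `J`, augmented into `J`. -/
structure Thick (J : Ideal B) (ε : M →ₐ[B] B) (I : Ideal M) : Prop where
  nil : ∀ p ∈ I, ∀ q ∈ I, p * q = 0
  base : J.map (algebraMap B M) ≤ I
  aug : ∀ p ∈ I, ε p ∈ J

variable {J : Ideal B} {ε : M →ₐ[B] B} {I : Ideal M}

theorem Thick.mem_sub_of (h : Thick J ε I) {a : M} (b : B) (ha : a - algebraMap B M b ∈ I) : a ∈ sub ε I := by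
  rw [mem_sub]
  have h1 : algebraMap B M (ε (a - algebraMap B M b)) ∈ I := h.base (Ideal.mem_map_of_mem _ (h.aug _ ha))
  have e : a - algebraMap B M (ε a) = (a - algebraMap B M b) - algebraMap B M (ε (a - algebraMap B M b)) := by
    rw [map_sub ε, AlgHom.commutes, map_sub]
    show _ = _ - (_ - algebraMap B M b)
    ring
  rw [e]
  exact sub_mem ha h1

theorem Thick.mem_of_aug (h : Thick J ε I) (p : sub ε I) (hp : ε p ∈ J) : (p : M) ∈ I := by
  have h1 := add_mem (mem_sub.mp p.2) (h.base (Ideal.mem_map_of_mem _ hp))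
  rwa [sub_add_cancel] at h1

/-- A unital linear map respecting square zero ideals is multiplicative on `B + I`. -/
theorem Thick.exists_algHom (h : Thick J ε I) {N : Type u} [CommRing N] [Algebra B N] (L : M →ₗ[B] N) (hL : L 1 = 1)
    (I' : Ideal N) (hI' : ∀ p ∈ I', ∀ q ∈ I', p * q = 0) (hLI : ∀ p ∈ I, L p ∈ I') :
    ∃ φ : sub ε I →ₐ[B] N, ∀ p, φ p = L p := by
  have hb : ∀ b : B, L (algebraMap B M b) = algebraMap B N b := fun b => by
    rw [Algebra.algebraMap_eq_smul_one, map_smul, hL, Algebra.algebraMap_eq_smul_one]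
  refine ⟨{ toFun := fun p => L p, map_one' := hL, map_zero' := map_zero L,
            map_add' := fun p q => map_add L (p : M) q, commutes' := hb, map_mul' := fun p q => ?_ }, fun p => rfl⟩
  have hp := mem_sub.mp p.2
  have hq := mem_sub.mp q.2
  have e : (p : M) * q = algebraMap B M (ε p * ε q) + ε p • ((q : M) - algebraMap B M (ε q)) +
      ε q • ((p : M) - algebraMap B M (ε p)) := by
    rw [Algebra.smul_def, Algebra.smul_def, map_mul]
    linear_combination h.nil _ hp _ hq
  show L ((p * q : sub ε I) : M) = L p * L q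
  have ep : L p = algebraMap B N (ε p) + L ((p : M) - algebraMap B M (ε p)) := by rw [map_sub, hb]; ring
  have eq' : L q = algebraMap B N (ε q) + L ((q : M) - algebraMap B M (ε q)) := by rw [map_sub, hb]; ring
  rw [MulMemClass.coe_mul, e, map_add, map_add, hb, map_smul, map_smul, Algebra.smul_def, Algebra.smul_def, map_mul,
    ep, eq']
  linear_combination -(hI' _ (hLI _ hp) _ (hLI _ hq))

end Ring

variable {S : Scheme.{u}} {B : Type u} [CommRing B] (t : Spec (CommRingCat.of B) ⟶ S) {X : Over S}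
variable {M : Type u} [CommRing M] [Algebra B M] {J : Ideal B} {ε : M →ₐ[B] B} {I : Ideal M}

theorem surjective_val (h : Thick J ε I) : Surjective (SqExtend.sMap (sub ε I) M) := by
  refine ⟨fun q => ?_⟩
  have hker : ∀ p : sub ε I, ε p ∈ J → p ∈ (q : PrimeSpectrum (sub ε I)).asIdeal := fun p hp => by
    refine (q : PrimeSpectrum (sub ε I)).2.mem_of_pow_mem 2 ?_
    have h0 : p ^ 2 = 0 := Subtype.ext (by
      rw [SubmonoidClass.coe_pow, pow_two]
      exact h.nil _ (h.mem_of_aug p hp) _ (h.mem_of_aug p hp))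
    rw [h0]
    exact Ideal.zero_mem _
  let π : sub ε I →+* B ⧸ J := (Ideal.Quotient.mk J).comp (ε.toRingHom.comp (sub ε I).val.toRingHom)
  have hπ : Function.Surjective π := fun c => by
    obtain ⟨b, rfl⟩ := Ideal.Quotient.mk_surjective c
    exact ⟨algebraMap B (sub ε I) b, congrArg (Ideal.Quotient.mk J) (ε.commutes b)⟩
  obtain ⟨q₀, hq₀⟩ : (q : PrimeSpectrum (sub ε I)) ∈ Set.range (PrimeSpectrum.comap π) := by
    rw [range_comap_of_surjective _ _ hπ]
    exact fun p hp => hker p (Ideal.Quotient.eq_zero_iff_mem.mp hp)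
  exact ⟨PrimeSpectrum.comap ((Ideal.Quotient.mk J).comp ε.toRingHom) q₀, hq₀⟩

/-- Points over `B + I` are determined over `M`. -/
theorem pt_ext (h : Thick J ε I) {f₁ f₂ : OT t (sub ε I) ⟶ X}
    (he : OTm t (sub ε I).val ≫ f₁ = OTm t (sub ε I).val ≫ f₂) : f₁ = f₂ :=
  Over.OverMorphism.ext (SqExtend.hom_ext Subtype.val_injective (surjective_val h)
    (congrArg (fun k => CommaMorphism.left k) he))

/-- The reduction `B + I ⟶ B ⧸ J`. -/
def red (J : Ideal B) (ε : M →ₐ[B] B) (I : Ideal M) : sub ε I →ₐ[B] B ⧸ J :=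
  (Ideal.Quotient.mkₐ B J).comp (ε.comp (sub ε I).val)

/-- The reduction modulo the ideal of a thickening. -/
def Thick.incl (h : Thick J ε I) : B ⧸ J →ₐ[B] M ⧸ I :=
  Ideal.Quotient.liftₐ J (Algebra.ofId B (M ⧸ I)) fun b hb => by
    show algebraMap B (M ⧸ I) b = 0
    rw [IsScalarTower.algebraMap_apply B M (M ⧸ I), Ideal.Quotient.algebraMap_eq, Ideal.Quotient.eq_zero_iff_mem]
    exact h.base (Ideal.mem_map_of_mem _ hb)

theorem Thick.incl_red (h : Thick J ε I) :
    h.incl.comp (red J ε I) = (Ideal.Quotient.mkₐ B I).comp (sub ε I).val :=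
  AlgHom.ext fun p => ((Ideal.Quotient.eq.mpr (mem_sub.mp p.2)).trans
    (show Ideal.Quotient.mk I (algebraMap B M (ε p)) = h.incl (red J ε I p) from rfl)).symm

/-- A point over `M` with constant reduction comes from `B + I`. -/
theorem exists_pt (h : Thick J ε I) (z : OT t M ⟶ X) (x₀ : OT t (B ⧸ J) ⟶ X)
    (hz : OTm t (Ideal.Quotient.mkₐ B I) ≫ z = OTm t h.incl ≫ x₀) :
    ∃ zT : OT t (sub ε I) ⟶ X, OTm t (sub ε I).val ≫ zT = z ∧ OTm t (red J ε I) ≫ zT = x₀ := by
  letI : Algebra (sub ε I) (B ⧸ J) := (red J ε I).toRingHom.toAlgebra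
  letI : Algebra (B ⧸ J) (M ⧸ I) := h.incl.toRingHom.toAlgebra
  haveI : IsScalarTower (sub ε I) (B ⧸ J) (M ⧸ I) := IsScalarTower.of_algebraMap_eq fun p => by
    rw [IsScalarTower.algebraMap_apply (sub ε I) M (M ⧸ I)]
    exact (DFunLike.congr_fun h.incl_red p).symm
  obtain ⟨zT, hzT⟩ := SqExtend.exists_desc (T := sub ε I) (M := M) (T₀ := B ⧸ J) I Subtype.val_injective
    (surjective_val h)
    (fun c => by
      obtain ⟨b, rfl⟩ := Ideal.Quotient.mk_surjective c
      exact ⟨algebraMap B (sub ε I) b, congrArg (Ideal.Quotient.mk J) (ε.commutes b)⟩)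
    (fun p hp => ⟨2, Subtype.ext (by
      rw [SubmonoidClass.coe_pow, pow_two]
      have hp' := h.mem_of_aug p (Ideal.Quotient.eq_zero_iff_mem.mp hp)
      exact h.nil _ hp' _ hp')⟩)
    ⟨2, by
      rw [pow_two, Ideal.zero_eq_bot, eq_bot_iff, Ideal.mul_le]
      exact fun p hp q hq => Ideal.mem_bot.mpr (h.nil p hp q hq)⟩
    (fun i hi => ⟨⟨i, h.mem_sub_of 0 (by simpa using hi)⟩, rfl⟩)
    z.left x₀.left (congrArg (fun k => CommaMorphism.left k) hz)
  have hw : zT ≫ X.hom = (OT t (sub ε I)).hom := by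
    apply SqExtend.hom_ext (T := sub ε I) (M := M) Subtype.val_injective (surjective_val h)
    rw [← Category.assoc, hzT]
    exact (Over.w z).trans (Over.w (OTm t (sub ε I).val)).symm
  let zT' : OT t (sub ε I) ⟶ X := Over.homMk zT hw
  have hz' : OTm t (sub ε I).val ≫ zT' = z := Over.OverMorphism.ext hzT
  refine ⟨zT', hz', ?_⟩
  let εb : M ⧸ I →ₐ[B] B ⧸ J := Ideal.Quotient.liftₐ I ((Ideal.Quotient.mkₐ B J).comp ε) fun p hp =>
    Ideal.Quotient.eq_zero_iff_mem.mpr (h.aug p hp)
  have h1 : εb.comp h.incl = AlgHom.id B (B ⧸ J) := Ideal.Quotient.algHom_ext _ (Subsingleton.elim _ _)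
  rw [show red J ε I = (εb.comp (Ideal.Quotient.mkₐ B I)).comp (sub ε I).val from rfl, ← OTm_comp, Category.assoc,
    hz', ← OTm_comp, Category.assoc, hz, ← Category.assoc, OTm_comp, h1]
  simp [OTm, spMap_id]

variable {G : Over S} [GrpObj G] (a : AlgGrp.Action G X)
variable {A : Type u} [CommRing A] [HopfAlgebra B A] (gA : OT t A ⟶ G)

set_option maxHeartbeats 1600000 in
/-- A lift of a point fixed modulo a square zero ideal can be changed into a fixed one. -/
theorem exists_fixed_global (mn : Mean B A)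
    (hgA : OTm t (Bialgebra.comulAlgHom B A) ≫ gA =
      (OTm t Algebra.TensorProduct.includeLeft ≫ gA) * (OTm t Algebra.TensorProduct.includeRight ≫ gA))
    (huniv : ∀ (T' : Over S) (q : T' ⟶ OT t B) (g : T' ⟶ G),
      ∃ q' : T' ⟶ OT t A, q' ≫ OTm t (Algebra.ofId B A) = q ∧ q' ≫ gA = g)
    (J : Ideal B) (hJ : J ^ 2 = ⊥) (y : OT t B ⟶ X)
    (h0 : FixPt a (OTm t (Ideal.Quotient.mkₐ B J) ≫ y)) :
    ∃ x : OT t B ⟶ X, OTm t (Ideal.Quotient.mkₐ B J) ≫ x = OTm t (Ideal.Quotient.mkₐ B J) ≫ y ∧ FixPt a x := by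
  let x₀ := OTm t (Ideal.Quotient.mkₐ B J) ≫ y
  have hsq : ∀ (N : Type u) [CommRing N] [Algebra B N], ∀ p ∈ J.map (algebraMap B N), ∀ q ∈ J.map (algebraMap B N),
      p * q = 0 := by
    intro N _ _ p hp q hq
    have h := Ideal.mul_mem_mul hp hq
    rwa [← Ideal.map_mul, ← pow_two, hJ, Ideal.map_bot, Ideal.mem_bot] at h
  have hmap : ∀ {N N' : Type u} [CommRing N] [Algebra B N] [CommRing N'] [Algebra B N'] (f : N →ₐ[B] N'),
      ∀ p ∈ J.map (algebraMap B N), f p ∈ J.map (algebraMap B N') := by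
    intro N N' _ _ _ _ f p hp
    have h := Ideal.mem_map_of_mem f.toRingHom hp
    rw [Ideal.map_map] at h
    convert h using 2
    · exact f.comp_algebraMap.symm
    · rfl
  have hlin : ∀ {N N' : Type u} [CommRing N] [Algebra B N] [CommRing N'] [Algebra B N'] (L : N →ₗ[B] N'),
      ∀ p ∈ J.map (algebraMap B N), L p ∈ J.map (algebraMap B N') := by
    intro N N' _ _ _ _ L p hp
    have h1 : p ∈ (J • ⊤ : Submodule B N) := by
      rw [Ideal.smul_top_eq_map]; exact hp
    have h2 : L p ∈ (J • ⊤ : Submodule B N') := by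
      have := Submodule.mem_map_of_mem (f := L) h1
      rw [Submodule.map_smul''] at this
      exact Submodule.smul_mono le_rfl le_top this
    rw [Ideal.smul_top_eq_map] at h2
    exact h2
  have hsub : ∀ {N : Type u} [CommRing N] [Algebra B N] (η' : N →ₐ[B] B), Thick J η' (J.map (algebraMap B N)) :=
    fun {N} _ _ η' => ⟨hsq N, le_rfl, fun p hp => by
      have h := hmap η' p hp
      rwa [Algebra.algebraMap_self, Ideal.map_id] at h⟩
  let εA : A →ₐ[B] B := Bialgebra.counitAlgHom B A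
  let JA : Ideal A := J.map (algebraMap B A)
  have hA : Thick J εA JA := hsub εA
  let T := sub εA JA
  let π : T →ₐ[B] B ⧸ J := red J εA JA
  let ofA : B →ₐ[B] A := Algebra.ofId B A
  let z : OT t A ⟶ X := CartesianMonoidalCategory.lift gA (OTm t ofA ≫ y) ≫ a.act
  obtain ⟨zT, hzT, hzπ⟩ := exists_pt t hA z x₀ (by
    have h := h0 _ (OTm t hA.incl) (OTm t (Ideal.Quotient.mkₐ B JA) ≫ gA)
    refine Eq.trans ?_ h
    show OTm t (Ideal.Quotient.mkₐ B JA) ≫ CartesianMonoidalCategory.lift gA (OTm t ofA ≫ y) ≫ a.act = _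
    rw [← Category.assoc, comp_lift, ← Category.assoc (OTm t _) (OTm t ofA), OTm_comp,
      ← Category.assoc (OTm t hA.incl), OTm_comp,
      Subsingleton.elim (hA.incl.comp (Ideal.Quotient.mkₐ B J)) ((Ideal.Quotient.mkₐ B JA).comp ofA)])
  let iL : A →ₐ[B] A ⊗[B] T := Algebra.TensorProduct.includeLeft
  let iR : T →ₐ[B] A ⊗[B] T := Algebra.TensorProduct.includeRight
  let ε₁ : A ⊗[B] T →ₐ[B] B := Algebra.TensorProduct.lift εA (εA.comp T.val) fun _ _ => .all _ _
  let I₁ : Ideal (A ⊗[B] T) := (RingHom.ker π).map iR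
  have hI₁ : Thick J ε₁ I₁ := by
    refine ⟨fun p hp q hq => ?_, ?_, fun p hp => ?_⟩
    · have h : (RingHom.ker π) * (RingHom.ker π) = ⊥ := by
        rw [eq_bot_iff, Ideal.mul_le]
        intro p hp q hq
        rw [Ideal.mem_bot]
        exact Subtype.ext (hA.nil _ (hA.mem_of_aug p (Ideal.Quotient.eq_zero_iff_mem.mp hp)) _
          (hA.mem_of_aug q (Ideal.Quotient.eq_zero_iff_mem.mp hq)))
      have h' := Ideal.mul_mem_mul hp hq
      rwa [← Ideal.map_mul, h, Ideal.map_bot, Ideal.mem_bot] at h'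
    · rw [Ideal.map_le_iff_le_comap]
      intro b hb
      rw [Ideal.mem_comap, ← iR.commutes]
      refine Ideal.mem_map_of_mem iR ?_
      rw [RingHom.mem_ker, AlgHom.commutes]
      exact Ideal.Quotient.eq_zero_iff_mem.mpr hb
    · have h := Ideal.mem_map_of_mem ε₁ hp
      rw [Ideal.map_mapₐ] at h
      refine Ideal.map_le_iff_le_comap.mpr (fun p hp => ?_) h
      show ε₁ (iR p) ∈ J
      simp only [ε₁, iR, Algebra.TensorProduct.includeRight_apply, Algebra.TensorProduct.lift_tmul, map_one,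
        _root_.one_mul, AlgHom.comp_apply]
      exact Ideal.Quotient.eq_zero_iff_mem.mp hp
  let z₁ : OT t (A ⊗[B] T) ⟶ X := CartesianMonoidalCategory.lift (OTm t iL ≫ gA) (OTm t iR ≫ zT) ≫ a.act
  let π₁ : A ⊗[B] T →ₐ[B] (A ⊗[B] T) ⧸ I₁ := Ideal.Quotient.mkₐ B I₁
  obtain ⟨zT₁, hzT₁, -⟩ := exists_pt t hI₁ z₁ x₀ (by
    have e : π₁.comp iR = hI₁.incl.comp π := by
      refine AlgHom.ext fun p => ?_
      have hp : p - algebraMap B T (εA p) ∈ RingHom.ker π := by
        rw [RingHom.mem_ker, map_sub, AlgHom.commutes]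
        exact sub_self _
      have := Ideal.Quotient.eq.mpr (show iR p - iR (algebraMap B T (εA p)) ∈ I₁ by
        rw [← map_sub]; exact Ideal.mem_map_of_mem iR hp)
      rw [iR.commutes] at this
      exact this
    have h := h0 _ (OTm t hI₁.incl)
      (OTm t (T := A ⊗[B] T) (T' := (A ⊗[B] T) ⧸ I₁) π₁ ≫ OTm t iL ≫ gA)
    refine Eq.trans ?_ h
    show OTm t (T := A ⊗[B] T) (T' := (A ⊗[B] T) ⧸ I₁) π₁ ≫ z₁ = _
    rw [← Category.assoc, comp_lift, ← Category.assoc (OTm t _) (OTm t iR), OTm_comp, e, ← OTm_comp, Category.assoc,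
      hzπ])
  let ε₂ : A ⊗[B] A →ₐ[B] B := Algebra.TensorProduct.lift εA εA fun _ _ => .all _ _
  let J₂ : Ideal (A ⊗[B] A) := J.map (algebraMap B (A ⊗[B] A))
  have h₂ : Thick J ε₂ J₂ := hsub ε₂
  let h : A ⊗[B] T →ₐ[B] A ⊗[B] A := Algebra.TensorProduct.map (AlgHom.id B A) T.val
  have hhI : ∀ p ∈ I₁, h p ∈ J₂ := fun p hp => by
    have h' := Ideal.mem_map_of_mem h hp
    rw [Ideal.map_mapₐ] at h'
    refine Ideal.map_le_iff_le_comap.mpr (fun p hp => ?_) h'
    show h (iR p) ∈ J₂
    rw [show h (iR p) = (Algebra.TensorProduct.includeRight : A →ₐ[B] A ⊗[B] A) (T.val p) by simp [h, iR]]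
    exact hmap _ _ (hA.mem_of_aug p (Ideal.Quotient.eq_zero_iff_mem.mp hp))
  let T₁ := sub ε₁ I₁
  let T₂ := sub ε₂ J₂
  let hT : T₁ →ₐ[B] T₂ := (h.comp T₁.val).codRestrict T₂ fun p => h₂.mem_sub_of (ε₁ p) (by
    rw [AlgHom.comp_apply, ← h.commutes, ← map_sub]
    exact hhI _ (mem_sub.mp p.2))
  let Δ : A →ₐ[B] A ⊗[B] A := Bialgebra.comulAlgHom B A
  let ΔT : T →ₐ[B] T₂ := (Δ.comp T.val).codRestrict T₂ fun p => h₂.mem_sub_of (εA p) (by
    rw [AlgHom.comp_apply, ← Δ.commutes, ← map_sub]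
    exact hmap Δ _ (mem_sub.mp p.2))
  have hcoc : OTm t ΔT ≫ zT = OTm t hT ≫ zT₁ := by
    apply pt_ext t h₂
    rw [← Category.assoc, ← Category.assoc, OTm_comp, OTm_comp,
      show T₂.val.comp ΔT = Δ.comp T.val from AlgHom.ext fun p => rfl,
      show T₂.val.comp hT = h.comp T₁.val from AlgHom.ext fun p => rfl,
      ← OTm_comp, ← OTm_comp, Category.assoc, Category.assoc, hzT, hzT₁]
    show OTm t Δ ≫ CartesianMonoidalCategory.lift gA (OTm t ofA ≫ y) ≫ a.act =
      OTm t h ≫ CartesianMonoidalCategory.lift _ _ ≫ a.act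
    have hL : h.comp iL = (Algebra.TensorProduct.includeLeft : A →ₐ[B] A ⊗[B] A) := AlgHom.ext fun p => by
      simp [h, iL]
    have hR : h.comp iR = (Algebra.TensorProduct.includeRight : A →ₐ[B] A ⊗[B] A).comp T.val :=
      AlgHom.ext fun p => by simp [h, iR]
    rw [← Category.assoc, comp_lift, hgA, ← GrpSchLib.act_mul, ← Category.assoc (OTm t h), comp_lift,
      ← Category.assoc (OTm t h) (OTm t iL), OTm_comp, hL, ← Category.assoc (OTm t h) (OTm t iR), OTm_comp, hR]
    congr 2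
    rw [← OTm_comp, Category.assoc, hzT]
    show _ = OTm t (T := A) (T' := A ⊗[B] A) Algebra.TensorProduct.includeRight ≫
      CartesianMonoidalCategory.lift gA (OTm t ofA ≫ y) ≫ a.act
    simp only [← Category.assoc, comp_lift, OTm_comp]
    rw [
      Subsingleton.elim (AlgHom.comp (Algebra.TensorProduct.includeRight : A →ₐ[B] A ⊗[B] A) ofA) (Δ.comp ofA)]
  obtain ⟨μT, hμT⟩ := hA.exists_algHom mn.«μ» mn.map_one' J
    (fun p hp q hq => by
      have h := Ideal.mul_mem_mul hp hq
      rwa [← pow_two, hJ, Ideal.mem_bot] at h)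
    (fun p hp => by
      have h := hlin mn.«μ» p hp
      rwa [Algebra.algebraMap_self, Ideal.map_id] at h)
  obtain ⟨L₂, hL₂⟩ := h₂.exists_algHom mn.L mn.L_one JA (hsq A) (fun p hp => hlin mn.L p hp)
  refine ⟨OTm t μT ≫ zT, ?_, fun T' p g => ?_⟩
  · rw [← Category.assoc, OTm_comp]
    refine Eq.trans ?_ hzπ
    congr 2
    refine AlgHom.ext fun p => ?_
    show Ideal.Quotient.mk J (μT p) = Ideal.Quotient.mk J (εA p)
    rw [hμT, Ideal.Quotient.eq]
    have h := hlin mn.«μ» _ (mem_sub.mp p.2)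
    rw [map_sub, Algebra.algebraMap_self, Ideal.map_id, Algebra.algebraMap_eq_smul_one, map_smul, mn.map_one',
      smul_eq_mul, _root_.mul_one] at h
    exact h
  · obtain ⟨p', hp', hg⟩ := huniv T' p g
    let hx : A ⊗[B] T →ₐ[B] A :=
      Algebra.TensorProduct.lift (AlgHom.id B A) (ofA.comp μT) fun _ _ => .all _ _
    have hLx : ∀ w, mn.L (h w) = hx w := fun w => by
      induction w using TensorProduct.induction_on with
      | zero => simp
      | add p p' hp hp' => simp only [map_add, hp, hp']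
      | tmul p c =>
        simp only [h, hx, Algebra.TensorProduct.map_tmul, Algebra.TensorProduct.lift_tmul, AlgHom.id_apply, mn.L_tmul,
          AlgHom.comp_apply, hμT]
        rw [Algebra.smul_def, mul_comm]
        rfl
    have e1 : hx.comp T₁.val = L₂.comp hT := AlgHom.ext fun w => by
      rw [AlgHom.comp_apply, AlgHom.comp_apply, hL₂, ← hLx]
      rfl
    have e2 : L₂.comp ΔT = ofA.comp μT := AlgHom.ext fun w => by
      rw [AlgHom.comp_apply, AlgHom.comp_apply, hL₂, hμT]
      exact (mn.inv _).trans (Algebra.algebraMap_eq_smul_one _).symm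
    have hx1 : hx.comp iL = AlgHom.id B A := AlgHom.ext fun w => by simp [hx, iL]
    have hx2 : hx.comp iR = ofA.comp μT := AlgHom.ext fun c => by simp [hx, iR]
    have key : CartesianMonoidalCategory.lift gA (OTm t ofA ≫ OTm t μT ≫ zT) ≫ a.act =
        OTm t ofA ≫ OTm t μT ≫ zT := by
      conv_rhs => rw [← Category.assoc, OTm_comp, ← e2, ← OTm_comp, Category.assoc, hcoc, ← Category.assoc, OTm_comp,
        ← e1, ← OTm_comp, Category.assoc, hzT₁]
      show _ = OTm t hx ≫ CartesianMonoidalCategory.lift _ _ ≫ a.act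
      rw [← Category.assoc (OTm t hx), comp_lift, ← Category.assoc (OTm t hx) (OTm t iL), OTm_comp, hx1,
        ← Category.assoc (OTm t hx) (OTm t iR), OTm_comp, hx2, ← Category.assoc (OTm t ofA) (OTm t μT), OTm_comp]
      simp [OTm, spMap_id]
    rw [← hg, ← hp']
    have := congrArg (fun m => p' ≫ m) key
    rw [← Category.assoc, comp_lift] at this
    simpa only [Category.assoc] using this

end Groth.Agent.MultTypeLib.FixedLiftGlobal
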