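import Mathlib.Algebra.MonoidAlgebra.Basic
import Mathlib.RingTheory.Adjoin.Basic
import Mathlib.RingTheory.Ideal.Quotient.Operations
import Mathlib.RingTheory.Ideal.Maximal
import Mathlib.Algebra.MonoidAlgebra.Lift
import Mathlib.GroupTheory.QuotientGroup.Defs

/-!
# Free actions of diagonalisable groups on affine schemes: algebra

The monoid generated by the weights not vanishing at a point is a group: otherwise sending the weight spaces outside its
units to zero gives a point with a non-trivial stabiliser.
-/

universe u

namespace Groth.Agent.MultTypeLib.FreeActionAlg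

variable {R : Type u} [CommRing R] {M : Type} [CommGroup M] {C : Type u} [CommRing C] [Algebra R C]

/-- A free grading has weight spaces generating the group algebra. -/
theorem adjoin_eq_top (α : C →ₐ[R] MonoidAlgebra C M)
    (hco : ∀ c m, α ((α c).coeff m) = MonoidAlgebra.single m ((α c).coeff m))
    (hfree : ∀ (T : Type u) [CommRing T] [Algebra R T] (χ : M →* T) (y : C →ₐ[R] T),
      (∀ c, (α c).coeff.sum (fun m r => χ m * y r) = y c) → ∀ m, χ m = 1) :
    Algebra.adjoin C (Set.range α) = ⊤ := by
  classical
  let A : Subalgebra C (MonoidAlgebra C M) := Algebra.adjoin C (Set.range α)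
  let I : M → Ideal C := fun m =>
    { carrier := {r | MonoidAlgebra.single m r ∈ A}
      add_mem' := fun {a b} ha hb => by
        show MonoidAlgebra.single m (a + b) ∈ A
        rw [MonoidAlgebra.single_add]
        exact add_mem ha hb
      zero_mem' := by
        show MonoidAlgebra.single m 0 ∈ A
        rw [MonoidAlgebra.single_zero]
        exact zero_mem A
      smul_mem' := fun r a ha => by
        show MonoidAlgebra.single m (r * a) ∈ A
        rw [← smul_eq_mul, ← MonoidAlgebra.smul_single]
        exact A.smul_mem ha r }
  have hI : ∀ m, (1 : C) ∈ I m := by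
    by_contra hne
    push Not at hne
    obtain ⟨m₀, hm₀⟩ := hne
    obtain ⟨q, hq, hle⟩ := Ideal.exists_le_maximal (I m₀) fun htop => hm₀ (htop ▸ Submodule.mem_top)
    letI : Field (C ⧸ q) := Ideal.Quotient.field q
    let K := C ⧸ q
    let P : Submonoid M := Submonoid.closure {m | ∃ c, (α c).coeff m ∉ q}
    have hP : ∀ m ∈ P, ¬ I m ≤ q := by
      intro m hm
      induction hm using Submonoid.closure_induction with
      | mem x hx =>
        obtain ⟨c, hc⟩ := hx
        intro h
        refine hc (h ?_)
        show MonoidAlgebra.single x ((α c).coeff x) ∈ A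
        rw [← hco]
        exact Algebra.subset_adjoin ⟨_, rfl⟩
      | one => exact fun h => hq.ne_top (q.eq_top_iff_one.mpr (h (show MonoidAlgebra.single 1 1 ∈ A from one_mem A)))
      | mul x y _ _ hx hy =>
        intro h
        obtain ⟨r, hr, hrq⟩ := Set.not_subset.mp hx
        obtain ⟨r', hr', hrq'⟩ := Set.not_subset.mp hy
        refine (hq.isPrime.mem_or_mem (h ?_)).elim hrq hrq'
        show MonoidAlgebra.single (x * y) (r * r') ∈ A
        rw [← MonoidAlgebra.single_mul_single]
        exact mul_mem hr hr'
    let αb : C →ₐ[R] MonoidAlgebra K M := (MonoidAlgebra.mapAlgHom M (Ideal.Quotient.mkₐ R q)).comp α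
    have hcoeff : ∀ c m, (αb c).coeff m = Ideal.Quotient.mk q ((α c).coeff m) := fun c m => by
      simp [αb, MonoidAlgebra.coeff_mapAlgHom]; rfl
    let j : MonoidAlgebra K P →ₐ[R] MonoidAlgebra K M :=
      (MonoidAlgebra.mapDomainAlgHom K K P.subtype).restrictScalars R
    have hj : ∀ (p : P) (r : K), j (MonoidAlgebra.single p r) = MonoidAlgebra.single (p : M) r := fun p r => by
      simp [j]
    have hjinj : Function.Injective j := MonoidAlgebra.mapDomain_injective Subtype.val_injective
    have hmem : ∀ c, αb c ∈ j.range := fun c => by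
      rw [← MonoidAlgebra.sum_coeff_single (αb c)]
      refine sum_mem fun m hm => ⟨MonoidAlgebra.single ⟨m, Submonoid.subset_closure ⟨c, fun hq' => ?_⟩⟩ _, hj _ _⟩
      rw [Finsupp.mem_support_iff, hcoeff, Ideal.Quotient.eq_zero_iff_mem.mpr hq'] at hm
      exact hm rfl
    let f : P →* K :=
      { toFun := fun p => if IsUnit p then 1 else 0
        map_one' := if_pos isUnit_one
        map_mul' := fun p p' => by
          by_cases hp : IsUnit p <;> by_cases hp' : IsUnit p' <;> simp [hp, hp', IsUnit.mul_iff] }
    let Φ : MonoidAlgebra K P →ₐ[R] K := (MonoidAlgebra.lift K K P f).restrictScalars R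
    let αP : C →ₐ[R] MonoidAlgebra K P :=
      (AlgEquiv.ofInjective j hjinj).symm.toAlgHom.comp (αb.codRestrict j.range hmem)
    have hαP : ∀ c, j (αP c) = αb c := fun c =>
      congrArg Subtype.val ((AlgEquiv.ofInjective j hjinj).apply_symm_apply ⟨αb c, hmem c⟩)
    let y : C →ₐ[R] K := Φ.comp αP
    let F : Subgroup M :=
      { carrier := {m | m ∈ P ∧ m⁻¹ ∈ P}
        one_mem' := ⟨one_mem P, by rw [inv_one]; exact one_mem P⟩
        mul_mem' := fun {a b} ha hb => ⟨mul_mem ha.1 hb.1, by rw [mul_inv]; exact mul_mem ha.2 hb.2⟩
        inv_mem' := fun {a} ha => ⟨ha.2, by rw [inv_inv]; exact ha.1⟩ }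
    have hF : ∀ p : P, IsUnit p → (p : M) ∈ F := fun p ⟨v, hv⟩ => ⟨p.2, by
      have h : ((v : P) : M) * ((v⁻¹ : Pˣ) : P) = 1 := congrArg Subtype.val v.mul_inv
      rw [← hv, ← eq_inv_of_mul_eq_one_right h]
      exact ((v⁻¹ : Pˣ) : P).2⟩
    let T := MonoidAlgebra K (M ⧸ F)
    let χ : M →* T := (MonoidAlgebra.of K (M ⧸ F)).comp (QuotientGroup.mk' F)
    have hsingle : ∀ c m, χ m * algebraMap K T (y ((α c).coeff m)) = algebraMap K T (y ((α c).coeff m)) := by
      intro c m
      by_cases hm : (α c).coeff m ∈ q
      · have e0 : αP ((α c).coeff m) = 0 := hjinj (by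
          rw [hαP, map_zero]
          simp [αb, hco, MonoidAlgebra.mapAlgHom_single, Ideal.Quotient.eq_zero_iff_mem.mpr hm])
        simp [y, e0]
      · let p : P := ⟨m, Submonoid.subset_closure ⟨c, hm⟩⟩
        have e1 : αP ((α c).coeff m) = MonoidAlgebra.single p (Ideal.Quotient.mk q ((α c).coeff m)) := hjinj (by
          rw [hαP, hj]
          simp [αb, hco, p, MonoidAlgebra.mapAlgHom_single])
        by_cases hp : IsUnit p
        · have : χ m = 1 := by
            show MonoidAlgebra.of K _ (QuotientGroup.mk' F m) = 1
            rw [show QuotientGroup.mk' F m = 1 from (QuotientGroup.eq_one_iff m).mpr (hF p hp), map_one]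
          rw [this, one_mul]
        · have : y ((α c).coeff m) = 0 := by
            show Φ (αP _) = 0
            rw [e1]
            simp [Φ, f, hp]
          simp [this]
    have hfix : ∀ c, (α c).coeff.sum (fun m r => χ m * (Algebra.ofId K T).restrictScalars R (y r)) =
        (Algebra.ofId K T).restrictScalars R (y c) := by
      intro c
      show (α c).coeff.sum (fun m r => χ m * algebraMap K T (y r)) = algebraMap K T (y c)
      calc (α c).coeff.sum (fun m r => χ m * algebraMap K T (y r))
          = (α c).coeff.sum (fun _ r => algebraMap K T (y r)) := Finset.sum_congr rfl fun m _ => hsingle c m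
        _ = algebraMap K T (y ((α c).coeff.sum fun _ r => r)) := by
            rw [Finsupp.sum, Finsupp.sum, map_sum, map_sum]
        _ = algebraMap K T (y c) := by
            congr 1
            show Φ (αP _) = Φ (αP c)
            congr 1
            apply hjinj
            rw [hαP, hαP, Finsupp.sum, map_sum]
            simp only [αb, AlgHom.comp_apply, hco, ← map_sum]
            congr 1
            exact MonoidAlgebra.sum_coeff_single (α c)
    have hall : ∀ m, m ∈ F := fun m => by
      have h := hfree T χ (((Algebra.ofId K T).restrictScalars R).comp y) hfix m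
      exact (QuotientGroup.eq_one_iff m).mp (MonoidAlgebra.of_injective (h.trans (map_one _).symm))
    exact hP m₀ (hall m₀).1 hle
  rw [eq_top_iff]
  rintro x -
  induction x using MonoidAlgebra.induction_linear with
  | zero => exact zero_mem _
  | add a b ha hb => exact add_mem ha hb
  | single n r =>
    rw [show MonoidAlgebra.single n r = r • MonoidAlgebra.single n (1 : C) by simp]
    exact A.smul_mem (hI n) r

end Groth.Agent.MultTypeLib.FreeActionAlg
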