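import Groth.Agent.MultTypeLib.FixedLiftGlobal
import Groth.Agent.MultTypeLib.FixedSmooth
import Groth.Agent.MultTypeLib.GenMultType
import Groth.Agent.S1488

/-!
# Fixed points and conjugating points lift along nilpotent ideals

Arbitrary groups of multiplicative type acting on arbitrary smooth schemes.
-/

universe u

open CategoryTheory CategoryTheory.Limits MonoidalCategory CartesianMonoidalCategory MonObj AlgebraicGeometry
open TensorProduct WithConv

noncomputable section

namespace Groth.Agent.MultTypeLib.GenLift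

open GrpSchLib.AffineHopf FixedLift GenMultType

variable {S : Scheme.{u}}

/-- The universal point of a group of multiplicative type over an affine scheme over the base. -/
theorem exists_universal {B : Type u} [CommRing B] (t : Spec (CommRingCat.of B) ⟶ S) {G : Over S} [GrpObj G]
    (hG : IsMT G) :
    ∃ (A : Type u) (_ : CommRing A) (_ : HopfAlgebra B A) (gA : OT t A ⟶ G), SGA3b.IsMultType B A ∧
      OTm t (Bialgebra.comulAlgHom B A) ≫ gA =
        (OTm t Algebra.TensorProduct.includeLeft ≫ gA) * (OTm t Algebra.TensorProduct.includeRight ≫ gA) ∧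
      ∀ (T' : Over S) (q : T' ⟶ OT t B) (g : T' ⟶ G),
        ∃ q' : T' ⟶ OT t A, q' ≫ OTm t (Algebra.ofId B A) = q ∧ q' ≫ gA = g := by
  obtain ⟨A, _, _, hA, ⟨e⟩⟩ := exists_hopf_multType _ (isMT_bc t hG)
  let eh : sp B A ⟶ Red.bc t G := e.hom.hom.hom
  let eh' : Red.bc t G ⟶ sp B A := e.inv.hom.hom
  have heh : eh' ≫ eh = 𝟙 _ := congrArg (fun h => h.hom.hom) e.inv_hom_id
  haveI : IsMonHom eh := e.hom.hom.isMonHom_hom
  refine ⟨A, inferInstance, inferInstance, DSPtsLib.theta t eh, hA, ?_, fun T' q g => ?_⟩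
  · rw [← DSPtsLib.theta_comp, ← DSPtsLib.theta_comp, ← DSPtsLib.theta_comp, ← DSPtsLib.theta_mul,
      FixedSmooth.spMap_comul, MonObj.mul_comp]
  · let Y : Over (Spec (CommRingCat.of B)) := Over.mk (q.left ≫ (sp B B).hom)
    let ε : T' ≅ (Over.map t).obj Y := Over.isoMk (Iso.refl _) (by
      show 𝟙 _ ≫ (q.left ≫ (sp B B).hom) ≫ t = T'.hom
      rw [Category.id_comp, Category.assoc]
      exact Over.w q)
    obtain ⟨w, hw⟩ := (DSPtsLib.theta_bijective (H := G) (Y := Y) t).2 (ε.inv ≫ g)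
    refine ⟨ε.hom ≫ (Over.map t).map (w ≫ eh'), ?_, ?_⟩
    · rw [Category.assoc, ← Functor.map_comp,
        TransporterLift.over_subsingleton ((w ≫ eh') ≫ spMap (Algebra.ofId B A)) (Over.homMk q.left rfl : Y ⟶ sp B B)]
      exact Over.OverMorphism.ext (Category.id_comp _)
    · rw [Category.assoc, ← DSPtsLib.theta_comp, Category.assoc, heh, Category.comp_id, hw, Iso.hom_inv_id_assoc]

/-- The affine scheme over the base given by a ring map. -/
abbrev PT {B C : Type u} [CommRing B] [CommRing C] (t : Spec (CommRingCat.of B) ⟶ S) (f : B →+* C) : Over S :=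
  Over.mk (Spec.map (CommRingCat.ofHom f) ≫ t)

/-- The morphism to the affine scheme given by a ring map. -/
abbrev ptm {B C : Type u} [CommRing B] [CommRing C] (t : Spec (CommRingCat.of B) ⟶ S) (f : B →+* C) :
    PT t f ⟶ Over.mk t :=
  Over.homMk (Spec.map (CommRingCat.ofHom f)) rfl

/-- Equal structure morphisms give isomorphic objects. -/
def overEq {Z : Scheme.{u}} {s s' : Z ⟶ S} (h : s = s') : Over.mk s ⟶ Over.mk s' :=
  Over.homMk (𝟙 Z) (show 𝟙 Z ≫ s' = s by rw [h, Category.id_comp])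

theorem overEq_comp {Z : Scheme.{u}} {s s' : Z ⟶ S} (h : s = s') (h' : s' = s) :
    overEq h ≫ overEq h' = 𝟙 (Over.mk s) :=
  Over.OverMorphism.ext (Category.id_comp _)

theorem overEq_left {Z : Scheme.{u}} {s s' : Z ⟶ S} (h : s = s') : (overEq h).left = 𝟙 Z := rfl

variable {G X : Over S} [GrpObj G] (a : AlgGrp.Action G X)

theorem fixPt_comp {Y Y' : Over S} {x : Y ⟶ X} (h : FixPt a x) (r : Y' ⟶ Y) : FixPt a (r ≫ x) := fun T' q g => by
  rw [← Category.assoc]
  exact h T' (q ≫ r) g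

/-- Over a square zero thickening, a lift of a fixed point can be changed into a fixed one. -/
theorem exists_fixed_sq (hG : IsMT G) {B C : Type u} [CommRing B] [CommRing C] (t : Spec (CommRingCat.of B) ⟶ S)
    (f : B →+* C) (hf : Function.Surjective f) (hf2 : RingHom.ker f ^ 2 = ⊥) (y : Over.mk t ⟶ X)
    (h0 : FixPt a (ptm t f ≫ y)) : ∃ x : Over.mk t ⟶ X, ptm t f ≫ x = ptm t f ≫ y ∧ FixPt a x := by
  obtain ⟨A, _, _, gA, hA, hgA, huniv⟩ := exists_universal t hG
  obtain ⟨mn⟩ := exists_mean hA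
  let J : Ideal B := RingHom.ker f
  let e : C ≃+* B ⧸ J := (RingHom.quotientKerEquivOfSurjective hf).symm
  have he : e.toRingHom.comp f = Ideal.Quotient.mk J := RingHom.ext fun b => by
    show (RingHom.quotientKerEquivOfSurjective hf).symm (f b) = _
    rw [RingEquiv.symm_apply_eq]
    rfl
  have he' : Spec.map (CommRingCat.ofHom e.toRingHom) ≫ Spec.map (CommRingCat.ofHom f) =
      Spec.map (CommRingCat.ofHom (Ideal.Quotient.mk J)) := by
    rw [← Spec.map_comp, ← CommRingCat.ofHom_comp, he]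
  let u₁ : Over.mk t ⟶ OT t B := Over.homMk (𝟙 _) ((Category.id_comp _).trans ((congrArg (· ≫ t) (Spec.map_id _)).trans (Category.id_comp t)))
  let u₁' : OT t B ⟶ Over.mk t := Over.homMk (𝟙 _)
    (show 𝟙 _ ≫ t = Spec.map (𝟙 (CommRingCat.of B)) ≫ t by rw [Spec.map_id])
  let u₀ : OT t (B ⧸ J) ⟶ PT t f := Over.homMk (Spec.map (CommRingCat.ofHom e.toRingHom)) (by
    show Spec.map (CommRingCat.ofHom e.toRingHom) ≫ Spec.map (CommRingCat.ofHom f) ≫ t = _
    rw [reassoc_of% he']
    rfl)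
  have hu : u₀ ≫ ptm t f = OTm t (Ideal.Quotient.mkₐ B J) ≫ u₁' :=
    Over.OverMorphism.ext (he'.trans (Category.comp_id _).symm)
  obtain ⟨x, hx, hxF⟩ := FixedLiftGlobal.exists_fixed_global t a gA mn hgA huniv J hf2 (u₁' ≫ y) (by
    rw [← Category.assoc, ← hu, Category.assoc]
    exact fixPt_comp a h0 u₀)
  refine ⟨u₁ ≫ x, ?_, fixPt_comp a hxF u₁⟩
  haveI : IsIso u₀ := by
    haveI : IsIso (CommRingCat.ofHom e.toRingHom) := inferInstanceAs (IsIso e.toCommRingCatIso.hom)
    haveI : IsIso ((Over.forget S).map u₀) := inferInstanceAs (IsIso (Spec.map (CommRingCat.ofHom e.toRingHom)))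
    exact isIso_of_reflects_iso u₀ (Over.forget S)
  rw [← cancel_epi u₀, ← Category.assoc u₀, ← Category.assoc u₀, hu, Category.assoc, Category.assoc,
    show u₁' ≫ u₁ ≫ x = x by rw [← Category.assoc, show u₁' ≫ u₁ = 𝟙 _ from Over.OverMorphism.ext (Category.id_comp _),
      Category.id_comp]]
  exact hx

set_option maxHeartbeats 800000 in
/-- Fixed points lift along nilpotent thickenings. -/
theorem exists_fixed_lift (hG : IsMT G) [Smooth X.hom] {B C : Type u} [CommRing B] [CommRing C]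
    (t : Spec (CommRingCat.of B) ⟶ S) (f : B →+* C) (hf : Function.Surjective f) (hfn : IsNilpotent (RingHom.ker f))
    (x₀ : PT t f ⟶ X) (h0 : FixPt a x₀) : ∃ x : Over.mk t ⟶ X, ptm t f ≫ x = x₀ ∧ FixPt a x := by
  suffices H : ∀ (k : ℕ) (B : Type u) [CommRing B] (t : Spec (CommRingCat.of B) ⟶ S) (f : B →+* C)
      (_ : Function.Surjective f) (_ : RingHom.ker f ^ 2 ^ k = ⊥) (x₀ : PT t f ⟶ X) (_ : FixPt a x₀),
      ∃ x : Over.mk t ⟶ X, ptm t f ≫ x = x₀ ∧ FixPt a x by
    obtain ⟨n, hn⟩ := hfn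
    exact H n B t f hf (pow_eq_zero_of_le Nat.lt_two_pow_self.le hn) x₀ h0
  clear h0 x₀ hfn hf f t
  intro k
  induction k with
  | zero =>
    intro B _ t f hf hk x₀ h0
    rw [pow_zero, pow_one] at hk
    have hb : Function.Bijective f := ⟨(RingHom.injective_iff_ker_eq_bot f).mpr hk, hf⟩
    haveI : IsIso (ptm t f) := by
      haveI : IsIso (CommRingCat.ofHom f) := inferInstanceAs (IsIso (RingEquiv.ofBijective f hb).toCommRingCatIso.hom)
      haveI : IsIso ((Over.forget S).map (ptm t f)) := inferInstanceAs (IsIso (Spec.map (CommRingCat.ofHom f)))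
      exact isIso_of_reflects_iso (ptm t f) (Over.forget S)
    exact ⟨inv (ptm t f) ≫ x₀, IsIso.hom_inv_id_assoc _ _, fixPt_comp a h0 _⟩
  | succ k ih =>
    intro B _ t f hf hk x₀ h0
    let J' : Ideal B := RingHom.ker f ^ 2 ^ k
    have hJ' : J' ≤ RingHom.ker f := Ideal.pow_le_self (Nat.two_pow_pos k).ne'
    have hJ'2 : J' ^ 2 = ⊥ := by rw [← pow_mul, ← pow_succ]; exact hk
    let f' : B ⧸ J' →+* C := Ideal.Quotient.lift J' f fun b hb => hJ' hb
    have hf' : Function.Surjective f' := Ideal.Quotient.lift_surjective_of_surjective J' _ hf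
    have hk' : RingHom.ker f' ^ 2 ^ k = ⊥ := by
      rw [show (RingHom.ker f' : Ideal (B ⧸ J')) = (RingHom.ker f).map (Ideal.Quotient.mk J') from
        Ideal.ker_quotient_lift _ _, ← Ideal.map_pow, Ideal.map_eq_bot_iff_le_ker, Ideal.mk_ker]
    let t' : Spec (CommRingCat.of (B ⧸ J')) ⟶ S := Spec.map (CommRingCat.ofHom (Ideal.Quotient.mk J')) ≫ t
    have hff : Spec.map (CommRingCat.ofHom f') ≫ Spec.map (CommRingCat.ofHom (Ideal.Quotient.mk J')) =
        Spec.map (CommRingCat.ofHom f) := by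
      rw [← Spec.map_comp, ← CommRingCat.ofHom_comp]
      congr 2
    have hff' : Spec.map (CommRingCat.ofHom f') ≫ t' = Spec.map (CommRingCat.ofHom f) ≫ t := by
      simp only [t']
      exact (Category.assoc _ _ _).symm.trans (congrArg (· ≫ t) hff)
    let w : PT t' f' ⟶ PT t f := overEq hff'
    let w' : PT t f ⟶ PT t' f' := overEq hff'.symm
    have hww : w' ≫ w = 𝟙 _ := overEq_comp hff'.symm hff'
    obtain ⟨x₁, hx₁, hx₁F⟩ := ih (B ⧸ J') t' f' hf' hk' (w ≫ x₀) (fixPt_comp a h0 w)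
    obtain ⟨-, hfs⟩ := (Groth.Agent.S1488.result X.hom).mp inferInstance
    obtain ⟨l, hl1, hl2⟩ := hfs B J' hJ'2 x₁.left t (Over.w x₁).symm
    let y : Over.mk t ⟶ X := Over.homMk l hl2
    have hy : ptm t (Ideal.Quotient.mk J') ≫ y = x₁ := Over.OverMorphism.ext hl1
    obtain ⟨x, hx, hxF⟩ := exists_fixed_sq a hG t (Ideal.Quotient.mk J') Ideal.Quotient.mk_surjective
      (by rw [Ideal.mk_ker]; exact hJ'2) y (by rw [hy]; exact hx₁F)
    refine ⟨x, ?_, hxF⟩
    have e : ptm t f = w' ≫ ptm t' f' ≫ ptm t (Ideal.Quotient.mk J') := by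
      refine Over.OverMorphism.ext ?_
      simp only [w', Over.comp_left, overEq_left, Category.id_comp]
      exact hff.symm
    calc ptm t f ≫ x = w' ≫ ptm t' f' ≫ ptm t (Ideal.Quotient.mk J') ≫ x := by rw [e]; simp only [Category.assoc]
      _ = w' ≫ ptm t' f' ≫ x₁ := by rw [hx, hy]
      _ = x₀ := by rw [hx₁, ← Category.assoc, hww, Category.id_comp]

/-! ### Conjugating points of two homomorphisms -/

section Conj

variable {H P : Over S} [GrpObj H] [GrpObj P] (v u : H ⟶ P) [IsMonHom v] [IsMonHom u]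

/-- `h · g = v(h) g u(h)⁻¹`, whose fixed points conjugate `u` to `v`. -/
def conjAction : AlgGrp.Action H P where
  act := (fst H P ≫ v) * snd H P * (fst H P ≫ u)⁻¹
  one_act := by
    rw [MonObj.comp_mul, MonObj.comp_mul, GrpObj.comp_inv, whiskerRight_fst_assoc, whiskerRight_fst_assoc,
      whiskerRight_snd, IsMonHom.one_hom v, IsMonHom.one_hom u, toUnit_unique (fst (𝟙_ (Over S)) P) (toUnit _),
      ← Hom.one_def, _root_.one_mul, inv_one, _root_.mul_one, leftUnitor_hom]
  mul_act := by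
    have hu : ∀ (w : H ⟶ P) [IsMonHom w], μ[H] ≫ w = (fst H H ≫ w) * (snd H H ≫ w) := fun w _ => by
      rw [IsMonHom.mul_hom, Hom.mul_def]
      congr 1
    simp only [MonObj.comp_mul, GrpObj.comp_inv, whiskerRight_fst_assoc, whiskerRight_snd, whiskerLeft_fst_assoc,
      whiskerLeft_snd, whiskerLeft_snd_assoc, associator_hom_fst_assoc, associator_hom_snd_fst_assoc,
      associator_hom_snd_snd, hu, _root_.mul_inv_rev, _root_.mul_assoc]

theorem fixPt_conj_iff {Y : Over S} (g : Y ⟶ P) :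
    FixPt (conjAction v u) g ↔
      ∀ (T : Over S) (q : T ⟶ Y) (h : T ⟶ H), h ≫ v = (q ≫ g) * (h ≫ u) * (q ≫ g)⁻¹ := by
  refine forall_congr' fun T => forall_congr' fun q => forall_congr' fun h => ?_
  have e : lift h (q ≫ g) ≫ (conjAction v u).act = (h ≫ v) * (q ≫ g) * (h ≫ u)⁻¹ := by
    show lift h (q ≫ g) ≫ ((fst H P ≫ v) * snd H P * (fst H P ≫ u)⁻¹) = _
    rw [MonObj.comp_mul, MonObj.comp_mul, GrpObj.comp_inv, lift_fst_assoc, lift_fst_assoc, lift_snd]
  rw [e, mul_inv_eq_iff_eq_mul, eq_mul_inv_iff_mul_eq]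

end Conj

end Groth.Agent.MultTypeLib.GenLift
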