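import Groth.Agent.MultTypeLib.GenLift
import Groth.Agent.MultTypeLib.MultNil

/-!
# Homomorphisms between groups of multiplicative type induced by conjugation lift
-/

universe u

open CategoryTheory CategoryTheory.Limits MonoidalCategory CartesianMonoidalCategory MonObj AlgebraicGeometry
open TensorProduct WithConv

noncomputable section

namespace Groth.Agent.MultTypeLib.HomLift

open GrpSchLib.AffineHopf GenMultType

attribute [local instance 2000] MultTypeLib.algConvGroup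

variable {R : Type u} [CommRing R]

/-- The closed subscheme of an ideal. -/
abbrev P₀ (J : Ideal R) : Over (Spec (CommRingCat.of R)) :=
  Over.mk (Spec.map (CommRingCat.ofHom (Ideal.Quotient.mk J)))

/-- An algebra over the quotient gives a point over the closed subscheme. -/
def toP₀ (J : Ideal R) {T : Type u} [CommRing T] [Algebra R T] (io : R ⧸ J →ₐ[R] T) : sp R T ⟶ P₀ J := spMap io

theorem toP₀_comp (J : Ideal R) {T T' : Type u} [CommRing T] [Algebra R T] [CommRing T'] [Algebra R T']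
    (io : R ⧸ J →ₐ[R] T) (f : T →ₐ[R] T') : spMap f ≫ toP₀ J io = toP₀ J (f.comp io) := spMap_comp f io

theorem convMul_eq {A T : Type u} [CommRing A] [Bialgebra R A] [CommRing T] [Algebra R T] (f g : A →ₐ[R] T) (a : A) :
    (toConv f * toConv g).ofConv a = Algebra.TensorProduct.lift f g (fun _ _ => .all _ _) (Coalgebra.comul a) := by
  rw [AlgHom.convMul_apply]

/-- An algebra map out of a base change is determined by its two restrictions. -/
theorem lift_restrict {S A T : Type u} [CommRing S] [Algebra R S] [CommRing A] [Algebra R A] [CommRing T] [Algebra R T]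
    [Algebra S T] [IsScalarTower R S T] (k : S ⊗[R] A →ₐ[S] T) :
    Algebra.TensorProduct.lift (IsScalarTower.toAlgHom R S T)
        ((k.restrictScalars R).comp Algebra.TensorProduct.includeRight) (fun _ _ => .all _ _) =
      k.restrictScalars R := by
  refine AlgHom.ext fun w => ?_
  induction w using TensorProduct.induction_on with
  | zero => simp
  | add p p' hp hp' => simp only [map_add, hp, hp']
  | tmul p a =>
    rw [Algebra.TensorProduct.lift_tmul, show (p ⊗ₜ[R] a : S ⊗[R] A) = p • ((1 : S) ⊗ₜ[R] a) by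
      rw [TensorProduct.smul_tmul', smul_eq_mul, _root_.mul_one]]
    show algebraMap S T p * k (1 ⊗ₜ a) = k (p • ((1 : S) ⊗ₜ[R] a))
    rw [map_smul, Algebra.smul_def]

set_option maxHeartbeats 1600000 in
set_option synthInstance.maxHeartbeats 100000 in
/-- A natural homomorphism on points over `S` given by `q` comes from a morphism of bialgebras over `S`. -/
theorem exists_bialgHom_of_points {S A A' : Type u} [CommRing S] [Algebra R S] [CommRing A] [HopfAlgebra R A]
    [CommRing A'] [HopfAlgebra R A'] (q : A' →ₐ[R] S ⊗[R] A)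
    (hone : ∀ c, Algebra.TensorProduct.lift (AlgHom.id R S) ((Algebra.ofId R S).comp (Bialgebra.counitAlgHom R A))
      (fun _ _ => .all _ _) (q c) = algebraMap R S (Coalgebra.counit c))
    (hmul : ∀ (T : Type u) [CommRing T] [Algebra R T] (io : S →ₐ[R] T) (f g : A →ₐ[R] T) (c : A'),
      Algebra.TensorProduct.lift io
          ((Algebra.TensorProduct.lift f g fun _ _ => .all _ _).comp (Bialgebra.comulAlgHom R A))
          (fun _ _ => .all _ _) (q c) =
        Algebra.TensorProduct.lift ((Algebra.TensorProduct.lift io f fun _ _ => .all _ _).comp q)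
          ((Algebra.TensorProduct.lift io g fun _ _ => .all _ _).comp q) (fun _ _ => .all _ _) (Coalgebra.comul c)) :
    ∃ φ : S ⊗[R] A' →ₐc[S] S ⊗[R] A, ∀ c, φ (1 ⊗ₜ c) = q c := by
  let φa : S ⊗[R] A' →ₐ[S] S ⊗[R] A :=
    Algebra.TensorProduct.lift (Algebra.ofId S (S ⊗[R] A)) q fun _ _ => .all _ _
  have hφa : ∀ c, φa (1 ⊗ₜ c) = q c := fun c => by simp [φa, ← Algebra.TensorProduct.one_def]
  refine ⟨BialgHom.ofAlgHom φa ?_ ?_, hφa⟩
  · refine Algebra.TensorProduct.ext (Subsingleton.elim _ _) (AlgHom.ext fun c => ?_)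
    show Coalgebra.counit (φa (1 ⊗ₜ c)) = Coalgebra.counit (R := S) ((1 : S) ⊗ₜ[R] c)
    have e : (Algebra.TensorProduct.lift (AlgHom.id R S) ((Algebra.ofId R S).comp (Bialgebra.counitAlgHom R A))
        fun _ _ => .all _ _) = (Bialgebra.counitAlgHom S (S ⊗[R] A)).restrictScalars R := by
      rw [← lift_restrict]
      congr 1
      refine AlgHom.ext fun a => ?_
      show algebraMap R S (Coalgebra.counit a) = Coalgebra.counit (R := S) ((1 : S) ⊗ₜ[R] a)
      rw [TensorProduct.counit_tmul]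
      simp [Algebra.algebraMap_eq_smul_one]
    have h := hone c
    rw [e] at h
    rw [hφa, TensorProduct.counit_tmul]
    exact h.trans (by simp [Algebra.algebraMap_eq_smul_one])
  · refine Algebra.TensorProduct.ext (Subsingleton.elim _ _) (AlgHom.ext fun c => ?_)
    show Algebra.TensorProduct.map φa φa (Coalgebra.comul (R := S) ((1 : S) ⊗ₜ[R] c)) =
      Coalgebra.comul (R := S) (φa (1 ⊗ₜ c))
    rw [hφa]
    let cm : S ⊗[R] A →ₐ[S] (S ⊗[R] A) ⊗[S] (S ⊗[R] A) := Bialgebra.comulAlgHom S (S ⊗[R] A)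
    let kL : S ⊗[R] A →ₐ[S] (S ⊗[R] A) ⊗[S] (S ⊗[R] A) := Algebra.TensorProduct.includeLeft
    let kR : S ⊗[R] A →ₐ[S] (S ⊗[R] A) ⊗[S] (S ⊗[R] A) := Algebra.TensorProduct.includeRight
    have h := hmul ((S ⊗[R] A) ⊗[S] (S ⊗[R] A)) (IsScalarTower.toAlgHom R S _)
      ((kL.restrictScalars R).comp Algebra.TensorProduct.includeRight)
      ((kR.restrictScalars R).comp Algebra.TensorProduct.includeRight) c
    rw [lift_restrict, lift_restrict] at h
    have e : (Algebra.TensorProduct.lift ((kL.restrictScalars R).comp Algebra.TensorProduct.includeRight)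
          ((kR.restrictScalars R).comp Algebra.TensorProduct.includeRight) fun _ _ => .all _ _).comp
          (Bialgebra.comulAlgHom R A) = (cm.restrictScalars R).comp Algebra.TensorProduct.includeRight := by
      refine AlgHom.ext fun a => ?_
      show _ = Coalgebra.comul (R := S) ((1 : S) ⊗ₜ[R] a)
      rw [AlgHom.comp_apply, Bialgebra.comulAlgHom_apply, TensorProduct.comul_tmul]
      generalize Coalgebra.comul (R := R) a = z
      induction z using TensorProduct.induction_on with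
      | zero => simp
      | add z z' hz hz' => simp only [map_add, TensorProduct.tmul_add, hz, hz']
      | tmul a b =>
        simp [kL, kR]
    rw [e, lift_restrict] at h
    refine Eq.trans ?_ h.symm
    rw [TensorProduct.comul_tmul]
    generalize Coalgebra.comul (R := R) c = z
    induction z using TensorProduct.induction_on with
    | zero => simp
    | add z z' hz hz' => simp only [map_add, TensorProduct.tmul_add, hz, hz']
    | tmul a b => simp [hφa, kL, kR]

set_option maxHeartbeats 1600000 in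
/-- The homomorphism given by conjugation modulo a nilpotent ideal lifts. -/
theorem exists_hom_lift (J : Ideal R) (hJ : IsNilpotent J) {G H H' : Over (Spec (CommRingCat.of R))} [GrpObj G]
    [GrpObj H] [GrpObj H'] (hH : IsMT H) (hH' : IsMT H') (i : H ⟶ G) [IsMonHom i] (i' : H' ⟶ G) [IsMonHom i']
    [Mono i'] (g₀ : P₀ J ⟶ G)
    (h0 : ∀ (X : Over (Spec (CommRingCat.of R))) (p : X ⟶ P₀ J) (h : X ⟶ H),
      ∃ h' : X ⟶ H', (p ≫ g₀) * (h ≫ i) * (p ≫ g₀)⁻¹ = h' ≫ i') :
    ∃ φ : H ⟶ H', IsMonHom φ ∧ ∀ (X : Over (Spec (CommRingCat.of R))) (p : X ⟶ P₀ J) (h : X ⟶ H),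
      (h ≫ φ) ≫ i' = (p ≫ g₀) * (h ≫ i) * (p ≫ g₀)⁻¹ := by
  obtain ⟨A, _, _, hA, ⟨eA⟩⟩ := exists_hopf_multType H hH
  obtain ⟨A', _, _, hA', ⟨eA'⟩⟩ := exists_hopf_multType H' hH'
  let eh : sp R A ⟶ H := eA.hom.hom.hom
  let eh' : H ⟶ sp R A := eA.inv.hom.hom
  let fh : sp R A' ⟶ H' := eA'.hom.hom.hom
  let fh' : H' ⟶ sp R A' := eA'.inv.hom.hom
  have heh : eh' ≫ eh = 𝟙 H := congrArg (fun h => h.hom.hom) eA.inv_hom_id
  have hfh : fh' ≫ fh = 𝟙 H' := congrArg (fun h => h.hom.hom) eA'.inv_hom_id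
  have hfh' : fh ≫ fh' = 𝟙 (sp R A') := congrArg (fun h => h.hom.hom) eA'.hom_inv_id
  haveI : IsMonHom eh := eA.hom.hom.isMonHom_hom
  haveI : IsMonHom eh' := eA.inv.hom.isMonHom_hom
  haveI : IsMonHom fh := eA'.hom.hom.isMonHom_hom
  haveI : IsIso fh := ⟨fh', hfh', hfh⟩
  let Ab := (R ⧸ J) ⊗[R] A
  let io₀ : R ⧸ J →ₐ[R] Ab := Algebra.TensorProduct.includeLeft
  let π₀ : A →ₐ[R] Ab := Algebra.TensorProduct.includeRight
  obtain ⟨h₁, hh₁⟩ := h0 (sp R Ab) (toP₀ J io₀) (spMap π₀ ≫ eh)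
  obtain ⟨q, hq⟩ := exists_eq_spMap (h₁ ≫ fh')
  have hq' : (toP₀ J io₀ ≫ g₀) * (spMap π₀ ≫ eh ≫ i) * (toP₀ J io₀ ≫ g₀)⁻¹ = spMap q ≫ fh ≫ i' := by
    rw [← hq, Category.assoc, reassoc_of% hfh, ← hh₁, Category.assoc]
  -- the induced transformation of points over the closed subscheme
  let F : ∀ {T : Type u} [CommRing T] [Algebra R T], (R ⧸ J →ₐ[R] T) → (A →ₐ[R] T) → (A' →ₐ[R] T) := fun io h =>
    (Algebra.TensorProduct.lift io h fun _ _ => .all _ _).comp q
  have hF : ∀ {T : Type u} [CommRing T] [Algebra R T] (io : R ⧸ J →ₐ[R] T) (h : A →ₐ[R] T),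
      spMap (F io h) ≫ fh ≫ i' = (toP₀ J io ≫ g₀) * (spMap h ≫ eh ≫ i) * (toP₀ J io ≫ g₀)⁻¹ := by
    intro T _ _ io h
    let l : Ab →ₐ[R] T := Algebra.TensorProduct.lift io h fun _ _ => .all _ _
    have h1 : l.comp io₀ = io := AlgHom.ext fun r => by
      show l (r ⊗ₜ 1) = io r
      exact (Algebra.TensorProduct.lift_tmul _ _ _ _ _).trans (by simp)
    have h2 : l.comp π₀ = h := AlgHom.ext fun r => by
      show l (1 ⊗ₜ r) = h r
      exact (Algebra.TensorProduct.lift_tmul _ _ _ _ _).trans (by simp)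
    show spMap (l.comp q) ≫ _ = _
    rw [← spMap_comp, Category.assoc, ← hq']
    simp only [MonObj.comp_mul, GrpObj.comp_inv, ← Category.assoc, toP₀_comp, spMap_comp, h1, h2]
  have hFmul : ∀ {T : Type u} [CommRing T] [Algebra R T] (io : R ⧸ J →ₐ[R] T) (f g : A →ₐ[R] T),
      F io (toConv f * toConv g).ofConv = (toConv (F io f) * toConv (F io g)).ofConv := by
    intro T _ _ io f g
    apply spMap_injective
    rw [← cancel_mono fh, ← cancel_mono i', Category.assoc, Category.assoc, hF, ← spMap_mul, ← spMap_mul,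
      ← Category.assoc (_ * _) fh, MonObj.mul_comp _ _ fh, MonObj.mul_comp _ _ i', Category.assoc, Category.assoc, hF, hF,
      ← Category.assoc (_ * _) eh, MonObj.mul_comp _ _ eh, MonObj.mul_comp _ _ i, Category.assoc, Category.assoc]
    group
  have hFmul' : ∀ (T : Type u) [CommRing T] [Algebra R T] (io : R ⧸ J →ₐ[R] T) (f g : A →ₐ[R] T) (c : A'),
      F io ((Algebra.TensorProduct.lift f g fun _ _ => .all _ _).comp (Bialgebra.comulAlgHom R A)) c =
        Algebra.TensorProduct.lift (F io f) (F io g) (fun _ _ => .all _ _) (Coalgebra.comul c) := by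
    intro T _ _ io f g c
    have e : (toConv f * toConv g).ofConv =
        (Algebra.TensorProduct.lift f g fun _ _ => .all _ _).comp (Bialgebra.comulAlgHom R A) :=
      AlgHom.ext fun a => convMul_eq f g a
    rw [← e, hFmul]
    exact convMul_eq _ _ c
  have hone : F (AlgHom.id R (R ⧸ J)) (1 : WithConv (A →ₐ[R] R ⧸ J)).ofConv =
      (1 : WithConv (A' →ₐ[R] R ⧸ J)).ofConv := by
    have h := hFmul (AlgHom.id R (R ⧸ J)) (1 : WithConv (A →ₐ[R] R ⧸ J)).ofConv (1 : WithConv (A →ₐ[R] R ⧸ J)).ofConv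
    rw [WithConv.toConv_ofConv, _root_.one_mul] at h
    exact congrArg WithConv.ofConv (left_eq_mul.mp (congrArg toConv h))
  obtain ⟨φ₀, hφ₀⟩ := exists_bialgHom_of_points (S := R ⧸ J) q (fun c => DFunLike.congr_fun hone c) hFmul'
  obtain ⟨ψ, hψ⟩ := exists_bialgHom_lift_nil hJ hA' hA φ₀
  refine ⟨eh' ≫ spMap (ψ : A' →ₐ[R] A) ≫ fh, inferInstance, fun X p h => ?_⟩
  -- every point over the closed subscheme comes from the universal one
  have hπψ : q = π₀.comp (ψ : A' →ₐ[R] A) := AlgHom.ext fun c => (hφ₀ c).symm.trans (hψ c)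
  obtain ⟨w, hw1, hw2⟩ : ∃ w : X ⟶ sp R Ab, w ≫ toP₀ J io₀ = p ∧ w ≫ spMap π₀ ≫ eh = h := by
    let w₀ : X.left ⟶ Spec (CommRingCat.of Ab) :=
      pullback.lift p.left (h ≫ eh').left ((Over.w p).trans (Over.w (h ≫ eh')).symm) ≫
        (pullbackSpecIso R (R ⧸ J) A).hom
    have h1 : w₀ ≫ Spec.map (CommRingCat.ofHom io₀.toRingHom) = p.left :=
      (Category.assoc _ _ _).trans ((congrArg (_ ≫ ·) (pullbackSpecIso_hom_fst R (R ⧸ J) A)).trans
        (pullback.lift_fst _ _ _))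
    have h2 : w₀ ≫ Spec.map (CommRingCat.ofHom π₀.toRingHom) = (h ≫ eh').left :=
      (Category.assoc _ _ _).trans ((congrArg (_ ≫ ·) (pullbackSpecIso_hom_snd R (R ⧸ J) A)).trans
        (pullback.lift_snd _ _ _))
    have hw₀ : w₀ ≫ (sp R Ab).hom = X.hom := by
      exact ((congrArg (w₀ ≫ ·) (Over.w (toP₀ J io₀))).symm.trans (Category.assoc _ _ _).symm).trans
        ((congrArg (· ≫ (P₀ J).hom) h1).trans (Over.w p))
    refine ⟨Over.homMk w₀ hw₀, Over.OverMorphism.ext h1, ?_⟩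
    rw [← Category.assoc, show Over.homMk w₀ hw₀ ≫ spMap π₀ = h ≫ eh' from Over.OverMorphism.ext h2, Category.assoc,
      heh, Category.comp_id]
  rw [← hw1, ← hw2]
  have key := congrArg (fun m => w ≫ m) hq'
  simp only [MonObj.comp_mul, GrpObj.comp_inv] at key
  simp only [Category.assoc] at key ⊢
  rw [key, hπψ, ← spMap_comp, Category.assoc, show eh ≫ eh' ≫ _ = _ from by
    rw [← Category.assoc, show eh ≫ eh' = 𝟙 (sp R A) from congrArg (fun h => h.hom.hom) eA.hom_inv_id,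
      Category.id_comp]]

/-- Homomorphisms between groups of multiplicative type agreeing over a nilpotent thickening are equal. -/
theorem hom_ext_nil (J : Ideal R) (hJ : IsNilpotent J) {H H' : Over (Spec (CommRingCat.of R))}
    [GrpObj H] [GrpObj H'] (hH : IsMT H) (hH' : IsMT H') (φ₁ φ₂ : H ⟶ H') [IsMonHom φ₁] [IsMonHom φ₂]
    (h0 : ∀ (X : Over (Spec (CommRingCat.of R))) (_ : X ⟶ P₀ J) (h : X ⟶ H), h ≫ φ₁ = h ≫ φ₂) : φ₁ = φ₂ := by
  obtain ⟨A, _, _, hA, ⟨eA⟩⟩ := exists_hopf_multType H hH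
  obtain ⟨A', _, _, hA', ⟨eA'⟩⟩ := exists_hopf_multType H' hH'
  let eh : sp R A ⟶ H := eA.hom.hom.hom
  let eh' : H ⟶ sp R A := eA.inv.hom.hom
  let fh : sp R A' ⟶ H' := eA'.hom.hom.hom
  let fh' : H' ⟶ sp R A' := eA'.inv.hom.hom
  have heh : eh' ≫ eh = 𝟙 H := congrArg (fun h => h.hom.hom) eA.inv_hom_id
  have hfh : fh' ≫ fh = 𝟙 H' := congrArg (fun h => h.hom.hom) eA'.inv_hom_id
  haveI : IsMonHom eh := eA.hom.hom.isMonHom_hom
  haveI : IsMonHom fh' := eA'.inv.hom.isMonHom_hom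
  obtain ⟨f₁, hf₁⟩ := exists_bialgHom (eh ≫ φ₁ ≫ fh')
  obtain ⟨f₂, hf₂⟩ := exists_bialgHom (eh ≫ φ₂ ≫ fh')
  let π₀ : A →ₐ[R] (R ⧸ J) ⊗[R] A := Algebra.TensorProduct.includeRight
  have h := congrArg (· ≫ fh') (h0 _ (toP₀ J (T := (R ⧸ J) ⊗[R] A) Algebra.TensorProduct.includeLeft) (spMap π₀ ≫ eh))
  simp only [Category.assoc, hf₁, hf₂, spMap_comp] at h
  have he : f₁ = f₂ := bialgHom_ext_nil hJ hA' hA f₁ f₂ fun c =>
    (one_tmul_eq_iff_mem J _ _).mp (DFunLike.congr_fun (spMap_injective h) c)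
  have h3 : eh ≫ φ₁ ≫ fh' = eh ≫ φ₂ ≫ fh' := by rw [hf₁, hf₂, he]
  have h4 := congrArg (fun m => eh' ≫ m ≫ fh) h3
  simp only [Category.assoc, hfh, Category.comp_id, reassoc_of% heh] at h4
  exact h4

/-- Subgroups of multiplicative type conjugate modulo a nilpotent ideal are isomorphic compatibly with conjugation. -/
theorem exists_iso_lift (J : Ideal R) (hJ : IsNilpotent J) {G H H' : Over (Spec (CommRingCat.of R))} [GrpObj G]
    [GrpObj H] [GrpObj H'] (hH : IsMT H) (hH' : IsMT H') (i : H ⟶ G) [IsMonHom i] [Mono i] (i' : H' ⟶ G)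
    [IsMonHom i'] [Mono i'] (g₀ : P₀ J ⟶ G)
    (h0 : ∀ (X : Over (Spec (CommRingCat.of R))) (p : X ⟶ P₀ J),
      (∀ h : X ⟶ H, ∃ h' : X ⟶ H', (p ≫ g₀) * (h ≫ i) * (p ≫ g₀)⁻¹ = h' ≫ i') ∧
      (∀ h' : X ⟶ H', ∃ h : X ⟶ H, (p ≫ g₀)⁻¹ * (h' ≫ i') * (p ≫ g₀) = h ≫ i)) :
    ∃ φ : H ≅ H', IsMonHom φ.hom ∧ ∀ (X : Over (Spec (CommRingCat.of R))) (p : X ⟶ P₀ J) (h : X ⟶ H),
      h ≫ (φ.hom ≫ i') = (p ≫ g₀) * (h ≫ i) * (p ≫ g₀)⁻¹ := by
  obtain ⟨φ, hφm, hφ⟩ := exists_hom_lift J hJ hH hH' i i' g₀ fun X p => (h0 X p).1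
  obtain ⟨ψ, hψm, hψ⟩ := exists_hom_lift J hJ hH' hH i' i g₀⁻¹ fun X p h => by
    obtain ⟨k, hk⟩ := (h0 X p).2 h
    exact ⟨k, by simp only [GrpObj.comp_inv, inv_inv]; exact hk⟩
  haveI := hφm
  haveI := hψm
  have h1 : φ ≫ ψ = 𝟙 H := hom_ext_nil J hJ hH hH _ _ fun X p h => by
    rw [← cancel_mono i, ← Category.assoc, hψ X p, hφ X p]
    simp [GrpObj.comp_inv]
    group
  have h2 : ψ ≫ φ = 𝟙 H' := hom_ext_nil J hJ hH' hH' _ _ fun X p h => by
    rw [← cancel_mono i', ← Category.assoc, hφ X p, hψ X p]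
    simp [GrpObj.comp_inv]
    group
  exact ⟨⟨φ, ψ, h1, h2⟩, hφm, fun X p h => (Category.assoc _ _ _).symm.trans (hφ X p h)⟩

end Groth.Agent.MultTypeLib.HomLift
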