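import Groth.Prelude.Def_SGA3b
import Mathlib.RingTheory.Flat.FaithfullyFlat.Basic
import Mathlib.RingTheory.Flat.Localization
import Mathlib.RingTheory.FiniteType
import Mathlib.RingTheory.Localization.BaseChange
import Mathlib.RingTheory.TensorProduct.Basic

/-!
# Basic properties of Hopf algebras of multiplicative type
-/

universe u
open TensorProduct

namespace Groth.Agent.MultTypeLib.QuasiBasics

variable {R : Type u} [CommRing R]

theorem isMultType_of_quasi {A : Type u} [CommRing A] [HopfAlgebra R A] (h : SGA3b.IsQuasiIsotrivial R A) :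
    SGA3b.IsMultType R A := by
  obtain ⟨s, hs, H⟩ := h
  refine ⟨s, hs, fun f hf => ?_⟩
  obtain ⟨R', i1, i2, -, hff, hd⟩ := H f hf
  exact ⟨R', i1, i2, hff, hd⟩

theorem flat_of_isMultTypeConst {A : Type u} [CommRing A] [HopfAlgebra R A] (h : SGA3b.IsMultTypeConst R A) :
    Module.Flat R A := by
  obtain ⟨R', _, _, hff, M, _, ⟨e⟩⟩ := h
  haveI : Module.Flat R' (R' ⊗[R] A) := Module.Flat.of_linearEquiv e.toLinearEquiv
  exact Module.Flat.of_flat_tensorProduct R A R'

/-- Hopf algebras of multiplicative type are flat. -/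
theorem flat_of_isMultType {A : Type u} [CommRing A] [HopfAlgebra R A] (h : SGA3b.IsMultType R A) :
    Module.Flat R A := by
  obtain ⟨s, hs, H⟩ := h
  let g : ∀ r : s, A →ₗ[R] Localization.Away r.1 ⊗[R] A := fun r =>
    TensorProduct.mk R (Localization.Away r.1) A 1
  haveI : ∀ r : s, IsLocalizedModule.Away r.1 (g r) := fun r =>
    (isLocalizedModule_iff_isBaseChange (Submonoid.powers r.1) (Localization.Away r.1) (g r)).2
      (TensorProduct.isBaseChange R A (Localization.Away r.1))
  refine Module.flat_of_isLocalized_span R A s hs (fun r : s => Localization.Away r.1 ⊗[R] A) g fun r => ?_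
  haveI := flat_of_isMultTypeConst (H r.1 r.2)
  exact Module.Flat.trans R (Localization.Away r.1) _

/-- An algebra which is of finite type modulo a nilpotent ideal of the base is of finite type. -/
theorem finiteType_of_nilpotent {A B : Type u} [CommRing A] [Algebra R A] [CommRing B] [Algebra R B]
    [Algebra.FiniteType R B] (π : A →ₐ[R] B) (hπ : Function.Surjective π) (J : Ideal R) (hJ : IsNilpotent J)
    (hker : RingHom.ker π ≤ J.map (algebraMap R A)) : Algebra.FiniteType R A := by
  classical
  obtain ⟨s, hs⟩ := Algebra.FiniteType.out (R := R) (A := B)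
  let t : Finset A := s.image (Function.surjInv hπ)
  let C := Algebra.adjoin R (t : Set A)
  have hC : C.map π = ⊤ := by
    rw [← hs, AlgHom.map_adjoin]
    congr 1
    ext x
    constructor
    · rintro ⟨a, ha, rfl⟩
      obtain ⟨b, hb, rfl⟩ := Finset.mem_image.1 ha
      rw [Function.surjInv_eq hπ]; exact hb
    · exact fun hx => ⟨Function.surjInv hπ x, Finset.mem_image_of_mem _ hx, Function.surjInv_eq hπ x⟩
  have h1 : (⊤ : Submodule R A) = C.toSubmodule ⊔ J • ⊤ := by
    refine le_antisymm (fun a _ => ?_) le_top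
    obtain ⟨c, hc, hca⟩ : π a ∈ C.map π := hC ▸ trivial
    have h2 : a - c ∈ (J • ⊤ : Submodule R A) := by
      rw [Ideal.smul_top_eq_map]
      exact hker (RingHom.mem_ker.2 ((map_sub π a c).trans (sub_eq_zero.2 hca.symm)))
    exact (add_sub_cancel c a) ▸ Submodule.add_mem_sup hc h2
  have h3 : ∀ n : ℕ, (⊤ : Submodule R A) ≤ C.toSubmodule ⊔ J ^ n • ⊤ := by
    intro n
    induction n with
    | zero => rw [pow_zero, Ideal.one_eq_top, Submodule.top_smul]; exact le_sup_right
    | succ n ih =>
      refine ih.trans (sup_le le_sup_left ?_)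
      calc J ^ n • (⊤ : Submodule R A) = J ^ n • (C.toSubmodule ⊔ J • ⊤) := by rw [← h1]
        _ = J ^ n • C.toSubmodule ⊔ J ^ n • J • ⊤ := Submodule.smul_sup ..
        _ ≤ C.toSubmodule ⊔ J ^ (n + 1) • ⊤ :=
          sup_le_sup Submodule.smul_le_right (by rw [pow_succ, Submodule.mul_smul])
  obtain ⟨n, hn⟩ := hJ
  refine ⟨⟨t, eq_top_iff.2 fun a _ => ?_⟩⟩
  have h4 := h3 n (Submodule.mem_top (x := a))
  rw [hn, Ideal.zero_eq_bot, Submodule.bot_smul, sup_bot_eq] at h4
  exact h4

end Groth.Agent.MultTypeLib.QuasiBasics
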