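import Groth.Agent.MultTypeLib.Kernel
import Groth.Agent.MultTypeLib.HopfKer
import Mathlib.GroupTheory.FiniteAbelian.Basic
import Mathlib.RingTheory.LocalRing.ResidueField.Ideal
import Mathlib.RingTheory.Nilpotent.Lemmas
import Mathlib.RingTheory.Bialgebra.MonoidAlgebra

/-!
# Points of splitting rings and torsion coordinates
-/

universe u

open WithConv TensorProduct Coalgebra Bialgebra

noncomputable section

namespace Groth.Agent.MultTypeLib

section Separate

variable {M : Type u} [CommGroup M]

/-- The projection modulo `n`-th powers. -/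
abbrev prn (n : ℕ) : M →* M ⧸ (powMonoidHom n : M →* M).range :=
  QuotientGroup.mk' (powMonoidHom n : M →* M).range

theorem exists_not_mem_pow_range [Group.FG M] (x : M) (hx : x ≠ 1) :
    ∃ n : ℕ, 0 < n ∧ x ∉ (powMonoidHom n : M →* M).range := by
  obtain ⟨ι, j, _, _, p, hp, e, ⟨f⟩⟩ := CommGroup.equiv_free_prod_prod_multiplicative_zmod M
  have hfx : f x ≠ 1 := fun h => hx (f.injective (h.trans (map_one f).symm))
  by_cases h1 : (f x).1 = 1
  · have h2 : (f x).2 ≠ 1 := fun h => hfx (Prod.ext h1 h)
    obtain ⟨i, hi⟩ := Function.ne_iff.mp h2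
    refine ⟨p i ^ e i, pow_pos (hp i).pos _, ?_⟩
    rintro ⟨y, hy⟩
    apply hi
    rw [← hy, powMonoidHom_apply, map_pow]
    show ((f y).2 i) ^ (p i ^ e i) = 1
    apply Multiplicative.toAdd.injective
    rw [toAdd_pow, toAdd_one, nsmul_eq_mul, ZMod.natCast_self, zero_mul]
  · obtain ⟨i, hi⟩ := Function.ne_iff.mp h1
    refine ⟨((f x).1 i).toAdd.natAbs + 1, Nat.succ_pos _, ?_⟩
    rintro ⟨y, hy⟩
    have e1 : ((f x).1 i).toAdd = (((f x).1 i).toAdd.natAbs + 1 : ℕ) * ((f y).1 i).toAdd := by
      conv_lhs => rw [← hy, powMonoidHom_apply, map_pow]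
      show Multiplicative.toAdd ((f y).1 i ^ _) = _
      rw [toAdd_pow, nsmul_eq_mul]
    have e2 := congrArg Int.natAbs e1
    rw [Int.natAbs_mul, Int.natAbs_natCast] at e2
    have hne : ((f x).1 i).toAdd.natAbs ≠ 0 := fun h0 =>
      hi (Multiplicative.toAdd.injective (Int.natAbs_eq_zero.mp h0))
    have hy0 : ((f y).1 i).toAdd.natAbs ≠ 0 := fun h0 => hne (by rw [e2, h0, mul_zero])
    have : ((f x).1 i).toAdd.natAbs + 1 ≤ ((f x).1 i).toAdd.natAbs := by
      conv_rhs => rw [e2]
      exact Nat.le_mul_of_pos_right _ (Nat.pos_of_ne_zero hy0)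
    omega

/-- Finite sets are separated by some torsion quotient. -/
theorem exists_separating [Group.FG M] (s : Finset M) :
    ∃ n : ℕ, 0 < n ∧ ∀ x ∈ s, ∀ y ∈ s, prn n x = prn n y → x = y := by
  classical
  have hex : ∀ z : M, ∃ n : ℕ, 0 < n ∧ (z ∈ (powMonoidHom n : M →* M).range → z = 1) := fun z => by
    by_cases hz : z = 1
    · exact ⟨1, one_pos, fun _ => hz⟩
    · obtain ⟨n, hn, hnz⟩ := exists_not_mem_pow_range z hz
      exact ⟨n, hn, fun h => absurd h hnz⟩
  choose N hN hsep using hex
  let t : Finset M := (s ×ˢ s).image fun p => p.1⁻¹ * p.2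
  refine ⟨∏ z ∈ t, N z, Finset.prod_pos fun z _ => hN z, fun x hx y hy hxy => ?_⟩
  have hmem : x⁻¹ * y ∈ (powMonoidHom (∏ z ∈ t, N z) : M →* M).range := (QuotientGroup.eq).mp hxy
  have hzt : x⁻¹ * y ∈ t := Finset.mem_image.mpr ⟨(x, y), Finset.mem_product.mpr ⟨hx, hy⟩, rfl⟩
  obtain ⟨w, hw⟩ := Finset.dvd_prod_of_mem N hzt
  obtain ⟨v, hv⟩ := hmem
  have : x⁻¹ * y = 1 := by
    generalize hz : x⁻¹ * y = z at hv hw hzt ⊢
    refine hsep z ⟨v ^ w, ?_⟩
    rw [powMonoidHom_apply, ← pow_mul, mul_comm, ← hw]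
    exact hv
  exact inv_mul_eq_one.mp this

end Separate

section Values

variable {S : Type u} [CommRing S] {M : Type u} [CommGroup M] {Q : Type u} [CommGroup Q]

theorem mapCoeff_mapDomain (T : Type u) [CommRing T] [Algebra S T] (f : M →* Q) (x : MonoidAlgebra S M) :
    (mapCoeff S T Q).toAlgHom (MonoidAlgebra.mapDomainBialgHom S f x) =
      MonoidAlgebra.mapDomainBialgHom T f ((mapCoeff S T M).toAlgHom x) := by
  induction x using MonoidAlgebra.induction_linear with
  | zero => simp
  | add x y hx hy => simp only [map_add, hx, hy]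
  | single m r =>
    rw [MonoidAlgebra.mapDomainBialgHom_single, mapCoeff_single, mapCoeff_single,
      MonoidAlgebra.mapDomainBialgHom_single]

theorem exists_single_of_field {K : Type u} [Field K] {x : MonoidAlgebra K M} (hx : IsGroupLikeElem K x) :
    ∃ m, MonoidAlgebra.single m 1 = x :=
  MonoidAlgebra.isGroupLikeElem_iff_mem_range_single_one.mp hx

theorem single_inj {K : Type u} [CommRing K] [Nontrivial K] {m n : M}
    (h : MonoidAlgebra.single m (1 : K) = MonoidAlgebra.single n 1) : m = n :=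
  MonoidAlgebra.single_left_injective one_ne_zero h

/-- The value of a group-like element at a prime. -/
theorem value_iff {x : MonoidAlgebra S M} (hx : IsGroupLikeElem S x) (q : Ideal S) [q.IsPrime] (m : M) :
    (mapCoeff S q.ResidueField M).toAlgHom x = MonoidAlgebra.single m 1 ↔ x.coeff m ∉ q := by
  classical
  constructor
  · intro h hm
    have h2 := congrArg (fun y => y.coeff m) h
    simp only [coeff_mapCoeff, MonoidAlgebra.coeff_single, Finsupp.single_eq_same] at h2
    rw [Ideal.algebraMap_residueField_eq_zero.mpr hm] at h2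
    exact zero_ne_one h2
  · intro hm
    obtain ⟨n, hn⟩ := exists_single_of_field ((mapCoeff S q.ResidueField M).isGroupLike hx)
    suffices n = m by rw [← hn, this]
    by_contra hne
    have h2 := congrArg (fun y => y.coeff m) hn
    simp only [coeff_mapCoeff, MonoidAlgebra.coeff_single, Finsupp.single_apply, if_neg hne] at h2
    exact hm (Ideal.algebraMap_residueField_eq_zero.mp h2.symm)

theorem exists_value {x : MonoidAlgebra S M} (hx : IsGroupLikeElem S x) (q : Ideal S) [q.IsPrime] :
    ∃ m, (mapCoeff S q.ResidueField M).toAlgHom x = MonoidAlgebra.single m 1 :=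
  (exists_single_of_field ((mapCoeff S q.ResidueField M).isGroupLike hx)).imp fun _ h => h.symm

theorem value_generize {x : MonoidAlgebra S M} (hx : IsGroupLikeElem S x) {q q' : Ideal S} [q.IsPrime] [q'.IsPrime]
    (hle : q' ≤ q) {m : M} (h : (mapCoeff S q.ResidueField M).toAlgHom x = MonoidAlgebra.single m 1) :
    (mapCoeff S q'.ResidueField M).toAlgHom x = MonoidAlgebra.single m 1 :=
  (value_iff hx q' m).mpr fun hm => (value_iff hx q m).mp h (hle hm)

/-- Group-like elements with the same values at all primes are equal. -/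
theorem groupLike_ext_primes {x y : MonoidAlgebra S M} (hx : IsGroupLikeElem S x) (hy : IsGroupLikeElem S y)
    (h : ∀ (q : Ideal S) [q.IsPrime],
      (mapCoeff S q.ResidueField M).toAlgHom x = (mapCoeff S q.ResidueField M).toAlgHom y) : x = y := by
  refine groupLike_ext_nil hx hy fun m => ?_
  rw [← mem_nilradical, nilradical_eq_sInf, Ideal.mem_sInf]
  intro q hq
  have : q.IsPrime := hq
  have h2 := congrArg (fun z => z.coeff m) (h q)
  simp only [coeff_mapCoeff] at h2
  exact Ideal.algebraMap_residueField_eq_zero.mp (by rw [map_sub, h2, sub_self])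

theorem bijective_of_mapDomain_bijective {K : Type u} [CommRing K] [Nontrivial K] (f : M →* Q)
    (h : Function.Bijective (MonoidAlgebra.mapDomainBialgHom K f)) : Function.Bijective f := by
  refine ⟨fun a b hab => single_inj (K := K) (h.1 ?_), fun n => ?_⟩
  · rw [MonoidAlgebra.mapDomainBialgHom_single, MonoidAlgebra.mapDomainBialgHom_single, hab]
  · by_contra hn
    push Not at hn
    obtain ⟨x, hx⟩ := h.2 (MonoidAlgebra.single n 1)
    have key : ∀ x : MonoidAlgebra K M, (MonoidAlgebra.mapDomainBialgHom K f x).coeff n = 0 := by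
      intro x
      induction x using MonoidAlgebra.induction_linear with
      | zero => simp
      | add a b ha hb =>
        rw [map_add, MonoidAlgebra.coeff_add, Finsupp.add_apply, ha, hb, add_zero]
      | single m r =>
        rw [MonoidAlgebra.mapDomainBialgHom_single, MonoidAlgebra.coeff_single,
          Finsupp.single_eq_of_ne (fun e => hn m e.symm)]
    have h2 := key x
    rw [hx] at h2
    simp at h2

end Values

/-- Two primes over the same prime have a common field of values. -/
theorem exists_common_field {R S : Type u} [CommRing R] [CommRing S] [Algebra R S] (q q' : Ideal S) [q.IsPrime]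
    [q'.IsPrime] (h : q.comap (algebraMap R S) = q'.comap (algebraMap R S)) :
    ∃ (K : Type u) (_ : Field K) (_ : Algebra R K) (j j' : S →ₐ[R] K),
      RingHom.ker j = q ∧ RingHom.ker j' = q' := by
  let P := q.comap (algebraMap R S)
  let F := P.ResidueField
  let K₁ := q.ResidueField
  let K₂ := q'.ResidueField
  let _ : Algebra F K₁ := (Ideal.ResidueField.map P q (algebraMap R S) rfl).toAlgebra
  let _ : Algebra F K₂ := (Ideal.ResidueField.map P q' (algebraMap R S) h).toAlgebra
  have : IsScalarTower R F K₁ := IsScalarTower.of_algebraMap_eq fun r => by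
    rw [IsScalarTower.algebraMap_apply R S K₁]
    exact (Ideal.ResidueField.map_algebraMap P q (algebraMap R S) rfl r).symm
  have : IsScalarTower R F K₂ := IsScalarTower.of_algebraMap_eq fun r => by
    rw [IsScalarTower.algebraMap_apply R S K₂]
    exact (Ideal.ResidueField.map_algebraMap P q' (algebraMap R S) h r).symm
  obtain ⟨m, hm⟩ := Ideal.exists_maximal (K₁ ⊗[F] K₂)
  let g : K₁ ⊗[F] K₂ →ₐ[R] (K₁ ⊗[F] K₂) ⧸ m := Ideal.Quotient.mkₐ R m
  let i₁ : K₁ →ₐ[R] (K₁ ⊗[F] K₂) ⧸ m :=
    g.comp ((Algebra.TensorProduct.includeLeft : K₁ →ₐ[F] K₁ ⊗[F] K₂).restrictScalars R)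
  let i₂ : K₂ →ₐ[R] (K₁ ⊗[F] K₂) ⧸ m :=
    g.comp ((Algebra.TensorProduct.includeRight : K₂ →ₐ[F] K₁ ⊗[F] K₂).restrictScalars R)
  let _ : Field ((K₁ ⊗[F] K₂) ⧸ m) := Ideal.Quotient.field m
  refine ⟨_, inferInstance, inferInstance, i₁.comp (IsScalarTower.toAlgHom R S K₁),
    i₂.comp (IsScalarTower.toAlgHom R S K₂), ?_, ?_⟩
  · ext s
    rw [RingHom.mem_ker]
    show i₁ (algebraMap S K₁ s) = 0 ↔ _
    rw [map_eq_zero_iff i₁ i₁.toRingHom.injective, Ideal.algebraMap_residueField_eq_zero]
  · ext s
    rw [RingHom.mem_ker]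
    show i₂ (algebraMap S K₂ s) = 0 ↔ _
    rw [map_eq_zero_iff i₂ i₂.toRingHom.injective, Ideal.algebraMap_residueField_eq_zero]

section Torsion

variable {R : Type u} [CommRing R] {A : Type u} [CommRing A] [HopfAlgebra R A] (P : Split R A) (n : ℕ)

theorem Split.pr_torsion (x : A) (hx : x ∈ SGA3b.torsionIdeal R A n) :
    MonoidAlgebra.mapDomainBialgHom P.S (prn n) (P.hom.toAlgHom x) = 0 := by
  let f : A →ₐ[R] MonoidAlgebra P.S (P.M ⧸ (powMonoidHom n : P.M →* P.M).range) :=
    (((MonoidAlgebra.mapDomainBialgHom P.S (prn n) : MonoidAlgebra P.S P.M →ₐc[P.S] _) :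
      MonoidAlgebra P.S P.M →ₐ[P.S] _).restrictScalars R).comp P.hom.toAlgHom
  suffices hle : SGA3b.torsionIdeal R A n ≤ RingHom.ker f from hle hx
  rw [SGA3b.torsionIdeal, Ideal.map_le_iff_le_comap]
  intro b hb
  rw [Ideal.mem_comap, RingHom.mem_ker]
  show MonoidAlgebra.mapDomainBialgHom P.S (prn n) (P.hom.toAlgHom (SGA3b.powConv R A n b)) = 0
  rw [P.hom_powConv]
  have key : ∀ y : MonoidAlgebra P.S P.M, MonoidAlgebra.mapDomainBialgHom P.S (prn n)
      (MonoidAlgebra.mapDomain (fun x : P.M => x ^ n) y) = algebraMap P.S _ (counit (R := P.S) y) := by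
    intro y
    induction y using MonoidAlgebra.induction_linear with
    | zero => simp
    | add y z hy hz => simp only [MonoidAlgebra.mapDomain_add, map_add, hy, hz]
    | single m r =>
      rw [MonoidAlgebra.mapDomain_single, MonoidAlgebra.mapDomainBialgHom_single,
        show prn n (m ^ n) = (1 : P.M ⧸ (powMonoidHom n : P.M →* P.M).range) from
          (QuotientGroup.eq_one_iff _).mpr ⟨m, rfl⟩]
      simp
  rw [key, P.hom.counit_comp, show counit (R := R) b = counitAlgHom R A b from rfl, RingHom.mem_ker.mp hb,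
    map_zero, map_zero]

variable [(SGA3b.torsionIdeal R A n).IsHopfIdeal R]

/-- The coordinates of a torsion subgroup. -/
def Split.torHom : SemiBialgHom R P.S (A ⧸ SGA3b.torsionIdeal R A n)
    (MonoidAlgebra P.S (P.M ⧸ (powMonoidHom n : P.M →* P.M).range)) :=
  ((SemiBialgHom.ofBialgHom (MonoidAlgebra.mapDomainBialgHom P.S (prn n) :
      MonoidAlgebra P.S P.M →ₐc[P.S] MonoidAlgebra P.S (P.M ⧸ (powMonoidHom n : P.M →* P.M).range))).comp P.hom).factor
    (SGA3b.torsionIdeal R A n) (fun x hx => P.pr_torsion n x hx)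

theorem Split.torHom_mk (x : A) : (P.torHom n).toAlgHom (Ideal.Quotient.mk _ x) =
    MonoidAlgebra.mapDomainBialgHom P.S (prn n) (P.hom.toAlgHom x) := rfl

theorem Split.quot_pow_single (m : P.M) :
    P.quot (SGA3b.torsionIdeal R A n) (MonoidAlgebra.single (m ^ n) 1) = 1 := by
  have key : ∀ z : P.S ⊗[R] A, P.quot (SGA3b.torsionIdeal R A n)
      (MonoidAlgebra.mapDomain (fun x : P.M => x ^ n) (P.equiv z)) =
      algebraMap P.S _ (counit (R := P.S) (P.equiv z)) := by
    intro z
    induction z using TensorProduct.induction_on with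
    | zero => simp
    | add z₁ z₂ h₁ h₂ => simp only [map_add, MonoidAlgebra.mapDomain_add, h₁, h₂]
    | tmul s a =>
      have h5 : Ideal.Quotient.mk (SGA3b.torsionIdeal R A n) (SGA3b.powConv R A n a) =
          algebraMap R _ (counit (R := R) a) := by
        rw [← Ideal.Quotient.mk_algebraMap, Ideal.Quotient.eq, SGA3b.torsionIdeal]
        have := Ideal.mem_map_of_mem (SGA3b.powConv R A n) (show a - algebraMap R A (counit (R := R) a) ∈
          RingHom.ker (counitAlgHom R A) by simp [RingHom.mem_ker])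
        rwa [map_sub, AlgHom.commutes] at this
      rw [show (s ⊗ₜ[R] a : P.S ⊗[R] A) = s • ((1 : P.S) ⊗ₜ[R] a) by
          rw [TensorProduct.smul_tmul', smul_eq_mul, mul_one],
        map_smul, P.equiv_tmul, MonoidAlgebra.mapDomain_smul, ← P.hom_powConv, map_smul, P.quot_hom,
        map_smul, P.hom.counit_comp, smul_eq_mul, map_mul, h5, ← Algebra.smul_def,
        ← IsScalarTower.algebraMap_apply]
      congr 1
      exact (Algebra.TensorProduct.includeRight (R := R) (A := P.S)
        (B := A ⧸ SGA3b.torsionIdeal R A n)).commutes _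
  have h := key (P.equiv.symm (MonoidAlgebra.single m 1))
  rw [AlgEquiv.apply_symm_apply, MonoidAlgebra.mapDomain_single, (isGroupLike_single m).counit_eq_one,
    map_one] at h
  exact h

theorem Split.torHom_bijective : Function.Bijective (P.torHom n).extend := by
  let N := (powMonoidHom n : P.M →* P.M).range
  let J := SGA3b.torsionIdeal R A n
  let ρ0 : P.M →* P.S ⊗[R] (A ⧸ J) :=
    ((P.quot J).toRingHom.toMonoidHom : MonoidAlgebra P.S P.M →* P.S ⊗[R] (A ⧸ J)).comp
      (MonoidAlgebra.of P.S P.M)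
  have hN' : N ≤ ρ0.ker := by
    rintro _ ⟨m, rfl⟩
    exact P.quot_pow_single n m
  let ρ : MonoidAlgebra P.S (P.M ⧸ N) →ₐ[P.S] P.S ⊗[R] (A ⧸ J) :=
    MonoidAlgebra.lift P.S _ _ (QuotientGroup.lift N ρ0 hN')
  have hρ1 : ∀ x : MonoidAlgebra P.S P.M,
      ρ (MonoidAlgebra.mapDomainBialgHom P.S (prn n) x) = P.quot J x := by
    intro x
    induction x using MonoidAlgebra.induction_linear with
    | zero => simp
    | add y z hy hz => simp only [map_add, hy, hz]
    | single m r =>
      have e : MonoidAlgebra.single m r = r • MonoidAlgebra.single m (1 : P.S) := by simp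
      rw [MonoidAlgebra.mapDomainBialgHom_single, MonoidAlgebra.lift_single, e, map_smul]
      rfl
  have hl : ρ.comp (P.torHom n).extend = AlgHom.id P.S _ := by
    refine Algebra.TensorProduct.ext (Subsingleton.elim _ _) (AlgHom.ext fun b => ?_)
    obtain ⟨a, rfl⟩ := Ideal.Quotient.mk_surjective b
    show ρ ((P.torHom n).extend (1 ⊗ₜ Ideal.Quotient.mk J a)) = 1 ⊗ₜ Ideal.Quotient.mk J a
    rw [SemiBialgHom.extend_tmul, one_smul, P.torHom_mk, hρ1, P.quot_hom]
  have hr : ∀ x : MonoidAlgebra P.S P.M,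
      (P.torHom n).extend (P.quot J x) = MonoidAlgebra.mapDomainBialgHom P.S (prn n) x := by
    intro x
    obtain ⟨z, rfl⟩ := P.equiv.surjective x
    induction z using TensorProduct.induction_on with
    | zero => simp
    | add z₁ z₂ h₁ h₂ => simp only [map_add, h₁, h₂]
    | tmul s a =>
      rw [show (s ⊗ₜ[R] a : P.S ⊗[R] A) = s • ((1 : P.S) ⊗ₜ[R] a) by
          rw [TensorProduct.smul_tmul', smul_eq_mul, mul_one],
        map_smul, map_smul, map_smul, map_smul, P.equiv_tmul, P.quot_hom]
      congr 1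
      rw [SemiBialgHom.extend_tmul, one_smul, P.torHom_mk]
  refine ⟨Function.LeftInverse.injective (g := ρ) fun z => AlgHom.congr_fun hl z, fun y => ?_⟩
  induction y using MonoidAlgebra.induction_linear with
  | zero => exact ⟨0, map_zero _⟩
  | add y z hy hz =>
    obtain ⟨a, rfl⟩ := hy
    obtain ⟨b, rfl⟩ := hz
    exact ⟨a + b, map_add _ _ _⟩
  | single m r =>
    obtain ⟨m, rfl⟩ := QuotientGroup.mk'_surjective N m
    exact ⟨P.quot J (MonoidAlgebra.single m r), by rw [hr, MonoidAlgebra.mapDomainBialgHom_single]⟩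

/-- Compatibility of the coordinates of a torsion subgroup with those of the group. -/
theorem Split.extend_torHom {T : Type u} [CommRing T] [Algebra R T] [Algebra P.S T] [IsScalarTower R P.S T]
    (z : T ⊗[R] A) :
    ((mapCoeff P.S T _).comp (P.torHom n)).extend
        (Algebra.TensorProduct.map (AlgHom.id T T) (Ideal.Quotient.mkₐ R (SGA3b.torsionIdeal R A n)) z) =
      MonoidAlgebra.mapDomainBialgHom T (prn n) ((P.homOver T).extend z) := by
  induction z using TensorProduct.induction_on with
  | zero => simp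
  | add x y hx hy => simp only [map_add, hx, hy]
  | tmul t a =>
    rw [Algebra.TensorProduct.map_tmul, AlgHom.id_apply, SemiBialgHom.extend_tmul, SemiBialgHom.extend_tmul,
      map_smul]
    congr 1
    exact mapCoeff_mapDomain T (prn n) (P.hom.toAlgHom a)

end Torsion

end Groth.Agent.MultTypeLib
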