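import Groth.Agent.MultTypeLib.PointDescend
import Groth.Agent.MultTypeLib.GenLift
import Groth.Agent.MultTypeLib.SmoothLift

/-!
# Averaging almost homomorphisms with values in an arbitrary smooth group

For a Hopf algebra with an invariant mean, a point which is multiplicative modulo a square zero ideal
can be changed into a homomorphism (SGA 3 IX 3.6).
-/

set_option autoImplicit false
set_option linter.style.haveILetI false

universe u

open CategoryTheory CategoryTheory.Limits MonoidalCategory CartesianMonoidalCategory MonObj AlgebraicGeometry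
open TensorProduct WithConv

noncomputable section

namespace Groth.Agent.MultTypeLib.PointAverage

open GrpSchLib.AffineHopf FixedLift

variable {S : Scheme.{u}} {B : Type u} [CommRing B] (t : Spec (CommRingCat.of B) ⟶ S) (J : Ideal B)
  {G : Over S} [GrpObj G]

/-- The ideal of an algebra. -/
abbrev JT (T : Type u) [CommRing T] [Algebra B T] : Ideal T := J.map (algebraMap B T)

/-- The reduction. -/
abbrev qT (T : Type u) [CommRing T] [Algebra B T] : T →ₐ[B] T ⧸ JT J T := Ideal.Quotient.mkₐ B (JT J T)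

/-- Congruence of points modulo the ideal. -/
def Cong {T : Type u} [CommRing T] [Algebra B T] (a b : OT t T ⟶ G) : Prop :=
  OTm t (qT J T) ≫ a = OTm t (qT J T) ≫ b

/-- The map induced on the reductions. -/
def qmap {T T' : Type u} [CommRing T] [Algebra B T] [CommRing T'] [Algebra B T'] (f : T →ₐ[B] T') :
    T ⧸ JT J T →ₐ[B] T' ⧸ JT J T' :=
  Ideal.quotientMapₐ (JT J T') f (Ideal.map_le_iff_le_comap.2 fun b hb => by
    rw [Ideal.mem_comap, Ideal.mem_comap, AlgHom.commutes]
    exact Ideal.mem_map_of_mem _ hb)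

theorem qmap_comp {T T' : Type u} [CommRing T] [Algebra B T] [CommRing T'] [Algebra B T'] (f : T →ₐ[B] T') :
    (qmap J f).comp (qT J T) = (qT J T').comp f := AlgHom.ext fun _ => rfl

variable {J} in
theorem Cong.comp {T T' : Type u} [CommRing T] [Algebra B T] [CommRing T'] [Algebra B T'] {a b : OT t T ⟶ G}
    (h : Cong t J a b) (f : T →ₐ[B] T') : Cong t J (OTm t f ≫ a) (OTm t f ≫ b) := by
  unfold Cong
  rw [← Category.assoc, ← Category.assoc, OTm_comp, ← qmap_comp, ← OTm_comp, Category.assoc, Category.assoc, h]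

theorem OTm_left {T T' : Type u} [CommRing T] [Algebra B T] [CommRing T'] [Algebra B T'] (f : T →ₐ[B] T') :
    (OTm t f).left = Spec.map (CommRingCat.ofHom f.toRingHom) := rfl

/-- A retraction of an algebra map, linear over it. -/
structure Ret (P P' : Type u) [CommRing P] [Algebra B P] [CommRing P'] [Algebra B P'] where
  /-- the algebra map -/
  i : P →ₐ[B] P'
  /-- the retraction -/
  E : P' →ₗ[B] P
  E_mul : ∀ p z, E (i p * z) = p * E z
  E_one : E 1 = 1

variable {P P' : Type u} [CommRing P] [Algebra B P] [CommRing P'] [Algebra B P'] (r : Ret (B := B) P P')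

theorem Ret.E_i (p : P) : r.E (r.i p) = p := by
  simpa [r.E_one] using r.E_mul p 1

theorem mem_JT_of_linear {T T' : Type u} [CommRing T] [Algebra B T] [CommRing T'] [Algebra B T']
    (L : T →ₗ[B] T') {x : T} (hx : x ∈ JT J T) : L x ∈ JT J T' := by
  have h1 : x ∈ (J • ⊤ : Submodule B T) := by rw [Ideal.smul_top_eq_map]; exact hx
  have h2 := MultTypeLib.map_smul_top L h1
  rwa [Ideal.smul_top_eq_map] at h2

/-- The elements which are constant modulo the ideal. -/
def Ret.C : Subalgebra B P' where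
  carrier := {z | z - r.i (r.E z) ∈ JT J P'}
  one_mem' := by simp [r.E_one]
  zero_mem' := by simp
  add_mem' {a b} ha hb := by
    simp only [Set.mem_ofPred_eq] at ha hb ⊢
    rw [map_add, map_add, add_sub_add_comm]
    exact add_mem ha hb
  mul_mem' {a b} ha hb := by
    simp only [Set.mem_ofPred_eq] at ha hb ⊢
    have h1 : a * b - r.i (r.E a * r.E b) ∈ JT J P' := by
      rw [map_mul, show a * b - r.i (r.E a) * r.i (r.E b) =
        (a - r.i (r.E a)) * b + r.i (r.E a) * (b - r.i (r.E b)) by ring]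
      exact add_mem (Ideal.mul_mem_right _ _ ha) (Ideal.mul_mem_left _ _ hb)
    have h2 : r.i (r.E (a * b - r.i (r.E a * r.E b))) ∈ JT J P' :=
      mem_JT_of_linear J r.i.toLinearMap (mem_JT_of_linear J r.E h1)
    have h3 := sub_mem h1 h2
    rwa [map_sub r.E, map_sub r.i, r.E_i, sub_sub_sub_cancel_right] at h3
  algebraMap_mem' b := by
    simp only [Set.mem_ofPred_eq]
    rw [← r.i.commutes b, r.E_i, sub_self]
    exact zero_mem _

theorem mem_C_of_mem {z : P'} (hz : z ∈ JT J P') : z ∈ r.C J :=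
  sub_mem hz (mem_JT_of_linear J r.i.toLinearMap (mem_JT_of_linear J r.E hz))

/-- The inclusion of the constants. -/
def Ret.val : r.C J →ₐ[B] P' := (r.C J).val

/-- The map to the constants. -/
def Ret.iC : P →ₐ[B] r.C J := r.i.codRestrict (r.C J) fun p => by
  show r.i p - r.i (r.E (r.i p)) ∈ JT J P'
  rw [r.E_i, sub_self]
  exact zero_mem _

theorem JT_mul_self (hJ : J * J = ⊥) (T : Type u) [CommRing T] [Algebra B T] : JT J T * JT J T = ⊥ := by
  rw [← Ideal.map_mul, hJ, Ideal.map_bot]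

variable (hJ : J * J = ⊥)

/-- The retraction is multiplicative on the constants. -/
def Ret.π : r.C J →ₐ[B] P :=
  AlgHom.ofLinearMap (r.E ∘ₗ (r.C J).val.toLinearMap) r.E_one fun a b => by
    show r.E ((a : P') * (b : P')) = r.E a * r.E b
    have hz : ((a : P') - r.i (r.E a)) * ((b : P') - r.i (r.E b)) = 0 := by
      simpa [JT_mul_self J hJ] using Ideal.mul_mem_mul
        (show (a : P') - r.i (r.E a) ∈ JT J P' from a.2) (show (b : P') - r.i (r.E b) ∈ JT J P' from b.2)
    have e : (a : P') * b = r.i (r.E a) * (b : P') + r.i (r.E b) * (a : P') - r.i (r.E a * r.E b) := by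
      rw [map_mul]
      linear_combination hz
    rw [e, map_sub, map_add, r.E_mul, r.E_mul, r.E_i]
    ring

theorem π_iC (p : P) : r.π J hJ (r.iC J p) = p := r.E_i p

theorem val_iC : (r.val J).comp (r.iC J) = r.i := AlgHom.ext fun _ => rfl

theorem mem_JT_π {c : r.C J} (hc : c ∈ (JT J P').comap (r.val J).toRingHom) : r.π J hJ c ∈ JT J P :=
  mem_JT_of_linear J r.E hc

/-- The reduction of the constants. -/
abbrev Ret.qC : r.C J →ₐ[B] r.C J ⧸ (JT J P').comap (r.val J).toRingHom := Ideal.Quotient.mkₐ B _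

/-- A point over the constants descending a given point congruent to the unit. -/
def IsDesc (k : OT t P' ⟶ G) (m : OT t (r.C J) ⟶ G) : Prop :=
  OTm t (r.val J) ≫ m = k ∧ OTm t (r.qC J) ≫ m = OTm t (r.qC J) ≫ 1

/-- The constants modulo the ideal inject into the reduction. -/
def Ret.qbar : r.C J ⧸ (JT J P').comap (r.val J).toRingHom →ₐ[B] P' ⧸ JT J P' :=
  Ideal.quotientMapₐ (JT J P') (r.val J) le_rfl

theorem qbar_injective : Function.Injective (r.qbar J) := by
  rw [injective_iff_map_eq_zero]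
  intro x hx
  obtain ⟨c, rfl⟩ := Ideal.Quotient.mk_surjective x
  have h : Ideal.Quotient.mk (JT J P') ((r.val J) c) = 0 := hx
  exact Ideal.Quotient.eq_zero_iff_mem.2 (Ideal.mem_comap.2 (Ideal.Quotient.eq_zero_iff_mem.1 h))

include hJ in
theorem exists_isDesc {k : OT t P' ⟶ G} (hk : Cong t J k 1) : ∃ m, IsDesc t J r k m := by
  have hθ : Function.Injective (r.val J).toRingHom := Subtype.val_injective
  have hK := JT_mul_self J hJ P'
  have hk' : PointDescend.red (JT J P') ≫ k.left =
      PointDescend.red (JT J P') ≫ Spec.map (CommRingCat.ofHom (r.val J).toRingHom) ≫ (1 : OT t (r.C J) ⟶ G).left := by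
    have h := congrArg (fun g => g.left) hk
    have e : (1 : OT t P' ⟶ G) = OTm t (r.val J) ≫ 1 := (MonObj.comp_one _).symm
    rw [e] at h
    exact h
  obtain ⟨m, hm1, hm2⟩ := PointDescend.exists_descend (r.val J).toRingHom (JT J P') _ hK
    (fun p hp => ⟨⟨p, mem_C_of_mem J r hp⟩, rfl⟩) hθ k.left hk'
  have hw : m ≫ G.hom = (OT t (r.C J)).hom := by
    refine PointDescend.descend_unique (r.val J).toRingHom hθ _ _ ?_ fun x => ?_
    · rw [← Category.assoc, hm1]
      exact (Over.w k).trans (Over.w (OTm t (r.val J))).symm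
    · exact (congrArg G.hom (hm2 x)).trans
        (congrArg (fun g : (OT t (r.C J)).left ⟶ S => g x) (Over.w (1 : OT t (r.C J) ⟶ G)))
  refine ⟨Over.homMk m hw, Over.OverMorphism.ext hm1, Over.OverMorphism.ext ?_⟩
  refine PointDescend.descend_unique (r.qbar J).toRingHom (qbar_injective J r) _ _ ?_ fun x => ?_
  · show Spec.map _ ≫ Spec.map _ ≫ m = Spec.map _ ≫ Spec.map _ ≫ (1 : OT t (r.C J) ⟶ G).left
    rw [← Spec.map_comp_assoc, ← Spec.map_comp_assoc]
    have e : CommRingCat.ofHom (r.qC J).toRingHom ≫ CommRingCat.ofHom (r.qbar J).toRingHom =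
        CommRingCat.ofHom (r.val J).toRingHom ≫ CommRingCat.ofHom (qT J P').toRingHom := by
      ext c; rfl
    rw [e, Spec.map_comp, Category.assoc, Category.assoc, hm1]
    exact hk'
  · show (Spec.map _ ≫ m) x = (Spec.map _ ≫ (1 : OT t (r.C J) ⟶ G).left) x
    rw [Scheme.Hom.comp_apply, Scheme.Hom.comp_apply, hm2]

include hJ in
theorem isDesc_unique {k : OT t P' ⟶ G} {m m' : OT t (r.C J) ⟶ G} (h : IsDesc t J r k m)
    (h' : IsDesc t J r k m') : m = m' := by
  have hθ : Function.Injective (r.val J).toRingHom := Subtype.val_injective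
  refine Over.OverMorphism.ext (PointDescend.descend_unique (r.val J).toRingHom hθ _ _
    (congrArg (fun g => g.left) (h.1.trans h'.1.symm)) ?_)
  exact PointDescend.apply_eq (PointDescend.comap_mul_self _ _ (JT_mul_self J hJ P') hθ)
    (congrArg (fun g => g.left) (h.2.trans h'.2.symm))

open Classical in
/-- The average of a point congruent to the unit. -/
def avg (k : OT t P' ⟶ G) : OT t P ⟶ G :=
  if h : Cong t J k 1 then OTm t (r.π J hJ) ≫ (exists_isDesc t J r hJ h).choose else 1

theorem avg_eq {k : OT t P' ⟶ G} {m : OT t (r.C J) ⟶ G} (hk : Cong t J k 1) (hm : IsDesc t J r k m) :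
    avg t J r hJ k = OTm t (r.π J hJ) ≫ m := by
  rw [avg, dif_pos hk, isDesc_unique t J r hJ (exists_isDesc t J r hJ hk).choose_spec hm]

theorem avg_cong {k : OT t P' ⟶ G} (hk : Cong t J k 1) : Cong t J (avg t J r hJ k) 1 := by
  obtain ⟨m, hm⟩ := exists_isDesc t J r hJ hk
  rw [avg_eq t J r hJ hk hm]
  let π' : r.C J ⧸ (JT J P').comap (r.val J).toRingHom →ₐ[B] P ⧸ JT J P :=
    Ideal.quotientMapₐ (JT J P) (r.π J hJ) fun c hc => mem_JT_π J r hJ hc
  have e : (qT J P).comp (r.π J hJ) = π'.comp (r.qC J) := AlgHom.ext fun _ => rfl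
  unfold Cong
  rw [← Category.assoc, OTm_comp, e, ← OTm_comp, Category.assoc, hm.2, MonObj.comp_one, MonObj.comp_one,
    MonObj.comp_one]

theorem cong_mul {T : Type u} [CommRing T] [Algebra B T] {a b : OT t T ⟶ G} (ha : Cong t J a 1) (hb : Cong t J b 1) :
    Cong t J (a * b) 1 := by
  unfold Cong at *
  rw [MonObj.comp_mul, ha, hb, MonObj.comp_one, _root_.one_mul]

theorem cong_conj {T : Type u} [CommRing T] [Algebra B T] (p : OT t T ⟶ G) {a : OT t T ⟶ G} (ha : Cong t J a 1) :
    Cong t J (p * a * p⁻¹) 1 := by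
  unfold Cong at *
  rw [MonObj.comp_mul, MonObj.comp_mul, ha, MonObj.comp_one, _root_.mul_one, ← MonObj.comp_mul, mul_inv_cancel,
    MonObj.comp_one]

theorem avg_mul {k k' : OT t P' ⟶ G} (hk : Cong t J k 1) (hk' : Cong t J k' 1) :
    avg t J r hJ (k * k') = avg t J r hJ k * avg t J r hJ k' := by
  obtain ⟨m, hm⟩ := exists_isDesc t J r hJ hk
  obtain ⟨m', hm'⟩ := exists_isDesc t J r hJ hk'
  rw [avg_eq t J r hJ hk hm, avg_eq t J r hJ hk' hm', avg_eq t J r hJ (cong_mul t J hk hk')
    (m := m * m') ⟨by rw [MonObj.comp_mul, hm.1, hm'.1], by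
      rw [MonObj.comp_mul, hm.2, hm'.2, MonObj.comp_one, _root_.one_mul]⟩, MonObj.comp_mul]

theorem avg_conj (p : OT t P ⟶ G) {k : OT t P' ⟶ G} (hk : Cong t J k 1) :
    avg t J r hJ ((OTm t r.i ≫ p) * k * (OTm t r.i ≫ p)⁻¹) = p * avg t J r hJ k * p⁻¹ := by
  obtain ⟨m, hm⟩ := exists_isDesc t J r hJ hk
  have e1 : OTm t (r.val J) ≫ OTm t (r.iC J) ≫ p = OTm t r.i ≫ p := by
    rw [← Category.assoc, OTm_comp, val_iC]
  have e2 : OTm t (r.π J hJ) ≫ OTm t (r.iC J) ≫ p = p := by
    rw [← Category.assoc, OTm_comp, show (r.π J hJ).comp (r.iC J) = AlgHom.id B P from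
      AlgHom.ext (π_iC J r hJ), OTm, spMap_id, CategoryTheory.Functor.map_id, Category.id_comp]
  rw [avg_eq t J r hJ hk hm, avg_eq t J r hJ (cong_conj t J _ hk)
    (m := (OTm t (r.iC J) ≫ p) * m * (OTm t (r.iC J) ≫ p)⁻¹) ⟨by
      rw [MonObj.comp_mul, MonObj.comp_mul, GrpObj.comp_inv, e1, hm.1], by
      rw [MonObj.comp_mul, MonObj.comp_mul, hm.2, MonObj.comp_one, _root_.mul_one, ← MonObj.comp_mul,
        mul_inv_cancel, MonObj.comp_one]⟩,
    MonObj.comp_mul, MonObj.comp_mul, GrpObj.comp_inv, e2]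

theorem avg_const {p : OT t P ⟶ G} (hp : Cong t J p 1) : avg t J r hJ (OTm t r.i ≫ p) = p := by
  have hk : Cong t J (OTm t r.i ≫ p) 1 := by
    have := hp.comp t r.i
    rwa [MonObj.comp_one] at this
  let ibar : P ⧸ JT J P →ₐ[B] r.C J ⧸ (JT J P').comap (r.val J).toRingHom :=
    Ideal.quotientMapₐ _ (r.iC J) fun x hx => mem_JT_of_linear J r.i.toLinearMap hx
  have e : (r.qC J).comp (r.iC J) = ibar.comp (qT J P) := AlgHom.ext fun _ => rfl
  have e2 : OTm t (r.π J hJ) ≫ OTm t (r.iC J) ≫ p = p := by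
    rw [← Category.assoc, OTm_comp, show (r.π J hJ).comp (r.iC J) = AlgHom.id B P from
      AlgHom.ext (π_iC J r hJ), OTm, spMap_id, CategoryTheory.Functor.map_id, Category.id_comp]
  rw [avg_eq t J r hJ hk (m := OTm t (r.iC J) ≫ p) ⟨by rw [← Category.assoc, OTm_comp, val_iC], by
    unfold Cong at hp
    rw [← Category.assoc, OTm_comp, e, ← OTm_comp, Category.assoc, hp, MonObj.comp_one, MonObj.comp_one,
      MonObj.comp_one]⟩, e2]

variable {Q Q' : Type u} [CommRing Q] [Algebra B Q] [CommRing Q'] [Algebra B Q'] (r' : Ret (B := B) Q Q')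

theorem avg_natural (f : P →ₐ[B] Q) (g : P' →ₐ[B] Q') (h1 : g.comp r.i = r'.i.comp f)
    (h2 : ∀ z, r'.E (g z) = f (r.E z)) {k : OT t P' ⟶ G} (hk : Cong t J k 1) :
    avg t J r' hJ (OTm t g ≫ k) = OTm t f ≫ avg t J r hJ k := by
  obtain ⟨m, hm⟩ := exists_isDesc t J r hJ hk
  have hk' : Cong t J (OTm t g ≫ k) 1 := by
    have := hk.comp t g
    rwa [MonObj.comp_one] at this
  let gC : r.C J →ₐ[B] r'.C J := (g.comp (r.val J)).codRestrict (r'.C J) fun c => by
    show g c.1 - r'.i (r'.E (g c.1)) ∈ JT J Q'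
    rw [h2, show r'.i (f (r.E c.1)) = g (r.i (r.E c.1)) from (AlgHom.congr_fun h1 _).symm, ← map_sub]
    exact mem_JT_of_linear J g.toLinearMap c.2
  let gCbar : r.C J ⧸ (JT J P').comap (r.val J).toRingHom →ₐ[B] r'.C J ⧸ (JT J Q').comap (r'.val J).toRingHom :=
    Ideal.quotientMapₐ _ gC fun c hc => mem_JT_of_linear J g.toLinearMap hc
  have e1 : (r'.qC J).comp gC = gCbar.comp (r.qC J) := AlgHom.ext fun _ => rfl
  have e2 : (r'.val J).comp gC = g.comp (r.val J) := AlgHom.ext fun _ => rfl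
  have e3 : (r'.π J hJ).comp gC = f.comp (r.π J hJ) := AlgHom.ext fun c => h2 c.1
  rw [avg_eq t J r hJ hk hm, avg_eq t J r' hJ hk' (m := OTm t gC ≫ m) ⟨by
    rw [← Category.assoc, OTm_comp, e2, ← OTm_comp, Category.assoc, hm.1], by
    rw [← Category.assoc, OTm_comp, e1, ← OTm_comp, Category.assoc, hm.2, MonObj.comp_one, MonObj.comp_one,
      MonObj.comp_one]⟩, ← Category.assoc, OTm_comp, e3, ← OTm_comp, Category.assoc]

/-! ### Almost homomorphisms -/

variable {A : Type u} [CommRing A] [HopfAlgebra B A]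

/-- The product of two points of `Spec A`. -/
abbrev star {T : Type u} [CommRing T] [Algebra B T] (f g : A →ₐ[B] T) : A →ₐ[B] T :=
  (Algebra.TensorProduct.lift f g fun _ _ => Commute.all _ _).comp (Bialgebra.comulAlgHom B A)

theorem comp_star {T T' : Type u} [CommRing T] [Algebra B T] [CommRing T'] [Algebra B T'] (h : T →ₐ[B] T')
    (f g : A →ₐ[B] T) : h.comp (star f g) = star (h.comp f) (h.comp g) := by
  refine AlgHom.ext fun a => ?_
  show h (Algebra.TensorProduct.lift f g (fun _ _ => Commute.all _ _) (Bialgebra.comulAlgHom B A a)) =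
    Algebra.TensorProduct.lift (h.comp f) (h.comp g) (fun _ _ => Commute.all _ _) (Bialgebra.comulAlgHom B A a)
  generalize Bialgebra.comulAlgHom B A a = w
  induction w using TensorProduct.induction_on with
  | zero => simp
  | add p q hp hq => simp only [map_add, hp, hq]
  | tmul p q => simp

/-- A point of `G` with values in `A` which is a homomorphism. -/
def HomPt (φ : OT t A ⟶ G) : Prop :=
  ∀ (T : Type u) [CommRing T] [Algebra B T] (f g : A →ₐ[B] T),
    (OTm t f ≫ φ) * (OTm t g ≫ φ) = OTm t (star f g) ≫ φ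

/-- A point of `G` with values in the reduction of `A` which is a homomorphism. -/
def HomMod (φ : OT t (A ⧸ JT J A) ⟶ G) : Prop :=
  ∀ (T : Type u) [CommRing T] [Algebra B T] (f g h : A ⧸ JT J A →ₐ[B] T),
    h.comp (qT J A) = star (f.comp (qT J A)) (g.comp (qT J A)) →
      (OTm t f ≫ φ) * (OTm t g ≫ φ) = OTm t h ≫ φ

theorem group_identity {H : Type*} [Group H] {x y z p q v : H} (h : x * v * x⁻¹ * p = x * y * z⁻¹ * q) :
    p⁻¹ * x * (v⁻¹ * y) = q⁻¹ * z := by
  have hv : v = y * z⁻¹ * q * p⁻¹ * x := by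
    calc v = x⁻¹ * (x * v * x⁻¹ * p) * p⁻¹ * x := by group
      _ = _ := by rw [h]; group
  rw [hv]
  group

set_option maxHeartbeats 1600000 in
include hJ in
/-- An almost homomorphism can be averaged to a homomorphism. -/
theorem exists_homPt (mn : Mean B A) (φ₀ : OT t (A ⧸ JT J A) ⟶ G) (h0 : HomMod t J φ₀)
    (f : OT t A ⟶ G) (hf : OTm t (qT J A) ≫ f = φ₀) :
    ∃ φ : OT t A ⟶ G, OTm t (qT J A) ≫ φ = φ₀ ∧ HomPt t φ := by
  let iL : A →ₐ[B] A ⊗[B] A := Algebra.TensorProduct.includeLeft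
  let iR : A →ₐ[B] A ⊗[B] A := Algebra.TensorProduct.includeRight
  let Δ : A →ₐ[B] A ⊗[B] A := Bialgebra.comulAlgHom B A
  let c : OT t (A ⊗[B] A) ⟶ G := (OTm t iL ≫ f) * (OTm t iR ≫ f) * (OTm t Δ ≫ f)⁻¹
  have hΔ : Δ = star iL iR := by
    refine AlgHom.ext fun a => ?_
    show Δ a = Algebra.TensorProduct.lift iL iR (fun _ _ => Commute.all _ _) (Δ a)
    generalize Δ a = w
    induction w using TensorProduct.induction_on with
    | zero => simp
    | add p q hp hq => simp only [map_add, ← hp, ← hq]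
    | tmul p q => simp [iL, iR]
  have hqc : ∀ x : A →ₐ[B] A ⊗[B] A,
      OTm t (qT J (A ⊗[B] A)) ≫ OTm t x ≫ f = OTm t (qmap J x) ≫ φ₀ := fun x => by
    rw [← hf, ← Category.assoc, OTm_comp, ← Category.assoc, OTm_comp, qmap_comp]
  have hc : Cong t J c 1 := by
    unfold Cong
    rw [MonObj.comp_mul, MonObj.comp_mul, GrpObj.comp_inv, hqc, hqc, hqc,
      h0 _ (qmap J iL) (qmap J iR) (qmap J Δ) (by
        rw [qmap_comp, qmap_comp, qmap_comp, ← comp_star, ← hΔ]),
      mul_inv_cancel, MonObj.comp_one]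
  let r₂ : Ret (B := B) A (A ⊗[B] A) :=
    { i := iL, E := mn.L, E_one := mn.L_one, E_mul := fun p z => by rw [mul_comm, mn.L_mul, mul_comm] }
  let r₃ : Ret (B := B) (A ⊗[B] A) (A ⊗[B] (A ⊗[B] A)) :=
    { i := embTwo B A
      E := mn.L3
      E_one := by
        show LinearMap.lTensor A mn.L ((1 : A) ⊗ₜ[B] (1 : A ⊗[B] A)) = _
        rw [LinearMap.lTensor_tmul, mn.L_one, Algebra.TensorProduct.one_def]
      E_mul := fun p z => by rw [mul_comm, mn.L3_mul, mul_comm] }
  let b : OT t A ⟶ G := avg t J r₂ hJ c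
  have hb : Cong t J b 1 := avg_cong t J r₂ hJ hc
  -- maps into the triple product
  let T3 := A ⊗[B] (A ⊗[B] A)
  let g₁ : A ⊗[B] A →ₐ[B] T3 := Algebra.TensorProduct.includeRight
  let g₂ : A ⊗[B] A →ₐ[B] T3 := Algebra.TensorProduct.map (AlgHom.id B A) Δ
  let g₃ : A ⊗[B] A →ₐ[B] T3 :=
    (Algebra.TensorProduct.assoc B B B A A A).toAlgHom.comp (Algebra.TensorProduct.map Δ (AlgHom.id B A))
  have hg : ∀ g : A ⊗[B] A →ₐ[B] T3, OTm t g ≫ c =
      (OTm t (g.comp iL) ≫ f) * (OTm t (g.comp iR) ≫ f) * (OTm t (g.comp Δ) ≫ f)⁻¹ := fun g => by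
    simp only [c, MonObj.comp_mul, GrpObj.comp_inv, ← Category.assoc, OTm_comp]
  have cong_g : ∀ g : A ⊗[B] A →ₐ[B] T3, Cong t J (OTm t g ≫ c) 1 := fun g => by
    have := hc.comp t g
    rwa [MonObj.comp_one] at this
  have k1 : g₂.comp Δ = g₃.comp Δ := AlgHom.ext fun a => by
    show g₂ (Coalgebra.comul a) = g₃ (Coalgebra.comul a)
    have h := Coalgebra.coassoc_apply (R := B) a
    have e2 : ∀ w, g₂ w = LinearMap.lTensor A (Coalgebra.comul (R := B)) w := fun w => by
      induction w using TensorProduct.induction_on with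
      | zero => simp
      | add p q hp hq => simp only [map_add, hp, hq]
      | tmul p q => rfl
    have e3 : ∀ w, g₃ w = TensorProduct.assoc B A A A (LinearMap.rTensor A (Coalgebra.comul (R := B)) w) := fun w => by
      induction w using TensorProduct.induction_on with
      | zero => simp
      | add p q hp hq => simp only [map_add, hp, hq]
      | tmul p q => rfl
    rw [e2, e3, h]
  have k2 : g₃.comp iL = (embTwo B A).comp Δ := AlgHom.ext fun a => by
    show TensorProduct.assoc B A A A (Δ a ⊗ₜ[B] (1 : A)) = embTwo B A (Δ a)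
    generalize Δ a = w
    induction w using TensorProduct.induction_on with
    | zero => simp
    | add p q hp hq => simp only [TensorProduct.add_tmul, map_add, hp, hq]
    | tmul p q => rfl
  have k3 : g₂.comp iR = g₁.comp Δ := AlgHom.ext fun a => by
    show (1 : A) ⊗ₜ[B] Δ a = (1 : A) ⊗ₜ[B] Δ a
    rfl
  have k4 : g₂.comp iL = (embTwo B A).comp iL := AlgHom.ext fun a => by
    show a ⊗ₜ[B] Δ 1 = a ⊗ₜ[B] (iL 1)
    rw [map_one, map_one]
  have k5 : g₁.comp iL = (embTwo B A).comp iR := AlgHom.ext fun a => rfl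
  have k6 : g₃.comp iR = g₁.comp iR := AlgHom.ext fun a => by
    show TensorProduct.assoc B A A A (Δ 1 ⊗ₜ[B] a) = (1 : A) ⊗ₜ[B] ((1 : A) ⊗ₜ[B] a)
    rw [map_one, Algebra.TensorProduct.one_def, TensorProduct.assoc_tmul]
  -- the cocycle identity
  have key : ((OTm t (embTwo B A) ≫ (OTm t iL ≫ f)) * (OTm t g₁ ≫ c) * (OTm t (embTwo B A) ≫ (OTm t iL ≫ f))⁻¹) *
      (OTm t g₂ ≫ c) = (OTm t (embTwo B A) ≫ c) * (OTm t g₃ ≫ c) := by
    rw [hg, hg, hg, hg, ← Category.assoc, OTm_comp, k1, k2, k3, k4, k5, k6]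
    group
  have key2 := congrArg (avg t J r₃ hJ) key
  have n1 : avg t J r₃ hJ (OTm t g₁ ≫ c) = OTm t iR ≫ b :=
    avg_natural t J r₂ hJ r₃ iR g₁ k5 (fun w => rfl) hc
  have n2 : avg t J r₃ hJ (OTm t g₂ ≫ c) = OTm t iL ≫ b :=
    avg_natural t J r₂ hJ r₃ iL g₂ k4 (fun w => by
      show LinearMap.lTensor A mn.L (g₂ w) = iL (mn.L w)
      induction w using TensorProduct.induction_on with
      | zero => simp
      | add p q hp hq => simp only [map_add, hp, hq]
      | tmul p q =>
        rw [show g₂ (p ⊗ₜ q) = p ⊗ₜ Δ q from rfl, LinearMap.lTensor_tmul, mn.L_tmul, map_smul,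
          show mn.L (Δ q) = mn.μ q • (1 : A) from mn.inv q, TensorProduct.tmul_smul]
        rfl) hc
  have n3 : avg t J r₃ hJ (OTm t g₃ ≫ c) = OTm t Δ ≫ b :=
    avg_natural t J r₂ hJ r₃ Δ g₃ k2 (fun w => by
      show LinearMap.lTensor A mn.L (g₃ w) = Δ (mn.L w)
      induction w using TensorProduct.induction_on with
      | zero => simp
      | add p q hp hq => simp only [map_add, hp, hq]
      | tmul p q =>
        rw [mn.L_tmul, map_smul, show g₃ (p ⊗ₜ q) = TensorProduct.assoc B A A A (Δ p ⊗ₜ q) from rfl]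
        generalize Δ p = v
        induction v using TensorProduct.induction_on with
        | zero => simp
        | add x y hx hy => simp only [TensorProduct.add_tmul, map_add, smul_add, hx, hy]
        | tmul x y => rw [TensorProduct.assoc_tmul, LinearMap.lTensor_tmul, mn.L_tmul, TensorProduct.tmul_smul]) hc
  have n4 : avg t J r₃ hJ (OTm t (embTwo B A) ≫ c) = c := avg_const t J r₃ hJ hc
  rw [avg_mul t J r₃ hJ (cong_conj t J _ (cong_g _)) (cong_g _), avg_mul t J r₃ hJ (cong_g _) (cong_g _),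
    avg_conj t J r₃ hJ _ (cong_g _), n1, n2, n3, n4] at key2
  have main : (OTm t iL ≫ (b⁻¹ * f)) * (OTm t iR ≫ (b⁻¹ * f)) = OTm t Δ ≫ (b⁻¹ * f) := by
    simp only [MonObj.comp_mul, GrpObj.comp_inv]
    exact group_identity key2
  refine ⟨b⁻¹ * f, ?_, fun T _ _ u v => ?_⟩
  · rw [MonObj.comp_mul, GrpObj.comp_inv, hb, MonObj.comp_one, inv_one, _root_.one_mul, hf]
  · have h := congrArg (OTm t (Algebra.TensorProduct.lift u v fun _ _ => Commute.all _ _) ≫ ·) main
    simp only [MonObj.comp_mul, GrpObj.comp_inv, ← Category.assoc, OTm_comp] at h ⊢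
    rw [show (Algebra.TensorProduct.lift u v fun _ _ => Commute.all _ _).comp iL = u from
        Algebra.TensorProduct.lift_comp_includeLeft u v (fun _ _ => Commute.all _ _),
      show (Algebra.TensorProduct.lift u v fun _ _ => Commute.all _ _).comp iR = v from
        Algebra.TensorProduct.lift_comp_includeRight u v (fun _ _ => Commute.all _ _)] at h
    exact h

end Groth.Agent.MultTypeLib.PointAverage
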