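import Mathlib.AlgebraicGeometry.AffineScheme
import Mathlib.AlgebraicGeometry.Cover.Open
import Mathlib.AlgebraicGeometry.Gluing
import Mathlib.AlgebraicGeometry.Pullbacks
import Mathlib.RingTheory.Flat.Localization
import Mathlib.RingTheory.TensorProduct.Basic

/-!
# Points congruent to a point of a subring descend to the subring

For an injection `θ : C → P'` whose image contains an ideal `K` of square zero, a point of a scheme
with values in `P'` that agrees modulo `K` with a point coming from `C` comes from a unique point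
with values in `C`.
-/

set_option autoImplicit false
set_option linter.style.haveILetI false
universe u

open CategoryTheory CategoryTheory.Limits AlgebraicGeometry

namespace Groth.Agent.MultTypeLib.PointDescend

variable {X : Scheme.{u}} {C P : Type u} [CommRing C] [CommRing P] (θ : C →+* P) (K : Ideal P)
  (e : Spec (CommRingCat.of C) ⟶ X)

/-- The reduction modulo `K`. -/
noncomputable abbrev red : Spec (CommRingCat.of (P ⧸ K)) ⟶ Spec (CommRingCat.of P) :=
  Spec.map (CommRingCat.ofHom (Ideal.Quotient.mk K))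

theorem red_surjective (hK : K * K = ⊥) : Function.Surjective (red K) := fun x => by
  obtain ⟨y, hy⟩ : x ∈ Set.range (PrimeSpectrum.comap (Ideal.Quotient.mk K)) := by
    rw [range_comap_of_surjective _ _ Ideal.Quotient.mk_surjective, Ideal.mk_ker]
    intro z hz
    have h : z * z ∈ x.asIdeal := by
      have : z * z = 0 := by simpa [hK] using Ideal.mul_mem_mul hz hz
      rw [this]; exact Ideal.zero_mem _
    exact (x.isPrime.mem_or_mem h).elim id id
  exact ⟨y, hy⟩

/-- A morphism to an affine open, as a ring map. -/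
theorem exists_hom_of_range {B : Type u} [CommRing B] {W : X.Opens} (hW : IsAffineOpen W)
    (a : Spec (CommRingCat.of B) ⟶ X) (h : ∀ x, a x ∈ W) :
    ∃ f : Γ(X, W) ⟶ CommRingCat.of B, Spec.map f ≫ hW.fromSpec = a := by
  have hsub : Set.range a ⊆ Set.range hW.fromSpec := by
    rw [hW.range_fromSpec]; rintro _ ⟨x, rfl⟩; exact h x
  exact ⟨Spec.preimage (IsOpenImmersion.lift hW.fromSpec a hsub), by
    rw [Spec.map_preimage, IsOpenImmersion.lift_fac]⟩

theorem hom_inj {B : Type u} [CommRing B] {W : X.Opens} (hW : IsAffineOpen W)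
    {f g : Γ(X, W) ⟶ CommRingCat.of B} (h : Spec.map f ≫ hW.fromSpec = Spec.map g ≫ hW.fromSpec) : f = g :=
  Spec.map_injective ((cancel_mono hW.fromSpec).1 h)

/-- The kernel of a square zero reduction pulled back along an injection squares to zero. -/
theorem comap_mul_self (hK : K * K = ⊥) (hθ : Function.Injective θ) : K.comap θ * K.comap θ = ⊥ := by
  rw [eq_bot_iff, Ideal.mul_le]
  intro p hp q hq
  rw [Ideal.mem_bot]
  apply hθ
  rw [map_mul, map_zero]
  simpa [hK] using Ideal.mul_mem_mul (Ideal.mem_comap.1 hp) (Ideal.mem_comap.1 hq)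

/-- Two points that agree on the reduction have the same underlying map. -/
theorem apply_eq {N : Ideal C} (hN : N * N = ⊥) {a b : Spec (CommRingCat.of C) ⟶ X}
    (h : red N ≫ a = red N ≫ b) (x : Spec (CommRingCat.of C)) : a x = b x := by
  obtain ⟨y, rfl⟩ := red_surjective N hN x
  rw [← Scheme.Hom.comp_apply, ← Scheme.Hom.comp_apply, h]

/-- Existence over a base algebra where the given point lands in an affine open. -/
theorem exists_descend_affine (hK : K * K = ⊥) (hθK : ∀ p ∈ K, ∃ c, θ c = p)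
    (hθ : Function.Injective θ) {W : X.Opens} (hW : IsAffineOpen W) (he : ∀ x, e x ∈ W)
    (k : Spec (CommRingCat.of P) ⟶ X)
    (hk : red K ≫ k = red K ≫ Spec.map (CommRingCat.ofHom θ) ≫ e) :
    ∃ m : Spec (CommRingCat.of C) ⟶ X, Spec.map (CommRingCat.ofHom θ) ≫ m = k ∧ ∀ x, m x = e x := by
  obtain ⟨f₀, hf₀⟩ := exists_hom_of_range hW e he
  obtain ⟨f, hf⟩ := exists_hom_of_range hW k fun x => by
    obtain ⟨y, rfl⟩ := red_surjective K hK x
    rw [← Scheme.Hom.comp_apply, hk, Scheme.Hom.comp_apply, Scheme.Hom.comp_apply]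
    exact he _
  have hq : f ≫ CommRingCat.ofHom (Ideal.Quotient.mk K) =
      f₀ ≫ CommRingCat.ofHom θ ≫ CommRingCat.ofHom (Ideal.Quotient.mk K) := by
    refine hom_inj hW ?_
    rw [Spec.map_comp, Spec.map_comp, Spec.map_comp, Category.assoc, Category.assoc, Category.assoc, hf, hf₀]
    exact hk
  have hmem : ∀ x, ∃ c, θ c = f x := fun x => by
    have h : Ideal.Quotient.mk K (f x) = Ideal.Quotient.mk K (θ (f₀ x)) := congr($(hq) x)
    obtain ⟨c, hc⟩ := hθK _ (Ideal.Quotient.eq.1 h)
    exact ⟨c + f₀ x, by rw [map_add, hc, sub_add_cancel]⟩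
  choose g hg using hmem
  let gH : Γ(X, W) →+* C :=
    { toFun := g
      map_one' := hθ (by rw [hg, map_one, map_one])
      map_mul' := fun x y => hθ (by rw [hg, map_mul, map_mul, hg, hg])
      map_zero' := hθ (by rw [hg, map_zero, map_zero])
      map_add' := fun x y => hθ (by rw [hg, map_add, map_add, hg, hg]) }
  refine ⟨Spec.map (CommRingCat.ofHom gH) ≫ hW.fromSpec, ?_, apply_eq (comap_mul_self θ K hK hθ) ?_⟩
  · rw [← Spec.map_comp_assoc, ← hf]
    congr 2
    ext x
    exact hg x
  · rw [← hf₀]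
    simp only [red, ← Spec.map_comp_assoc]
    congr 2
    ext x
    show Ideal.Quotient.mk (K.comap θ) (g x) = Ideal.Quotient.mk (K.comap θ) (f₀ x)
    rw [Ideal.Quotient.eq, Ideal.mem_comap, map_sub, hg]
    exact Ideal.Quotient.eq.1 (congr($(hq) x) : Ideal.Quotient.mk K (f x) = Ideal.Quotient.mk K (θ (f₀ x)))

open TensorProduct in
/-- Uniqueness. -/
theorem descend_unique (hθ : Function.Injective θ) (a b : Spec (CommRingCat.of C) ⟶ X)
    (h : Spec.map (CommRingCat.ofHom θ) ≫ a = Spec.map (CommRingCat.ofHom θ) ≫ b)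
    (hr : ∀ x, a x = b x) : a = b := by
  classical
  have hcov : ∀ p : PrimeSpectrum C, ∃ (W : X.Opens) (g : C), IsAffineOpen W ∧ g ∉ p.asIdeal ∧
      ∀ q : PrimeSpectrum C, g ∉ q.asIdeal → a q ∈ W := by
    intro p
    obtain ⟨W, hW, hpW, -⟩ := exists_isAffineOpen_mem_and_subset (x := a p) (U := ⊤) trivial
    obtain ⟨_, ⟨g, rfl⟩, hpg, hsub⟩ := PrimeSpectrum.isTopologicalBasis_basic_opens.exists_subset_of_mem_open
      (show p ∈ a ⁻¹' W from hpW) (W.2.preimage a.continuous)
    exact ⟨W, g, hW, hpg, fun q hq => hsub hq⟩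
  choose W g hW hg hgW using hcov
  have hspan : Ideal.span (Set.range g) = ⊤ := by
    by_contra hne
    obtain ⟨M, hM, hle⟩ := Ideal.exists_le_maximal _ hne
    exact hg ⟨M, hM.isPrime⟩ (hle (Ideal.subset_span ⟨_, rfl⟩))
  refine (Scheme.affineOpenCoverOfSpanRangeEqTop (R := CommRingCat.of C) g hspan).openCover.hom_ext _ _ fun p => ?_
  let L := Localization.Away (g p)
  let l : Spec (CommRingCat.of L) ⟶ Spec (CommRingCat.of C) := Spec.map (CommRingCat.ofHom (algebraMap C L))
  show l ≫ a = l ≫ b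
  have hla : ∀ x, (l ≫ a) x ∈ W p := fun x => by
    refine hgW p _ ?_
    have : PrimeSpectrum.comap (algebraMap C L) x ∈ Set.range (PrimeSpectrum.comap (algebraMap C L)) := ⟨x, rfl⟩
    rw [PrimeSpectrum.localization_away_comap_range L (g p)] at this
    exact this
  obtain ⟨fa, hfa⟩ := exists_hom_of_range (hW p) _ hla
  obtain ⟨fb, hfb⟩ := exists_hom_of_range (hW p) (l ≫ b) fun x => by
    rw [Scheme.Hom.comp_apply, ← hr, ← Scheme.Hom.comp_apply]; exact hla x
  letI : Algebra C P := θ.toAlgebra
  let ι : L →+* L ⊗[C] P := Algebra.TensorProduct.includeLeftRingHom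
  have hinj : Function.Injective ι := by
    have h1 := Module.Flat.lTensor_preserves_injective_linearMap (M := L) (Algebra.linearMap C P) hθ
    intro x y hxy
    apply (TensorProduct.rid C L).symm.injective
    apply h1
    simpa [ι] using hxy
  have hco : CommRingCat.ofHom (algebraMap C L) ≫ CommRingCat.ofHom ι =
      CommRingCat.ofHom θ ≫ CommRingCat.ofHom
        ((Algebra.TensorProduct.includeRight : P →ₐ[C] L ⊗[C] P).toRingHom) := by
    ext c
    show algebraMap C L c ⊗ₜ[C] (1 : P) = (1 : L) ⊗ₜ[C] θ c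
    rw [Algebra.algebraMap_eq_smul_one, TensorProduct.smul_tmul, Algebra.smul_def, _root_.mul_one]
    rfl
  have key : fa ≫ CommRingCat.ofHom ι = fb ≫ CommRingCat.ofHom ι := by
    refine hom_inj (hW p) ?_
    rw [Spec.map_comp, Spec.map_comp, Category.assoc, Category.assoc, hfa, hfb,
      ← Spec.map_comp_assoc, ← Spec.map_comp_assoc, hco, Spec.map_comp, Category.assoc, Category.assoc, h]
  have : fa = fb := by
    ext x
    exact hinj congr($(key) x)
  rw [← hfa, ← hfb, this]

open TensorProduct in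
/-- A point congruent to one from the subring comes from the subring. -/
theorem exists_descend (hK : K * K = ⊥) (hθK : ∀ p ∈ K, ∃ c, θ c = p) (hθ : Function.Injective θ)
    (k : Spec (CommRingCat.of P) ⟶ X)
    (hk : red K ≫ k = red K ≫ Spec.map (CommRingCat.ofHom θ) ≫ e) :
    ∃ m : Spec (CommRingCat.of C) ⟶ X, Spec.map (CommRingCat.ofHom θ) ≫ m = k ∧
      ∀ x, m x = e x := by
  classical
  letI : Algebra C P := θ.toAlgebra
  have hcov : ∀ p : PrimeSpectrum C, ∃ (W : X.Opens) (g : C), IsAffineOpen W ∧ g ∉ p.asIdeal ∧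
      ∀ q : PrimeSpectrum C, g ∉ q.asIdeal → e q ∈ W := by
    intro p
    obtain ⟨W, hW, hpW, -⟩ := exists_isAffineOpen_mem_and_subset (x := e p) (U := ⊤) trivial
    obtain ⟨_, ⟨g, rfl⟩, hpg, hsub⟩ := PrimeSpectrum.isTopologicalBasis_basic_opens.exists_subset_of_mem_open
      (show p ∈ e ⁻¹' W from hpW) (W.2.preimage e.continuous)
    exact ⟨W, g, hW, hpg, fun q hq => hsub hq⟩
  choose W g hW hg hgW using hcov
  have hspan : Ideal.span (Set.range g) = ⊤ := by
    by_contra hne
    obtain ⟨M, hM, hle⟩ := Ideal.exists_le_maximal _ hne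
    exact hg ⟨M, hM.isPrime⟩ (hle (Ideal.subset_span ⟨_, rfl⟩))
  -- the data over a flat algebra
  let θD : ∀ (D : Type u) [CommRing D] [Algebra C D], D →+* D ⊗[C] P := fun D _ _ =>
    Algebra.TensorProduct.includeLeftRingHom
  let KD : ∀ (D : Type u) [CommRing D] [Algebra C D], Ideal (D ⊗[C] P) := fun D _ _ =>
    K.map (Algebra.TensorProduct.includeRight : P →ₐ[C] D ⊗[C] P).toRingHom
  have hKD : ∀ (D : Type u) [CommRing D] [Algebra C D], KD D * KD D = ⊥ := fun D _ _ => by
    rw [← Ideal.map_mul, hK, Ideal.map_bot]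
  have hθD : ∀ (D : Type u) [CommRing D] [Algebra C D] [Module.Flat C D], Function.Injective (θD D) := by
    intro D _ _ _ x y hxy
    have h1 := Module.Flat.lTensor_preserves_injective_linearMap (M := D) (Algebra.linearMap C P) hθ
    apply (TensorProduct.rid C D).symm.injective
    apply h1
    simpa [θD] using hxy
  have hθKD : ∀ (D : Type u) [CommRing D] [Algebra C D], ∀ p ∈ KD D, ∃ c, θD D c = p := by
    intro D _ _ p hp
    suffices ∀ r : D ⊗[C] P, ∃ c, θD D c = r * p by simpa using this 1
    induction hp using Submodule.span_induction with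
    | mem x hx =>
      obtain ⟨z, hz, rfl⟩ := hx
      intro r
      induction r using TensorProduct.induction_on with
      | zero => exact ⟨0, by rw [map_zero, zero_mul]⟩
      | add r s hr hs =>
        obtain ⟨b, hb⟩ := hr
        obtain ⟨b', hb'⟩ := hs
        exact ⟨b + b', by rw [map_add, hb, hb', add_mul]⟩
      | tmul d w =>
        obtain ⟨c, hc⟩ := hθK (w * z) (K.mul_mem_left _ hz)
        refine ⟨d * algebraMap C D c, ?_⟩
        show (d * algebraMap C D c) ⊗ₜ[C] (1 : P) = (d ⊗ₜ[C] w) * ((1 : D) ⊗ₜ[C] z)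
        rw [Algebra.TensorProduct.tmul_mul_tmul, _root_.mul_one, ← hc, _root_.mul_comm d, ← Algebra.smul_def,
          TensorProduct.smul_tmul, Algebra.smul_def, _root_.mul_one]
        rfl
    | zero => exact fun r => ⟨0, by rw [map_zero, mul_zero]⟩
    | add x y _ _ hx hy =>
      intro r
      obtain ⟨a, ha⟩ := hx r
      obtain ⟨b, hb⟩ := hy r
      exact ⟨a + b, by rw [map_add, ha, hb, mul_add]⟩
    | smul s x _ hx =>
      intro r
      obtain ⟨a, ha⟩ := hx (r * s)
      exact ⟨a, by rw [ha, smul_eq_mul, _root_.mul_assoc]⟩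
  let eD : ∀ (D : Type u) [CommRing D] [Algebra C D], Spec (CommRingCat.of D) ⟶ X := fun D _ _ =>
    Spec.map (CommRingCat.ofHom (algebraMap C D)) ≫ e
  let kD : ∀ (D : Type u) [CommRing D] [Algebra C D], Spec (CommRingCat.of (D ⊗[C] P)) ⟶ X := fun D _ _ =>
    Spec.map (CommRingCat.ofHom (Algebra.TensorProduct.includeRight : P →ₐ[C] D ⊗[C] P).toRingHom) ≫ k
  have hcoD : ∀ (D : Type u) [CommRing D] [Algebra C D],
      CommRingCat.ofHom (algebraMap C D) ≫ CommRingCat.ofHom (θD D) = CommRingCat.ofHom θ ≫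
        CommRingCat.ofHom (Algebra.TensorProduct.includeRight : P →ₐ[C] D ⊗[C] P).toRingHom := by
    intro D _ _
    ext c
    show algebraMap C D c ⊗ₜ[C] (1 : P) = (1 : D) ⊗ₜ[C] θ c
    rw [Algebra.algebraMap_eq_smul_one, TensorProduct.smul_tmul, Algebra.smul_def, _root_.mul_one]
    rfl
  have hkD : ∀ (D : Type u) [CommRing D] [Algebra C D],
      red (KD D) ≫ kD D = red (KD D) ≫ Spec.map (CommRingCat.ofHom (θD D)) ≫ eD D := by
    intro D _ _
    let q : P ⧸ K →+* (D ⊗[C] P) ⧸ KD D := Ideal.quotientMap (KD D)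
      (Algebra.TensorProduct.includeRight : P →ₐ[C] D ⊗[C] P).toRingHom Ideal.le_comap_map
    have hq : CommRingCat.ofHom (Algebra.TensorProduct.includeRight : P →ₐ[C] D ⊗[C] P).toRingHom ≫
        CommRingCat.ofHom (Ideal.Quotient.mk (KD D)) =
          CommRingCat.ofHom (Ideal.Quotient.mk K) ≫ CommRingCat.ofHom q := by
      ext p; rfl
    show red (KD D) ≫ Spec.map _ ≫ k = red (KD D) ≫ Spec.map _ ≫ Spec.map _ ≫ e
    simp only [red] at hk ⊢
    rw [← Spec.map_comp_assoc, hq, Spec.map_comp, Category.assoc, hk]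
    simp only [← Spec.map_comp_assoc, Category.assoc]
    congr 2
    rw [← Category.assoc (CommRingCat.ofHom (algebraMap C D)), hcoD, Category.assoc, hq]
  -- the local descents
  have hloc : ∀ p : PrimeSpectrum C, ∃ m : Spec (CommRingCat.of (Localization.Away (g p))) ⟶ X,
      Spec.map (CommRingCat.ofHom (θD _)) ≫ m = kD _ ∧ ∀ x, m x = eD _ x := by
    intro p
    refine exists_descend_affine (θD _) (KD _) (eD _) (hKD _) (hθKD _) (hθD _) (hW p) (fun x => ?_) _ (hkD _)
    refine hgW p _ ?_
    have : PrimeSpectrum.comap (algebraMap C (Localization.Away (g p))) x ∈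
        Set.range (PrimeSpectrum.comap (algebraMap C (Localization.Away (g p)))) := ⟨x, rfl⟩
    rw [PrimeSpectrum.localization_away_comap_range (Localization.Away (g p)) (g p)] at this
    exact this
  choose m hm1 hm2 using hloc
  let 𝒰 := (Scheme.affineOpenCoverOfSpanRangeEqTop (R := CommRingCat.of C) g hspan).openCover
  let l : ∀ p, Spec (CommRingCat.of (Localization.Away (g p))) ⟶ Spec (CommRingCat.of C) := fun p =>
    Spec.map (CommRingCat.ofHom (algebraMap C (Localization.Away (g p))))
  have hcompat : ∀ p q, pullback.fst (l p) (l q) ≫ m p = pullback.snd (l p) (l q) ≫ m q := by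
    intro p q
    let Lp := Localization.Away (g p)
    let Lq := Localization.Away (g q)
    let D := Lp ⊗[C] Lq
    rw [← cancel_epi (pullbackSpecIso C Lp Lq).inv]
    erw [pullbackSpecIso_inv_fst_assoc, pullbackSpecIso_inv_snd_assoc]
    have haux : ∀ {L : Type u} [CommRing L] [Algebra C L] (i : L →ₐ[C] D) (mL : Spec (CommRingCat.of L) ⟶ X),
        Spec.map (CommRingCat.ofHom (θD L)) ≫ mL = kD L → (∀ x, mL x = eD L x) →
        Spec.map (CommRingCat.ofHom (θD D)) ≫ Spec.map (CommRingCat.ofHom i.toRingHom) ≫ mL = kD D ∧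
          ∀ x, (Spec.map (CommRingCat.ofHom i.toRingHom) ≫ mL) x = eD D x := by
      intro L _ _ i mL h1 h2
      constructor
      · have hc : CommRingCat.ofHom i.toRingHom ≫ CommRingCat.ofHom (θD D) = CommRingCat.ofHom (θD L) ≫
            CommRingCat.ofHom (Algebra.TensorProduct.map i (AlgHom.id C P)).toRingHom := by
          ext c; rfl
        rw [← Spec.map_comp_assoc, hc, Spec.map_comp, Category.assoc, h1]
        show Spec.map _ ≫ Spec.map _ ≫ k = Spec.map _ ≫ k
        rw [← Spec.map_comp_assoc]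
        congr 2
        ext x
        show Algebra.TensorProduct.map i (AlgHom.id C P) ((1 : L) ⊗ₜ[C] x) = (1 : D) ⊗ₜ[C] x
        simp
      · intro x
        rw [Scheme.Hom.comp_apply, h2, ← Scheme.Hom.comp_apply]
        show (Spec.map _ ≫ Spec.map _ ≫ e) x = (Spec.map _ ≫ e) x
        rw [← Spec.map_comp_assoc, ← CommRingCat.ofHom_comp, AlgHom.toRingHom_eq_coe, AlgHom.comp_algebraMap]
    obtain ⟨a1, a2⟩ := haux (Algebra.TensorProduct.includeLeft : Lp →ₐ[C] D) (m p) (hm1 p) (hm2 p)
    obtain ⟨b1, b2⟩ := haux (Algebra.TensorProduct.includeRight : Lq →ₐ[C] D) (m q) (hm1 q) (hm2 q)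
    exact descend_unique (θD D) (hθD D) _ _ (a1.trans b1.symm) fun x => (a2 x).trans (b2 x).symm
  let mg := 𝒰.glueMorphisms m hcompat
  have hmg : ∀ p, l p ≫ mg = m p := fun p => 𝒰.ι_glueMorphisms m hcompat p
  refine ⟨mg, ?_, fun x => ?_⟩
  · have hspanP : Ideal.span (Set.range fun p => θ (g p)) = ⊤ := by
      rw [show (Set.range fun p => θ (g p)) = θ '' Set.range g from Set.range_comp _ _, ← Ideal.map_span, hspan,
        Ideal.map_top]
    refine (Scheme.affineOpenCoverOfSpanRangeEqTop (R := CommRingCat.of P) _ hspanP).openCover.hom_ext _ _ fun p => ?_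
    let Q := Localization.Away (θ (g p))
    let i : Localization.Away (g p) →+* Q := Localization.awayMap θ (g p)
    show Spec.map (CommRingCat.ofHom (algebraMap P Q)) ≫ Spec.map (CommRingCat.ofHom θ) ≫ mg =
      Spec.map (CommRingCat.ofHom (algebraMap P Q)) ≫ k
    have hi : i.comp (algebraMap C (Localization.Away (g p))) = (algebraMap P Q).comp θ :=
      IsLocalization.map_comp _
    let pA : P →ₐ[C] Q := IsScalarTower.toAlgHom C P Q
    let iA : Localization.Away (g p) →ₐ[C] Q :=
      { i with commutes' := fun c => (RingHom.congr_fun hi c).trans (IsScalarTower.algebraMap_apply C P Q c).symm }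
    let j : Localization.Away (g p) ⊗[C] P →ₐ[C] Q := Algebra.TensorProduct.lift iA pA fun _ _ => .all _ _
    have hj1 : CommRingCat.ofHom (θD (Localization.Away (g p))) ≫ CommRingCat.ofHom j.toRingHom = CommRingCat.ofHom i := by
      ext x
      show j (x ⊗ₜ[C] (1 : P)) = i x
      simp [j, iA, pA]
    have hj2 : CommRingCat.ofHom (Algebra.TensorProduct.includeRight : P →ₐ[C] Localization.Away (g p) ⊗[C] P).toRingHom ≫
        CommRingCat.ofHom j.toRingHom = CommRingCat.ofHom (algebraMap P Q) := by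
      ext x
      show j ((1 : Localization.Away (g p)) ⊗ₜ[C] x) = algebraMap P Q x
      simp [j, iA, pA]
    have hc : CommRingCat.ofHom θ ≫ CommRingCat.ofHom (algebraMap P Q) =
        CommRingCat.ofHom (algebraMap C (Localization.Away (g p))) ≫ CommRingCat.ofHom i := by
      rw [← CommRingCat.ofHom_comp, ← CommRingCat.ofHom_comp, hi]
    rw [← Spec.map_comp_assoc, hc, Spec.map_comp, Category.assoc, hmg p, ← hj1, Spec.map_comp, Category.assoc, hm1 p]
    show Spec.map _ ≫ Spec.map _ ≫ k = _
    rw [← Spec.map_comp_assoc, hj2]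
  · obtain ⟨y, hy⟩ := 𝒰.covers x
    have h2 := hm2 (𝒰.idx x) y
    rw [← hmg (𝒰.idx x), Scheme.Hom.comp_apply] at h2
    have hy' : l (𝒰.idx x) y = x := hy
    rw [hy'] at h2
    rw [h2]
    exact congrArg e hy'

end Groth.Agent.MultTypeLib.PointDescend
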