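import Groth.Agent.MultTypeLib.ConjLift
import Groth.Agent.MultTypeLib.MultNil

/-!
# Lifting conjugations of subgroups of multiplicative type, for Hopf algebras
-/

universe u

open WithConv TensorProduct Coalgebra Bialgebra

noncomputable section

namespace Groth.Agent.MultTypeLib

attribute [local instance 2000] algConvGroup

variable {R : Type u} [CommRing R]

/-- A map of algebras through which a morphism of bialgebras factors by a surjective one is a morphism of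
bialgebras. -/
theorem exists_bialgHom_of_comp_surjective {C A B : Type u} [CommRing C] [Bialgebra R C] [CommRing A] [Bialgebra R A]
    [CommRing B] [Bialgebra R B] (f : C →ₐc[R] A) (hf : Function.Surjective f) (g : A →ₐ[R] B) (h : C →ₐc[R] B)
    (hgh : ∀ c, g (f c) = h c) : ∃ φ : A →ₐc[R] B, ∀ a, φ a = g a := by
  refine ⟨BialgHom.ofAlgHom g (AlgHom.ext fun a => ?_) (AlgHom.ext fun a => ?_), fun a => rfl⟩
  · obtain ⟨c, rfl⟩ := hf a
    simp only [AlgHom.comp_apply, Bialgebra.counitAlgHom_apply]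
    rw [hgh, CoalgHomClass.counit_comp_apply, CoalgHomClass.counit_comp_apply]
  · obtain ⟨c, rfl⟩ := hf a
    simp only [AlgHom.comp_apply, Bialgebra.comulAlgHom_apply]
    rw [hgh, ← CoalgHomClass.map_comp_comul_apply, ← CoalgHomClass.map_comp_comul_apply]
    generalize comul (R := R) c = z
    induction z using TensorProduct.induction_on with
    | zero => simp
    | add p q hp hq => simp only [map_add, hp, hq]
    | tmul p q => simp [hgh]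

variable {C : Type u} [CommRing C] [HopfAlgebra R C]
variable {A₁ : Type u} [CommRing A₁] [HopfAlgebra R A₁] {A₂ : Type u} [CommRing A₂] [HopfAlgebra R A₂]

theorem convMap_conjPt (h : A₁ →ₐ[R] A₂) (x : WithConv (C →ₐ[R] R)) (d : WithConv (C →ₐ[R] A₁)) :
    convMap h (conjPt x d) = conjPt x (convMap h d) := by
  simp only [conjPt, map_mul, map_inv, convMap_ofId]

theorem Cong.conjPt {J : Ideal R} {d b : WithConv (C →ₐ[R] A₁)} (h : Cong J (lin d) (lin b))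
    (x : WithConv (C →ₐ[R] R)) : Cong J (lin (MultTypeLib.conjPt x d)) (lin (MultTypeLib.conjPt x b)) := by
  simp only [MultTypeLib.conjPt, map_mul]
  exact (h.mul_left).mul_right

theorem conjPt_one (d : WithConv (C →ₐ[R] A₁)) : conjPt 1 d = d := by
  simp [conjPt]

theorem conjPt_inv_conjPt (x : WithConv (C →ₐ[R] R)) (d : WithConv (C →ₐ[R] A₁)) : conjPt x⁻¹ (conjPt x d) = d := by
  rw [← conjPt_mul, inv_mul_cancel, conjPt_one]

theorem conjPt_conjPt_inv (x : WithConv (C →ₐ[R] R)) (d : WithConv (C →ₐ[R] A₁)) : conjPt x (conjPt x⁻¹ d) = d := by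
  rw [← conjPt_mul, mul_inv_cancel, conjPt_one]

/-- If the conjugate of a subgroup of multiplicative type lies in a second one modulo a nilpotent ideal, the conjugate is
congruent to a homomorphism into the second one. -/
theorem exists_cong_comp {J : Ideal R} (hJ : IsNilpotent J) (hA₁ : SGA3b.IsMultType R A₁)
    (hA₂ : SGA3b.IsMultType R A₂) (γ₁ : C →ₐc[R] A₁) (γ₂ : C →ₐc[R] A₂) (hγ₂ : Function.Surjective γ₂)
    (x : WithConv (C →ₐ[R] R)) (q : A₂ →ₐ[R] (R ⧸ J) ⊗[R] A₁)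
    (hq : ∀ c, (1 : R ⧸ J) ⊗ₜ[R] (conjPt x (toConv (γ₁ : C →ₐ[R] A₁))).ofConv c = q (γ₂ c)) :
    ∃ φ : A₂ →ₐc[R] A₁, Cong J (lin (conjPt x (toConv (γ₁ : C →ₐ[R] A₁))))
      (lin (convMap (φ : A₂ →ₐ[R] A₁) (toConv (γ₂ : C →ₐ[R] A₂)))) := by
  obtain ⟨e, he⟩ := exists_bialgHom_of_isHomMod (conjPt x (toConv (γ₁ : C →ₐ[R] A₁))) (fun c => by
    rw [Submodule.bot_smul, Submodule.mem_bot, ← map_mul]
    exact sub_eq_zero.mpr (congrArg (fun f => (lin f).ofConv c) ((isHomPt_bialgHom γ₁).conj x)))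
  let g : (R ⧸ J) ⊗[R] A₂ →ₐ[R ⧸ J] (R ⧸ J) ⊗[R] A₁ :=
    Algebra.TensorProduct.lift (Algebra.ofId (R ⧸ J) _) q fun _ _ => .all _ _
  have hsurj : Function.Surjective (bcHom (R ⧸ J) γ₂) := by
    intro z
    induction z using TensorProduct.induction_on with
    | zero => exact ⟨0, map_zero _⟩
    | add p q hp hq =>
      obtain ⟨a, rfl⟩ := hp
      obtain ⟨b, rfl⟩ := hq
      exact ⟨a + b, map_add _ _ _⟩
    | tmul s a =>
      obtain ⟨c, rfl⟩ := hγ₂ a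
      exact ⟨s ⊗ₜ c, bcHom_tmul ..⟩
  obtain ⟨φ₀, hφ₀⟩ := exists_bialgHom_of_comp_surjective (bcHom (R ⧸ J) γ₂) hsurj g (bcHom (R ⧸ J) e) fun z => by
    induction z using TensorProduct.induction_on with
    | zero => simp
    | add p q hp hq => simp only [map_add, hp, hq]
    | tmul s c =>
      rw [bcHom_tmul, bcHom_tmul, he]
      simp only [g, Algebra.TensorProduct.lift_tmul]
      rw [← hq, Algebra.ofId_apply, ← Algebra.smul_def, TensorProduct.smul_tmul', smul_eq_mul, mul_one]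
  obtain ⟨φ, hφ⟩ := exists_bialgHom_lift_nil hJ hA₂ hA₁ φ₀
  refine ⟨φ, fun c => (one_tmul_eq_iff_mem J _ _).mp ?_⟩
  show (1 : R ⧸ J) ⊗ₜ[R] (conjPt x (toConv (γ₁ : C →ₐ[R] A₁))).ofConv c = (1 : R ⧸ J) ⊗ₜ[R] φ (γ₂ c)
  rw [← hφ, hφ₀]
  simp [g, hq, ← Algebra.TensorProduct.one_def]

/-- Conjugations of subgroups of multiplicative type lift along nilpotent ideals. -/
theorem exists_conjSub [Algebra.FormallySmooth R C] {J : Ideal R} (hJ : IsNilpotent J) (hA₁ : SGA3b.IsMultType R A₁)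
    (hA₂ : SGA3b.IsMultType R A₂) (γ₁ : C →ₐc[R] A₁) (hγ₁ : Function.Surjective γ₁) (γ₂ : C →ₐc[R] A₂)
    (hγ₂ : Function.Surjective γ₂) (x₀ : WithConv (C →ₐ[R] R)) (q₁ : A₂ →ₐ[R] (R ⧸ J) ⊗[R] A₁)
    (hq₁ : ∀ c, (1 : R ⧸ J) ⊗ₜ[R] (conjPt x₀ (toConv (γ₁ : C →ₐ[R] A₁))).ofConv c = q₁ (γ₂ c))
    (q₂ : A₁ →ₐ[R] (R ⧸ J) ⊗[R] A₂)
    (hq₂ : ∀ c, (1 : R ⧸ J) ⊗ₜ[R] (conjPt x₀⁻¹ (toConv (γ₂ : C →ₐ[R] A₂))).ofConv c = q₂ (γ₁ c)) :
    ∃ (x : WithConv (C →ₐ[R] R)) (φ : A₂ →ₐc[R] A₁) (ψ : A₁ →ₐc[R] A₂), Cong J (lin x) (lin x₀) ∧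
      conjPt x (toConv (γ₁ : C →ₐ[R] A₁)) = convMap (φ : A₂ →ₐ[R] A₁) (toConv (γ₂ : C →ₐ[R] A₂)) ∧
      conjPt x⁻¹ (toConv (γ₂ : C →ₐ[R] A₂)) = convMap (ψ : A₁ →ₐ[R] A₂) (toConv (γ₁ : C →ₐ[R] A₁)) := by
  obtain ⟨φ, hφ⟩ := exists_cong_comp hJ hA₁ hA₂ γ₁ γ₂ hγ₂ x₀ q₁ hq₁
  obtain ⟨ψ, hψ⟩ := exists_cong_comp hJ hA₂ hA₁ γ₂ γ₁ hγ₁ x₀⁻¹ q₂ hq₂
  have h1 : φ.comp ψ = BialgHom.id R A₁ := by
    refine bialgHom_ext_nil hJ hA₁ hA₁ _ _ fun a => ?_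
    obtain ⟨c, rfl⟩ := hγ₁ a
    have h := hψ.comp (φ : A₂ →ₐ[R] A₁).toLinearMap
    have h' : Cong J (lin (convMap (φ : A₂ →ₐ[R] A₁) (convMap (ψ : A₁ →ₐ[R] A₂) (toConv (γ₁ : C →ₐ[R] A₁)))))
        (lin (convMap (φ : A₂ →ₐ[R] A₁) (conjPt x₀⁻¹ (toConv (γ₂ : C →ₐ[R] A₂))))) := h.symm
    rw [convMap_conjPt] at h'
    have h'' := h'.trans (hφ.symm.conjPt x₀⁻¹)
    rw [conjPt_inv_conjPt] at h''
    exact h'' c
  obtain ⟨μ⟩ := exists_mean hA₁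
  obtain ⟨x, hx, hxφ⟩ := μ.exists_conjPt hJ (isHomPt_bialgHom γ₁)
    (isHomPt_bialgHom (φ.comp γ₂)) x₀ hφ
  refine ⟨x, φ, ψ, hx, hxφ, ?_⟩
  have h2 : ψ.comp φ = BialgHom.id R A₂ := by
    refine bialgHom_ext_nil hJ hA₂ hA₂ _ _ fun a => ?_
    obtain ⟨c, rfl⟩ := hγ₂ a
    have h := hφ.comp (ψ : A₁ →ₐ[R] A₂).toLinearMap
    have h' : Cong J (lin (convMap (ψ : A₁ →ₐ[R] A₂) (convMap (φ : A₂ →ₐ[R] A₁) (toConv (γ₂ : C →ₐ[R] A₂)))))
        (lin (convMap (ψ : A₁ →ₐ[R] A₂) (conjPt x₀ (toConv (γ₁ : C →ₐ[R] A₁))))) := h.symm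
    rw [convMap_conjPt] at h'
    have h'' := h'.trans (hψ.symm.conjPt x₀)
    rw [conjPt_conjPt_inv] at h''
    exact h'' c
  have h3 := congrArg (fun d => conjPt x⁻¹ (convMap (ψ : A₁ →ₐ[R] A₂) d)) hxφ
  beta_reduce at h3
  rw [convMap_conjPt, conjPt_inv_conjPt] at h3
  rw [h3]
  congr 1
  exact WithConv.ext (AlgHom.ext fun c => (DFunLike.congr_fun h2 (γ₂ c)).symm)

end Groth.Agent.MultTypeLib
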