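import Groth.Agent.MultTypeLib.BaseChangeLift
import Groth.Agent.MultTypeLib.QuasiBasics
import Groth.Agent.MultTypeLib.GenMultType
import Groth.Agent.MultTypeLib.QuasiIso
import Groth.Agent.MultTypeLib.NilLift
import Groth.Agent.ThickDeform.Basic

import Groth.Agent.MultTypeQI.Recognize
import Groth.Prelude.Def_SGA3x

/-!
# Subgroups of multiplicative type lift along nilpotent ideals
-/

set_option autoImplicit false
open CategoryTheory MonoidalCategory CartesianMonoidalCategory MonObj GrpObj AlgebraicGeometry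
universe u

namespace Groth.Agent.MultTypeLib.SubgroupLiftNil

open Limits TensorProduct
open Groth.Agent.GrpSchLib.AffineHopf

/-- The base change square of a morphism along a base change. -/
theorem isPullback_fst {S S' : Scheme.{u}} (q : S' ⟶ S) {X Y : Over S} (f : X ⟶ Y) :
    IsPullback (pullback.fst X.hom q) ((Over.pullback q).map f).left f.left (pullback.fst Y.hom q) := by
  refine IsPullback.of_bot ?_ (pullback.lift_fst _ _ _).symm (IsPullback.of_hasPullback Y.hom q)
  have e : ((Over.pullback q).map f).left ≫ pullback.snd Y.hom q = pullback.snd X.hom q :=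
    pullback.lift_snd _ _ _
  rw [e, Over.w f]
  exact IsPullback.of_hasPullback X.hom q

/-- A subgroup of multiplicative type modulo a nilpotent ideal of a smooth group lifts to one of multiplicative type
and finite type. -/
theorem exists_lift {R : Type u} [CommRing R] (J : Ideal R) (hJ : IsNilpotent J)
    (G : Over (Spec (CommRingCat.of R))) [GrpObj G] [Smooth G.hom]
    (H₀ : Over (Spec (CommRingCat.of (R ⧸ J)))) [GrpObj H₀] (hH₀ : GenMultType.IsMT H₀)
    (j₀ : H₀ ⟶ Red.bc (Spec.map (CommRingCat.ofHom (Ideal.Quotient.mk J))) G) [IsMonHom j₀] [IsImmersion j₀.left] :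
    ∃ (H : Over (Spec (CommRingCat.of R))) (_ : GrpObj H) (j : H ⟶ G), IsMonHom j ∧ IsImmersion j.left ∧
      SGA3x.IsMultTypeFT H ∧
      ∃ φ : Red.bc (Spec.map (CommRingCat.ofHom (Ideal.Quotient.mk J))) H ≅ H₀, IsMonHom φ.hom ∧
        φ.hom ≫ j₀ = (Over.pullback (Spec.map (CommRingCat.ofHom (Ideal.Quotient.mk J)))).map j := by
  classical
  let q := Spec.map (CommRingCat.ofHom (Ideal.Quotient.mk J))
  have hnil : ∀ x ∈ J, IsNilpotent x := fun x hx => by
    obtain ⟨n, hn⟩ := hJ
    exact ⟨n, by simpa [hn] using Ideal.pow_mem_pow hx n⟩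
  obtain ⟨A₀, _, _, hA₀, ⟨e₀⟩⟩ := GenMultType.exists_hopf_multType H₀ hH₀
  let a₀ : sp (R ⧸ J) A₀ ≅ H₀ := (Grp.forget _).mapIso e₀
  haveI : Algebra.FiniteType (R ⧸ J) A₀ := by
    haveI : LocallyOfFiniteType (Red.bc q G).hom := inferInstanceAs (LocallyOfFiniteType (pullback.snd G.hom q))
    haveI : LocallyOfFiniteType H₀.hom := by rw [← Over.w j₀]; infer_instance
    haveI : IsIso a₀.hom.left := inferInstanceAs (IsIso ((Over.forget _).map a₀.hom))
    haveI h : LocallyOfFiniteType (sp (R ⧸ J) A₀).hom := by rw [← Over.w a₀.hom]; infer_instance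
    exact RingHom.finiteType_algebraMap.1
      ((HasRingHomProperty.Spec_iff (P := @LocallyOfFiniteType)).1 h)
  obtain ⟨A, _, _, hAq, ⟨d⟩⟩ :=
    exists_quasiIsotrivial_lift J hnil A₀ (isQuasiIsotrivial_of_isMultType inferInstance hA₀)
  have hA := QuasiBasics.isMultType_of_quasi hAq
  haveI := QuasiBasics.flat_of_isMultType hA
  haveI : Algebra.FiniteType R A := by
    haveI : Algebra.FiniteType R ((R ⧸ J) ⊗[R] A) := by
      haveI : Algebra.FiniteType (R ⧸ J) ((R ⧸ J) ⊗[R] A) :=
        Algebra.FiniteType.equiv ‹Algebra.FiniteType (R ⧸ J) A₀› (d : _ ≃ₐ[R ⧸ J] A₀).symm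
      exact Algebra.FiniteType.trans (S := R ⧸ J) inferInstance inferInstance
    refine QuasiBasics.finiteType_of_nilpotent
      (Algebra.TensorProduct.includeRight : A →ₐ[R] (R ⧸ J) ⊗[R] A)
      (TensorProduct.mk_surjective R A (R ⧸ J) Ideal.Quotient.mk_surjective) J hJ fun x hx => ?_
    have h1 := congrArg (TensorProduct.quotTensorEquivQuotSMul A J) hx
    rw [map_zero] at h1
    have h2 : (Submodule.Quotient.mk x : A ⧸ (J • ⊤ : Submodule R A)) = 0 := by
      rw [← h1]
      exact (TensorProduct.quotTensorEquivQuotSMul_mk_one_tmul J x).symm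
    rw [Submodule.Quotient.mk_eq_zero, Ideal.smul_top_eq_map] at h2
    exact h2
  obtain ⟨e₁⟩ := nonempty_bc_sp (R := R) (R ⧸ J) A
  let e : Grp.mk (Red.bc q (sp R A)) ≅ Grp.mk H₀ := e₁ ≪≫ (spIso d).symm ≪≫ e₀
  let φ : Red.bc q (sp R A) ≅ H₀ := (Grp.forget _).mapIso e
  haveI : IsMonHom φ.hom := e.hom.hom.isMonHom_hom
  obtain ⟨j, hj, hjq⟩ := BaseChangeLift.exists_hom_lift_bc J hJ A hA G (φ.hom ≫ j₀)
  haveI := hj
  refine ⟨sp R A, inferInstance, j, hj, ?_, ?_, φ, inferInstance, hjq.symm⟩
  · haveI : LocallyOfFiniteType (sp R A).hom :=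
      (HasRingHomProperty.Spec_iff (P := @LocallyOfFiniteType)).2 (RingHom.finiteType_algebraMap.2 inferInstance)
    haveI : LocallyOfFiniteType (j.left ≫ G.hom) := by rw [Over.w]; infer_instance
    haveI : LocallyOfFiniteType j.left := locallyOfFiniteType_of_comp j.left G.hom
    haveI : IsIso φ.hom.left := inferInstanceAs (IsIso ((Over.forget _).map φ.hom))
    haveI : IsImmersion ((Over.pullback q).map j).left := by
      rw [hjq, Over.comp_left]; infer_instance
    haveI : IsClosedImmersion q := IsClosedImmersion.spec_of_surjective _ Ideal.Quotient.mk_surjective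
    haveI : Surjective q := ⟨fun p => by
      have hp : p ∈ Set.range (PrimeSpectrum.comap (Ideal.Quotient.mk J)) := by
        rw [range_comap_of_surjective _ _ Ideal.Quotient.mk_surjective]
        intro x hx
        rw [SetLike.mem_coe, Ideal.mk_ker] at hx
        obtain ⟨n, hn⟩ := hnil x hx
        exact p.2.mem_of_pow_mem n (hn ▸ p.asIdeal.zero_mem)
      exact hp⟩
    exact ThickDeform.isImmersion_lift
      (⟨MorphismProperty.pullback_fst _ _ inferInstance, MorphismProperty.pullback_fst _ _ inferInstance⟩)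
      (isPullback_fst q j)
  · exact MultTypeQI.isMultTypeFT_of_etale_locally fun p =>
      MultTypeQI.etale_nhd_of_hopf inferInstance hA (sp R A) (Iso.refl _) p

end Groth.Agent.MultTypeLib.SubgroupLiftNil
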