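import Groth.Agent.MultTypeLib.Henselian
import Mathlib.RingTheory.Noetherian.Orzech
import Mathlib.RingTheory.Finiteness.Defs

/-!
# Surjective diagonalisations are bijective
-/

universe u

open WithConv TensorProduct Coalgebra Bialgebra

noncomputable section

namespace Groth.Agent.MultTypeLib

theorem surjective_of_mapDomain_surjective {K : Type u} [CommRing K] [Nontrivial K] {M N : Type u}
    [CommGroup M] [CommGroup N] (θ : M →* N)
    (h : Function.Surjective (MonoidAlgebra.mapDomainBialgHom K θ)) : Function.Surjective θ := by
  intro n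
  by_contra hn
  push Not at hn
  obtain ⟨x, hx⟩ := h (MonoidAlgebra.single n 1)
  have key : ∀ x : MonoidAlgebra K M, (MonoidAlgebra.mapDomainBialgHom K θ x).coeff n = 0 := by
    intro x
    induction x using MonoidAlgebra.induction_linear with
    | zero => simp
    | add a b ha hb => rw [map_add, MonoidAlgebra.coeff_add, Finsupp.add_apply, ha, hb, add_zero]
    | single m r =>
      rw [MonoidAlgebra.mapDomainBialgHom_single, MonoidAlgebra.coeff_single,
        Finsupp.single_eq_of_ne (fun e => hn m e.symm)]
  have h2 := key x
  rw [hx] at h2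
  simp at h2

/-- A surjective endomorphism of a finitely generated commutative group is bijective. -/
theorem bijective_of_surjective_of_fg {M : Type u} [CommGroup M] [Group.FG M] (f : M →* M)
    (hf : Function.Surjective f) : Function.Bijective f := by
  have : Module.Finite ℤ (Additive M) := Module.Finite.iff_addGroup_fg.mpr inferInstance
  exact ⟨IsNoetherian.injective_of_surjective_endomorphism (f.toAdditive.toIntLinearMap :
    Additive M →ₗ[ℤ] Additive M) hf, hf⟩

variable {R : Type u} [CommRing R] {A : Type u} [CommRing A] [HopfAlgebra R A]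

set_option maxHeartbeats 2000000 in
/-- Group-like elements which are everywhere given by bijections of the character groups define a diagonalisation. -/
theorem Split.bijective_of_locally (P : Split R A) [Module.FaithfullyFlat R P.S] {M₀ : Type u} [CommGroup M₀]
    [Group.FG M₀] (g : M₀ →* A) (hg : ∀ m, IsGroupLikeElem R (g m))
    (hloc : ∀ (q : Ideal P.S) [q.IsPrime], ∃ θ : M₀ →* P.M, Function.Bijective θ ∧
      ∀ m, (P.hom.toAlgHom (g m)).coeff (θ m) ∉ q) :
    Function.Bijective (homOfGroupLike g hg) := by
  classical
  obtain ⟨s, hs⟩ := Group.FG.out (G := M₀)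
  choose θ hθb hθ using fun q : PrimeSpectrum P.S => hloc q.asIdeal
  let f : PrimeSpectrum P.S → P.S := fun q => ∏ x ∈ s, (P.hom.toAlgHom (g x)).coeff (θ q x)
  have hf : ∀ q : PrimeSpectrum P.S, f q ∉ q.asIdeal := fun q hmem => by
    obtain ⟨x, -, hx⟩ := q.isPrime.prod_mem_iff.mp hmem
    exact hθ q x hx
  have hspan : Ideal.span (Set.range f) = ⊤ := by
    by_contra hne
    obtain ⟨m, hm, hle⟩ := Ideal.exists_le_maximal _ hne
    exact hf ⟨m, hm.isPrime⟩ (hle (Ideal.subset_span ⟨_, rfl⟩))
  obtain ⟨t, htr, ht⟩ := Submodule.mem_span_finite_of_mem_span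
    (hspan ▸ Submodule.mem_top : (1 : P.S) ∈ Ideal.span (Set.range f))
  choose pt hpt using fun x : ↥t => htr x.2
  let Sf : ↥t → Type u := fun x => Localization.Away (x : P.S)
  let Q : ↥t → Split R A := fun x =>
    have : Module.Flat P.S (Sf x) := IsLocalization.flat (Sf x) (Submonoid.powers (x : P.S))
    have : Module.Flat R (Sf x) := Module.Flat.trans R P.S (Sf x)
    { S := Sf x
      M := P.M
      hom := P.homOver (Sf x)
      equiv := AlgEquiv.ofBijective (P.homOver (Sf x)).extend (P.extend_homOver_bijective (Sf x))
      equiv_tmul := fun a => ((P.homOver (Sf x)).extend_tmul 1 a).trans (one_smul _ _) }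
  let c : Cover R A :=
    { ι := ↥t
      split := Q
      surj := fun p hp => by
        obtain ⟨⟨q, hq⟩, hqp⟩ := PrimeSpectrum.comap_surjective_of_faithfullyFlat (A := R) (B := P.S) ⟨p, hp⟩
        obtain ⟨x, hxt, hxq⟩ : ∃ x ∈ t, x ∉ q := by
          by_contra hne
          push Not at hne
          exact hq.ne_top (q.eq_top_iff_one.mpr (Submodule.span_le.mpr hne ht))
        have hdis : Disjoint (Submonoid.powers x : Set P.S) (q : Set P.S) := by
          rw [Set.disjoint_left]
          rintro y ⟨n, rfl⟩ hy
          exact hxq (hq.mem_of_pow_mem n hy)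
        refine ⟨⟨x, hxt⟩, _, IsLocalization.isPrime_of_isPrime_disjoint _ (Localization.Away x) q hq hdis, ?_⟩
        show Ideal.comap (algebraMap R (Localization.Away x)) _ = p
        rw [IsScalarTower.algebraMap_eq R P.S (Localization.Away x), ← Ideal.comap_comap]
        have h2 : (q.map (algebraMap P.S (Localization.Away x))).comap (algebraMap P.S (Localization.Away x)) = q :=
          IsLocalization.under_map_of_isPrime_disjoint _ _ hq hdis
        rw [h2]
        exact congrArg PrimeSpectrum.asIdeal hqp }
  exact c.bijective_of_bijective g hg fun x => by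
    let φ : M₀ →* MonoidAlgebra (Sf x) P.M :=
      (P.homOver (Sf x)).toAlgHom.toRingHom.toMonoidHom.comp g
    have hφ : φ = (MonoidAlgebra.of (Sf x) P.M).comp (θ (pt x)) := by
      refine MonoidHom.eq_of_eqOn_dense hs fun y hy => ?_
      refine eq_single_of_isUnit ((P.homOver (Sf x)).isGroupLike (hg y)) ?_
      show IsUnit (((mapCoeff P.S (Sf x) P.M).toAlgHom (P.hom.toAlgHom (g y))).coeff (θ (pt x) y))
      rw [coeff_mapCoeff]
      have hu : IsUnit (algebraMap P.S (Sf x) (f (pt x))) := by
        rw [hpt x]
        exact IsLocalization.Away.algebraMap_isUnit (x : P.S)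
      exact isUnit_of_dvd_unit (map_dvd _ (Finset.dvd_prod_of_mem
        (fun z => (P.hom.toAlgHom (g z)).coeff (θ (pt x) z)) hy)) hu
    show Function.Bijective (homOfGroupLike φ fun m => (P.homOver (Sf x)).isGroupLike (hg m))
    have e : ⇑(homOfGroupLike φ fun m => (P.homOver (Sf x)).isGroupLike (hg m)) =
        ⇑(MonoidAlgebra.mapDomainBialgHom (Sf x) (θ (pt x))) := by
      funext y
      induction y using MonoidAlgebra.induction_linear with
      | zero => simp
      | add x y hx hy => simp only [map_add, hx, hy]
      | single m r =>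
        rw [homOfGroupLike_single, hφ, MonoidAlgebra.mapDomainBialgHom_single]
        show r • MonoidAlgebra.single (θ (pt x) m) (1 : Sf x) = _
        rw [MonoidAlgebra.smul_single, smul_eq_mul, mul_one]
    rw [e]
    exact mapDomain_bijective _ (hθb _)

set_option maxHeartbeats 1000000 in
/-- A surjection from the group algebra of the type is bijective. -/
theorem Split.bijective_of_surjective (P : Split R A) [Module.FaithfullyFlat R P.S] {M₀ : Type u} [CommGroup M₀]
    [Group.FG M₀] (σ : M₀ ≃* P.M) (g : M₀ →* A) (hg : ∀ m, IsGroupLikeElem R (g m))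
    (hs : Function.Surjective (homOfGroupLike g hg)) : Function.Bijective (homOfGroupLike g hg) := by
  classical
  refine P.bijective_of_locally g hg fun q _ => ?_
  let K := q.ResidueField
  let j := IsScalarTower.toAlgHom R P.S K
  choose θ hθ using fun m => exists_single_of_field
    (isGroupLike_evalAt (j : P.S →+* K) (P.hom.isGroupLike (hg m)))
  let θ' : M₀ →* P.M :=
    { toFun := θ
      map_one' := single_inj (K := K) (by rw [hθ, map_one, map_one, map_one]; rfl)
      map_mul' := fun a b => single_inj (K := K) (by
        rw [hθ, map_mul, map_mul, map_mul, ← hθ, ← hθ, MonoidAlgebra.single_mul_single, one_mul]) }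
  have hcomp : ∀ x, P.coordAt j (1 ⊗ₜ homOfGroupLike g hg x) =
      MonoidAlgebra.mapDomainBialgHom K θ' (evalAt (algebraMap R K) x) := by
    intro x
    induction x using MonoidAlgebra.induction_linear with
    | zero => simp
    | add x y hx hy => simp only [map_add, TensorProduct.tmul_add, hx, hy]
    | single m r =>
      rw [homOfGroupLike_single, TensorProduct.tmul_smul, ← algebraMap_smul K r, map_smul, P.coordAt_one_tmul,
        ← hθ, evalAt_single, MonoidAlgebra.mapDomainBialgHom_single, MonoidAlgebra.smul_single, smul_eq_mul,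
        mul_one]
      rfl
  have hsurj : Function.Surjective (MonoidAlgebra.mapDomainBialgHom K θ') := by
    intro y
    obtain ⟨z, rfl⟩ := (P.coordAt_bijective j).2 y
    induction z using TensorProduct.induction_on with
    | zero => exact ⟨0, by rw [map_zero, map_zero]⟩
    | add a b ha hb =>
      obtain ⟨a', ha'⟩ := ha
      obtain ⟨b', hb'⟩ := hb
      exact ⟨a' + b', by rw [map_add, map_add, ha', hb']⟩
    | tmul c a =>
      obtain ⟨x, rfl⟩ := hs a
      refine ⟨c • evalAt (algebraMap R K) x, ?_⟩
      rw [map_smul, ← hcomp, ← map_smul, TensorProduct.smul_tmul', smul_eq_mul, mul_one]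
  have hbij : Function.Bijective θ' := by
    have hb := bijective_of_surjective_of_fg ((σ.symm : P.M →* M₀).comp θ')
      (σ.symm.surjective.comp (surjective_of_mapDomain_surjective θ' hsurj))
    exact (Function.Bijective.of_comp_iff' σ.symm.bijective _).mp hb
  refine ⟨θ', hbij, fun m => (toAlgHom_residueField_ne_zero (R := R) q _).mp ?_⟩
  exact (evalAt_eq_single_iff (j : P.S →+* K) (P.hom.isGroupLike (hg m)) _).mp (hθ m).symm

end Groth.Agent.MultTypeLib
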