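import Groth.Agent.MultTypeLib.CompleteIso
import Groth.Agent.MultTypeLib.Averaging
import Mathlib.RingTheory.Nullstellensatz
import Mathlib.RingTheory.FiniteType

/-!
# Torsion points outside an open and closed isotrivial subgroup
-/

universe u

open WithConv TensorProduct Coalgebra Bialgebra

noncomputable section

namespace Groth.Agent.MultTypeLib

attribute [local instance 2000] algConvGroup

/-- A noetherian ring has only finitely many idempotents. -/
theorem finite_idempotents (X : Type u) [CommRing X] [IsNoetherianRing X] :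
    {e : X | IsIdempotentElem e}.Finite := by
  classical
  have hfin := minimalPrimes.finite_of_isNoetherianRing X
  refine Set.Finite.of_finite_image (f := fun e : X => {p ∈ minimalPrimes X | e ∈ p})
    (hfin.powerset.subset ?_) ?_
  · rintro _ ⟨e, -, rfl⟩
    exact fun p hp => hp.1
  · intro e he f hf hef
    refine eq_of_isNilpotent_sub_of_isIdempotentElem he hf (mem_nilradical.mp ?_)
    rw [nilradical, ← Ideal.sInf_minimalPrimes, Ideal.mem_sInf]
    intro p hp
    have hpp : p.IsPrime := hp.1.1
    have hiff : e ∈ p ↔ f ∈ p := by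
      have := congrArg (fun s : Set (Ideal X) => p ∈ s) hef
      simp only [Set.mem_setOf_eq, eq_iff_iff] at this
      exact ⟨fun h => (this.mp ⟨hp, h⟩).2, fun h => (this.mpr ⟨hp, h⟩).2⟩
    by_cases he' : e ∈ p
    · exact sub_mem he' (hiff.mp he')
    · have h1 : 1 - e ∈ p := (hpp.mem_or_mem (show e * (1 - e) ∈ p by
        rw [mul_sub, mul_one, he.eq, sub_self]; exact p.zero_mem)).resolve_left he'
      have h2 : 1 - f ∈ p := (hpp.mem_or_mem (show f * (1 - f) ∈ p by
        rw [mul_sub, mul_one, hf.eq, sub_self]; exact p.zero_mem)).resolve_left (fun h => he' (hiff.mpr h))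
      simpa using sub_mem h2 h1

/-- Characters of a finitely generated group, up to the torsion exponent, have all roots. -/
theorem exists_root_char (M : Type u) [CommGroup M] [Group.FG M] {k : Type u} [Field k] [IsAlgClosed k] :
    ∃ t : ℕ, 0 < t ∧ ∀ (χ : M →* kˣ) (n : ℕ), 0 < n → ∃ η : M →* kˣ, η ^ (n * t) = χ ^ t := by
  classical
  let A := Additive M
  have : AddGroup.FG A := inferInstance
  have : Module.Finite ℤ A := Module.Finite.iff_addGroup_fg.mpr inferInstance
  let T : Submodule ℤ A := Submodule.torsion ℤ A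
  have : Finite T := Module.finite_of_fg_torsion T Submodule.torsion_isTorsion
  refine ⟨Nat.card T, Nat.card_pos, fun χ n hn => ?_⟩
  have : Module.Free ℤ (A ⧸ T) := Module.free_of_finite_type_torsion_free'
  let b := Module.Free.chooseBasis ℤ (A ⧸ T)
  let χ' : A →ₗ[ℤ] Additive kˣ := (MonoidHom.toAdditive χ).toIntLinearMap
  let ψ : A →ₗ[ℤ] Additive kˣ := Nat.card T • χ'
  have hψT : T ≤ LinearMap.ker ψ := fun a ha => by
    rw [LinearMap.mem_ker, LinearMap.smul_apply, ← map_nsmul,
      show Nat.card T • a = 0 from congrArg Subtype.val (card_nsmul_eq_zero' (x := (⟨a, ha⟩ : T))), map_zero]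
  let ψq : (A ⧸ T) →ₗ[ℤ] Additive kˣ := T.liftQ ψ hψT
  have hroot : ∀ z : Additive kˣ, ∃ w : Additive kˣ, (n * Nat.card T) • w = z := fun z => by
    obtain ⟨r, hr⟩ := IsAlgClosed.exists_pow_nat_eq ((Additive.toMul z : kˣ) : k)
      (Nat.mul_pos hn (Nat.card_pos (α := T)))
    have hr0 : r ≠ 0 := fun h => (Additive.toMul z).ne_zero (by
      rw [← hr, h, zero_pow (Nat.mul_pos hn (Nat.card_pos (α := T))).ne'])
    refine ⟨Additive.ofMul (Units.mk0 r hr0), ?_⟩
    rw [← ofMul_pow]
    exact congrArg Additive.ofMul (Units.ext (by rw [Units.val_pow_eq_pow_val, Units.val_mk0]; exact hr))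
  choose w hw using hroot
  let ηq : (A ⧸ T) →ₗ[ℤ] Additive kˣ := b.constr ℤ fun i => w (ψq (b i))
  have hηq : (n * Nat.card T) • ηq = ψq := b.ext fun i => by
    rw [LinearMap.smul_apply, show ηq (b i) = w (ψq (b i)) from b.constr_basis _ _ i, hw]
  let η : M →* kˣ := MonoidHom.toAdditive.symm (ηq.comp T.mkQ).toAddMonoidHom
  refine ⟨η, MonoidHom.ext fun m => ?_⟩
  have h1 := congrArg (fun l : (A ⧸ T) →ₗ[ℤ] Additive kˣ => l (T.mkQ (Additive.ofMul m))) hηq
  exact congrArg Additive.toMul h1

section Points

variable {R : Type u} [CommRing R] {D : Type u} [CommRing D] [HopfAlgebra R D]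
variable {E : Type u} [CommRing E] [Algebra R E] {M : Type u} [CommGroup M]
variable {k : Type u} [CommRing k] [Algebra R k] [Algebra E k] [IsScalarTower R E k]

theorem lift_mul_apply (χ χ' : M →* k) (z : MonoidAlgebra E M) :
    MonoidAlgebra.lift E k M (χ * χ') z = Algebra.TensorProduct.lift (MonoidAlgebra.lift E k M χ)
      (MonoidAlgebra.lift E k M χ') (fun _ _ => .all _ _) (comul z) := by
  induction z using MonoidAlgebra.induction_linear with
  | zero => simp
  | add a b ha hb => simp only [map_add, ha, hb]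
  | single m r =>
    rw [show MonoidAlgebra.single m r = r • MonoidAlgebra.single m (1 : E) by simp, map_smul, map_smul, map_smul,
      comul_single_one, Algebra.TensorProduct.lift_tmul]
    simp

/-- Points attached to characters. -/
def charPoint (hom : SemiBialgHom R E D (MonoidAlgebra E M)) : (M →* k) →* WithConv (D →ₐ[R] k) where
  toFun χ := toConv (((MonoidAlgebra.lift E k M χ).restrictScalars R).comp hom.toAlgHom)
  map_one' := by
    refine WithConv.ext (AlgHom.ext fun d => ?_)
    show MonoidAlgebra.lift E k M 1 (hom.toAlgHom d) = algebraMap R k (counit d)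
    rw [IsScalarTower.algebraMap_apply R E k, ← hom.counit_comp]
    generalize hom.toAlgHom d = z
    induction z using MonoidAlgebra.induction_linear with
    | zero => simp
    | add a b ha hb => simp only [map_add, ha, hb]
    | single m r => simp [Algebra.smul_def]
  map_mul' χ χ' := by
    refine WithConv.ext (AlgHom.ext fun d => ?_)
    show MonoidAlgebra.lift E k M (χ * χ') (hom.toAlgHom d) = _
    rw [lift_mul_apply, hom.comul_comp]
    refine Eq.trans ?_ (AlgHom.convMul_apply (toConv (((MonoidAlgebra.lift E k M χ).restrictScalars R).comp hom.toAlgHom))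
      (toConv (((MonoidAlgebra.lift E k M χ').restrictScalars R).comp hom.toAlgHom)) d).symm
    generalize comul (R := R) d = z
    induction z using TensorProduct.induction_on with
    | zero => simp
    | add a b ha hb => simp only [map_add, ha, hb]
    | tmul a b => simp

theorem charPoint_surjective (hom : SemiBialgHom R E D (MonoidAlgebra E M)) (equiv : E ⊗[R] D ≃ₐ[E] MonoidAlgebra E M)
    (he : ∀ a, equiv (1 ⊗ₜ a) = hom.toAlgHom a) : Function.Surjective (charPoint (k := k) hom) := by
  intro g
  let g' : E ⊗[R] D →ₐ[E] k := Algebra.TensorProduct.lift (Algebra.ofId E k) g.ofConv fun _ _ => .all _ _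
  obtain ⟨χ, hχ⟩ := (MonoidAlgebra.lift E k M).surjective (g'.comp equiv.symm.toAlgHom)
  refine ⟨χ, WithConv.ext (AlgHom.ext fun d => ?_)⟩
  show MonoidAlgebra.lift E k M χ (hom.toAlgHom d) = g.ofConv d
  rw [hχ, ← he]
  show g' (equiv.symm (equiv (1 ⊗ₜ d))) = _
  rw [AlgEquiv.symm_apply_apply]
  simp [g']

end Points

set_option maxHeartbeats 2000000 in
/-- Finite torsion schemes force the open and closed isotrivial subgroup to be everything. -/
theorem isIsotrivial_of_torsion_finite {R : Type u} [CommRing R] [IsNoetherianRing R] (I : Ideal R)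
    [IsAdicComplete I R] {C : Type u} [CommRing C] [HopfAlgebra R C] [Coalgebra.IsCocomm R C] [Module.Flat R C]
    (hft : Algebra.FiniteType R C) (h0 : SGA3b.IsIsotrivial (R ⧸ I) ((R ⧸ I) ⊗[R] C))
    (hfin : ∀ n : ℕ, 0 < n → Module.Finite R (C ⧸ SGA3b.torsionIdeal R C n)) :
    SGA3b.IsIsotrivial R C := by
  classical
  obtain ⟨e, he, heI, hH, hiso⟩ := exists_open_closed_isotrivial I hft (fun k => inferInstance) h0
  suffices he0 : e = 0 from
    have := hH
    isIsotrivial_of_quotient_zero (by rw [he0, Ideal.span_singleton_eq_bot]) hiso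
  have := hH
  let D := C ⧸ Ideal.span {e}
  let π : C →ₐc[R] D := Bialgebra.Quotient.mkBialgHom (R := R) (Ideal.span {e})
  obtain ⟨E, _, _, -, -, hff, hd⟩ := hiso
  obtain ⟨M, _, hom, equiv, hequiv⟩ := exists_split_of_isDiag E hd
  refine eq_of_isNilpotent_sub_of_isIdempotentElem he .zero ?_
  rw [sub_zero, nilpotent_iff_mem_prime]
  intro q hq
  by_contra hne
  let p := q.comap (algebraMap R C)
  obtain ⟨⟨r, hr⟩, hrp⟩ := PrimeSpectrum.comap_surjective_of_faithfullyFlat (A := R) (B := E) ⟨p, inferInstance⟩
  have hrp' : p = r.comap (algebraMap R E) := (congrArg PrimeSpectrum.asIdeal hrp).symm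
  have := hr
  let k := AlgebraicClosure r.ResidueField
  have : IsScalarTower R E k := IsScalarTower.of_algebraMap_eq fun x => by
    rw [IsScalarTower.algebraMap_apply R r.ResidueField k, IsScalarTower.algebraMap_apply E r.ResidueField k,
      IsScalarTower.algebraMap_apply R E r.ResidueField]
  let ι : p.ResidueField →ₐ[R] k :=
    (IsScalarTower.toAlgHom R r.ResidueField k).comp (Ideal.ResidueField.mapₐ p r (Algebra.ofId R E) hrp')
  let _ : Algebra p.ResidueField k := ι.toRingHom.toAlgebra
  have : IsScalarTower R p.ResidueField k := IsScalarTower.of_algebraMap_eq fun x => (ι.commutes x).symm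
  -- a point outside the subgroup
  obtain ⟨x, hx⟩ : ∃ x : WithConv (C →ₐ[R] k), x.ofConv e ≠ 0 := by
    let F := p.ResidueField ⊗[R] C
    let f : F := (1 : p.ResidueField) ⊗ₜ e
    have hf : IsIdempotentElem f := he.map (Algebra.TensorProduct.includeRight : C →ₐ[R] F)
    let ev : F →ₐ[R] q.ResidueField := Algebra.TensorProduct.lift
      (Ideal.ResidueField.mapₐ p q (Algebra.ofId R C) rfl)
      (IsScalarTower.toAlgHom R C q.ResidueField) fun _ _ => .all _ _
    have hnil : ¬ IsNilpotent f := fun h => by
      have h2 := congrArg ev (eq_of_isNilpotent_sub_of_isIdempotentElem hf .zero (by rwa [sub_zero]))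
      rw [Algebra.TensorProduct.lift_tmul, map_one, one_mul, map_zero] at h2
      exact hne (Ideal.algebraMap_residueField_eq_zero.mp h2)
    have : Algebra.FiniteType p.ResidueField F := inferInstance
    have : IsJacobsonRing F := isJacobsonRing_of_finiteType (A := p.ResidueField)
    obtain ⟨m, hm, hfm⟩ : ∃ m : Ideal F, m.IsMaximal ∧ f ∉ m := by
      by_contra hcon
      push Not at hcon
      refine hnil (mem_nilradical.mp ?_)
      rw [nilradical, show (0 : Ideal F).radical = Ideal.jacobson ⊥ from
        (Ideal.radical_eq_jacobson (⊥ : Ideal F)), Ideal.jacobson, Ideal.mem_sInf]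
      exact fun m hm => hcon m hm.2
    let L := F ⧸ m
    let _ : Field L := Ideal.Quotient.field m
    have : Algebra.FiniteType p.ResidueField L := Algebra.FiniteType.of_surjective (Ideal.Quotient.mkₐ _ m)
      Ideal.Quotient.mk_surjective
    have : Module.Finite p.ResidueField L := finite_of_finite_type_of_isJacobsonRing p.ResidueField L
    have : Algebra.IsAlgebraic p.ResidueField L := Algebra.IsAlgebraic.of_finite _ _
    have : Module.IsTorsionFree p.ResidueField L := Module.isTorsionFree_iff_algebraMap_injective.mpr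
      (algebraMap p.ResidueField L).injective
    let σ : L →ₐ[p.ResidueField] k := IsAlgClosed.lift
    let xF : F →ₐ[R] k := ((σ.comp (Ideal.Quotient.mkₐ _ m)).restrictScalars R)
    refine ⟨toConv (xF.comp Algebra.TensorProduct.includeRight), fun h => hfm ?_⟩
    have h1 : σ (Ideal.Quotient.mk m f) = 0 := h
    exact Ideal.Quotient.eq_zero_iff_mem.mp ((map_eq_zero σ).mp h1)
  -- the subgroup
  let pre : WithConv (D →ₐ[R] k) →* WithConv (C →ₐ[R] k) :=
    { toFun := fun g => toConv (g.ofConv.comp (π : C →ₐ[R] D))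
      map_one' := by
        refine WithConv.ext (AlgHom.ext fun c => ?_)
        show algebraMap R k (counit (π c)) = algebraMap R k (counit c)
        rw [CoalgHomClass.counit_comp_apply]
      map_mul' := fun f g => WithConv.ext (AlgHom.convMul_comp_bialgHom_distrib f g π) }
  have hpre0 : ∀ g, (pre g).ofConv e = 0 := fun g => by
    show g.ofConv (Ideal.Quotient.mk _ e) = 0
    rw [Ideal.Quotient.eq_zero_iff_mem.mpr (Ideal.mem_span_singleton_self e), map_zero]
  have hmem : ∀ g : WithConv (C →ₐ[R] k), g.ofConv e = 0 → ∃ gD, pre gD = g := fun g hg =>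
    ⟨toConv (Ideal.Quotient.liftₐ _ g.ofConv fun a ha => by
      obtain ⟨b, rfl⟩ := Ideal.mem_span_singleton.mp ha
      rw [map_mul, hg, zero_mul]), WithConv.ext (AlgHom.ext fun c => rfl)⟩
  -- some power of the point lies in the subgroup
  have : IsNoetherianRing (k ⊗[R] C) := Algebra.FiniteType.isNoetherianRing k _
  let F' := k ⊗[R] C
  let iL : k →ₐ[R] F' := Algebra.TensorProduct.includeLeft
  let iR : WithConv (C →ₐ[R] F') := toConv Algebra.TensorProduct.includeRight
  have hsame : ∀ a b : WithConv (C →ₐ[R] k), (convMap iL a * iR).ofConv e = (convMap iL b * iR).ofConv e →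
      (b * a⁻¹).ofConv e = 0 := by
    intro a b hab
    let ev : F' →ₐ[R] k := Algebra.TensorProduct.lift (AlgHom.id R k) (a⁻¹).ofConv fun _ _ => .all _ _
    have h1 : convMap ev iR = a⁻¹ := by
      refine WithConv.ext (AlgHom.ext fun c => ?_)
      exact (Algebra.TensorProduct.lift_tmul (AlgHom.id R k) (a⁻¹).ofConv (fun _ _ => .all _ _) (1 : k) c).trans
        (by rw [map_one, one_mul])
    have h2 : ∀ z : WithConv (C →ₐ[R] k), convMap ev (convMap iL z) = z := fun z => by
      refine WithConv.ext (AlgHom.ext fun c => ?_)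
      exact (Algebra.TensorProduct.lift_tmul (AlgHom.id R k) (a⁻¹).ofConv (fun _ _ => .all _ _) (z.ofConv c)
        (1 : C)).trans (by rw [map_one, mul_one]; rfl)
    have h3 : (convMap ev (convMap iL a * iR)).ofConv e = (convMap ev (convMap iL b * iR)).ofConv e :=
      congrArg ev hab
    rw [map_mul, map_mul, h1, h2, h2, mul_inv_cancel] at h3
    rw [← h3]
    show algebraMap R k (counit e) = 0
    rw [map_idem_eq_zero I (isSep_self I) (Bialgebra.counitAlgHom R C) he heI |>
      (fun h => (h : counit (R := R) e = 0)), map_zero]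
  let fn : ℕ → {z : F' | IsIdempotentElem z} := fun i =>
    ⟨(convMap iL (x ^ i) * iR).ofConv e, he.map (convMap iL (x ^ i) * iR).ofConv⟩
  have : Finite {z : F' | IsIdempotentElem z} := (finite_idempotents F').to_subtype
  obtain ⟨i, j, hij, hfn⟩ : ∃ i j, i < j ∧ fn i = fn j := by
    obtain ⟨i, j, hij, hfn⟩ := Finite.exists_ne_map_eq_of_infinite fn
    rcases lt_or_gt_of_ne hij with h | h
    · exact ⟨i, j, h, hfn⟩
    · exact ⟨j, i, h, hfn.symm⟩
  obtain ⟨n, rfl⟩ := Nat.exists_eq_add_of_lt hij
  have hxn : (x ^ (n + 1)).ofConv e = 0 := by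
    have h1 := hsame (x ^ i) (x ^ (i + n + 1)) (congrArg Subtype.val hfn)
    rwa [show x ^ (i + n + 1) * (x ^ i)⁻¹ = x ^ (n + 1) by
      rw [show i + n + 1 = n + 1 + i by omega, pow_add, mul_assoc, mul_inv_cancel, mul_one]] at h1
  obtain ⟨gD, hgD⟩ := hmem _ hxn
  -- roots in the subgroup
  have : Nontrivial E := (algebraMap E k).domain_nontrivial
  have : Algebra.FiniteType E (E ⊗[R] D) := by
    have : Algebra.FiniteType R D := Algebra.FiniteType.of_surjective (Ideal.Quotient.mkₐ R _)
      Ideal.Quotient.mk_surjective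
    infer_instance
  have hM : Algebra.FiniteType E (MonoidAlgebra E M) := Algebra.FiniteType.equiv inferInstance equiv
  have : Group.FG M := (MonoidAlgebra.finiteType_iff_group_fg (R := E)).mp hM
  obtain ⟨t, ht, hroot⟩ := exists_root_char M (k := k)
  obtain ⟨χ, rfl⟩ := charPoint_surjective (k := k) hom equiv hequiv gD
  obtain ⟨η, hη⟩ := hroot χ.toHomUnits (n + 1) n.succ_pos
  let hD : WithConv (D →ₐ[R] k) := charPoint hom ((Units.coeHom k).comp η)
  have hh : (pre hD) ^ ((n + 1) * t) = (x ^ (n + 1)) ^ t := by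
    rw [← hgD, ← map_pow, ← map_pow, ← map_pow, ← map_pow]
    refine congrArg _ (congrArg _ (MonoidHom.ext fun m => ?_))
    have h1 := congrArg (fun f : M →* kˣ => ((f m : kˣ) : k)) hη
    simpa using h1
  let y : WithConv (C →ₐ[R] k) := x * (pre hD)⁻¹
  have hy : y ^ ((n + 1) * t) = 1 := by
    have hc : Commute x (pre hD)⁻¹ := mul_comm _ _
    rw [hc.mul_pow, inv_pow, hh, ← pow_mul, mul_inv_cancel]
  have hye : y.ofConv e ≠ 0 := fun h => by
    obtain ⟨yD, hyD⟩ := hmem y h
    refine hx ?_
    have h1 : x = pre (yD * hD) := by rw [map_mul, hyD, inv_mul_cancel_right]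
    rw [h1]
    exact hpre0 _
  -- the torsion point comes from a finite scheme
  let N := (n + 1) * t
  have := hfin N (Nat.mul_pos n.succ_pos ht)
  let A := C ⧸ SGA3b.torsionIdeal R C N
  have : IsAdicComplete I A := AdicLib.isAdicComplete_of_finite I A
  have hsepA : IsSep I A := fun a ha => IsHausdorff.haus' (I := I) a fun k => by
    rw [SModEq.zero]; exact ha k
  have heA : Ideal.Quotient.mk (SGA3b.torsionIdeal R C N) e = 0 :=
    map_idem_eq_zero I hsepA (Ideal.Quotient.mkₐ R _) he heI
  refine hye (?_ : y.ofConv e = 0)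
  have hle : SGA3b.torsionIdeal R C N ≤ RingHom.ker y.ofConv.toRingHom := by
    refine Ideal.map_le_iff_le_comap.mpr fun c hc => ?_
    show y.ofConv ((toConv (AlgHom.id R C) ^ N).ofConv c) = 0
    have h1 : convMap y.ofConv (toConv (AlgHom.id R C) ^ N) = 1 := by
      rw [map_pow, ← hy]
      rfl
    refine (congrArg (fun f : WithConv (C →ₐ[R] k) => f.ofConv c) h1).trans ?_
    show algebraMap R k (counit c) = 0
    rw [show counit (R := R) c = 0 from hc, map_zero]
  exact hle (Ideal.Quotient.eq_zero_iff_mem.mp heA)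

end Groth.Agent.MultTypeLib
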