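import Groth.Agent.MultTypeLib.LocalToGlobal
import Groth.Agent.MultTypeLib.ConnCrit
import Mathlib.Algebra.MonoidAlgebra.NoZeroDivisors
import Mathlib.Algebra.Group.UniqueProds.Basic

/-!
# Groups of multiplicative type with torus fibres
-/

universe u

open TensorProduct Coalgebra Bialgebra

noncomputable section

namespace Groth.Agent.MultTypeLib

/-- A split from an isomorphism. -/
def splitOfEquiv {R : Type u} [CommRing R] {A : Type u} [CommRing A] [HopfAlgebra R A] (S : Type u) [CommRing S]
    [Algebra R S] [Module.Flat R S] {M : Type u} [CommGroup M] (e : S ⊗[R] A ≃ₐc[S] MonoidAlgebra S M) :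
    Split R A where
  S := S
  M := M
  hom := (SemiBialgHom.ofBialgHom (e : S ⊗[R] A →ₐc[S] MonoidAlgebra S M)).comp (SemiBialgHom.baseChange R S A)
  equiv := (e : S ⊗[R] A ≃ₐ[S] MonoidAlgebra S M)
  equiv_tmul := fun _ => rfl

section Field

variable (k : Type u) [Field k] {A : Type u} [CommRing A] [HopfAlgebra k A]

/-- A torus over a field splits after some nonzero extension. -/
theorem exists_split_torus (h : SGA3b.IsTorus k A) :
    ∃ (S : Type u) (_ : CommRing S) (_ : Algebra k S) (n : ℕ), Nontrivial S ∧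
      Nonempty (S ⊗[k] A ≃ₐc[S] MonoidAlgebra S (ULift.{u} (Multiplicative (Fin n → ℤ)))) := by
  obtain ⟨s, hs, hA⟩ := h
  obtain ⟨f, hf, hf0⟩ : ∃ f ∈ s, f ≠ 0 := by
    by_contra hne
    push Not at hne
    have h1 : Ideal.span s ≤ ⊥ := Ideal.span_le.mpr fun x hx => hne x hx
    rw [hs] at h1
    exact one_ne_zero (α := k) (h1 Submodule.mem_top)
  obtain ⟨S, _, _, hS, n, ⟨e⟩⟩ := hA f hf
  let L := Localization.Away f
  let _ : Algebra k S := ((algebraMap L S).comp (algebraMap k L)).toAlgebra
  have : IsScalarTower k L S := IsScalarTower.of_algebraMap_eq fun _ => rfl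
  have : Nontrivial L := (IsLocalization.atUnit k L f (Ne.isUnit hf0)).toEquiv.symm.nontrivial
  exact ⟨S, inferInstance, inferInstance, n, (FaithfulSMul.algebraMap_injective L S).nontrivial,
    ⟨((baseChangeTrans (R := k) L S A).trans e).trans (MonoidAlgebra.domCongrBialgEquiv S S MulEquiv.ulift.symm)⟩⟩

/-- A torus over a field is of multiplicative type and connected. -/
theorem isMultType_connected_of_torus (h : SGA3b.IsTorus k A) :
    SGA3b.IsMultType k A ∧ ConnectedSpace (PrimeSpectrum A) := by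
  obtain ⟨S, _, _, n, _, ⟨e⟩⟩ := exists_split_torus k h
  refine ⟨isMultType_of_ff S ⟨_, inferInstance, ⟨e⟩⟩, ?_⟩
  have : Nontrivial A := (Bialgebra.counitAlgHom k A).toRingHom.domain_nontrivial
  obtain ⟨m, hm⟩ := Ideal.exists_maximal S
  let K := S ⧸ m
  let _ : Field K := Ideal.Quotient.field m
  let hom := (SemiBialgHom.ofBialgHom (e : S ⊗[k] A →ₐc[S] MonoidAlgebra S (ULift.{u} (Multiplicative (Fin n → ℤ))))).comp
    (SemiBialgHom.baseChange k S A)
  have hb : Function.Bijective hom.extend := by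
    rw [show ⇑hom.extend = ⇑e from funext (extend_eq_of_equiv e)]
    exact EquivLike.bijective e
  let eK : K ⊗[k] A ≃ₐ[K] MonoidAlgebra K (ULift.{u} (Multiplicative (Fin n → ℤ))) :=
    (((mapCoeff S K _).comp hom).toBialgEquiv (extend_comp_mapCoeff_bijective hom hb) : _ ≃ₐc[K] _)
  have : UniqueSums ℤ := TwoUniqueSums.toUniqueSums ℤ
  have : UniqueProds (ULift.{u} (Multiplicative (Fin n → ℤ))) := (MulEquiv.ulift (α := Multiplicative (Fin n → ℤ))).uniqueProds_iff.mpr inferInstance
  have : IsDomain (MonoidAlgebra K (ULift.{u} (Multiplicative (Fin n → ℤ)))) := NoZeroDivisors.to_isDomain _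
  refine connectedSpace_of_idem fun a ha => ?_
  let φ : A →ₐ[k] MonoidAlgebra K (ULift.{u} (Multiplicative (Fin n → ℤ))) :=
    (eK.toAlgHom.restrictScalars k).comp Algebra.TensorProduct.includeRight
  have hφ : Function.Injective φ := eK.injective.comp
    (Algebra.TensorProduct.includeRight_injective (algebraMap k K).injective)
  rcases IsIdempotentElem.iff_eq_zero_or_one.mp (ha.map φ) with h | h
  · exact Or.inl (hφ (h.trans (map_zero φ).symm))
  · exact Or.inr (hφ (h.trans (map_one φ).symm))

end Field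

variable {R : Type u} [CommRing R]

/-- Flatness and fibres of multiplicative type with connected fibres. -/
theorem isMultType_of_connected_fibres {A : Type u} [CommRing A] [HopfAlgebra R A] [Module.Flat R A]
    [Algebra.FinitePresentation R A] (hfib : ∀ (p : Ideal R) [p.IsPrime],
      SGA3b.IsMultType p.ResidueField (p.ResidueField ⊗[R] A) ∧ ConnectedSpace (PrimeSpectrum (p.ResidueField ⊗[R] A))) :
    SGA3b.IsMultType R A := by
  refine isMultType_of_local fun p hp => ?_
  let Rp := Localization.AtPrime p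
  have : Module.Flat Rp (Rp ⊗[R] A) := inferInstance
  refine isMultType_local_of_connected (fun q _ _ => Module.Flat.trans Rp (Rp ⊗[R] A) _)
    (isMultType_congr (baseChangeTrans (R := R) Rp p.ResidueField A) (hfib p).1) fun P _ => ?_
  let p' := P.comap (algebraMap R Rp)
  let κ := p'.ResidueField
  let K := P.ResidueField
  let _ : Algebra κ K := (Ideal.ResidueField.mapₐ p' P (Algebra.ofId R Rp) rfl).toRingHom.toAlgebra
  have : IsScalarTower R κ K := IsScalarTower.of_algebraMap_eq fun x =>
    ((Ideal.ResidueField.mapₐ p' P (Algebra.ofId R Rp) rfl).commutes x).symm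
  have := (hfib p').2
  have := connectedSpace_of_point (Bialgebra.counitAlgHom κ (κ ⊗[R] A)) K
  exact GeomSep.connectedSpace_of_equiv ((Algebra.TensorProduct.cancelBaseChange R Rp K K A).trans
    (Algebra.TensorProduct.cancelBaseChange R κ K K A).symm).toRingEquiv

set_option maxHeartbeats 1000000 in
/-- A group of multiplicative type whose fibres are tori is a torus. -/
theorem isTorus_of_fibres {A : Type u} [CommRing A] [HopfAlgebra R A] (hA : SGA3b.IsMultType R A)
    (hfib : ∀ (p : Ideal R) [p.IsPrime], SGA3b.IsTorus p.ResidueField (p.ResidueField ⊗[R] A)) :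
    SGA3b.IsTorus R A := by
  obtain ⟨s, hs, hA⟩ := hA
  refine ⟨{f ∈ s | ¬ IsNilpotent f}, ?_, fun f hf => ?_⟩
  · by_contra hne
    obtain ⟨m, hm, hle⟩ := Ideal.exists_le_maximal _ hne
    refine hm.ne_top (top_le_iff.mp ?_)
    rw [← hs]
    refine Ideal.span_le.mpr fun x hx => ?_
    by_cases hn : IsNilpotent x
    · exact nilradical_le_prime m (mem_nilradical.mpr hn)
    · exact hle (Ideal.subset_span ⟨hx, hn⟩)
  obtain ⟨S, _, _, hff, M, _, ⟨e⟩⟩ := hA f hf.1
  let L := Localization.Away f
  have : Nontrivial L := by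
    refine nontrivial_of_ne (1 : L) 0 fun h => hf.2 ?_
    rw [← map_one (algebraMap R L), IsLocalization.map_eq_zero_iff (Submonoid.powers f)] at h
    obtain ⟨⟨_, k, rfl⟩, hk⟩ := h
    exact ⟨k, by simpa using hk⟩
  let _ : Algebra R S := ((algebraMap L S).comp (algebraMap R L)).toAlgebra
  have : IsScalarTower R L S := IsScalarTower.of_algebraMap_eq fun _ => rfl
  have : Nontrivial S := (FaithfulSMul.algebraMap_injective L S).nontrivial
  obtain ⟨r, hr⟩ := Ideal.exists_maximal S
  let p := r.comap (algebraMap R S)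
  let κ := p.ResidueField
  let K := r.ResidueField
  let _ : Algebra κ K := (Ideal.ResidueField.mapₐ p r (Algebra.ofId R S) rfl).toRingHom.toAlgebra
  have : IsScalarTower R κ K := IsScalarTower.of_algebraMap_eq fun x =>
    ((Ideal.ResidueField.mapₐ p r (Algebra.ofId R S) rfl).commutes x).symm
  let eS : S ⊗[R] A ≃ₐc[S] MonoidAlgebra S M := (baseChangeTrans (R := R) L S A).trans e
  obtain ⟨T, _, _, n, _, ⟨eT⟩⟩ := exists_split_torus κ (hfib p)
  obtain ⟨hom, hb⟩ : ∃ hom : SemiBialgHom R S A (MonoidAlgebra S M), Function.Bijective hom.extend :=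
    ⟨(SemiBialgHom.ofBialgHom (eS : S ⊗[R] A →ₐc[S] MonoidAlgebra S M)).comp (SemiBialgHom.baseChange R S A), by
      rw [show ⇑((SemiBialgHom.ofBialgHom (eS : S ⊗[R] A →ₐc[S] MonoidAlgebra S M)).comp
        (SemiBialgHom.baseChange R S A)).extend = ⇑eS from funext (extend_eq_of_equiv eS)]
      exact EquivLike.bijective eS⟩
  let eK : K ⊗[R] A ≃ₐc[K] MonoidAlgebra K M :=
    ((mapCoeff S K M).comp hom).toBialgEquiv (extend_comp_mapCoeff_bijective hom hb)
  let P := splitOfEquiv (R := κ) (A := κ ⊗[R] A) K ((baseChangeTrans (R := R) κ K A).symm.trans eK)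
  let Q := splitOfEquiv (R := κ) (A := κ ⊗[R] A) T eT
  have hnt : Nontrivial (K ⊗[κ] T) := inferInstance
  obtain ⟨σ⟩ := P.exists_mulEquiv Q hnt
  exact ⟨S, inferInstance, inferInstance, hff, n,
    ⟨e.trans (MonoidAlgebra.domCongrBialgEquiv _ _ (MulEquiv.trans σ MulEquiv.ulift))⟩⟩

end Groth.Agent.MultTypeLib
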